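import Mathlib.LinearAlgebra.Matrix.Determinant.Basic
import Mathlib.LinearAlgebra.Matrix.Transvection
import Mathlib.RingTheory.Ideal.Span
import Mathlib.LinearAlgebra.Finsupp.LinearCombination
import Mathlib.Tactic

/-!
# Determinantal ideals of a submodule of relations (combinatorial core of Fitting ideals)
-/

set_option autoImplicit false

open Matrix

namespace Groth.Agent.Helper22.FitCore

variable {R : Type*} [CommRing R]

/-- The ideal generated by determinants of square matrices all of whose rows, with at most `k`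
exceptions, lie in `N`. -/
def Jdet {ι : Type*} [Fintype ι] [DecidableEq ι] (N : Submodule R (ι → R)) (k : ℕ) : Ideal R :=
  Ideal.span {d | ∃ (a : Matrix ι ι R) (s : Finset ι), s.card ≤ k ∧ (∀ i, i ∉ s → a i ∈ N) ∧
    d = a.det}

theorem det_mem_Jdet {ι : Type*} [Fintype ι] [DecidableEq ι] (N : Submodule R (ι → R)) (k : ℕ)
    (a : Matrix ι ι R) (s : Finset ι) (hs : s.card ≤ k) (h : ∀ i, i ∉ s → a i ∈ N) :
    a.det ∈ Jdet N k :=
  Ideal.subset_span ⟨a, s, hs, h, rfl⟩

theorem Jdet_le_of_reindex {ι ι' : Type*} [Fintype ι] [DecidableEq ι] [Fintype ι'] [DecidableEq ι']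
    (e : ι ≃ ι') (N : Submodule R (ι → R)) (N' : Submodule R (ι' → R))
    (h : ∀ r : ι → R, r ∈ N → r ∘ e.symm ∈ N') (k : ℕ) : Jdet N k ≤ Jdet N' k := by
  unfold Jdet
  rw [Ideal.span_le]
  rintro d ⟨a, s, hs, ha, rfl⟩
  have : a.det = (a.submatrix e.symm e.symm).det := (det_submatrix_equiv_self e.symm a).symm
  rw [this]
  refine det_mem_Jdet N' k _ (s.map e.toEmbedding) (by simpa using hs) ?_
  intro i hi
  have hi' : e.symm i ∉ s := by
    intro hmem
    apply hi
    rw [Finset.mem_map]
    exact ⟨e.symm i, hmem, by simp⟩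
  exact h _ (ha _ hi')

theorem Jdet_reindex {ι ι' : Type*} [Fintype ι] [DecidableEq ι] [Fintype ι'] [DecidableEq ι']
    (e : ι ≃ ι') (N : Submodule R (ι → R)) (N' : Submodule R (ι' → R))
    (h : ∀ r : ι → R, r ∈ N ↔ r ∘ e.symm ∈ N') (k : ℕ) : Jdet N k = Jdet N' k := by
  refine le_antisymm (Jdet_le_of_reindex e N N' (fun r hr => (h r).1 hr) k)
    (Jdet_le_of_reindex e.symm N' N (fun r hr => ?_) k)
  rw [h]
  have : (r ∘ ⇑e.symm.symm) ∘ ⇑e.symm = r := by
    funext i; simp
  rwa [this]

/-- Adding a redundant generator: easy direction. -/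
theorem Jdet_le_snoc {n : ℕ} (N : Submodule R (Fin n → R)) (N' : Submodule R (Fin (n + 1) → R))
    (c : Fin n → R)
    (hN' : ∀ v : Fin (n + 1) → R, v ∈ N' ↔ (Fin.init v + v (Fin.last n) • c) ∈ N) (k : ℕ) :
    Jdet N k ≤ Jdet N' k := by
  unfold Jdet
  rw [Ideal.span_le]
  rintro d ⟨a, s, hs, ha, rfl⟩
  set a' : Matrix (Fin (n + 1)) (Fin (n + 1)) R :=
    Matrix.of (Fin.snoc (α := fun _ => Fin (n + 1) → R)
      (fun i => Fin.snoc (α := fun _ => R) (a i) 0) (Fin.snoc (α := fun _ => R) c (-1))) with ha'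
  have hrow : ∀ i : Fin n, a' (Fin.castSucc i) = Fin.snoc (α := fun _ => R) (a i) 0 := by
    intro i; funext j; simp [ha', of_apply]
  have hlast : a' (Fin.last n) = Fin.snoc (α := fun _ => R) c (-1) := by
    funext j; simp [ha', of_apply]
  have hdet : a'.det = - a.det := by
    rw [det_succ_column a' (Fin.last n), Fin.sum_univ_castSucc]
    have h1 : ∀ i : Fin n, a' (Fin.castSucc i) (Fin.last n) = 0 := by
      intro i; rw [hrow]; simp
    have h2 : a' (Fin.last n) (Fin.last n) = -1 := by rw [hlast]; simp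
    have h3 : a'.submatrix (Fin.last n).succAbove (Fin.last n).succAbove = a := by
      ext i j
      simp only [submatrix_apply, Fin.succAbove_last]
      rw [hrow]; simp
    simp only [h1, h2, h3, mul_zero, zero_mul, Finset.sum_const_zero, zero_add]
    have : ((-1 : R)) ^ ((Fin.last n : ℕ) + (Fin.last n : ℕ)) = 1 :=
      Even.neg_one_pow ⟨_, rfl⟩
    rw [this]; ring
  have hmem : a'.det ∈ Jdet N' k := by
    refine det_mem_Jdet N' k a' (s.map Fin.castSuccEmb) (by simpa using hs) ?_
    intro i hi
    induction i using Fin.lastCases with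
    | last =>
      rw [hN', hlast]
      simp
    | cast i =>
      have hi' : i ∉ s := by
        intro hmem
        apply hi
        rw [Finset.mem_map]
        exact ⟨i, hmem, rfl⟩
      rw [hN', hrow]
      simpa using ha i hi'
  have : a.det = - a'.det := by rw [hdet, neg_neg]
  rw [this]
  exact (Jdet N' k).neg_mem hmem

/-- Removing a redundant generator: Laplace expansion along the last column. -/
theorem Jdet_snoc_le {n : ℕ} (N : Submodule R (Fin n → R)) (N' : Submodule R (Fin (n + 1) → R))
    (c : Fin n → R)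
    (hN' : ∀ v : Fin (n + 1) → R, v ∈ N' ↔ (Fin.init v + v (Fin.last n) • c) ∈ N) (k : ℕ) :
    Jdet N' k ≤ Jdet N k := by
  unfold Jdet
  rw [Ideal.span_le]
  rintro d ⟨a, s, hs, ha, rfl⟩
  set c' : Fin (n + 1) → R := Fin.snoc (α := fun _ => R) c 0 with hc'
  set b : Matrix (Fin (n + 1)) (Fin (n + 1)) R :=
    Matrix.of fun i j => a i j + c' j * a i (Fin.last n) with hb
  have hdet : b.det = a.det := by
    rw [← det_transpose b, ← det_transpose a]
    apply det_eq_of_forall_row_eq_smul_add_const c' (Fin.last n) (by simp [hc'])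
    intro i j
    simp [hb, transpose_apply]
  rw [← hdet, det_succ_column b (Fin.last n)]
  refine Ideal.sum_mem _ fun i _ => Ideal.mul_mem_left _ _ ?_
  refine det_mem_Jdet N k _ (Finset.univ.filter fun t => i.succAbove t ∈ s) ?_ ?_
  · calc _ ≤ s.card := Finset.card_le_card_of_injOn i.succAbove
          (by intro t ht; simpa using ht) (Fin.succAbove_right_injective.injOn)
      _ ≤ k := hs
  · intro t ht
    have hts : i.succAbove t ∉ s := by simpa using ht
    have := (hN' _).1 (ha _ hts)
    convert this using 1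
    funext j
    simp [hb, hc', Fin.succAbove_last, Fin.init, mul_comm]

theorem Jdet_snoc_eq {n : ℕ} (N : Submodule R (Fin n → R)) (N' : Submodule R (Fin (n + 1) → R))
    (c : Fin n → R)
    (hN' : ∀ v : Fin (n + 1) → R, v ∈ N' ↔ (Fin.init v + v (Fin.last n) • c) ∈ N) (k : ℕ) :
    Jdet N' k = Jdet N k :=
  le_antisymm (Jdet_snoc_le N N' c hN' k) (Jdet_le_snoc N N' c hN' k)

section Rel

variable {M : Type*} [AddCommGroup M] [Module R M]

/-- The submodule of relations among a finite family. -/
def Rel {ι : Type*} [Fintype ι] (x : ι → M) : Submodule R (ι → R) :=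
  LinearMap.ker (Fintype.linearCombination R x)

theorem mem_Rel {ι : Type*} [Fintype ι] (x : ι → M) (r : ι → R) :
    r ∈ Rel (R := R) x ↔ ∑ i, r i • x i = 0 := by
  simp [Rel, Fintype.linearCombination_apply]

theorem Rel_comp_equiv {ι ι' : Type*} [Fintype ι] [Fintype ι'] (e : ι ≃ ι') (x : ι' → M)
    (r : ι → R) : r ∈ Rel (R := R) (x ∘ e) ↔ r ∘ e.symm ∈ Rel (R := R) x := by
  rw [mem_Rel, mem_Rel, ← Equiv.sum_comp e (fun i' => (r ∘ e.symm) i' • x i')]
  simp

theorem Jdet_Rel_snoc {n : ℕ} (w : Fin n → M) (hw : Submodule.span R (Set.range w) = ⊤) (y : M)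
    (k : ℕ) :
    Jdet (Rel (R := R) (Fin.snoc (α := fun _ => M) w y)) k = Jdet (Rel (R := R) w) k := by
  have hy : y ∈ Submodule.span R (Set.range w) := by rw [hw]; trivial
  obtain ⟨c, hc⟩ := (Submodule.mem_span_range_iff_exists_fun R).1 hy
  apply Jdet_snoc_eq _ _ c
  intro v
  rw [mem_Rel, mem_Rel, Fin.sum_univ_castSucc]
  simp only [Fin.snoc_castSucc, Fin.snoc_last, Pi.add_apply, Pi.smul_apply, Fin.init, smul_eq_mul]
  rw [← hc, Finset.smul_sum]
  simp only [add_smul, mul_smul, Finset.sum_add_distrib]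

theorem Jdet_Rel_append {n m : ℕ} (x : Fin n → M) (hx : Submodule.span R (Set.range x) = ⊤)
    (x' : Fin m → M) (k : ℕ) :
    Jdet (Rel (R := R) (Fin.append x x')) k = Jdet (Rel (R := R) x) k := by
  induction m with
  | zero =>
    have : Fin.append x x' = x := by
      funext i
      exact Fin.append_left x x' i
    rw [this]
  | succ m ih =>
    have h1 : x' = Fin.snoc (α := fun _ => M) (Fin.init x') (x' (Fin.last m)) :=
      (Fin.snoc_init_self x').symm
    rw [h1, Fin.append_snoc, Jdet_Rel_snoc _ ?_ _ k, ih]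
    rw [eq_top_iff, ← hx]
    apply Submodule.span_mono
    rintro _ ⟨i, rfl⟩
    exact ⟨Fin.castAdd m i, Fin.append_left x _ i⟩

/-- Independence of the generating tuple. -/
theorem Jdet_Rel_indep {n m : ℕ} (x : Fin n → M) (hx : Submodule.span R (Set.range x) = ⊤)
    (x' : Fin m → M) (hx' : Submodule.span R (Set.range x') = ⊤) (k : ℕ) :
    Jdet (Rel (R := R) x) k = Jdet (Rel (R := R) x') k := by
  rw [← Jdet_Rel_append x hx x' k, ← Jdet_Rel_append x' hx' x k]
  have : Fin.append x x' = Fin.append x' x ∘ finAddFlip := by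
    funext i
    induction i using Fin.addCases with
    | left i => simp
    | right i => simp
  rw [this]
  exact Jdet_reindex finAddFlip _ _ (fun r => Rel_comp_equiv finAddFlip _ r) k

end Rel

section First

variable {n : ℕ}

/-- The prelude's version: the first `n - k` rows are relations. -/
def Jfirst (N : Submodule R (Fin n → R)) (k : ℕ) : Ideal R :=
  Ideal.span {d | ∃ a : Matrix (Fin n) (Fin n) R,
    (∀ i : Fin n, (i : ℕ) < n - k → a i ∈ N) ∧ d = a.det}

theorem Jfirst_le_Jdet (N : Submodule R (Fin n → R)) (k : ℕ) : Jfirst N k ≤ Jdet N k := by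
  unfold Jfirst
  rw [Ideal.span_le]
  rintro d ⟨a, ha, rfl⟩
  refine det_mem_Jdet N k a (Finset.univ.filter fun i : Fin n => n - k ≤ (i : ℕ)) ?_ ?_
  · have h1 : (Finset.univ.filter fun i : Fin n => n - k ≤ (i : ℕ)).card ≤ (Finset.range k).card := by
      apply Finset.card_le_card_of_injOn (fun i : Fin n => (i : ℕ) - (n - k))
      · intro i hi
        have h1 : n - k ≤ (i : ℕ) := by simpa using hi
        have h2 := i.2
        simp only [Finset.coe_range, Set.mem_Iio]
        omega
      · intro i hi j hj hij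
        have h1 : n - k ≤ (i : ℕ) := by simpa using hi
        have h2 : n - k ≤ (j : ℕ) := by simpa using hj
        simp only at hij
        ext; omega
    rwa [Finset.card_range] at h1
  · intro i hi
    apply ha
    have : ¬ (n - k ≤ (i : ℕ)) := by simpa using hi
    omega

theorem exists_perm_avoid {k : ℕ} (s : Finset (Fin n)) (hs : s.card ≤ k) :
    ∃ σ : Equiv.Perm (Fin n), ∀ i : Fin n, (i : ℕ) < n - k → σ i ∉ s := by
  classical
  set Lc : Finset (Fin n) := Finset.univ.filter fun i : Fin n => (i : ℕ) < n - k with hLc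
  have hLcard : Lc.card = n - k := by
    rw [hLc, Fin.card_filter_val_lt]; omega
  have hsc : n - k ≤ sᶜ.card := by
    rw [Finset.card_compl, Fintype.card_fin]; omega
  obtain ⟨u, hu, hucard⟩ := Finset.exists_subset_card_eq hsc
  let e₀ : {x // x ∈ Lc} ≃ {x // x ∈ u} := Finset.equivOfCardEq (hLcard.trans hucard.symm)
  refine ⟨e₀.extendSubtype, fun i hi => ?_⟩
  have hiL : i ∈ Lc := by simp [hLc, hi]
  have := e₀.extendSubtype_mem i hiL
  exact Finset.mem_compl.1 (hu this)

theorem Jdet_le_Jfirst (N : Submodule R (Fin n → R)) (k : ℕ) : Jdet N k ≤ Jfirst N k := by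
  unfold Jdet
  rw [Ideal.span_le]
  rintro d ⟨a, s, hs, ha, rfl⟩
  obtain ⟨σ, hσ⟩ := exists_perm_avoid s hs
  have hdet : (a.submatrix σ id).det = Equiv.Perm.sign σ * a.det := det_permute σ a
  have hmem : (a.submatrix σ id).det ∈ Jfirst N k :=
    Ideal.subset_span ⟨_, fun i hi => ha _ (hσ i hi), rfl⟩
  have hsq : ((Equiv.Perm.sign σ : ℤ) : R) * ((Equiv.Perm.sign σ : ℤ) : R) = 1 := by
    rw [← Int.cast_mul, ← Units.val_mul, Int.units_mul_self]; simp
  have : a.det = ((Equiv.Perm.sign σ : ℤ) : R) * (a.submatrix σ id).det := by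
    rw [hdet, ← mul_assoc, hsq, one_mul]
  rw [this]
  exact Ideal.mul_mem_left _ _ hmem

theorem Jfirst_eq_Jdet (N : Submodule R (Fin n → R)) (k : ℕ) : Jfirst N k = Jdet N k :=
  le_antisymm (Jfirst_le_Jdet N k) (Jdet_le_Jfirst N k)

end First

section Minors

variable {n : ℕ}

/-- Ideal of `p × p` minors (columns selected by `e`) of matrices with rows `z`, at most `j` of
which are not in `N`. -/
def G (N : Submodule R (Fin n → R)) (p j : ℕ) : Ideal R :=
  Ideal.span {d | ∃ (z : Fin p → (Fin n → R)) (e : Fin p → Fin n) (s : Finset (Fin p)),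
    s.card ≤ j ∧ (∀ b, b ∉ s → z b ∈ N) ∧ d = (Matrix.of fun a b => z b (e a)).det}

theorem det_mem_G (N : Submodule R (Fin n → R)) (p j : ℕ) (z : Fin p → (Fin n → R))
    (e : Fin p → Fin n) (s : Finset (Fin p)) (hs : s.card ≤ j) (h : ∀ b, b ∉ s → z b ∈ N) :
    (Matrix.of fun a b => z b (e a)).det ∈ G N p j :=
  Ideal.subset_span ⟨z, e, s, hs, h, rfl⟩

theorem G_succ_le (N : Submodule R (Fin n → R)) (p j : ℕ) : G N (p + 1) (j + 1) ≤ G N p j := by
  unfold G
  rw [Ideal.span_le]
  rintro d ⟨z, e, s, hs, hz, rfl⟩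
  obtain ⟨t, ht⟩ : ∃ t : Fin (p + 1), s = ∅ ∨ t ∈ s := by
    rcases s.eq_empty_or_nonempty with h | ⟨t, ht⟩
    · exact ⟨0, Or.inl h⟩
    · exact ⟨t, Or.inr ht⟩
  rw [det_succ_column _ t]
  refine Ideal.sum_mem _ fun a _ => Ideal.mul_mem_left _ _ ?_
  have hsub : (Matrix.of fun a b => z b (e a)).submatrix a.succAbove t.succAbove =
      Matrix.of fun a' b' => (z ∘ t.succAbove) b' ((e ∘ a.succAbove) a') := by
    ext a' b'; simp
  rw [hsub]
  refine det_mem_G N p j _ _ (Finset.univ.filter fun b => t.succAbove b ∈ s) ?_ ?_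
  · rcases ht with h | h
    · subst h; simp
    · have : (Finset.univ.filter fun b => t.succAbove b ∈ s).card ≤ (s.erase t).card := by
        apply Finset.card_le_card_of_injOn t.succAbove
        · intro b hb
          have hb' : t.succAbove b ∈ s := by simpa using hb
          simp only [Finset.coe_erase, Set.mem_sdiff, Finset.mem_coe, Set.mem_singleton_iff]
          exact ⟨hb', Fin.succAbove_ne t b⟩
        · exact Fin.succAbove_right_injective.injOn
      rw [Finset.card_erase_of_mem h] at this
      omega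
  · intro b hb
    have : t.succAbove b ∉ s := by simpa using hb
    exact hz _ this

theorem det_eq_zero_of_not_injective {p : ℕ} (z : Fin p → (Fin n → R)) (e : Fin p → Fin n)
    (he : ¬ Function.Injective e) : (Matrix.of fun a b => z b (e a)).det = 0 := by
  obtain ⟨a, a', hne, heq⟩ : ∃ a a', a ≠ a' ∧ e a = e a' := by
    simp only [Function.Injective] at he
    push Not at he
    obtain ⟨a, a', h1, h2⟩ := he
    exact ⟨a, a', h2, h1⟩
  exact det_zero_of_row_eq hne (by funext b; simp [heq])

theorem G_le_succ (N : Submodule R (Fin n → R)) (p j : ℕ) (hp : p < n) :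
    G N p j ≤ G N (p + 1) (j + 1) := by
  unfold G
  rw [Ideal.span_le]
  rintro d ⟨z, e, s, hs, hz, rfl⟩
  by_cases he : Function.Injective e
  · obtain ⟨c, hc⟩ : ∃ c : Fin n, ∀ a, e a ≠ c := by
      by_contra hcon
      push Not at hcon
      have hsurj : Function.Surjective e := fun c => hcon c
      have := Fintype.card_le_of_surjective e hsurj
      simp at this
      omega
    set z' : Fin (p + 1) → (Fin n → R) :=
      Fin.cons (α := fun _ => Fin n → R) (Pi.single c 1) z with hz'
    set e' : Fin (p + 1) → Fin n := Fin.cons (α := fun _ => Fin n) c e with he'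
    have hdet : (Matrix.of fun a b => z' b (e' a)).det = (Matrix.of fun a b => z b (e a)).det := by
      rw [det_succ_column_zero, Fin.sum_univ_succ]
      have h0 : (Matrix.of fun a b => z' b (e' a)) 0 0 = 1 := by simp [hz', he']
      have hs : ∀ a : Fin p, (Matrix.of fun a b => z' b (e' a)) a.succ 0 = 0 := by
        intro a; simp [hz', he', hc a]
      have hsub : (Matrix.of fun a b => z' b (e' a)).submatrix Fin.succ
          Fin.succ = Matrix.of fun a b => z b (e a) := by
        ext a b; simp [hz', he']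
      simp [h0, hs, hsub, Fin.succAbove_zero]
    rw [← hdet]
    refine det_mem_G N (p + 1) (j + 1) z' e' (insert 0 (s.map (Fin.succEmb p))) ?_ ?_
    · refine (Finset.card_insert_le _ _).trans ?_
      simpa using hs
    · intro b hb
      induction b using Fin.cases with
      | zero => exact absurd (Finset.mem_insert_self _ _) hb
      | succ b =>
        have hb' : b ∉ s := by
          intro hmem
          apply hb
          apply Finset.mem_insert_of_mem
          rw [Finset.mem_map]
          exact ⟨b, hmem, rfl⟩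
        simpa [hz'] using hz b hb'
  · rw [det_eq_zero_of_not_injective z e he]
    exact Ideal.zero_mem _

theorem G_add (N : Submodule R (Fin n → R)) (p j i : ℕ) (h : p + i ≤ n) :
    G N (p + i) (j + i) = G N p j := by
  induction i with
  | zero => rfl
  | succ i ih =>
    have h1 : p + i < n := by omega
    rw [← ih (by omega)]
    exact le_antisymm (G_succ_le N (p + i) (j + i)) (G_le_succ N (p + i) (j + i) h1)

theorem Jdet_le_G (N : Submodule R (Fin n → R)) (k : ℕ) : Jdet N k ≤ G N n k := by
  unfold Jdet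
  rw [Ideal.span_le]
  rintro d ⟨a, s, hs, ha, rfl⟩
  have : a.det = (Matrix.of fun i j => a j (id i)).det := by
    rw [← det_transpose]; rfl
  rw [this]
  exact det_mem_G N n k a id s hs ha

theorem G_le_Jdet (N : Submodule R (Fin n → R)) (k : ℕ) : G N n k ≤ Jdet N k := by
  unfold G
  rw [Ideal.span_le]
  rintro d ⟨z, e, s, hs, hz, rfl⟩
  by_cases he : Function.Injective e
  · have hbij : Function.Bijective e := Finite.injective_iff_bijective.1 he
    set σ : Equiv.Perm (Fin n) := Equiv.ofBijective e hbij with hσ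
    have h1 : (Matrix.of fun a b => z b (e a)) = ((Matrix.of z)ᵀ).submatrix σ id := by
      ext a b; simp [hσ]
    rw [h1, det_permute, det_transpose]
    exact Ideal.mul_mem_left _ _ (det_mem_Jdet N k (Matrix.of z) s hs hz)
  · rw [det_eq_zero_of_not_injective z e he]
    exact Ideal.zero_mem _

/-- Ideal of `(n - k) × (n - k)` minors of matrices of relations. -/
def Imin (N : Submodule R (Fin n → R)) (k : ℕ) : Ideal R :=
  Ideal.span {d | ∃ (z : Fin (n - k) → (Fin n → R)) (e : Fin (n - k) → Fin n),
    (∀ j, z j ∈ N) ∧ d = (Matrix.of fun a b => z b (e a)).det}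

theorem G_zero_eq_Imin (N : Submodule R (Fin n → R)) (k : ℕ) : G N (n - k) 0 = Imin N k := by
  unfold G Imin
  congr 1
  ext d
  constructor
  · rintro ⟨z, e, s, hs, hz, rfl⟩
    have : s = ∅ := Finset.card_eq_zero.1 (Nat.le_zero.1 hs)
    subst this
    exact ⟨z, e, fun j => hz j (Finset.notMem_empty j), rfl⟩
  · rintro ⟨z, e, hz, rfl⟩
    exact ⟨z, e, ∅, by simp, fun b _ => hz b, rfl⟩

theorem G_min (N : Submodule R (Fin n → R)) (k : ℕ) : G N n k = G N n (min k n) := by
  apply le_antisymm
  · unfold G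
    apply Ideal.span_mono
    rintro d ⟨z, e, s, hs, hz, rfl⟩
    refine ⟨z, e, s, le_min hs ?_, hz, rfl⟩
    simpa using s.card_le_univ
  · unfold G
    apply Ideal.span_mono
    rintro d ⟨z, e, s, hs, hz, rfl⟩
    exact ⟨z, e, s, hs.trans (min_le_left _ _), hz, rfl⟩

theorem Jdet_eq_Imin (N : Submodule R (Fin n → R)) (k : ℕ) : Jdet N k = Imin N k := by
  have h1 : Jdet N k = G N n k := le_antisymm (Jdet_le_G N k) (G_le_Jdet N k)
  rw [h1, G_min, ← G_zero_eq_Imin]
  have h2 : n - k = n - min k n := by omega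
  have h3 := G_add N (n - min k n) 0 (min k n) (by omega)
  rw [h2, ← h3]
  congr 1 <;> omega

end Minors

end Groth.Agent.Helper22.FitCore
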