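import Groth.Prelude.Def_Fitting
import Groth.Agent.Lib.Helper22.FitCore

/-!
# Fitting ideals: independence of the generating tuple
-/

set_option autoImplicit false

universe u v

namespace Groth.Agent.Helper22.Fitting

open Groth.Agent.Helper22.FitCore

variable {R : Type u} [CommRing R] {M : Type v} [AddCommGroup M] [Module R M]

theorem ideal_eq_Jdet {n : ℕ} (x : Fin n → M) (hx : Submodule.span R (Set.range x) = ⊤) (k : ℕ) :
    Fitt.ideal R M k = Jdet (Rel (R := R) x) k := by
  apply le_antisymm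
  · unfold Fitt.ideal
    rw [Ideal.span_le]
    rintro d ⟨n', x', a, hx', hrel, rfl⟩
    rw [Jdet_Rel_indep x hx x' hx' k, ← Jfirst_eq_Jdet]
    exact Ideal.subset_span ⟨a, fun i hi => (mem_Rel x' _).2 (hrel i hi), rfl⟩
  · rw [← Jfirst_eq_Jdet]
    unfold Jfirst
    rw [Ideal.span_le]
    rintro d ⟨a, ha, rfl⟩
    exact Ideal.subset_span ⟨n, x, a, hx, fun i hi => (mem_Rel x _).1 (ha i hi), rfl⟩

theorem ideal_eq_Imin {n : ℕ} (x : Fin n → M) (hx : Submodule.span R (Set.range x) = ⊤) (k : ℕ) :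
    Fitt.ideal R M k = Imin (Rel (R := R) x) k := by
  rw [ideal_eq_Jdet x hx k, Jdet_eq_Imin]

end Groth.Agent.Helper22.Fitting
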