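import Groth.Agent.Lib.Helper22.FpEquiv
import Mathlib

set_option autoImplicit false
set_option backward.isDefEq.respectTransparency false
set_option backward.isDefEq.respectTransparency.types false

namespace Groth.Agent.Helper22.FpSq

open CategoryTheory CategoryTheory.Limits FibCat
open Groth.Agent.Helper22 Groth.Agent.Helper22.EquivComp Groth.Agent.Helper22.PostEquiv

universe v u

section
variable {C : Type u} [Category.{v} C] {ℬ 𝒳 𝒴 𝒳' 𝒴' : BasedCategory.{v, max u v} C}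
  (y : ℬ ⥤ᵇ 𝒴) (f : 𝒳 ⥤ᵇ 𝒴) (y' : ℬ ⥤ᵇ 𝒴') (f' : 𝒳' ⥤ᵇ 𝒴') (a : 𝒳' ⥤ᵇ 𝒳) (b : 𝒴' ⥤ᵇ 𝒴)
  (ι : BasedFunctor.comp y' b ≅ y) (e : BasedFunctor.comp f' b ≅ BasedFunctor.comp a f)

lemma sq_prop (X : (FibCat.fp y' f').obj) :
    𝒴.p.IsHomLift (𝟙 (ℬ.p.obj X.obj.fst))
      ((appIso ι X.obj.fst).inv ≫ b.map X.obj.iso.hom ≫ (appIso e X.obj.snd).hom) := by
  have h1 : 𝒴.p.IsHomLift (𝟙 (ℬ.p.obj X.obj.fst)) (appIso ι X.obj.fst).inv :=
    ι.inv.isHomLift' X.obj.fst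
  have h2 : 𝒴'.p.IsHomLift (𝟙 (ℬ.p.obj X.obj.fst)) X.obj.iso.hom := X.property
  have h3 : 𝒴.p.IsHomLift (𝟙 (𝒳'.p.obj X.obj.snd)) (appIso e X.obj.snd).hom :=
    e.hom.isHomLift' X.obj.snd
  haveI := h1
  haveI := h2
  haveI := h3
  haveI h4 : 𝒴.p.IsHomLift (𝟙 (ℬ.p.obj X.obj.fst)) (b.map X.obj.iso.hom) := inferInstance
  haveI h5 : 𝒴.p.IsHomLift (𝟙 (ℬ.p.obj X.obj.fst))
      (b.map X.obj.iso.hom ≫ (appIso e X.obj.snd).hom) :=
    IsHomLift.comp_lift_id_right' 𝒴.p (𝟙 (ℬ.p.obj X.obj.fst)) (b.map X.obj.iso.hom)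
      (𝒳'.p.obj X.obj.snd) (appIso e X.obj.snd).hom
  exact IsHomLift.comp_lift_id_right 𝒴.p (𝟙 (ℬ.p.obj X.obj.fst)) (appIso ι X.obj.fst).inv
    (b.map X.obj.iso.hom ≫ (appIso e X.obj.snd).hom)

lemma sq_w {X Y : (FibCat.fp y' f').obj} (m : X ⟶ Y) :
    y.map m.hom.fst ≫
        ((appIso ι Y.obj.fst).inv ≫ b.map Y.obj.iso.hom ≫ (appIso e Y.obj.snd).hom) =
      ((appIso ι X.obj.fst).inv ≫ b.map X.obj.iso.hom ≫ (appIso e X.obj.snd).hom) ≫
        f.map (a.map m.hom.snd) := by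
  have n1 : y.map m.hom.fst ≫ (appIso ι Y.obj.fst).inv =
      (appIso ι X.obj.fst).inv ≫ b.map (y'.map m.hom.fst) :=
    ι.inv.toNatTrans.naturality m.hom.fst
  have n2 : b.map (y'.map m.hom.fst) ≫ b.map Y.obj.iso.hom =
      b.map X.obj.iso.hom ≫ b.map (f'.map m.hom.snd) := by
    rw [← b.toFunctor.map_comp, ← b.toFunctor.map_comp]
    exact congrArg b.toFunctor.map m.hom.w
  have n3 : b.map (f'.map m.hom.snd) ≫ (appIso e Y.obj.snd).hom =
      (appIso e X.obj.snd).hom ≫ f.map (a.map m.hom.snd) :=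
    e.hom.toNatTrans.naturality m.hom.snd
  simp only [Category.assoc]
  rw [reassoc_of% n1, reassoc_of% n2, n3]

/-- the functor between fibre products induced by a 2-commutative square. -/
def sqFun : FibCat.fp y' f' ⥤ᵇ FibCat.fp y f where
  toFunctor :=
    { obj := fun X =>
        ⟨{ fst := X.obj.fst
           snd := a.obj X.obj.snd
           iso := (appIso ι X.obj.fst).symm ≪≫ b.toFunctor.mapIso X.obj.iso ≪≫
             appIso e X.obj.snd }, sq_prop y f y' f' a b ι e X⟩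
      map := fun {X Y} m => ObjectProperty.homMk
          { fst := m.hom.fst, snd := a.map m.hom.snd, w := sq_w y f y' f' a b ι e m }
      map_id := fun X => by
        apply ObjectProperty.hom_ext
        apply CategoryTheory.Limits.CategoricalPullback.hom_ext
        · rfl
        · exact a.toFunctor.map_id _
      map_comp := fun m n => by
        apply ObjectProperty.hom_ext
        apply CategoryTheory.Limits.CategoricalPullback.hom_ext
        · rfl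
        · exact a.toFunctor.map_comp _ _ }
  w := rfl

lemma isEquivOver_sqFun (ha : FibCat.IsEquivOver a) (hb : FibCat.IsEquivOver b) :
    FibCat.IsEquivOver (sqFun y f y' f' a b ι e) := by
  haveI : a.toFunctor.IsEquivalence := Groth.Agent.Helper12.isEquivalence_of_isEquivOver a ha
  haveI : b.toFunctor.IsEquivalence := Groth.Agent.Helper12.isEquivalence_of_isEquivOver b hb
  haveI hfa : (sqFun y f y' f' a b ι e).toFunctor.Faithful := by
    refine ⟨?_⟩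
    intro X Y m m' h
    apply ObjectProperty.hom_ext
    apply CategoryTheory.Limits.CategoricalPullback.hom_ext
    · exact congrArg (fun t => t.hom.fst) h
    · apply a.toFunctor.map_injective
      exact congrArg (fun t => t.hom.snd) h
  haveI hfu : (sqFun y f y' f' a b ι e).toFunctor.Full := by
    refine ⟨?_⟩
    intro X Y n
    let k : X.obj.fst ⟶ Y.obj.fst := n.hom.fst
    let l : X.obj.snd ⟶ Y.obj.snd := a.toFunctor.preimage n.hom.snd
    have hl : a.map l = n.hom.snd := a.toFunctor.map_preimage _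
    have hw : y.map k ≫
        ((appIso ι Y.obj.fst).inv ≫ b.map Y.obj.iso.hom ≫ (appIso e Y.obj.snd).hom) =
      ((appIso ι X.obj.fst).inv ≫ b.map X.obj.iso.hom ≫ (appIso e X.obj.snd).hom) ≫
        f.map (a.map l) := by
      rw [hl]
      exact n.hom.w
    have n1 : y.map k ≫ (appIso ι Y.obj.fst).inv =
        (appIso ι X.obj.fst).inv ≫ b.map (y'.map k) := ι.inv.toNatTrans.naturality k
    have n3 : b.map (f'.map l) ≫ (appIso e Y.obj.snd).hom =
        (appIso e X.obj.snd).hom ≫ f.map (a.map l) := e.hom.toNatTrans.naturality l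
    simp only [Category.assoc] at hw
    rw [reassoc_of% n1, ← n3] at hw
    have h5 : b.map (y'.map k) ≫ b.map Y.obj.iso.hom ≫ (appIso e Y.obj.snd).hom =
        b.map X.obj.iso.hom ≫ b.map (f'.map l) ≫ (appIso e Y.obj.snd).hom :=
      (cancel_epi (appIso ι X.obj.fst).inv).1 hw
    have h6 : (b.map (y'.map k) ≫ b.map Y.obj.iso.hom) ≫ (appIso e Y.obj.snd).hom =
        (b.map X.obj.iso.hom ≫ b.map (f'.map l)) ≫ (appIso e Y.obj.snd).hom := by
      simp only [Category.assoc]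
      exact h5
    have h7 : b.map (y'.map k) ≫ b.map Y.obj.iso.hom = b.map X.obj.iso.hom ≫ b.map (f'.map l) :=
      (cancel_mono (appIso e Y.obj.snd).hom).1 h6
    have w : y'.map k ≫ Y.obj.iso.hom = X.obj.iso.hom ≫ f'.map l := by
      apply b.toFunctor.map_injective
      rw [b.toFunctor.map_comp, b.toFunctor.map_comp]
      exact h7
    refine ⟨ObjectProperty.homMk ⟨k, l, w⟩, ?_⟩
    apply ObjectProperty.hom_ext
    apply CategoryTheory.Limits.CategoricalPullback.hom_ext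
    · rfl
    · exact hl
  apply FibLift.isEquivOver_of_ff
  intro η
  let c : ℬ.obj := η.obj.fst
  let x : 𝒳.obj := η.obj.snd
  let θ₂ : y.obj c ≅ f.obj x := η.obj.iso
  have hθ₂ : 𝒴.p.IsHomLift (𝟙 (ℬ.p.obj c)) θ₂.hom := η.property
  obtain ⟨x', α, hα⟩ := Groth.Agent.Helper12.exists_iso_lift_of_isEquivOver a ha x
  let ιc := appIso ι c
  let ex' := appIso e x'
  let β : b.obj (y'.obj c) ≅ b.obj (f'.obj x') :=
    ιc ≪≫ θ₂ ≪≫ f.toFunctor.mapIso α.symm ≪≫ ex'.symm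
  let θ : y'.obj c ≅ f'.obj x' := b.toFunctor.preimageIso β
  have hbθ : b.map θ.hom = ιc.hom ≫ θ₂.hom ≫ f.map α.inv ≫ ex'.inv :=
    b.toFunctor.map_preimage _
  have hβl : 𝒴.p.IsHomLift (𝟙 (ℬ.p.obj c)) (ιc.hom ≫ θ₂.hom ≫ f.map α.inv ≫ ex'.inv) := by
    haveI h1 : 𝒴.p.IsHomLift (𝟙 (ℬ.p.obj c)) ιc.hom := ι.hom.isHomLift' c
    haveI := hθ₂
    haveI := hα
    haveI h2 : 𝒳.p.IsHomLift (𝟙 (𝒳.p.obj x)) α.inv := inferInstance
    haveI h3 : 𝒴.p.IsHomLift (𝟙 (𝒳.p.obj x)) (f.map α.inv) := inferInstance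
    haveI h4 : 𝒴.p.IsHomLift (𝟙 (𝒳'.p.obj x')) ex'.inv := e.inv.isHomLift' x'
    haveI h5 : 𝒴.p.IsHomLift (𝟙 (𝒳.p.obj x)) (f.map α.inv ≫ ex'.inv) :=
      IsHomLift.comp_lift_id_right' 𝒴.p (𝟙 (𝒳.p.obj x)) (f.map α.inv) (𝒳'.p.obj x') ex'.inv
    haveI h6 : 𝒴.p.IsHomLift (𝟙 (ℬ.p.obj c)) (θ₂.hom ≫ f.map α.inv ≫ ex'.inv) :=
      IsHomLift.comp_lift_id_right' 𝒴.p (𝟙 (ℬ.p.obj c)) θ₂.hom (𝒳.p.obj x)
        (f.map α.inv ≫ ex'.inv)
    exact IsHomLift.comp_lift_id_right 𝒴.p (𝟙 (ℬ.p.obj c)) ιc.hom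
      (θ₂.hom ≫ f.map α.inv ≫ ex'.inv)
  have hθl : 𝒴'.p.IsHomLift (𝟙 (ℬ.p.obj c)) θ.hom := by
    rw [← BasedFunctor.isHomLift_iff b]
    rw [hbθ]
    exact hβl
  let ξ : (FibCat.fp y' f').obj := ⟨⟨c, x', θ⟩, hθl⟩
  let E : (sqFun y f y' f' a b ι e).obj ξ ≅ η :=
    ObjectProperty.isoMk _ (CategoryTheory.Limits.CategoricalPullback.mkIso (Iso.refl c) α (by
      show y.map (𝟙 c) ≫ θ₂.hom = (ιc.inv ≫ b.map θ.hom ≫ ex'.hom) ≫ f.map α.hom
      rw [hbθ, y.toFunctor.map_id, Category.id_comp]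
      simp only [Category.assoc, Iso.inv_hom_id_assoc]
      rw [← f.toFunctor.map_comp, Iso.inv_hom_id, f.toFunctor.map_id, Category.comp_id]))
  refine ⟨ξ, E, ?_⟩
  refine (Groth.Agent.H13.fp_isHomLift_iff y f E.hom _).2 ?_
  exact IsHomLift.id rfl

end

end Groth.Agent.Helper22.FpSq
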