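import Groth.Prelude.Def_FibCat2
import Mathlib

set_option autoImplicit false
set_option backward.isDefEq.respectTransparency false
set_option backward.isDefEq.respectTransparency.types false

namespace Groth.Agent.Helper22.FibLift

open CategoryTheory CategoryTheory.Limits FibCat

universe v₂ u₂ v₃ u₃ v u

section
variable {C : Type u} [Category.{v} C] {X : Type u₂} [Category.{v₂} X] (p : X ⥤ C)

/-- in a category fibred in groupoids every lift of `f` is strongly cartesian over `f`. -/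
lemma sc_of_lift (hp : FibCat.IsFibGrpd p) {R S : C} (f : R ⟶ S) {a b : X} (φ : a ⟶ b)
    [h : p.IsHomLift f φ] : p.IsStronglyCartesian f φ := by
  obtain ⟨⟩ := h
  exact hp.isStronglyCartesian φ

end

section lift
variable {C : Type u} [Category.{v} C] {𝒳 𝒴 : BasedCategory.{v₂, u₂} C}
  {ℬ : BasedCategory.{v₃, u₃} C}
  (F : 𝒳 ⥤ᵇ 𝒴) [F.toFunctor.Full] [F.toFunctor.Faithful] (Y' : ℬ ⥤ᵇ 𝒴)
  (xx : ℬ.obj → 𝒳.obj) (χ : ∀ b, F.obj (xx b) ≅ Y'.obj b)

/-- lifting a based functor along a fully faithful based functor, given objectwise preimages. -/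
noncomputable def liftFun : ℬ.obj ⥤ 𝒳.obj where
  obj := xx
  map {b b'} g := F.toFunctor.preimage ((χ b).hom ≫ Y'.map g ≫ (χ b').inv)
  map_id b := by
    apply F.toFunctor.map_injective
    simp
  map_comp g g' := by
    apply F.toFunctor.map_injective
    simp

variable (hχ : ∀ b, 𝒴.p.IsHomLift (𝟙 (ℬ.p.obj b)) (χ b).hom)

include hχ in
lemma liftFun_isHomLift {b b' : ℬ.obj} (g : b ⟶ b') :
    𝒳.p.IsHomLift (ℬ.p.map g) ((liftFun F Y' xx χ).map g) := by
  rw [← BasedFunctor.isHomLift_iff F]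
  show 𝒴.p.IsHomLift (ℬ.p.map g)
    (F.toFunctor.map (F.toFunctor.preimage ((χ b).hom ≫ Y'.map g ≫ (χ b').inv)))
  rw [F.toFunctor.map_preimage]
  haveI := hχ b
  haveI := hχ b'
  haveI : 𝒴.p.IsHomLift (ℬ.p.map g) (Y'.map g) := inferInstance
  haveI : 𝒴.p.IsHomLift (𝟙 (ℬ.p.obj b')) (χ b').inv := inferInstance
  infer_instance

include hχ in
lemma liftFun_obj (b : ℬ.obj) : 𝒳.p.obj (xx b) = ℬ.p.obj b := by
  haveI := hχ b
  exact (F.w_obj (xx b)).symm.trans (IsHomLift.domain_eq 𝒴.p (𝟙 (ℬ.p.obj b)) (χ b).hom)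

/-- the lift as a based functor. -/
noncomputable def liftB : ℬ ⥤ᵇ 𝒳 where
  toFunctor := liftFun F Y' xx χ
  w := CategoryTheory.Functor.ext (fun b => liftFun_obj F Y' xx χ hχ b) (fun b b' g => by
    haveI := liftFun_isHomLift F Y' xx χ hχ g
    exact IsHomLift.fac' 𝒳.p (ℬ.p.map g) ((liftFun F Y' xx χ).map g))

/-- the lift composed with `F` is the given functor. -/
noncomputable def liftIso : BasedFunctor.comp (liftB F Y' xx χ hχ) F ≅ Y' :=
  BasedNatIso.mkNatIso (NatIso.ofComponents (fun b => χ b) (by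
    intro b b' g
    show F.toFunctor.map (F.toFunctor.preimage ((χ b).hom ≫ Y'.map g ≫ (χ b').inv)) ≫
      (χ b').hom = (χ b).hom ≫ Y'.map g
    rw [F.toFunctor.map_preimage]
    simp)) (fun b => hχ b)

end lift

section equiv
variable {C : Type u} [Category.{v} C] {𝒳 𝒴 : BasedCategory.{v₂, u₂} C}

/-- a fully faithful based functor which is essentially surjective over identities is an equivalence
over the base. -/
lemma isEquivOver_of_ff (F : 𝒳 ⥤ᵇ 𝒴) [F.toFunctor.Full] [F.toFunctor.Faithful]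
    (h : ∀ η : 𝒴.obj, ∃ (ξ : 𝒳.obj) (e : F.toFunctor.obj ξ ≅ η),
      𝒴.p.IsHomLift (𝟙 (𝒴.p.obj η)) e.hom) : FibCat.IsEquivOver F := by
  choose xx χ hχ using h
  refine ⟨liftB F (BasedFunctor.id 𝒴) xx χ hχ, ⟨?_⟩, ⟨liftIso F (BasedFunctor.id 𝒴) xx χ hχ⟩⟩
  refine BasedNatIso.mkNatIso (NatIso.ofComponents
    (fun x => F.toFunctor.preimageIso (χ (F.obj x))) ?_) ?_
  · intro x x' k
    apply F.toFunctor.map_injective
    show F.toFunctor.map (F.toFunctor.preimage ((χ (F.obj x)).hom ≫ F.toFunctor.map k ≫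
      (χ (F.obj x')).inv) ≫ F.toFunctor.preimage (χ (F.obj x')).hom) =
      F.toFunctor.map (F.toFunctor.preimage (χ (F.obj x)).hom ≫ k)
    simp
  · intro x
    rw [← BasedFunctor.isHomLift_iff F]
    show 𝒴.p.IsHomLift (𝟙 (𝒳.p.obj x))
      (F.toFunctor.map (F.toFunctor.preimage (χ (F.obj x)).hom))
    rw [F.toFunctor.map_preimage]
    exact (F.w_obj x) ▸ hχ (F.obj x)

end equiv

end Groth.Agent.Helper22.FibLift
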