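import Groth.Prelude.Def_FibCat2
import Groth.Agent.H13.TwoYoneda
import Mathlib

set_option autoImplicit false
set_option backward.isDefEq.respectTransparency false
set_option backward.isDefEq.respectTransparency.types false

namespace Groth.Agent.Helper22.OverFib

open CategoryTheory CategoryTheory.Limits FibCat

universe v u

variable {C : Type u} [Category.{v} C]

/-- the slice `C/U` is fibred in groupoids over `C`. -/
lemma isFibGrpd_over (U : C) : FibCat.IsFibGrpd (FibCat.overCat U).p := by
  refine ⟨?_, ?_⟩
  · intro x V f
    let y : Over U := Over.mk (f ≫ x.hom)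
    let m : y ⟶ x := Over.homMk f rfl
    have hm : (Over.forget U).IsHomLift ((Over.forget U).map m) m := IsHomLift.map (Over.forget U) m
    exact ⟨y, m, hm⟩
  · intro y x φ
    exact Groth.Agent.H13.TwoYoneda.over_isStronglyCartesian U φ

end Groth.Agent.Helper22.OverFib
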