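import Groth.Prelude.Def_FibCat2
import Mathlib

set_option autoImplicit false
set_option backward.isDefEq.respectTransparency false
set_option backward.isDefEq.respectTransparency.types false

namespace Groth.Agent.Helper22.SelfOver

open CategoryTheory CategoryTheory.Limits FibCat

universe v u

variable {C : Type u} [Category.{v} C]

/-- the base category over itself is fibred in groupoids. -/
lemma isFibGrpd_id : FibCat.IsFibGrpd (𝟭 C) := by
  refine ⟨?_, ?_⟩
  · intro x V f
    exact ⟨V, f, IsHomLift.map (𝟭 C) f⟩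
  · intro y x φ
    refine { toIsHomLift := IsHomLift.map (𝟭 C) φ, universal_property' := ?_ }
    intro a' g φ' hφ'
    have h1 : g ≫ φ = φ' := IsHomLift.eq_of_isHomLift (𝟭 C) (g ≫ (𝟭 C).map φ) φ'
    refine ⟨g, ⟨IsHomLift.map (𝟭 C) g, h1⟩, ?_⟩
    rintro χ ⟨hχ, -⟩
    exact (IsHomLift.eq_of_isHomLift (𝟭 C) g χ).symm

lemma isFibGrpd_self : FibCat.IsFibGrpd (FibCat.selfOver C).p := isFibGrpd_id

/-- two morphisms of the base lifting the same morphism along the identity functor are equal. -/
lemma id_lift_ext {a b R S : C} (f : R ⟶ S) (φ ψ : a ⟶ b) [(𝟭 C).IsHomLift f φ]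
    [(𝟭 C).IsHomLift f ψ] : φ = ψ :=
  (IsHomLift.fac' (𝟭 C) f φ).trans (IsHomLift.fac' (𝟭 C) f ψ).symm

end Groth.Agent.Helper22.SelfOver
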