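import Groth.Prelude.Def_AlgSt
import Groth.Prelude.Def_W4stkcategoriessitesFib
import Groth.Agent.Lib.Helper22.FibLift
import Groth.Agent.S6409
import Groth.Agent.H13.FibGrpd
import Mathlib

set_option autoImplicit false
set_option backward.isDefEq.respectTransparency false
set_option backward.isDefEq.respectTransparency.types false

namespace Groth.Agent.Helper22.StkLocal

open CategoryTheory FibCat

universe v₄ u₄ v₃ u₃ v₂ u₂ v u

section local_eq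
variable {C : Type u} [Category.{v} C] (J : GrothendieckTopology C)
  {𝒯 : BasedCategory.{v, max u v} C}

/-- In a prestack, two morphisms of a fibre category which agree locally (after precomposition
with every morphism lying over an arrow of a covering sieve) are equal. -/
theorem eq_of_locally_eq (hT : Stk.IsPrestack J 𝒯) {T : C} {t t' : 𝒯.obj}
    (ht : 𝒯.p.obj t = T) (ht' : 𝒯.p.obj t' = T) (a b : t ⟶ t')
    [ha : 𝒯.p.IsHomLift (𝟙 T) a] [hb : 𝒯.p.IsHomLift (𝟙 T) b]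
    (R : Sieve T) (hR : R ∈ J T)
    (hloc : ∀ ⦃V : C⦄ (f : V ⟶ T), R f → ∀ (s : 𝒯.obj) (ψ : s ⟶ t), 𝒯.p.IsHomLift f ψ →
      ψ ≫ a = ψ ≫ b) : a = b := by
  have hfg : FibCat.IsFibGrpd 𝒯.p := hT.1
  have hpf : Stk.IsPrestackFor R 𝒯 := hT.2 R hR
  haveI hfaith : (Stk.resSieve R 𝒯).Faithful := hpf.2
  haveI : (FibCat.evalAtId 𝒯 T).IsEquivalence := Groth.Agent.S6409.result hfg T
  let E := FibCat.evalAtId 𝒯 T
  let X : 𝒯.p.Fiber T := ⟨t, ht⟩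
  let X' : 𝒯.p.Fiber T := ⟨t', ht'⟩
  let P : FibCat.overCat T ⥤ᵇ 𝒯 := E.objPreimage X
  let P' : FibCat.overCat T ⥤ᵇ 𝒯 := E.objPreimage X'
  let τ : E.obj P ≅ X := E.objObjPreimageIso X
  let τ' : E.obj P' ≅ X' := E.objObjPreimageIso X'
  let A : X ⟶ X' := ⟨a, ha⟩
  let B : X ⟶ X' := ⟨b, hb⟩
  let α : P ⟶ P' := E.preimage (τ.hom ≫ A ≫ τ'.inv)
  let β : P ⟶ P' := E.preimage (τ.hom ≫ B ≫ τ'.inv)
  have hEα : E.map α = τ.hom ≫ A ≫ τ'.inv := E.map_preimage _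
  have hEβ : E.map β = τ.hom ≫ B ≫ τ'.inv := E.map_preimage _
  let τh : P.obj (Over.mk (𝟙 T)) ⟶ t := τ.hom.1
  let τi' : t' ⟶ P'.obj (Over.mk (𝟙 T)) := τ'.inv.1
  haveI hτh : 𝒯.p.IsHomLift (𝟙 T) τh := τ.hom.2
  have hα1 : α.toNatTrans.app (Over.mk (𝟙 T)) = τh ≫ a ≫ τi' := congrArg Subtype.val hEα
  have hβ1 : β.toNatTrans.app (Over.mk (𝟙 T)) = τh ≫ b ≫ τi' := congrArg Subtype.val hEβ
  have hαβ : α = β := by
    apply (Stk.resSieve R 𝒯).map_injective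
    apply BasedNatTrans.homCategory.ext
    ext c
    show α.toNatTrans.app c.obj = β.toNatTrans.app c.obj
    let o : Over T := c.obj
    let g : o.left ⟶ T := o.hom
    have ho : R g := c.property
    let m : o ⟶ Over.mk (𝟙 T) := Over.homMk o.hom (by simp)
    have nα : P.map m ≫ α.toNatTrans.app (Over.mk (𝟙 T)) = α.toNatTrans.app o ≫ P'.map m :=
      α.toNatTrans.naturality m
    have nβ : P.map m ≫ β.toNatTrans.app (Over.mk (𝟙 T)) = β.toNatTrans.app o ≫ P'.map m :=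
      β.toNatTrans.naturality m
    haveI h1 : 𝒯.p.IsHomLift g (P.map m) := by
      have h0 : 𝒯.p.IsHomLift ((FibCat.overCat T).p.map m) (P.map m) := inferInstance
      exact h0
    haveI h1' : 𝒯.p.IsHomLift g (P'.map m) := by
      have h0 : 𝒯.p.IsHomLift ((FibCat.overCat T).p.map m) (P'.map m) := inferInstance
      exact h0
    haveI h3 : 𝒯.p.IsHomLift g (P.map m ≫ τh) := inferInstance
    have hl : (P.map m ≫ τh) ≫ a = (P.map m ≫ τh) ≫ b :=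
      hloc g ho (P.obj o) (P.map m ≫ τh) h3
    have key : α.toNatTrans.app o ≫ P'.map m = β.toNatTrans.app o ≫ P'.map m := by
      rw [← nα, ← nβ, hα1, hβ1]
      have := congrArg (fun z => z ≫ τi') hl
      simpa only [Category.assoc] using this
    haveI hsc : 𝒯.p.IsStronglyCartesian g (P'.map m) :=
      Groth.Agent.Helper22.FibLift.sc_of_lift 𝒯.p hfg g (P'.map m)
    haveI hαl : 𝒯.p.IsHomLift (𝟙 o.left) (α.toNatTrans.app o) := BasedNatTrans.isHomLift α rfl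
    haveI hβl : 𝒯.p.IsHomLift (𝟙 o.left) (β.toNatTrans.app o) := BasedNatTrans.isHomLift β rfl
    exact Functor.IsStronglyCartesian.ext 𝒯.p g (P'.map m) (𝟙 o.left) key
  have h2 : τ.hom ≫ A ≫ τ'.inv = τ.hom ≫ B ≫ τ'.inv := by
    rw [← hEα, ← hEβ, hαβ]
  have h3 : A ≫ τ'.inv = B ≫ τ'.inv := (cancel_epi τ.hom).1 h2
  have h4 : A = B := (cancel_mono τ'.inv).1 h3
  exact congrArg Subtype.val h4

/-- A stack is a prestack. -/
theorem isPrestack_of_isStack {𝒳 : BasedCategory.{v₂, u₂} C} (h : Stk.IsStack J 𝒳) :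
    Stk.IsPrestack J 𝒳 := by
  refine ⟨h.1, fun U R hR => ?_⟩
  haveI : (Stk.resSieve R 𝒳).IsEquivalence := h.2 R hR
  exact ⟨inferInstance, inferInstance⟩

end local_eq

section lifts
variable {C : Type u} [Category.{v} C]
  {𝒮₁ : BasedCategory.{v₂, u₂} C} {𝒮₂ : BasedCategory.{v₃, u₃} C} {𝒯₁ : BasedCategory.{v₄, u₄} C}

/-- comparison isomorphism between `F x` and `G s₁` when `F x ⟶ G t` and `s₁ ⟶ t` lie over the
same morphism of the base. -/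
theorem exists_iso_of_lifts (h₁ : FibCat.IsFibGrpd 𝒮₁.p) (F : 𝒮₂ ⥤ᵇ 𝒮₁) (G : 𝒯₁ ⥤ᵇ 𝒮₁)
    {V T : C} (f : V ⟶ T) {x : 𝒮₂.obj} {t s₁ : 𝒯₁.obj} (φ : F.obj x ⟶ G.obj t)
    [hφ : 𝒮₁.p.IsHomLift f φ] (ψ : s₁ ⟶ t) [hψ : 𝒯₁.p.IsHomLift f ψ] :
    ∃ θ : F.obj x ≅ G.obj s₁, 𝒮₂.p.obj x = V ∧ 𝒮₁.p.IsHomLift (𝟙 V) θ.hom ∧
      𝒮₁.p.IsHomLift (𝟙 (𝒮₂.p.obj x)) θ.hom ∧ θ.hom ≫ G.map ψ = φ := by
  haveI hGψ : 𝒮₁.p.IsHomLift f (G.map ψ) := inferInstance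
  haveI hsc : 𝒮₁.p.IsStronglyCartesian f (G.map ψ) :=
    Groth.Agent.Helper22.FibLift.sc_of_lift 𝒮₁.p h₁ f (G.map ψ)
  have hf : f = 𝟙 V ≫ f := (Category.id_comp f).symm
  let θh : F.obj x ⟶ G.obj s₁ := Functor.IsStronglyCartesian.map 𝒮₁.p f (G.map ψ) hf φ
  haveI hθl : 𝒮₁.p.IsHomLift (𝟙 V) θh :=
    Functor.IsStronglyCartesian.map_isHomLift 𝒮₁.p f (G.map ψ) hf φ
  haveI : IsIso θh := Groth.Agent.H13.FibGrpd.isIso_of_lift_id h₁ (S := V) θh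
  have hxV : 𝒮₂.p.obj x = V := (F.w_obj x).symm.trans (IsHomLift.domain_eq 𝒮₁.p f φ)
  refine ⟨asIso θh, hxV, hθl, ?_, Functor.IsStronglyCartesian.fac 𝒮₁.p f (G.map ψ) hf φ⟩
  rw [hxV]
  exact hθl

/-- the local essential surjectivity hypothesis, transported along an equality of base objects. -/
theorem hF_transport (J : GrothendieckTopology C) (F : 𝒮₂ ⥤ᵇ 𝒮₁)
    (hF : ∀ y : 𝒮₁.obj, ∃ R ∈ J (𝒮₁.p.obj y), ∀ ⦃V : C⦄ (f : V ⟶ 𝒮₁.p.obj y), R f →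
      ∃ (x : 𝒮₂.obj) (φ : F.obj x ⟶ y), 𝒮₁.p.IsHomLift f φ)
    (y : 𝒮₁.obj) {T : C} (hT : 𝒮₁.p.obj y = T) :
    ∃ R ∈ J T, ∀ ⦃V : C⦄ (f : V ⟶ T), R f →
      ∃ (x : 𝒮₂.obj) (φ : F.obj x ⟶ y), 𝒮₁.p.IsHomLift f φ := by
  subst hT
  exact hF y

end lifts

end Groth.Agent.Helper22.StkLocal
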