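import Groth.Prelude.Def_AlgSt
import Groth.Agent.Lib.Helper12.EquivOver
import Groth.Agent.Lib.Helper22.FibLift
import Groth.Agent.H13.FibGrpd
import Mathlib

set_option autoImplicit false
set_option backward.isDefEq.respectTransparency false
set_option backward.isDefEq.respectTransparency.types false

namespace Groth.Agent.Helper22.PostEquiv

open CategoryTheory CategoryTheory.Limits FibCat

universe v₂ u₂ v₃ u₃ v₄ u₄ v₅ u₅ v u

variable {C : Type u} [Category.{v} C]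

section post
variable (ℬ : BasedCategory.{v₄, u₄} C) {𝒳 : BasedCategory.{v₂, u₂} C}
  {𝒴 : BasedCategory.{v₃, u₃} C}

/-- postcomposition with a based functor. -/
def post (F : 𝒳 ⥤ᵇ 𝒴) : (ℬ ⥤ᵇ 𝒳) ⥤ (ℬ ⥤ᵇ 𝒴) where
  obj P := BasedFunctor.comp P F
  map α := BasedCategory.whiskerRight α F
  map_id P := by
    apply BasedNatTrans.homCategory.ext
    ext b
    exact F.toFunctor.map_id _
  map_comp α β := by
    apply BasedNatTrans.homCategory.ext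
    ext b
    exact F.toFunctor.map_comp _ _

/-- components of an isomorphism of based functors. -/
def appIso {P Q : 𝒳 ⥤ᵇ 𝒴} (e : P ≅ Q) (x : 𝒳.obj) : P.obj x ≅ Q.obj x where
  hom := e.hom.toNatTrans.app x
  inv := e.inv.toNatTrans.app x
  hom_inv_id := congrArg (fun t => t.toNatTrans.app x) e.hom_inv_id
  inv_hom_id := congrArg (fun t => t.toNatTrans.app x) e.inv_hom_id

variable (F : 𝒳 ⥤ᵇ 𝒴) (G : 𝒴 ⥤ᵇ 𝒳) (e₁ : BasedFunctor.comp F G ≅ BasedFunctor.id 𝒳)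
  (e₂ : BasedFunctor.comp G F ≅ BasedFunctor.id 𝒴)

/-- postcomposition with `F` then `G` is isomorphic to the identity when `F ⋙ G ≅ id`. -/
def postCompIso : post ℬ F ⋙ post ℬ G ≅ 𝟭 (ℬ ⥤ᵇ 𝒳) :=
  NatIso.ofComponents (fun P => BasedNatIso.mkNatIso
      (NatIso.ofComponents (fun b => appIso e₁ (P.obj b)) (by
        intro b b' g
        exact e₁.hom.toNatTrans.naturality (P.map g)))
      (fun b => by
        have h := e₁.hom.isHomLift' (P.obj b)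
        rw [P.w_obj b] at h
        exact h))
    (by
      intro P P' α
      apply BasedNatTrans.homCategory.ext
      ext b
      exact e₁.hom.toNatTrans.naturality (α.toNatTrans.app b))

/-- postcomposition with an equivalence over the base is an equivalence of categories. -/
def postEquiv : (ℬ ⥤ᵇ 𝒳) ≌ (ℬ ⥤ᵇ 𝒴) :=
  CategoryTheory.Equivalence.mk (post ℬ F) (post ℬ G) (postCompIso ℬ F G e₁).symm
    (postCompIso ℬ G F e₂)

end post

section square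
variable {𝒜 : BasedCategory.{v₅, u₅} C} {ℬ : BasedCategory.{v₄, u₄} C}
  {𝒳 : BasedCategory.{v₂, u₂} C} {𝒴 : BasedCategory.{v₃, u₃} C} (ι : 𝒜 ⥤ᵇ ℬ)

/-- restriction commutes with postcomposition. -/
def sqIso (F : 𝒳 ⥤ᵇ 𝒴) : post ℬ F ⋙ Stk.restr ι 𝒴 ≅ Stk.restr ι 𝒳 ⋙ post 𝒜 F :=
  NatIso.ofComponents (fun P => Iso.refl _) (by
    intro P P' α
    apply BasedNatTrans.homCategory.ext
    ext b
    exact (Category.comp_id _).trans (Category.id_comp _).symm)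

variable (F : 𝒳 ⥤ᵇ 𝒴) (G : 𝒴 ⥤ᵇ 𝒳) (e₂ : BasedFunctor.comp G F ≅ BasedFunctor.id 𝒴)

/-- restriction for `𝒴` expressed through restriction for `𝒳`. -/
def restrIso : post ℬ G ⋙ Stk.restr ι 𝒳 ⋙ post 𝒜 F ≅ Stk.restr ι 𝒴 :=
  CategoryTheory.Functor.isoWhiskerLeft (post ℬ G) (sqIso ι F).symm ≪≫
    (CategoryTheory.Functor.associator _ _ _).symm ≪≫
    CategoryTheory.Functor.isoWhiskerRight (postCompIso ℬ G F e₂) (Stk.restr ι 𝒴) ≪≫
    CategoryTheory.Functor.leftUnitor _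

lemma transfer (hF : IsEquivOver F) :
    ((Stk.restr ι 𝒳).Full → (Stk.restr ι 𝒴).Full) ∧
    ((Stk.restr ι 𝒳).Faithful → (Stk.restr ι 𝒴).Faithful) ∧
    ((Stk.restr ι 𝒳).IsEquivalence → (Stk.restr ι 𝒴).IsEquivalence) := by
  obtain ⟨G, ⟨e₁⟩, ⟨e₂⟩⟩ := hF
  haveI i1 : (post ℬ G).IsEquivalence := (postEquiv ℬ F G e₁ e₂).isEquivalence_inverse
  haveI i2 : (post 𝒜 F).IsEquivalence := (postEquiv 𝒜 F G e₁ e₂).isEquivalence_functor
  have I := restrIso ι F G e₂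
  refine ⟨fun h => ?_, fun h => ?_, fun h => ?_⟩
  · haveI := h
    exact CategoryTheory.Functor.Full.of_iso I
  · haveI := h
    exact CategoryTheory.Functor.Faithful.of_iso I
  · haveI := h
    exact CategoryTheory.Functor.isEquivalence_of_iso I

end square

section fibgrpd
variable {𝒳 : BasedCategory.{v₂, u₂} C} {𝒴 : BasedCategory.{v₃, u₃} C}

lemma isFibGrpd_of_equiv (F : 𝒳 ⥤ᵇ 𝒴) (hF : IsEquivOver F) (h : IsFibGrpd 𝒳.p) :
    IsFibGrpd 𝒴.p := by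
  obtain ⟨G, ⟨e₁⟩, ⟨e₂⟩⟩ := hF
  have hF' : IsEquivOver F := ⟨G, ⟨e₁⟩, ⟨e₂⟩⟩
  refine ⟨?_, ?_⟩
  · intro y V f
    obtain ⟨x', φ, hφ⟩ := Groth.Agent.H13.FibGrpd.exists_lift' h (G.w_obj y) f
    haveI : 𝒴.p.IsHomLift f (F.map φ) := inferInstance
    haveI : 𝒴.p.IsHomLift (𝟙 (𝒴.p.obj y)) (e₂.hom.toNatTrans.app y) := e₂.hom.isHomLift' y
    have : 𝒴.p.IsHomLift (f ≫ 𝟙 (𝒴.p.obj y)) (F.map φ ≫ e₂.hom.toNatTrans.app y) :=
      inferInstance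
    rw [Category.comp_id] at this
    exact ⟨F.obj x', F.map φ ≫ e₂.hom.toNatTrans.app y, this⟩
  · intro y' y ψ
    haveI : 𝒳.p.IsHomLift (𝒴.p.map ψ) (G.map ψ) := inferInstance
    haveI : 𝒳.p.IsStronglyCartesian (𝒴.p.map ψ) (G.map ψ) :=
      Groth.Agent.Helper22.FibLift.sc_of_lift 𝒳.p h (𝒴.p.map ψ) (G.map ψ)
    haveI : 𝒴.p.IsStronglyCartesian (𝒴.p.map ψ) (F.map (G.map ψ)) :=
      Groth.Agent.Helper12.isStronglyCartesian_map_of_isEquivOver F hF' (𝒴.p.map ψ) (G.map ψ)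
    haveI : 𝒴.p.IsHomLift (𝟙 (𝒴.p.obj y)) (appIso e₂ y).hom := e₂.hom.isHomLift' y
    haveI : 𝒴.p.IsHomLift (𝟙 (𝒴.p.obj y')) (appIso e₂ y').symm.hom := e₂.inv.isHomLift' y'
    haveI s1 : 𝒴.p.IsStronglyCartesian (𝟙 (𝒴.p.obj y)) (appIso e₂ y).hom :=
      Functor.IsStronglyCartesian.of_iso 𝒴.p _ (appIso e₂ y)
    haveI s2 : 𝒴.p.IsStronglyCartesian (𝟙 (𝒴.p.obj y')) (appIso e₂ y').symm.hom :=
      Functor.IsStronglyCartesian.of_iso 𝒴.p _ (appIso e₂ y').symm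
    have key : 𝒴.p.IsStronglyCartesian (𝟙 (𝒴.p.obj y') ≫ 𝒴.p.map ψ ≫ 𝟙 (𝒴.p.obj y))
        ((appIso e₂ y').symm.hom ≫ F.map (G.map ψ) ≫ (appIso e₂ y).hom) := inferInstance
    rw [Category.id_comp, Category.comp_id] at key
    have hψ : (appIso e₂ y').symm.hom ≫ F.map (G.map ψ) ≫ (appIso e₂ y).hom = ψ := by
      have nat : F.map (G.map ψ) ≫ (appIso e₂ y).hom = (appIso e₂ y').hom ≫ ψ :=
        e₂.hom.toNatTrans.naturality ψ
      rw [nat, Iso.symm_hom, Iso.inv_hom_id_assoc]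
    rw [hψ] at key
    exact key

lemma isFibGrpd_iff_of_equiv (F : 𝒳 ⥤ᵇ 𝒴) (hF : IsEquivOver F) :
    IsFibGrpd 𝒳.p ↔ IsFibGrpd 𝒴.p := by
  refine ⟨isFibGrpd_of_equiv F hF, ?_⟩
  obtain ⟨G, e₁, e₂⟩ := hF
  exact isFibGrpd_of_equiv G ⟨F, e₂, e₁⟩

lemma isPrestack_of_equiv (J : GrothendieckTopology C) (F : 𝒳 ⥤ᵇ 𝒴)
    (hF : FibCat.IsEquivOver F) (h : Stk.IsPrestack J 𝒳) : Stk.IsPrestack J 𝒴 := by
  obtain ⟨h1, h2⟩ := h
  refine ⟨isFibGrpd_of_equiv F hF h1, ?_⟩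
  intro U R hR
  obtain ⟨f1, f2⟩ := h2 R hR
  have T := transfer (Stk.sieveIncl R) F hF
  exact ⟨T.1 f1, T.2.1 f2⟩

lemma isStack_of_equiv (J : GrothendieckTopology C) (F : 𝒳 ⥤ᵇ 𝒴)
    (hF : FibCat.IsEquivOver F) (h : Stk.IsStack J 𝒳) : Stk.IsStack J 𝒴 := by
  obtain ⟨h1, h2⟩ := h
  refine ⟨isFibGrpd_of_equiv F hF h1, ?_⟩
  intro U R hR
  have T := transfer (Stk.sieveIncl R) F hF
  exact T.2.2 (h2 R hR)

end fibgrpd

end Groth.Agent.Helper22.PostEquiv
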