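import Groth.Prelude.Def_FibCat2
import Groth.Agent.Lib.Helper22.FibLift
import Groth.Agent.Lib.Helper22.SelfOver
import Groth.Agent.Lib.Helper22.OverFib
import Groth.Agent.Lib.Helper22.StkLocal
import Groth.Agent.H13.FibGrpd
import Groth.Agent.H13.FpFibGrpd
import Groth.Agent.S11728
import Mathlib

set_option autoImplicit false
set_option backward.isDefEq.respectTransparency false
set_option backward.isDefEq.respectTransparency.types false

namespace Groth.Agent.Helper22.RepDiag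

open CategoryTheory CategoryTheory.Limits FibCat

universe v₄ u₄ v₃ u₃ v₂ u₂ v u

section iseq
variable {C : Type u} [Category.{v} C]

/-- a morphism of `C` which is an `eqToHom`. -/
def IsEq {a b : C} (φ : a ⟶ b) : Prop := ∃ h : a = b, φ = eqToHom h

lemma IsEq.ext {a b : C} {φ ψ : a ⟶ b} (h₁ : IsEq φ) (h₂ : IsEq ψ) : φ = ψ := by
  obtain ⟨h, rfl⟩ := h₁
  obtain ⟨h', rfl⟩ := h₂
  rfl

lemma IsEq.comp {a b c : C} {φ : a ⟶ b} {ψ : b ⟶ c} (h₁ : IsEq φ) (h₂ : IsEq ψ) :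
    IsEq (φ ≫ ψ) := by
  obtain ⟨h, rfl⟩ := h₁
  obtain ⟨h', rfl⟩ := h₂
  exact ⟨h.trans h', eqToHom_trans h h'⟩

lemma isEq_of_lift {a b T : C} {φ : a ⟶ b}
    (h : (FibCat.selfOver C).p.IsHomLift (𝟙 T) φ) : IsEq φ := by
  haveI : (𝟭 C).IsHomLift (𝟙 T) φ := h
  have h1 : a = T := IsHomLift.domain_eq (𝟭 C) (𝟙 T) φ
  have h2 : b = T := IsHomLift.codomain_eq (𝟭 C) (𝟙 T) φ
  refine ⟨h1.trans h2.symm, ?_⟩
  have h3 := IsHomLift.fac' (𝟭 C) (𝟙 T) φ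
  rw [Functor.id_map] at h3
  rw [h3, Category.id_comp, eqToHom_trans]

lemma isEq_map {𝒳 : BasedCategory.{v₂, u₂} C} {x y : 𝒳.obj} {T : C} (m : x ⟶ y)
    (h : 𝒳.p.IsHomLift (𝟙 T) m) : IsEq (𝒳.p.map m) := by
  haveI := h
  refine ⟨(IsHomLift.domain_eq 𝒳.p (𝟙 T) m).trans (IsHomLift.codomain_eq 𝒳.p (𝟙 T) m).symm, ?_⟩
  rw [IsHomLift.fac' 𝒳.p (𝟙 T) m, Category.id_comp, eqToHom_trans]

end iseq

section lifts
variable {C : Type u} [Category.{v} C]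

lemma lift_id_of_eqToHom {𝒳 : Type u₂} [Category.{v₂} 𝒳] (p : 𝒳 ⥤ C) {R S : C} (h : R = S)
    {x y : 𝒳} (φ : x ⟶ y) (hφ : p.IsHomLift (eqToHom h) φ) : p.IsHomLift (𝟙 R) φ := by
  subst h
  simpa using hφ

lemma map_eq_of_lift_dom {𝒳 : Type u₂} [Category.{v₂} 𝒳] (p : 𝒳 ⥤ C) {x y : 𝒳} (k : x ⟶ y)
    {R : C} (f : R ⟶ p.obj y) (hx : p.obj x = R) (h : p.IsHomLift f k) :
    p.map k = eqToHom hx ≫ f := by
  subst hx
  haveI := h
  rw [eqToHom_refl, Category.id_comp]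
  exact (IsHomLift.eq_of_isHomLift p f k).symm

lemma map_eq_of_lift_cod {𝒳 : Type u₂} [Category.{v₂} 𝒳] (p : 𝒳 ⥤ C) {x y : 𝒳} (k : x ⟶ y)
    {S : C} (f : p.obj x ⟶ S) (hy : p.obj y = S) (h : p.IsHomLift f k) :
    p.map k = f ≫ eqToHom hy.symm := by
  subst hy
  haveI := h
  rw [eqToHom_refl, Category.comp_id]
  exact (IsHomLift.eq_of_isHomLift p f k).symm

lemma over_map_lift {U : C} {𝒳 : BasedCategory.{v₂, u₂} C} (G : FibCat.overCat U ⥤ᵇ 𝒳)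
    {x y : Over U} (k : x ⟶ y) : 𝒳.p.IsHomLift k.left (G.map k) := by
  have h0 : 𝒳.p.IsHomLift ((FibCat.overCat U).p.map k) (G.map k) := inferInstance
  exact h0

lemma over_left_eq_dom {U : C} {x y : Over U} (k : x ⟶ y) {R : C} (f : R ⟶ y.left)
    (hx : x.left = R) (h : (FibCat.overCat U).p.IsHomLift f k) : k.left = eqToHom hx ≫ f :=
  map_eq_of_lift_dom (FibCat.overCat U).p k f hx h

lemma over_left_eq_cod {U : C} {x y : Over U} (k : x ⟶ y) {S : C} (f : x.left ⟶ S)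
    (hy : y.left = S) (h : (FibCat.overCat U).p.IsHomLift f k) : k.left = f ≫ eqToHom hy.symm :=
  map_eq_of_lift_cod (FibCat.overCat U).p k f hy h

lemma fp_lift_snd {𝒳 : BasedCategory.{v₂, u₂} C} {𝒴 : BasedCategory.{v₃, u₃} C}
    {𝒵 : BasedCategory.{v₄, u₄} C} (F : 𝒳 ⥤ᵇ 𝒵) (G : 𝒴 ⥤ᵇ 𝒵) {X Y : (FibCat.fp F G).obj}
    (m : X ⟶ Y) {R S : C} (u : R ⟶ S) (h : (FibCat.fp F G).p.IsHomLift u m) :
    𝒴.p.IsHomLift u m.hom.snd := by
  haveI := h
  have h0 : 𝒴.p.IsHomLift u ((FibCat.fpSnd F G).map m) := inferInstance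
  exact h0

end lifts

section toself
variable {C : Type u} [Category.{v} C] {ℬ : BasedCategory.{v₃, u₃} C}
  {𝒮 : BasedCategory.{v₂, u₂} C}

/-- any two functors over `C` become canonically isomorphic after composing with the structure
functor to `C` over itself. -/
def toSelfIso (A B : ℬ ⥤ᵇ 𝒮) :
    BasedFunctor.comp A (FibCat.toSelf 𝒮) ≅ BasedFunctor.comp B (FibCat.toSelf 𝒮) :=
  BasedNatIso.mkNatIso
    (NatIso.ofComponents (fun c => eqToIso ((A.w_obj c).trans (B.w_obj c).symm)) (by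
      intro c c' k
      show 𝒮.p.map (A.map k) ≫ eqToHom ((A.w_obj c').trans (B.w_obj c').symm) =
        eqToHom ((A.w_obj c).trans (B.w_obj c).symm) ≫ 𝒮.p.map (B.map k)
      rw [IsHomLift.fac' 𝒮.p (ℬ.p.map k) (A.map k), IsHomLift.fac' 𝒮.p (ℬ.p.map k) (B.map k)]
      simp))
    (fun c => by
      show (FibCat.selfOver C).p.IsHomLift (𝟙 (ℬ.p.obj c))
        (eqToHom ((A.w_obj c).trans (B.w_obj c).symm))
      exact IsHomLift.eqToHom_domain_lift_id _ (A.w_obj c))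

/-- isomorphisms of `𝒮 ×_C 𝒮` from pairs of isomorphisms lying over identities. -/
def isoP (X Y : (FibCat.fp (FibCat.toSelf 𝒮) (FibCat.toSelf 𝒮)).obj)
    (e₁ : X.obj.fst ≅ Y.obj.fst) (e₂ : X.obj.snd ≅ Y.obj.snd) {T T' : C}
    (h₁ : 𝒮.p.IsHomLift (𝟙 T) e₁.hom) (h₂ : 𝒮.p.IsHomLift (𝟙 T') e₂.hom) : X ≅ Y :=
  ObjectProperty.isoMk _ (CategoricalPullback.mkIso e₁ e₂ (by
    apply IsEq.ext
    · exact IsEq.comp (isEq_map e₁.hom h₁) (isEq_of_lift Y.property)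
    · exact IsEq.comp (isEq_of_lift X.property) (isEq_map e₂.hom h₂)))

end toself

section rep
variable {C : Type u} [Category.{v} C]

lemma rep_iff (𝒳 : BasedCategory.{v, max u v} C) (h : FibCat.IsFibGrpd 𝒳.p) :
    FibCat.IsRepresentable 𝒳 ↔ ∃ ξ : 𝒳.obj, ∀ ρ : 𝒳.obj, Nonempty (Unique (ρ ⟶ ξ)) := by
  haveI := Groth.Agent.H13.FibGrpd.isFibered h
  rw [Groth.Agent.S11728.result 𝒳]
  exact ⟨fun hh => hh.2, fun hh => ⟨h, hh⟩⟩

/-- the functor between slices induced by a morphism, as a functor over `C`. -/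
def overMapB {X Y : C} (f : X ⟶ Y) : FibCat.overCat X ⥤ᵇ FibCat.overCat Y :=
  ⟨Over.map f, Over.mapForget_eq f⟩

end rep

end Groth.Agent.Helper22.RepDiag
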