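import Groth.Agent.Lib.Helper22.EquivComp
import Groth.Agent.Lib.Helper22.RepDiag
import Mathlib

set_option autoImplicit false
set_option backward.isDefEq.respectTransparency false
set_option backward.isDefEq.respectTransparency.types false

namespace Groth.Agent.Helper22.FpEquiv

open CategoryTheory CategoryTheory.Limits FibCat
open Groth.Agent.Helper22 Groth.Agent.Helper22.EquivComp

universe v u

section pre
variable {C : Type u} [Category.{v} C] {𝒜 ℬ 𝒳 𝒴 : BasedCategory.{v, max u v} C}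
  (E : 𝒜 ⥤ᵇ ℬ) (y : ℬ ⥤ᵇ 𝒴) (f : 𝒳 ⥤ᵇ 𝒴)

/-- precomposition in the first variable of a fibre product. -/
def fpPre : FibCat.fp (BasedFunctor.comp E y) f ⥤ᵇ FibCat.fp y f where
  toFunctor :=
    { obj := fun X =>
        ⟨{ fst := E.obj X.obj.fst, snd := X.obj.snd, iso := X.obj.iso },
          lift_id_congr 𝒴.p _ (E.w_obj X.obj.fst).symm X.property⟩
      map := fun {X Y} m => ObjectProperty.homMk
          { fst := E.map m.hom.fst, snd := m.hom.snd, w := m.hom.w }
      map_id := fun X => by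
        apply ObjectProperty.hom_ext
        apply CategoryTheory.Limits.CategoricalPullback.hom_ext
        · exact E.toFunctor.map_id _
        · rfl
      map_comp := fun m n => by
        apply ObjectProperty.hom_ext
        apply CategoryTheory.Limits.CategoricalPullback.hom_ext
        · exact E.toFunctor.map_comp _ _
        · rfl }
  w := CategoryTheory.Functor.ext (fun X => E.w_obj X.obj.fst)
    (fun X Y m => Functor.congr_hom E.w m.hom.fst)

lemma isEquivOver_fpPre (hE : FibCat.IsEquivOver E) : FibCat.IsEquivOver (fpPre E y f) := by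
  haveI : E.toFunctor.IsEquivalence := Groth.Agent.Helper12.isEquivalence_of_isEquivOver E hE
  haveI hfa : (fpPre E y f).toFunctor.Faithful := by
    refine ⟨?_⟩
    intro X Y m m' h
    apply ObjectProperty.hom_ext
    apply CategoryTheory.Limits.CategoricalPullback.hom_ext
    · apply E.toFunctor.map_injective
      exact congrArg (fun t => t.hom.fst) h
    · exact congrArg (fun t => t.hom.snd) h
  haveI hfu : (fpPre E y f).toFunctor.Full := by
    refine ⟨?_⟩
    intro X Y n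
    let k : X.obj.fst ⟶ Y.obj.fst := E.toFunctor.preimage n.hom.fst
    have hk : E.map k = n.hom.fst := E.toFunctor.map_preimage _
    have hw : y.map n.hom.fst ≫ Y.obj.iso.hom = X.obj.iso.hom ≫ f.map n.hom.snd := n.hom.w
    have w : (BasedFunctor.comp E y).map k ≫ Y.obj.iso.hom = X.obj.iso.hom ≫ f.map n.hom.snd := by
      rw [← hk] at hw
      exact hw
    refine ⟨ObjectProperty.homMk ⟨k, n.hom.snd, w⟩, ?_⟩
    apply ObjectProperty.hom_ext
    apply CategoryTheory.Limits.CategoricalPullback.hom_ext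
    · exact hk
    · rfl
  apply FibLift.isEquivOver_of_ff
  intro η
  obtain ⟨c, ε, hε⟩ := Groth.Agent.Helper12.exists_iso_lift_of_isEquivOver E hE η.obj.fst
  let x : 𝒳.obj := η.obj.snd
  let θ : y.obj η.obj.fst ≅ f.obj x := η.obj.iso
  have hθ : 𝒴.p.IsHomLift (𝟙 (ℬ.p.obj η.obj.fst)) θ.hom := η.property
  haveI := hε
  haveI := hθ
  haveI hyε : 𝒴.p.IsHomLift (𝟙 (ℬ.p.obj η.obj.fst)) (y.map ε.hom) := inferInstance
  have hcomp : 𝒴.p.IsHomLift (𝟙 (ℬ.p.obj η.obj.fst)) (y.map ε.hom ≫ θ.hom) :=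
    IsHomLift.comp_lift_id_right 𝒴.p (𝟙 (ℬ.p.obj η.obj.fst)) (y.map ε.hom) θ.hom
  have hc : ℬ.p.obj η.obj.fst = 𝒜.p.obj c :=
    (IsHomLift.domain_eq ℬ.p (𝟙 (ℬ.p.obj η.obj.fst)) ε.hom).symm.trans (E.w_obj c)
  let ξ : (FibCat.fp (BasedFunctor.comp E y) f).obj :=
    ⟨⟨c, x, y.toFunctor.mapIso ε ≪≫ θ⟩, lift_id_congr 𝒴.p _ hc hcomp⟩
  let e : (fpPre E y f).obj ξ ≅ η :=
    ObjectProperty.isoMk _ (CategoryTheory.Limits.CategoricalPullback.mkIso ε (Iso.refl x) (by
      show y.map ε.hom ≫ θ.hom = (y.map ε.hom ≫ θ.hom) ≫ f.map (𝟙 x)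
      rw [f.toFunctor.map_id, Category.comp_id]))
  refine ⟨ξ, e, ?_⟩
  rw [Groth.Agent.H13.fp_isHomLift_iff y f e.hom]
  exact hε

end pre

section paste
variable {C : Type u} [Category.{v} C] {𝒲 𝒳 𝒴 𝒵 : BasedCategory.{v, max u v} C}
  (z : 𝒲 ⥤ᵇ 𝒵) (g : 𝒴 ⥤ᵇ 𝒵) (f : 𝒳 ⥤ᵇ 𝒴)

lemma paste_prop (X : (FibCat.fp z (BasedFunctor.comp f g)).obj) :
    𝒴.p.obj (f.obj X.obj.snd) = 𝒲.p.obj X.obj.fst :=
  (f.w_obj X.obj.snd).trans (Groth.Agent.H13.fp_obj_snd_proj z (BasedFunctor.comp f g) X)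

/-- the pasting functor `𝒲 ×_𝒵 𝒳 ⟶ (𝒲 ×_𝒵 𝒴) ×_𝒴 𝒳`. -/
def paste : FibCat.fp z (BasedFunctor.comp f g) ⥤ᵇ FibCat.fp (FibCat.fpSnd z g) f where
  toFunctor :=
    { obj := fun X =>
        ⟨{ fst := ⟨{ fst := X.obj.fst, snd := f.obj X.obj.snd, iso := X.obj.iso }, X.property⟩
           snd := X.obj.snd
           iso := Iso.refl (f.obj X.obj.snd) },
          IsHomLift.id (paste_prop z g f X)⟩
      map := fun {X Y} m => ObjectProperty.homMk
          { fst := ObjectProperty.homMk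
              { fst := m.hom.fst, snd := f.map m.hom.snd, w := m.hom.w }
            snd := m.hom.snd
            w := (Category.comp_id _).trans (Category.id_comp _).symm }
      map_id := fun X => by
        apply ObjectProperty.hom_ext
        apply CategoryTheory.Limits.CategoricalPullback.hom_ext
        · apply ObjectProperty.hom_ext
          apply CategoryTheory.Limits.CategoricalPullback.hom_ext
          · rfl
          · exact f.toFunctor.map_id _
        · rfl
      map_comp := fun m n => by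
        apply ObjectProperty.hom_ext
        apply CategoryTheory.Limits.CategoricalPullback.hom_ext
        · apply ObjectProperty.hom_ext
          apply CategoryTheory.Limits.CategoricalPullback.hom_ext
          · rfl
          · exact f.toFunctor.map_comp _ _
        · rfl }
  w := rfl

lemma isEquivOver_paste : FibCat.IsEquivOver (paste z g f) := by
  haveI hfa : (paste z g f).toFunctor.Faithful := by
    refine ⟨?_⟩
    intro X Y m m' h
    apply ObjectProperty.hom_ext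
    apply CategoryTheory.Limits.CategoricalPullback.hom_ext
    · exact congrArg (fun t => t.hom.fst.hom.fst) h
    · exact congrArg (fun t => t.hom.snd) h
  haveI hfu : (paste z g f).toFunctor.Full := by
    refine ⟨?_⟩
    intro X Y n
    let inner := n.hom.fst
    let l : X.obj.snd ⟶ Y.obj.snd := n.hom.snd
    have hl : inner.hom.snd = f.map l := by
      have h1 : inner.hom.snd ≫ 𝟙 _ = 𝟙 _ ≫ f.map l := n.hom.w
      rw [Category.comp_id, Category.id_comp] at h1
      exact h1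
    have hiw : z.map inner.hom.fst ≫ Y.obj.iso.hom = X.obj.iso.hom ≫ g.map inner.hom.snd :=
      inner.hom.w
    have w : z.map inner.hom.fst ≫ Y.obj.iso.hom =
        X.obj.iso.hom ≫ (BasedFunctor.comp f g).map l := by
      rw [hl] at hiw
      exact hiw
    refine ⟨ObjectProperty.homMk ⟨inner.hom.fst, l, w⟩, ?_⟩
    apply ObjectProperty.hom_ext
    apply CategoryTheory.Limits.CategoricalPullback.hom_ext
    · apply ObjectProperty.hom_ext
      apply CategoryTheory.Limits.CategoricalPullback.hom_ext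
      · rfl
      · exact hl.symm
    · rfl
  apply FibLift.isEquivOver_of_ff
  intro η
  let P : (FibCat.fp z g).obj := η.obj.fst
  let a : 𝒲.obj := P.obj.fst
  let y₀ : 𝒴.obj := P.obj.snd
  let θ₀ : z.obj a ≅ g.obj y₀ := P.obj.iso
  let x : 𝒳.obj := η.obj.snd
  let τ : y₀ ≅ f.obj x := η.obj.iso
  have hθ₀ : 𝒵.p.IsHomLift (𝟙 (𝒲.p.obj a)) θ₀.hom := P.property
  have hτ : 𝒴.p.IsHomLift (𝟙 (𝒲.p.obj a)) τ.hom := η.property
  haveI := hθ₀
  haveI := hτ
  haveI hgτ : 𝒵.p.IsHomLift (𝟙 (𝒲.p.obj a)) (g.map τ.hom) := inferInstance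
  have hξ : 𝒵.p.IsHomLift (𝟙 (𝒲.p.obj a)) (θ₀.hom ≫ g.map τ.hom) :=
    IsHomLift.comp_lift_id_right 𝒵.p (𝟙 (𝒲.p.obj a)) θ₀.hom (g.map τ.hom)
  let ξ : (FibCat.fp z (BasedFunctor.comp f g)).obj :=
    ⟨⟨a, x, θ₀ ≪≫ g.toFunctor.mapIso τ⟩, hξ⟩
  let innerIso : ((paste z g f).obj ξ).obj.fst ≅ P :=
    ObjectProperty.isoMk _ (CategoryTheory.Limits.CategoricalPullback.mkIso (Iso.refl a) τ.symm (by
      show z.map (𝟙 a) ≫ θ₀.hom = (θ₀.hom ≫ g.map τ.hom) ≫ g.map τ.inv
      rw [z.toFunctor.map_id, Category.id_comp, Category.assoc, ← g.toFunctor.map_comp,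
        Iso.hom_inv_id, g.toFunctor.map_id, Category.comp_id]))
  let e : (paste z g f).obj ξ ≅ η :=
    ObjectProperty.isoMk _ (CategoryTheory.Limits.CategoricalPullback.mkIso innerIso (Iso.refl x) (by
      show τ.inv ≫ τ.hom = 𝟙 _ ≫ f.map (𝟙 x)
      rw [Iso.inv_hom_id, f.toFunctor.map_id, Category.id_comp]))
  refine ⟨ξ, e, ?_⟩
  refine (Groth.Agent.H13.fp_isHomLift_iff (FibCat.fpSnd z g) f e.hom _).2 ?_
  refine (Groth.Agent.H13.fp_isHomLift_iff z g innerIso.hom _).2 ?_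
  exact IsHomLift.id rfl

end paste

section transfer
variable {C : Type u} [Category.{v} C] {𝒳 𝒴 : BasedCategory.{v, max u v} C}

lemma isRepresentable_of_equiv' (Φ : 𝒳 ⥤ᵇ 𝒴) (hΦ : FibCat.IsEquivOver Φ)
    (h : FibCat.IsRepresentable 𝒴) : FibCat.IsRepresentable 𝒳 := by
  obtain ⟨Ψ, ⟨e₁⟩, ⟨e₂⟩⟩ := hΦ
  exact isRepresentable_of_equiv Ψ ⟨Φ, ⟨e₂⟩, ⟨e₁⟩⟩ h

end transfer

end Groth.Agent.Helper22.FpEquiv
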