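import Groth.Agent.Lib.Helper22.FitBase
import Mathlib.LinearAlgebra.Matrix.Adjugate
import Mathlib.LinearAlgebra.Basis.Basic
import Mathlib.RingTheory.Localization.BaseChange
import Mathlib.RingTheory.Localization.Module
import Mathlib.RingTheory.Localization.Ideal

/-!
# Fitting ideals: free modules, generation by `k` elements
-/

set_option autoImplicit false

universe u v

open TensorProduct Matrix

namespace Groth.Agent.Helper22.FitLocal

open Groth.Agent.Helper22.FitCore

section General

variable {R : Type u} [CommRing R] {M : Type v} [AddCommGroup M] [Module R M]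

lemma det_smul_eq_zero {n : ℕ} (a : Matrix (Fin n) (Fin n) R) (x : Fin n → M)
    (h : ∀ i, ∑ j, a i j • x j = 0) (k : Fin n) : a.det • x k = 0 := by
  have h1 : a.det • x k = ∑ j, (a.adjugate * a) k j • x j := by
    rw [Matrix.adjugate_mul]
    simp only [Matrix.smul_apply, Matrix.one_apply, smul_eq_mul, mul_ite, mul_one, mul_zero]
    rw [Finset.sum_eq_single k]
    · simp
    · intro j _ hjk
      rw [if_neg (Ne.symm hjk), zero_smul]
    · intro hk; exact absurd (Finset.mem_univ k) hk
  rw [h1]
  simp only [Matrix.mul_apply, Finset.sum_smul, mul_smul]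
  rw [Finset.sum_comm]
  apply Finset.sum_eq_zero
  intro i _
  rw [← Finset.smul_sum, h i, smul_zero]

theorem exists_fin_of_finset [DecidableEq M] (k : ℕ) (T : Finset M) (hT : T.card ≤ k)
    (h : Submodule.span R (T : Set M) = ⊤) :
    ∃ g : Fin k → M, Submodule.span R (Set.range g) = ⊤ := by
  classical
  let eT : T ≃ Fin T.card := T.equivFin
  refine ⟨fun j => if h : (j : ℕ) < T.card then ((eT.symm ⟨j, h⟩ : T) : M) else 0, ?_⟩
  rw [eq_top_iff, ← h]
  apply Submodule.span_mono
  intro t ht
  refine ⟨Fin.castLE hT (eT ⟨t, ht⟩), ?_⟩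
  simp

theorem ideal_le_of_surjective {M' : Type v} [AddCommGroup M'] [Module R M'] (f : M →ₗ[R] M')
    (hf : Function.Surjective f) (k : ℕ) : Fitt.ideal R M k ≤ Fitt.ideal R M' k := by
  unfold Fitt.ideal
  apply Ideal.span_mono
  rintro d ⟨n, x, a, hx, hrel, rfl⟩
  refine ⟨n, f ∘ x, a, ?_, ?_, rfl⟩
  · rw [Set.range_comp, ← Submodule.map_span, hx, Submodule.map_top, LinearMap.range_eq_top.2 hf]
  · intro i hi
    have := congrArg f (hrel i hi)
    simpa [map_sum] using this

theorem ideal_congr {M' : Type v} [AddCommGroup M'] [Module R M'] (e : M ≃ₗ[R] M') (k : ℕ) :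
    Fitt.ideal R M k = Fitt.ideal R M' k :=
  le_antisymm (ideal_le_of_surjective e.toLinearMap e.surjective k)
    (ideal_le_of_surjective e.symm.toLinearMap e.symm.surjective k)

theorem ideal_eq_top_of_span {n : ℕ} (x : Fin n → M) (hx : Submodule.span R (Set.range x) = ⊤) :
    Fitt.ideal R M n = ⊤ := by
  rw [Ideal.eq_top_iff_one]
  unfold Fitt.ideal
  apply Ideal.subset_span
  refine ⟨n, x, 1, hx, ?_, by simp⟩
  intro i hi
  simp at hi

end General

section Gen

variable {R : Type u} [CommRing R] {M : Type v} [AddCommGroup M] [Module R M]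

/-- If some `(n-k)`-minor of a matrix of relations is a unit, `k` of the generators suffice. -/
theorem gen_of_unit_minor {n : ℕ} (k : ℕ) (x : Fin n → M)
    (hx : Submodule.span R (Set.range x) = ⊤)
    (z : Fin (n - k) → (Fin n → R)) (hz : ∀ b, z b ∈ Rel (R := R) x) (e : Fin (n - k) → Fin n)
    (hu : IsUnit (minor z e)) :
    ∃ g : Fin k → M, Submodule.span R (Set.range g) = ⊤ := by
  classical
  by_cases he : Function.Injective e
  · set T : Finset (Fin n) := (Finset.univ.image e)ᶜ with hT
    have hTcard : T.card ≤ k := by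
      rw [hT, Finset.card_compl, Finset.card_image_of_injective _ he]
      simp only [Fintype.card_fin, Finset.card_univ]
      omega
    set N' : Submodule R M := Submodule.span R (x '' (T : Set (Fin n))) with hN'
    have hxT : ∀ i ∈ T, x i ∈ N' := fun i hi => Submodule.subset_span ⟨i, hi, rfl⟩
    -- the relations in the quotient
    set A : Matrix (Fin (n - k)) (Fin (n - k)) R := Matrix.of fun a b => z b (e a) with hA
    have hrel : ∀ b, ∑ a, Aᵀ b a • N'.mkQ (x (e a)) = 0 := by
      intro b
      have h0 : ∑ i, z b i • N'.mkQ (x i) = 0 := by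
        have := congrArg N'.mkQ ((mem_Rel x _).1 (hz b))
        simpa [map_sum] using this
      rw [← Finset.sum_add_sum_compl (Finset.univ.image e)] at h0
      have h2 : ∑ i ∈ (Finset.univ.image e)ᶜ, z b i • N'.mkQ (x i) = 0 := by
        apply Finset.sum_eq_zero
        intro i hi
        have : N'.mkQ (x i) = 0 := by
          rw [Submodule.mkQ_apply, Submodule.Quotient.mk_eq_zero]
          exact hxT i hi
        rw [this, smul_zero]
      rw [h2, add_zero, Finset.sum_image (fun a _ a' _ h => he h)] at h0
      simpa [hA, transpose_apply] using h0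
    have hdet : ∀ a, Aᵀ.det • N'.mkQ (x (e a)) = 0 :=
      fun a => det_smul_eq_zero Aᵀ (fun a => N'.mkQ (x (e a))) hrel a
    have hunit : IsUnit Aᵀ.det := by rw [det_transpose]; exact hu
    have hxe : ∀ a, x (e a) ∈ N' := by
      intro a
      have := hdet a
      rw [hunit.smul_eq_zero, Submodule.mkQ_apply, Submodule.Quotient.mk_eq_zero] at this
      exact this
    have htop : N' = ⊤ := by
      rw [eq_top_iff, ← hx, Submodule.span_le]
      rintro _ ⟨i, rfl⟩
      by_cases hi : i ∈ T
      · exact hxT i hi
      · rw [hT, Finset.mem_compl, not_not, Finset.mem_image] at hi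
        obtain ⟨a, _, rfl⟩ := hi
        exact hxe a
    apply exists_fin_of_finset k (T.image x) ((Finset.card_image_le).trans hTcard)
    rw [← htop, hN', Finset.coe_image]
  · have h0 : minor z e = 0 := det_eq_zero_of_not_injective z e he
    rw [h0, isUnit_zero_iff] at hu
    have : Subsingleton R := subsingleton_of_zero_eq_one hu
    have : Subsingleton M := Module.subsingleton R M
    exact ⟨fun _ => 0, Subsingleton.elim _ _⟩

/-- Fitting ideals of a free module with a finite basis. -/
theorem ideal_of_basis_le {d : ℕ} (b : Module.Basis (Fin d) R M) (k : ℕ) (hk : d ≤ k) :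
    Fitt.ideal R M k = ⊤ := by
  rw [Groth.Agent.Helper22.Fitting.ideal_eq_Imin b b.span_eq k, Ideal.eq_top_iff_one]
  unfold Imin
  apply Ideal.subset_span
  have h0 : d - k = 0 := by omega
  refine ⟨fun _ => 0, fun j => absurd j.2 (by omega), fun j => Submodule.zero_mem _, ?_⟩
  have : IsEmpty (Fin (d - k)) := by rw [h0]; infer_instance
  rw [det_isEmpty]

theorem ideal_of_basis_lt {d : ℕ} (b : Module.Basis (Fin d) R M) (k : ℕ) (hk : k < d) :
    Fitt.ideal R M k = ⊥ := by
  rw [Groth.Agent.Helper22.Fitting.ideal_eq_Imin b b.span_eq k, eq_bot_iff]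
  unfold Imin
  rw [Ideal.span_le]
  rintro _ ⟨z, e, hz, rfl⟩
  have hz0 : ∀ j, z j = 0 := by
    intro j
    have h1 := (mem_Rel (R := R) (⇑b) (z j)).1 (hz j)
    have h2 := Fintype.linearIndependent_iff.1 b.linearIndependent (z j) h1
    funext i
    exact h2 i
  have : Nonempty (Fin (d - k)) := ⟨⟨0, by omega⟩⟩
  have : (Matrix.of fun a b => z b (e a)) = (0 : Matrix (Fin (d - k)) (Fin (d - k)) R) := by
    ext a b
    simp [hz0 b]
  rw [this, det_zero]
  exact Ideal.zero_mem _

end Gen

section Loc

variable {R : Type u} [CommRing R] {M : Type u} [AddCommGroup M] [Module R M] (S : Submonoid R)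

theorem ideal_localized [Module.Finite R M] (k : ℕ) :
    Fitt.ideal (Localization S) (LocalizedModule S M) k =
      (Fitt.ideal R M k).map (algebraMap R (Localization S)) := by
  rw [← Groth.Agent.Helper22.FitBase.ideal_baseChange (R' := Localization S) (M := M) k]
  exact (ideal_congr (LocalizedModule.isBaseChange S M).equiv k).symm

theorem not_le_of_gen [Module.Finite R M] (k : ℕ) (p : Ideal R) [hp : p.IsPrime]
    (hS : Disjoint (S : Set R) (p : Set R))
    (g : Fin k → LocalizedModule S M)
    (hg : Submodule.span (Localization S) (Set.range g) = ⊤) : ¬ Fitt.ideal R M k ≤ p := by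
  intro hle
  have h1 : Fitt.ideal (Localization S) (LocalizedModule S M) k = ⊤ := ideal_eq_top_of_span g hg
  rw [ideal_localized] at h1
  have h2 : (p.map (algebraMap R (Localization S))).IsPrime :=
    IsLocalization.isPrime_of_isPrime_disjoint S _ p hp hS
  exact h2.ne_top (top_le_iff.1 (h1 ▸ Ideal.map_mono hle))

theorem gen_of_minor_mem (k : ℕ) {n : ℕ} (x : Fin n → M)
    (hx : Submodule.span R (Set.range x) = ⊤)
    (z : Fin (n - k) → (Fin n → R)) (hz : ∀ b, z b ∈ Rel (R := R) x) (e : Fin (n - k) → Fin n)
    (hd : minor z e ∈ S) :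
    ∃ g : Fin k → LocalizedModule S M, Submodule.span (Localization S) (Set.range g) = ⊤ := by
  apply gen_of_unit_minor k (fun i => LocalizedModule.mkLinearMap S M (x i)) ?_
    (fun b => Groth.Agent.Helper22.FitBase.bc (R' := Localization S) n (z b)) ?_ e ?_
  · have := span_eq_top_of_isLocalizedModule (Localization S) S
      (LocalizedModule.mkLinearMap S M) hx
    rwa [← Set.range_comp] at this
  · intro b
    rw [mem_Rel]
    have h := (mem_Rel x _).1 (hz b)
    have := congrArg (LocalizedModule.mkLinearMap S M) h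
    simp only [map_sum, map_smul, map_zero] at this
    rw [← this]
    apply Finset.sum_congr rfl
    intro i _
    simp [Groth.Agent.Helper22.FitBase.bc, algebraMap_smul]
  · rw [Groth.Agent.Helper22.FitBase.minor_bc]
    exact IsLocalization.map_units (Localization S) ⟨_, hd⟩

theorem exists_minor_not_mem (k : ℕ) {n : ℕ} (x : Fin n → M)
    (hx : Submodule.span R (Set.range x) = ⊤) (p : Ideal R) (h : ¬ Fitt.ideal R M k ≤ p) :
    ∃ (z : Fin (n - k) → (Fin n → R)) (e : Fin (n - k) → Fin n),
      (∀ b, z b ∈ Rel (R := R) x) ∧ minor z e ∉ p := by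
  rw [Groth.Agent.Helper22.Fitting.ideal_eq_Imin x hx k] at h
  by_contra hcon
  push Not at hcon
  apply h
  unfold Imin
  rw [Ideal.span_le]
  rintro _ ⟨z, e, hz, rfl⟩
  exact hcon z e hz

end Loc

end Groth.Agent.Helper22.FitLocal
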