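import Groth.Agent.Lib.Helper22.FitCore

/-!
# Minors are multilinear: determinantal ideals of a span
-/

set_option autoImplicit false

open Matrix

namespace Groth.Agent.Helper22.FitCore

variable {R : Type*} [CommRing R] {n p : ℕ}

/-- The `p × p` minor with rows `z` and columns selected by `e` (transposed layout). -/
def minor (z : Fin p → (Fin n → R)) (e : Fin p → Fin n) : R :=
  (Matrix.of fun a b => z b (e a)).det

theorem minor_update (z : Fin p → (Fin n → R)) (e : Fin p → Fin n) (j : Fin p) (v : Fin n → R) :
    minor (Function.update z j v) e =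
      ((Matrix.of fun a b => z b (e a)).updateCol j (fun a => v (e a))).det := by
  unfold minor
  congr 1
  ext a b
  by_cases hb : b = j
  · subst hb; simp
  · simp [hb]

theorem minor_update_add (z : Fin p → (Fin n → R)) (e : Fin p → Fin n) (j : Fin p)
    (u v : Fin n → R) :
    minor (Function.update z j (u + v)) e =
      minor (Function.update z j u) e + minor (Function.update z j v) e := by
  rw [minor_update, minor_update, minor_update, ← det_updateCol_add]
  rfl

theorem minor_update_smul (z : Fin p → (Fin n → R)) (e : Fin p → Fin n) (j : Fin p)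
    (c : R) (v : Fin n → R) :
    minor (Function.update z j (c • v)) e = c * minor (Function.update z j v) e := by
  rw [minor_update, minor_update, ← det_updateCol_smul]
  rfl

theorem minor_mem_of_span (S : Set (Fin n → R)) (I : Ideal R) (e : Fin p → Fin n)
    (hI : ∀ z : Fin p → (Fin n → R), (∀ j, z j ∈ S) → minor z e ∈ I)
    (z : Fin p → (Fin n → R)) (hz : ∀ j, z j ∈ Submodule.span R S) : minor z e ∈ I := by
  classical
  have key : ∀ (t : Finset (Fin p)) (z : Fin p → (Fin n → R)),
      (∀ j ∈ t, z j ∈ Submodule.span R S) → (∀ j ∉ t, z j ∈ S) → minor z e ∈ I := by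
    intro t
    induction t using Finset.induction_on with
    | empty => intro z _ h2; exact hI z (fun j => h2 j (Finset.notMem_empty j))
    | insert j₀ t hj₀ ih =>
      intro z h1 h2
      have hzj : z j₀ ∈ Submodule.span R S := h1 j₀ (Finset.mem_insert_self _ _)
      have : ∀ v ∈ Submodule.span R S, minor (Function.update z j₀ v) e ∈ I := by
        intro v hv
        induction hv using Submodule.span_induction with
        | mem v hv =>
          apply ih
          · intro j hj
            have : j ≠ j₀ := fun h => hj₀ (h ▸ hj)
            rw [Function.update_of_ne this]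
            exact h1 j (Finset.mem_insert_of_mem hj)
          · intro j hj
            by_cases hjj : j = j₀
            · subst hjj; rw [Function.update_self]; exact hv
            · rw [Function.update_of_ne hjj]; exact h2 j (by simp [hjj, hj])
        | zero =>
          rw [show (0 : Fin n → R) = (0 : R) • (0 : Fin n → R) by simp, minor_update_smul]
          simp
        | add u v _ _ hu hv => rw [minor_update_add]; exact I.add_mem hu hv
        | smul c v _ hv => rw [minor_update_smul]; exact I.mul_mem_left _ hv
      have := this (z j₀) hzj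
      rwa [Function.update_eq_self] at this
  exact key Finset.univ z (fun j _ => hz j) (fun j hj => absurd (Finset.mem_univ j) hj)

theorem Imin_span (S : Set (Fin n → R)) (k : ℕ) :
    Imin (Submodule.span R S) k =
      Ideal.span {d | ∃ (z : Fin (n - k) → (Fin n → R)) (e : Fin (n - k) → Fin n),
        (∀ j, z j ∈ S) ∧ d = minor z e} := by
  apply le_antisymm
  · unfold Imin
    rw [Ideal.span_le]
    rintro d ⟨z, e, hz, rfl⟩
    refine minor_mem_of_span S (Ideal.span {d | ∃ (z : Fin (n - k) → (Fin n → R))
      (e : Fin (n - k) → Fin n), (∀ j, z j ∈ S) ∧ d = minor z e}) e ?_ z hz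
    intro z' hz'
    exact Ideal.subset_span ⟨z', e, hz', rfl⟩
  · apply Ideal.span_mono
    rintro d ⟨z, e, hz, rfl⟩
    exact ⟨z, e, fun j => Submodule.subset_span (hz j), rfl⟩

theorem Imin_fg (N : Submodule R (Fin n → R)) (hN : N.FG) (k : ℕ) : (Imin N k).FG := by
  classical
  obtain ⟨S, rfl⟩ := hN
  rw [Imin_span]
  apply Submodule.fg_span
  apply Set.Finite.subset (Set.finite_range
    (fun ze : (Fin (n - k) → S) × (Fin (n - k) → Fin n) =>
      minor (fun j => ((ze.1 j : S) : Fin n → R)) ze.2))
  rintro d ⟨z, e, hz, rfl⟩
  exact ⟨(fun j => ⟨z j, hz j⟩, e), rfl⟩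

end Groth.Agent.Helper22.FitCore
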