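import Mathlib

set_option autoImplicit false
set_option maxHeartbeats 400000
set_option backward.isDefEq.respectTransparency false
set_option backward.isDefEq.respectTransparency.types false

open TensorProduct

namespace Groth.Agent.Helper22.AffDesc

universe u

/-! ### descent along a finite jointly faithfully flat family, product form -/

section PiPart

variable {R : Type u} [CommRing R] {ι : Type u} (S : ι → Type u)
  [∀ i, CommRing (S i)] [∀ i, Algebra R (S i)]

theorem piRight_rTensor [Fintype ι] [DecidableEq ι] {T₁ T₂ : Type u} [AddCommGroup T₁]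
    [AddCommGroup T₂] [Module R T₁] [Module R T₂] (c : T₁ →ₗ[R] T₂)
    (x : T₁ ⊗[R] (∀ i, S i)) (i : ι) :
    TensorProduct.piRight R R T₂ S (c.rTensor (∀ i, S i) x) i
      = c.rTensor (S i) (TensorProduct.piRight R R T₁ S x i) := by
  induction x using TensorProduct.induction_on with
  | zero => simp
  | tmul t p => simp
  | add a b ha hb => simp only [map_add, Pi.add_apply, ha, hb]

theorem bijective_of_pi [Finite ι] [Module.FaithfullyFlat R (∀ i, S i)] {T₁ T₂ : Type u}
    [AddCommGroup T₁] [AddCommGroup T₂] [Module R T₁] [Module R T₂] (c : T₁ →ₗ[R] T₂)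
    (h : ∀ i, Function.Bijective (c.rTensor (S i))) : Function.Bijective c := by
  classical
  haveI : Fintype ι := Fintype.ofFinite ι
  have hr : Function.Bijective (c.rTensor (∀ i, S i)) := by
    constructor
    · intro x y hxy
      apply (TensorProduct.piRight R R T₁ S).injective
      funext i
      apply (h i).1
      rw [← piRight_rTensor, ← piRight_rTensor, hxy]
    · intro y
      choose z hz using fun i => (h i).2 (TensorProduct.piRight R R T₂ S y i)
      refine ⟨(TensorProduct.piRight R R T₁ S).symm z, ?_⟩
      apply (TensorProduct.piRight R R T₂ S).injective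
      funext i
      rw [piRight_rTensor, LinearEquiv.apply_symm_apply, hz]
  have hl : Function.Bijective (c.lTensor (∀ i, S i)) := by
    have hcomm : ∀ x, c.lTensor (∀ i, S i) x
        = (TensorProduct.comm R T₂ (∀ i, S i))
            (c.rTensor (∀ i, S i) ((TensorProduct.comm R (∀ i, S i) T₁) x)) := by
      intro x
      induction x using TensorProduct.induction_on with
      | zero => simp
      | tmul p t => simp
      | add a b ha hb => simp only [map_add, ha, hb]
    have : (c.lTensor (∀ i, S i) : _ → _)
        = (TensorProduct.comm R T₂ (∀ i, S i)) ∘ (c.rTensor (∀ i, S i))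
            ∘ (TensorProduct.comm R (∀ i, S i) T₁) := funext hcomm
    rw [this]
    exact (LinearEquiv.bijective _).comp (hr.comp (LinearEquiv.bijective _))
  exact (Module.FaithfullyFlat.lTensor_bijective_iff_bijective R (∀ i, S i) c).mp hl

theorem subsingleton_of_pi [Finite ι] [Module.FaithfullyFlat R (∀ i, S i)] (T : Type u)
    [AddCommGroup T] [Module R T] (h : ∀ i, Subsingleton (T ⊗[R] S i)) : Subsingleton T := by
  classical
  haveI : Fintype ι := Fintype.ofFinite ι
  haveI := h
  haveI : Subsingleton (T ⊗[R] (∀ i, S i)) :=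
    (TensorProduct.piRight R R T S).toEquiv.subsingleton
  exact Module.FaithfullyFlat.rTensor_reflects_triviality R (∀ i, S i) T

end PiPart

theorem subsingleton_tensor_right {R : Type u} [CommRing R] (M N : Type u) [AddCommGroup M]
    [AddCommGroup N] [Module R M] [Module R N] [Subsingleton N] : Subsingleton (M ⊗[R] N) := by
  refine ⟨fun a b => ?_⟩
  have h0 : ∀ x : M ⊗[R] N, x = 0 := by
    intro x
    induction x using TensorProduct.induction_on with
    | zero => rfl
    | tmul m n => rw [Subsingleton.elim n 0, TensorProduct.tmul_zero]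
    | add a b ha hb => rw [ha, hb, add_zero]
  rw [h0 a, h0 b]

/-! ### abstract form: `P` with a bijection onto the product -/

section Abstract

variable {R P : Type u} [CommRing R] [CommRing P] [Algebra R P] {ι : Type u}
  (S : ι → Type u) [∀ i, CommRing (S i)] [∀ i, Algebra R (S i)] [∀ i, Algebra P (S i)]
  [∀ i, IsScalarTower R P (S i)]

/-- the comparison map to the product -/
def toPi : P →ₐ[R] ∀ i, S i := AlgHom.pi (fun i => IsScalarTower.toAlgHom R P (S i))

theorem toPi_apply (p : P) (i : ι) : toPi (R := R) S p i = algebraMap P (S i) p := rfl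

variable (hP : Function.Bijective (toPi (R := R) (P := P) S))

/-- the comparison isomorphism -/
noncomputable def piEquiv : P ≃ₐ[R] ∀ i, S i := AlgEquiv.ofBijective (toPi S) hP

theorem piEquiv_apply (p : P) (i : ι) : piEquiv S hP p i = algebraMap P (S i) p := rfl

include hP in
theorem ff_pi [Module.FaithfullyFlat R P] : Module.FaithfullyFlat R (∀ i, S i) :=
  Module.FaithfullyFlat.of_linearEquiv R P (piEquiv S hP).symm.toLinearEquiv

include hP in
theorem bijective_of_family [Finite ι] [Module.FaithfullyFlat R P] {T₁ T₂ : Type u}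
    [AddCommGroup T₁] [AddCommGroup T₂] [Module R T₁] [Module R T₂] (c : T₁ →ₗ[R] T₂)
    (h : ∀ i, Function.Bijective (c.rTensor (S i))) : Function.Bijective c := by
  haveI := ff_pi S hP
  exact bijective_of_pi S c h

include hP in
theorem subsingleton_of_family [Finite ι] [Module.FaithfullyFlat R P] (T : Type u)
    [AddCommGroup T] [Module R T] (h : ∀ i, Subsingleton (T ⊗[R] S i)) : Subsingleton T := by
  haveI := ff_pi S hP
  exact subsingleton_of_pi S T h

include hP in
theorem ev_surjective (i : ι) : Function.Surjective (algebraMap P (S i)) := by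
  classical
  intro s
  obtain ⟨p, hp⟩ := hP.2 (Pi.single i s)
  refine ⟨p, ?_⟩
  have := congrFun hp i
  rw [toPi_apply, Pi.single_eq_same] at this
  exact this

theorem away_family [DecidableEq ι] (i : ι) :
    IsLocalization.Away ((piEquiv S hP).symm (Pi.single i 1)) (S i) := by
  have hεj : ∀ j, algebraMap P (S j) ((piEquiv S hP).symm (Pi.single i 1))
      = (Pi.single i (1 : S i) : ∀ j, S j) j := by
    intro j
    exact congrFun ((piEquiv S hP).apply_symm_apply (Pi.single i 1)) j
  have hinj : ∀ x y : P, (∀ j, algebraMap P (S j) x = algebraMap P (S j) y) → x = y :=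
    fun x y h => hP.1 (funext h)
  refine IsLocalization.away_of_isIdempotentElem_of_mul ?_ ?_ (ev_surjective S hP i)
  · show (piEquiv S hP).symm (Pi.single i 1) * (piEquiv S hP).symm (Pi.single i 1)
      = (piEquiv S hP).symm (Pi.single i 1)
    apply hinj
    intro j
    rw [map_mul, hεj]
    by_cases hj : j = i
    · subst hj; simp
    · simp [Pi.single_eq_of_ne hj]
  · intro x y
    constructor
    · intro h
      apply hinj
      intro j
      rw [map_mul, map_mul, hεj]
      by_cases hj : j = i
      · subst hj; rw [h]
      · simp [Pi.single_eq_of_ne hj]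
    · intro h
      have := congrArg (algebraMap P (S i)) h
      rw [map_mul, map_mul, hεj] at this
      simpa using this

include hP in
theorem flat_ev (i : ι) : Module.Flat P (S i) := by
  classical
  haveI := away_family S hP i
  exact IsLocalization.flat (S i) (Submonoid.powers ((piEquiv S hP).symm (Pi.single i 1)))

include hP in
theorem etale_ev (i : ι) : Algebra.Etale P (S i) := by
  classical
  haveI := away_family S hP i
  exact Algebra.Etale.of_isLocalizationAway ((piEquiv S hP).symm (Pi.single i 1))

include hP in
theorem finite_ev (i : ι) : Module.Finite P (S i) :=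
  Module.Finite.of_surjective (Algebra.linearMap P (S i)) (ev_surjective S hP i)

variable (N : Type u) [CommRing N] [Algebra R N]

/-- the product decomposition of the base change to `P`, over `R` -/
noncomputable def psi0 [Fintype ι] [DecidableEq ι] : P ⊗[R] N ≃ₐ[R] ∀ i, S i ⊗[R] N :=
  (Algebra.TensorProduct.congr (piEquiv S hP) (AlgEquiv.refl : N ≃ₐ[R] N)).trans
    ((Algebra.TensorProduct.comm R (∀ i, S i) N).trans
      ((Algebra.TensorProduct.piRight R R N S).trans
        (AlgEquiv.piCongrRight fun i => Algebra.TensorProduct.comm R N (S i))))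

theorem psi0_tmul [Fintype ι] [DecidableEq ι] (p : P) (n : N) (i : ι) :
    psi0 S hP N (p ⊗ₜ n) i = algebraMap P (S i) p ⊗ₜ n := rfl

/-- the product decomposition of the base change to `P`, over `P` -/
noncomputable def psi [Fintype ι] [DecidableEq ι] : P ⊗[R] N ≃ₐ[P] ∀ i, S i ⊗[R] N :=
  AlgEquiv.ofRingEquiv (f := (psi0 S hP N).toRingEquiv) (fun p => by
    funext i
    show psi0 S hP N (algebraMap P (P ⊗[R] N) p) i = algebraMap P (S i ⊗[R] N) p
    rw [Algebra.TensorProduct.algebraMap_apply, Algebra.TensorProduct.algebraMap_apply,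
      psi0_tmul]
    rfl)

include hP in
theorem flat_of_family [Finite ι] [Module.FaithfullyFlat R P]
    (h : ∀ i, Module.Flat (S i) (S i ⊗[R] N)) : Module.Flat R N := by
  classical
  haveI : Fintype ι := Fintype.ofFinite ι
  haveI : ∀ i, Module.Flat P (S i) := flat_ev S hP
  haveI : ∀ i, Module.Flat P (S i ⊗[R] N) :=
    fun i => Module.Flat.trans P (S i) (S i ⊗[R] N)
  haveI : Module.Flat P (∀ i, S i ⊗[R] N) :=
    Module.Flat.of_linearEquiv
      (DirectSum.linearEquivFunOnFintype P ι (fun i => S i ⊗[R] N)).symm
  haveI : Module.Flat P (P ⊗[R] N) := Module.Flat.of_linearEquiv (psi S hP N).toLinearEquiv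
  exact Module.Flat.of_flat_tensorProduct R N P

include hP in
theorem finite_of_family [Finite ι] [Module.FaithfullyFlat R P]
    (h : ∀ i, Module.Finite (S i) (S i ⊗[R] N)) : Module.Finite R N := by
  classical
  haveI : Fintype ι := Fintype.ofFinite ι
  haveI : ∀ i, Module.Finite P (S i) := finite_ev S hP
  haveI : ∀ i, Module.Finite P (S i ⊗[R] N) :=
    fun i => Module.Finite.trans (S i) (S i ⊗[R] N)
  haveI : Module.Finite P (P ⊗[R] N) := Module.Finite.equiv (psi S hP N).symm.toLinearEquiv
  exact Module.Finite.of_finite_tensorProduct_of_faithfullyFlat P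

include hP in
theorem etale_of_family [Finite ι] [Module.FaithfullyFlat R P]
    (h : ∀ i, Algebra.Etale (S i) (S i ⊗[R] N)) : Algebra.Etale R N := by
  classical
  haveI : Fintype ι := Fintype.ofFinite ι
  haveI : ∀ i, Algebra.Etale P (S i) := etale_ev S hP
  haveI : ∀ i, Algebra.Etale P (S i ⊗[R] N) :=
    fun i => Algebra.Etale.comp P (S i) (S i ⊗[R] N)
  haveI : Algebra.Etale P (P ⊗[R] N) := Algebra.Etale.of_equiv (psi S hP N).symm
  exact Algebra.Etale.of_etale_tensorProduct_of_faithfullyFlat P

include hP in
theorem ff_of_family [Finite ι] [Module.FaithfullyFlat R P]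
    (h : ∀ i, Module.FaithfullyFlat (S i) (S i ⊗[R] N)) : Module.FaithfullyFlat R N := by
  haveI : Module.Flat R N := flat_of_family S hP N (fun i => inferInstance)
  rw [Module.FaithfullyFlat.iff_flat_and_lTensor_reflects_triviality]
  refine ⟨inferInstance, fun T _ _ hT => ?_⟩
  apply subsingleton_of_family S hP T
  intro i
  haveI : Subsingleton (S i ⊗[R] (N ⊗[R] T)) := subsingleton_tensor_right _ _
  haveI : Subsingleton ((S i ⊗[R] N) ⊗[R] T) :=
    (TensorProduct.assoc R (S i) N T).toEquiv.subsingleton
  haveI : Subsingleton ((S i ⊗[R] N) ⊗[S i] (S i ⊗[R] T)) :=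
    (TensorProduct.AlgebraTensorModule.cancelBaseChange R (S i) (S i)
      (S i ⊗[R] N) T).toEquiv.subsingleton
  haveI : Subsingleton (S i ⊗[R] T) :=
    Module.FaithfullyFlat.lTensor_reflects_triviality (S i) (S i ⊗[R] N) (S i ⊗[R] T)
  exact (TensorProduct.comm R T (S i)).toEquiv.subsingleton

end Abstract

end Groth.Agent.Helper22.AffDesc
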