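import Mathlib
import Groth.Prelude.Def_SchFin2
import Groth.Agent.Lib.Helper22.AffDesc

set_option autoImplicit false
set_option maxHeartbeats 400000
set_option backward.isDefEq.respectTransparency false
set_option backward.isDefEq.respectTransparency.types false

open TensorProduct SchFin SchFin.RSpace

namespace Groth.Agent.Helper22.AffSp

universe u

/-! ### transport of base change along an isomorphism of the base ring -/

theorem isBCAlong_transport {R R' S : Type u} [CommRing R] [CommRing R'] [CommRing S]
    (e : R ≃+* R') (g : R →+* S) (g' : R' →+* S) (hg : ∀ r, g' (e r) = g r)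
    {M M' N : Type u} [AddCommGroup M] [AddCommGroup M'] [AddCommGroup N]
    [Module R M] [Module R' M'] [Module S N]
    (em : M ≃+ M') (hem : ∀ (r : R) (m : M), em (r • m) = e r • em m)
    (f : M →ₛₗ[g] N) (f' : M' →ₛₗ[g'] N) (hf : ∀ m, f' (em m) = f m)
    (h : IsBCAlong g' f') : IsBCAlong g f := by
  letI iRS : Algebra R S := g.toAlgebra
  letI iRN : Module R N := Module.compHom N g
  haveI tR : IsScalarTower R S N := IsScalarTower.of_algebraMap_smul fun _ _ => rfl
  letI iRS' : Algebra R' S := g'.toAlgebra
  letI iRN' : Module R' N := Module.compHom N g'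
  haveI tR' : IsScalarTower R' S N := IsScalarTower.of_algebraMap_smul fun _ _ => rfl
  let fl : M →ₗ[R] N := { toFun := f, map_add' := f.map_add, map_smul' := f.map_smulₛₗ }
  let fl' : M' →ₗ[R'] N := { toFun := f', map_add' := f'.map_add, map_smul' := f'.map_smulₛₗ }
  have h' : IsBaseChange S fl' := h
  show IsBaseChange S fl
  have hem' : ∀ (r' : R') (m' : M'), em.symm (r' • m') = e.symm r' • em.symm m' := by
    intro r' m'
    apply em.injective
    rw [hem, AddEquiv.apply_symm_apply, AddEquiv.apply_symm_apply, RingEquiv.apply_symm_apply]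
  have hg' : ∀ r', g (e.symm r') = g' r' := by
    intro r'
    rw [← hg, RingEquiv.apply_symm_apply]
  let τ : S ⊗[R] M →+ S ⊗[R'] M' := TensorProduct.liftAddHom
    { toFun := fun s =>
        { toFun := fun m => s ⊗ₜ[R'] em m
          map_zero' := by rw [map_zero, TensorProduct.tmul_zero]
          map_add' := fun a b => by rw [map_add, TensorProduct.tmul_add] }
      map_zero' := by ext m; exact TensorProduct.zero_tmul _ _
      map_add' := fun a b => by ext m; exact TensorProduct.add_tmul _ _ _ }
    (fun r s m => by
      show (r • s) ⊗ₜ[R'] em m = s ⊗ₜ[R'] em (r • m)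
      rw [hem, ← TensorProduct.smul_tmul]
      congr 1
      show g r * s = g' (e r) * s
      rw [hg])
  let τ' : S ⊗[R'] M' →+ S ⊗[R] M := TensorProduct.liftAddHom
    { toFun := fun s =>
        { toFun := fun m => s ⊗ₜ[R] em.symm m
          map_zero' := by rw [map_zero, TensorProduct.tmul_zero]
          map_add' := fun a b => by rw [map_add, TensorProduct.tmul_add] }
      map_zero' := by ext m; exact TensorProduct.zero_tmul _ _
      map_add' := fun a b => by ext m; exact TensorProduct.add_tmul _ _ _ }
    (fun r s m => by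
      show (r • s) ⊗ₜ[R] em.symm m = s ⊗ₜ[R] em.symm (r • m)
      rw [hem', ← TensorProduct.smul_tmul]
      congr 1
      show g' r * s = g (e.symm r) * s
      rw [hg'])
  have hτ : ∀ (s : S) (m : M), τ (s ⊗ₜ m) = s ⊗ₜ[R'] em m := fun _ _ => rfl
  have hτ' : ∀ (s : S) (m : M'), τ' (s ⊗ₜ m) = s ⊗ₜ[R] em.symm m := fun _ _ => rfl
  have h1 : ∀ x, τ' (τ x) = x := by
    intro x
    induction x using TensorProduct.induction_on with
    | zero => rw [map_zero, map_zero]
    | tmul s m => rw [hτ, hτ', AddEquiv.symm_apply_apply]
    | add a b ha hb => rw [map_add, map_add, ha, hb]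
  have h2 : ∀ y, τ (τ' y) = y := by
    intro y
    induction y using TensorProduct.induction_on with
    | zero => rw [map_zero, map_zero]
    | tmul s m => rw [hτ', hτ, AddEquiv.apply_symm_apply]
    | add a b ha hb => rw [map_add, map_add, ha, hb]
  let c : S ⊗[R] M →ₗ[S] N := LinearMap.liftBaseChange S fl
  have hc : ∀ x, c x = h'.equiv (τ x) := by
    intro x
    induction x using TensorProduct.induction_on with
    | zero => rw [map_zero, map_zero, map_zero]
    | tmul s m =>
      rw [hτ, IsBaseChange.equiv_tmul, LinearMap.liftBaseChange_tmul]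
      show s • f m = s • f' (em m)
      rw [hf]
    | add a b ha hb => rw [map_add, map_add, map_add, ha, hb]
  have hbij : Function.Bijective c := by
    constructor
    · intro x y hxy
      rw [hc, hc] at hxy
      have := h'.equiv.injective hxy
      rw [← h1 x, ← h1 y, this]
    · intro n
      refine ⟨τ' (h'.equiv.symm n), ?_⟩
      rw [hc, h2, LinearEquiv.apply_symm_apply]
  exact IsBaseChange.of_equiv (LinearEquiv.ofBijective c hbij) (fun m => by
    show c (1 ⊗ₜ m) = fl m
    rw [LinearMap.liftBaseChange_tmul, one_smul])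

/-! ### sections over `U` and global sections of the restriction -/

section Restr

variable {X : RSpace.{u}} (U : Set X.pt)

/-- sections over `U` are the global sections of the restriction -/
def toY : X.sectRing U ≃+* (X.restrict U).sectRing Set.univ where
  toFun s := ⟨fun q => s.1 q.1, fun q q' h => s.2 q.1 q'.1 h⟩
  invFun t := ⟨fun q => t.1 ⟨q, trivial⟩, fun q q' h => t.2 ⟨q, trivial⟩ ⟨q', trivial⟩ h⟩
  left_inv _ := rfl
  right_inv _ := rfl
  map_mul' _ _ := rfl
  map_add' _ _ := rfl

/-- module version -/
def toYMod (M : OMod X) : M.sect U ≃+ (M.restrict U).sect Set.univ where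
  toFun s := ⟨fun q => s.1 q.1, fun q q' h => s.2 q.1 q'.1 h⟩
  invFun t := ⟨fun q => t.1 ⟨q, trivial⟩, fun q q' h => t.2 ⟨q, trivial⟩ ⟨q', trivial⟩ h⟩
  left_inv _ := rfl
  right_inv _ := rfl
  map_add' _ _ := rfl

theorem counit_U (M : OMod X) (hM : M.IsQcoh) (hUa : (X.restrict U).IsAffine) (q : ↥U) :
    IsBCAlong (X.evalRing U q) (M.evalMod U q) := by
  have h := hUa.2.2.1 (M.restrict U) (fun p p' h => hM p.1 p'.1 h) q
  exact isBCAlong_transport (toY U) (X.evalRing U q)
    ((X.restrict U).evalRing Set.univ ⟨q, trivial⟩) (fun r => rfl)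
    (toYMod U M) (fun r m => rfl) (M.evalMod U q)
    ((M.restrict U).evalMod Set.univ ⟨q, trivial⟩) (fun m => rfl) h

end Restr

/-! ### cancellation of base change along a jointly faithfully flat family -/

theorem bc_cancel {O R P : Type u} [CommRing O] [CommRing R] [CommRing P] [Algebra O R]
    [Algebra R P] {ι : Type u} [Finite ι] (S : ι → Type u) [∀ i, CommRing (S i)]
    [∀ i, Algebra R (S i)] [∀ i, Algebra P (S i)] [∀ i, IsScalarTower R P (S i)]
    (hP : Function.Bijective (AffDesc.toPi (R := R) (P := P) S)) [Module.FaithfullyFlat R P]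
    [∀ i, Algebra O (S i)] [∀ i, IsScalarTower O R (S i)]
    {M₀ Γ : Type u} [AddCommGroup M₀] [Module O M₀] [AddCommGroup Γ] [Module R Γ] [Module O Γ]
    [IsScalarTower O R Γ]
    (Nn : ι → Type u) [∀ i, AddCommGroup (Nn i)] [∀ i, Module (S i) (Nn i)]
    [∀ i, Module R (Nn i)] [∀ i, Module O (Nn i)] [∀ i, IsScalarTower R (S i) (Nn i)]
    [∀ i, IsScalarTower O (S i) (Nn i)]
    (fl : M₀ →ₗ[O] Γ) (ev : ∀ i, Γ →ₗ[R] Nn i) (rs : ∀ i, M₀ →ₗ[O] Nn i)
    (hev : ∀ i, IsBaseChange (S i) (ev i)) (hrs : ∀ i, IsBaseChange (S i) (rs i))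
    (hcomp : ∀ i m, ev i (fl m) = rs i m) : IsBaseChange R fl := by
  let c : R ⊗[O] M₀ →ₗ[R] Γ := LinearMap.liftBaseChange R fl
  have hc : Function.Bijective c := by
    apply AffDesc.bijective_of_family S hP c
    intro i
    have key : ∀ z : (R ⊗[O] M₀) ⊗[R] S i,
        (hev i).equiv (TensorProduct.comm R Γ (S i) (c.rTensor (S i) z))
          = (hrs i).equiv (TensorProduct.AlgebraTensorModule.cancelBaseChange O R (S i) (S i) M₀
              (TensorProduct.comm R (R ⊗[O] M₀) (S i) z)) := by
      intro z
      induction z using TensorProduct.induction_on with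
      | zero => simp
      | add a b ha hb => simp only [map_add, ha, hb]
      | tmul y a =>
        induction y using TensorProduct.induction_on with
        | zero => simp
        | add y₁ y₂ h₁ h₂ => simp only [TensorProduct.add_tmul, map_add, h₁, h₂]
        | tmul r m =>
          rw [LinearMap.rTensor_tmul, TensorProduct.comm_tmul, TensorProduct.comm_tmul,
            IsBaseChange.equiv_tmul, TensorProduct.AlgebraTensorModule.cancelBaseChange_tmul,
            IsBaseChange.equiv_tmul]
          show a • ev i (r • fl m) = (r • a) • rs i m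
          rw [map_smul, hcomp, ← algebraMap_smul (S i) r (rs i m), smul_smul,
            Algebra.smul_def r a, mul_comm]
    have hbij : Function.Bijective
        ((fun w => (hev i).equiv (TensorProduct.comm R Γ (S i) w)) ∘ (c.rTensor (S i))) := by
      have : ((fun w => (hev i).equiv (TensorProduct.comm R Γ (S i) w)) ∘ (c.rTensor (S i)))
          = fun z => (hrs i).equiv
              (TensorProduct.AlgebraTensorModule.cancelBaseChange O R (S i) (S i) M₀
                (TensorProduct.comm R (R ⊗[O] M₀) (S i) z)) := funext key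
      rw [this]
      exact (LinearEquiv.bijective _).comp
        ((LinearEquiv.bijective _).comp (LinearEquiv.bijective _))
    have h2 : Function.Bijective (fun w => (hev i).equiv (TensorProduct.comm R Γ (S i) w)) :=
      (LinearEquiv.bijective _).comp (LinearEquiv.bijective _)
    exact (Function.Bijective.of_comp_iff' h2 _).mp hbij
  exact IsBaseChange.of_equiv (LinearEquiv.ofBijective c hc) (fun m => by
    show c (1 ⊗ₜ m) = fl m
    rw [LinearMap.liftBaseChange_tmul, one_smul])

end Groth.Agent.Helper22.AffSp
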