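import Mathlib
import Groth.Prelude.Def_SchFin2
import Groth.Agent.Lib.Helper22.AffSp

set_option autoImplicit false
set_option maxHeartbeats 400000
set_option backward.isDefEq.respectTransparency false
set_option backward.isDefEq.respectTransparency.types false

open TensorProduct SchFin SchFin.RSpace

namespace Groth.Agent.Helper22.AffSp

universe u

theorem resSect_bc (X : RSpace.{u}) (x : X.pt) (U : Set X.pt)
    (hU : U ⊆ X.up x) (hUa : (X.restrict U).IsAffine)
    (hff : Module.FaithfullyFlat (X.sectRing U) ((q : ↥U) → X.ring q.1)) (M : OMod X)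
    (hM : M.IsQcoh) :
    IsBCAlong (X.resSect x U hU) (M.resSect x U hU) := by
  letI iOR : Algebra (X.ring x) (X.sectRing U) := (X.resSect x U hU).toAlgebra
  letI iOΓ : Module (X.ring x) (M.sect U) := Module.compHom _ (X.resSect x U hU)
  haveI tOΓ : IsScalarTower (X.ring x) (X.sectRing U) (M.sect U) :=
    IsScalarTower.of_algebraMap_smul fun _ _ => rfl
  letI iRP : Algebra (X.sectRing U) ((q : ↥U) → X.ring q.1) := (X.sectRing U).subtype.toAlgebra
  letI iRS : ∀ q : ↥U, Algebra (X.sectRing U) (X.ring q.1) :=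
    fun q => (X.evalRing U q).toAlgebra
  letI iPS : ∀ q : ↥U, Algebra ((q : ↥U) → X.ring q.1) (X.ring q.1) :=
    fun q => (Pi.evalRingHom (fun q : ↥U => X.ring q.1) q).toAlgebra
  haveI tRPS : ∀ q : ↥U, IsScalarTower (X.sectRing U) ((q : ↥U) → X.ring q.1) (X.ring q.1) :=
    fun q => IsScalarTower.of_algebraMap_eq fun _ => rfl
  haveI hff' : @Module.FaithfullyFlat (X.sectRing U) ((q : ↥U) → X.ring q.1) _ _
      (@Algebra.toModule _ _ _ _ iRP) := hff
  letI iOS : ∀ q : ↥U, Algebra (X.ring x) (X.ring q.1) := fun q => (X.res (hU q.2)).toAlgebra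
  haveI tORS : ∀ q : ↥U, IsScalarTower (X.ring x) (X.sectRing U) (X.ring q.1) :=
    fun q => IsScalarTower.of_algebraMap_eq fun _ => rfl
  letI iRN : ∀ q : ↥U, Module (X.sectRing U) (M.carrier q.1) :=
    fun q => Module.compHom _ (X.evalRing U q)
  letI iON : ∀ q : ↥U, Module (X.ring x) (M.carrier q.1) :=
    fun q => Module.compHom _ (X.res (hU q.2))
  haveI tRSN : ∀ q : ↥U, IsScalarTower (X.sectRing U) (X.ring q.1) (M.carrier q.1) :=
    fun q => IsScalarTower.of_algebraMap_smul fun _ _ => rfl
  haveI tOSN : ∀ q : ↥U, IsScalarTower (X.ring x) (X.ring q.1) (M.carrier q.1) :=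
    fun q => IsScalarTower.of_algebraMap_smul fun _ _ => rfl
  have hP : Function.Bijective (AffDesc.toPi (R := X.sectRing U)
      (P := (q : ↥U) → X.ring q.1) (fun q : ↥U => X.ring q.1)) :=
    ⟨fun a b h => h, fun b => ⟨b, rfl⟩⟩
  exact bc_cancel (fun q : ↥U => X.ring q.1) hP (fun q : ↥U => M.carrier q.1)
    { toFun := M.resSect x U hU, map_add' := (M.resSect x U hU).map_add,
      map_smul' := (M.resSect x U hU).map_smulₛₗ }
    (fun q => { toFun := M.evalMod U q, map_add' := (M.evalMod U q).map_add,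
                map_smul' := (M.evalMod U q).map_smulₛₗ })
    (fun q => { toFun := M.res (hU q.2), map_add' := (M.res (hU q.2)).map_add,
                map_smul' := (M.res (hU q.2)).map_smulₛₗ })
    (fun q => counit_U U M hM hUa q) (fun q => hM x q.1 (hU q.2)) (fun q m => rfl)

/-! ### algebras -/

section AlgRows

variable {X : RSpace.{u}} (A : Alg X) (U : Set X.pt)

/-- evaluation makes the ring of a point an algebra over the sections -/
@[reducible] def algEv (q : ↥U) : Algebra (X.sectRing U) (X.ring q.1) :=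
  (X.evalRing U q).toAlgebra

/-- the sections of the algebra as an algebra over the sections of the rings -/
@[reducible] def algSect : Algebra (X.sectRing U) (A.total.sectRing U) := (A.sectMap U).toAlgebra

attribute [local instance] algEv algSect

/-- sections of the algebra as sections of its module -/
def iotaSect : (A.total.sectRing U) ≃ₗ[X.sectRing U] (A.toMod.sect U) where
  toFun s := ⟨s.1, s.2⟩
  invFun s := ⟨s.1, s.2⟩
  left_inv _ := rfl
  right_inv _ := rfl
  map_add' _ _ := rfl
  map_smul' r s := Subtype.ext (funext fun q =>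
    (Algebra.smul_def (A := A.carrier q.1) (r.1 q) (s.1 q)).symm)

/-- the value of a section of the algebra at a point -/
@[reducible] def valAt (s : A.total.sectRing U) (q : ↥U) : A.carrier q.1 := s.1 q

variable (hA : A.IsQcoh) (hUa : (X.restrict U).IsAffine)

/-- the module structure of a value over the sections, through evaluation -/
@[reducible] def modEv (q : ↥U) : Module (X.sectRing U) (A.carrier q.1) :=
  Module.compHom _ (X.evalRing U q)

attribute [local instance] modEv

instance towerEv (q : ↥U) : IsScalarTower (X.sectRing U) (X.ring q.1) (A.carrier q.1) :=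
  IsScalarTower.of_algebraMap_smul fun _ _ => rfl

/-- evaluation of sections of the module of the algebra, as a linear map -/
def evLin (q : ↥U) : A.toMod.sect U →ₗ[X.sectRing U] A.carrier q.1 :=
  { toFun := A.toMod.evalMod U q, map_add' := (A.toMod.evalMod U q).map_add,
    map_smul' := (A.toMod.evalMod U q).map_smulₛₗ }

include hA hUa in
theorem bcEv (q : ↥U) : IsBaseChange (X.ring q.1) (evLin A U q) :=
  counit_U U A.toMod hA hUa q

/-- the value at a point of `U` is the base change of the sections -/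
noncomputable def muLin (q : ↥U) :
    (X.ring q.1) ⊗[X.sectRing U] (A.total.sectRing U) ≃ₗ[X.ring q.1] A.carrier q.1 :=
  (TensorProduct.AlgebraTensorModule.congr (LinearEquiv.refl (X.ring q.1) (X.ring q.1))
      (iotaSect A U)) ≪≫ₗ (bcEv A U hA hUa q).equiv

theorem muLin_tmul (q : ↥U) (a : X.ring q.1) (s : A.total.sectRing U) :
    muLin A U hA hUa q (a ⊗ₜ s) = a • valAt A U s q := by
  show (bcEv A U hA hUa q).equiv (a ⊗ₜ[X.sectRing U] (iotaSect A U s)) = a • valAt A U s q
  exact (bcEv A U hA hUa q).equiv_tmul a (iotaSect A U s)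

/-- the same as an isomorphism of algebras -/
noncomputable def muAlg (q : ↥U) :
    (X.ring q.1) ⊗[X.sectRing U] (A.total.sectRing U) ≃ₐ[X.ring q.1] A.carrier q.1 :=
  Algebra.TensorProduct.algEquivOfLinearEquivTensorProduct (muLin A U hA hUa q)
    (fun a₁ a₂ s₁ s₂ => by
      rw [muLin_tmul, muLin_tmul, muLin_tmul]
      show (a₁ * a₂) • (valAt A U s₁ q * valAt A U s₂ q)
        = a₁ • valAt A U s₁ q * a₂ • valAt A U s₂ q
      rw [Algebra.smul_def, Algebra.smul_def, Algebra.smul_def, map_mul]
      ring)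
    (by
      rw [muLin_tmul]
      show (1 : X.ring q.1) • (1 : A.carrier q.1) = 1
      rw [one_smul])

variable (hφ : Module.FaithfullyFlat (X.sectRing U) ((q : ↥U) → X.ring q.1))

include hA hUa hφ

theorem flat_iff :
    (∀ q : X.pt, q ∈ U → Module.Flat (X.ring q) (A.carrier q)) ↔ (A.sectMap U).Flat := by
  letI iRP : Algebra (X.sectRing U) ((q : ↥U) → X.ring q.1) := (X.sectRing U).subtype.toAlgebra
  letI iPS : ∀ q : ↥U, Algebra ((q : ↥U) → X.ring q.1) (X.ring q.1) :=
    fun q => (Pi.evalRingHom (fun q : ↥U => X.ring q.1) q).toAlgebra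
  haveI tRPS : ∀ q : ↥U, IsScalarTower (X.sectRing U) ((q : ↥U) → X.ring q.1) (X.ring q.1) :=
    fun q => IsScalarTower.of_algebraMap_eq fun _ => rfl
  haveI hff' : @Module.FaithfullyFlat (X.sectRing U) ((q : ↥U) → X.ring q.1) _ _
      (@Algebra.toModule _ _ _ _ iRP) := hφ
  have hP : Function.Bijective (AffDesc.toPi (R := X.sectRing U)
      (P := (q : ↥U) → X.ring q.1) (fun q : ↥U => X.ring q.1)) :=
    ⟨fun a b h => h, fun b => ⟨b, rfl⟩⟩
  constructor
  · intro h
    show Module.Flat (X.sectRing U) (A.total.sectRing U)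
    apply AffDesc.flat_of_family (fun q : ↥U => X.ring q.1) hP (A.total.sectRing U)
    intro q
    haveI := h q.1 q.2
    exact Module.Flat.of_linearEquiv (muLin A U hA hUa q)
  · intro h q hq
    haveI : Module.Flat (X.sectRing U) (A.total.sectRing U) := h
    exact Module.Flat.of_linearEquiv (muLin A U hA hUa ⟨q, hq⟩).symm

theorem ff_iff :
    (∀ q : X.pt, q ∈ U → Module.FaithfullyFlat (X.ring q) (A.carrier q))
      ↔ (A.sectMap U).FaithfullyFlat := by
  letI iRP : Algebra (X.sectRing U) ((q : ↥U) → X.ring q.1) := (X.sectRing U).subtype.toAlgebra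
  letI iPS : ∀ q : ↥U, Algebra ((q : ↥U) → X.ring q.1) (X.ring q.1) :=
    fun q => (Pi.evalRingHom (fun q : ↥U => X.ring q.1) q).toAlgebra
  haveI tRPS : ∀ q : ↥U, IsScalarTower (X.sectRing U) ((q : ↥U) → X.ring q.1) (X.ring q.1) :=
    fun q => IsScalarTower.of_algebraMap_eq fun _ => rfl
  haveI hff' : @Module.FaithfullyFlat (X.sectRing U) ((q : ↥U) → X.ring q.1) _ _
      (@Algebra.toModule _ _ _ _ iRP) := hφ
  have hP : Function.Bijective (AffDesc.toPi (R := X.sectRing U)
      (P := (q : ↥U) → X.ring q.1) (fun q : ↥U => X.ring q.1)) :=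
    ⟨fun a b h => h, fun b => ⟨b, rfl⟩⟩
  constructor
  · intro h
    show Module.FaithfullyFlat (X.sectRing U) (A.total.sectRing U)
    apply AffDesc.ff_of_family (fun q : ↥U => X.ring q.1) hP (A.total.sectRing U)
    intro q
    haveI := h q.1 q.2
    exact Module.FaithfullyFlat.of_linearEquiv (X.ring q.1) (A.carrier q.1) (muLin A U hA hUa q)
  · intro h q hq
    haveI : Module.FaithfullyFlat (X.sectRing U) (A.total.sectRing U) := h
    exact Module.FaithfullyFlat.of_linearEquiv _ _ (muLin A U hA hUa ⟨q, hq⟩).symm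

theorem finite_iff :
    (∀ q : X.pt, q ∈ U → Module.Finite (X.ring q) (A.carrier q)) ↔ (A.sectMap U).Finite := by
  letI iRP : Algebra (X.sectRing U) ((q : ↥U) → X.ring q.1) := (X.sectRing U).subtype.toAlgebra
  letI iPS : ∀ q : ↥U, Algebra ((q : ↥U) → X.ring q.1) (X.ring q.1) :=
    fun q => (Pi.evalRingHom (fun q : ↥U => X.ring q.1) q).toAlgebra
  haveI tRPS : ∀ q : ↥U, IsScalarTower (X.sectRing U) ((q : ↥U) → X.ring q.1) (X.ring q.1) :=
    fun q => IsScalarTower.of_algebraMap_eq fun _ => rfl
  haveI hff' : @Module.FaithfullyFlat (X.sectRing U) ((q : ↥U) → X.ring q.1) _ _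
      (@Algebra.toModule _ _ _ _ iRP) := hφ
  have hP : Function.Bijective (AffDesc.toPi (R := X.sectRing U)
      (P := (q : ↥U) → X.ring q.1) (fun q : ↥U => X.ring q.1)) :=
    ⟨fun a b h => h, fun b => ⟨b, rfl⟩⟩
  constructor
  · intro h
    show Module.Finite (X.sectRing U) (A.total.sectRing U)
    apply AffDesc.finite_of_family (fun q : ↥U => X.ring q.1) hP (A.total.sectRing U)
    intro q
    haveI := h q.1 q.2
    exact Module.Finite.equiv (muLin A U hA hUa q).symm
  · intro h q hq
    haveI : Module.Finite (X.sectRing U) (A.total.sectRing U) := h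
    exact Module.Finite.equiv (muLin A U hA hUa ⟨q, hq⟩)

theorem etale_iff :
    (∀ q : X.pt, q ∈ U → Algebra.Etale (X.ring q) (A.carrier q)) ↔ (A.sectMap U).Etale := by
  letI iRP : Algebra (X.sectRing U) ((q : ↥U) → X.ring q.1) := (X.sectRing U).subtype.toAlgebra
  letI iPS : ∀ q : ↥U, Algebra ((q : ↥U) → X.ring q.1) (X.ring q.1) :=
    fun q => (Pi.evalRingHom (fun q : ↥U => X.ring q.1) q).toAlgebra
  haveI tRPS : ∀ q : ↥U, IsScalarTower (X.sectRing U) ((q : ↥U) → X.ring q.1) (X.ring q.1) :=
    fun q => IsScalarTower.of_algebraMap_eq fun _ => rfl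
  haveI hff' : @Module.FaithfullyFlat (X.sectRing U) ((q : ↥U) → X.ring q.1) _ _
      (@Algebra.toModule _ _ _ _ iRP) := hφ
  have hP : Function.Bijective (AffDesc.toPi (R := X.sectRing U)
      (P := (q : ↥U) → X.ring q.1) (fun q : ↥U => X.ring q.1)) :=
    ⟨fun a b h => h, fun b => ⟨b, rfl⟩⟩
  constructor
  · intro h
    show Algebra.Etale (X.sectRing U) (A.total.sectRing U)
    apply AffDesc.etale_of_family (fun q : ↥U => X.ring q.1) hP (A.total.sectRing U)
    intro q
    haveI := h q.1 q.2
    exact Algebra.Etale.of_equiv (muAlg A U hA hUa q).symm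
  · intro h q hq
    haveI : Algebra.Etale (X.sectRing U) (A.total.sectRing U) := h
    exact Algebra.Etale.of_equiv (muAlg A U hA hUa ⟨q, hq⟩)

end AlgRows

end Groth.Agent.Helper22.AffSp
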