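import Groth.Prelude.Def_QuadGrp
import Mathlib.Tactic

open CliffordAlgebra

namespace Groth.Agent.Helper22.CliffEven

section Ring
variable {C : Type*} [Ring C]

theorem f_sq {a b : C} (haa : a * a = 0) (hbb : b * b = 0) (hab : a * b + b * a = 1) :
    (1 - 2 * (a * b)) * (1 - 2 * (a * b)) = 1 := by
  have hba : b * a = 1 - a * b := eq_sub_of_add_eq' hab
  have hu : a * b * (a * b) = a * b := by
    calc a * b * (a * b) = a * (b * a) * b := by noncomm_ring
      _ = a * b - a * a * (b * b) := by rw [hba]; noncomm_ring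
      _ = a * b := by rw [haa]; simp
  calc (1 - 2 * (a * b)) * (1 - 2 * (a * b)) = 1 - 4 * (a * b) + 4 * (a * b * (a * b)) := by
        noncomm_ring
    _ = 1 := by rw [hu]; noncomm_ring

theorem a_f {a b : C} (haa : a * a = 0) (hbb : b * b = 0) (hab : a * b + b * a = 1) :
    a * (1 - 2 * (a * b)) = -((1 - 2 * (a * b)) * a) := by
  have hba : b * a = 1 - a * b := eq_sub_of_add_eq' hab
  have h1 : a * (1 - 2 * (a * b)) = a := by
    calc a * (1 - 2 * (a * b)) = a - 2 * (a * a * b) := by noncomm_ring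
      _ = a := by rw [haa]; simp
  have h2 : (1 - 2 * (a * b)) * a = -a := by
    calc (1 - 2 * (a * b)) * a = a - 2 * (a * (b * a)) := by noncomm_ring
      _ = a - 2 * a + 2 * (a * a * b) := by rw [hba]; noncomm_ring
      _ = -a := by rw [haa]; noncomm_ring
  rw [h1, h2, neg_neg]

theorem b_f {a b : C} (haa : a * a = 0) (hbb : b * b = 0) (hab : a * b + b * a = 1) :
    b * (1 - 2 * (a * b)) = -((1 - 2 * (a * b)) * b) := by
  have hba : b * a = 1 - a * b := eq_sub_of_add_eq' hab
  have h1 : b * (1 - 2 * (a * b)) = -b := by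
    calc b * (1 - 2 * (a * b)) = b - 2 * (b * a * b) := by noncomm_ring
      _ = b - 2 * b + 2 * (a * (b * b)) := by rw [hba]; noncomm_ring
      _ = -b := by rw [hbb]; noncomm_ring
  have h2 : (1 - 2 * (a * b)) * b = b := by
    calc (1 - 2 * (a * b)) * b = b - 2 * (a * (b * b)) := by noncomm_ring
      _ = b := by rw [hbb]; simp
  rw [h1, h2]

theorem x_f {a b x : C} (hxa : x * a = -(a * x)) (hxb : x * b = -(b * x)) :
    x * (1 - 2 * (a * b)) = (1 - 2 * (a * b)) * x := by
  have h : x * (a * b) = a * b * x := by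
    rw [← mul_assoc, hxa, neg_mul, mul_assoc, hxb, mul_neg, neg_neg, mul_assoc]
  calc x * (1 - 2 * (a * b)) = x - 2 * (x * (a * b)) := by noncomm_ring
    _ = (1 - 2 * (a * b)) * x := by rw [h]; noncomm_ring

theorem list_anticomm {ι : Type*} (g : ι → C) (x : C) (i0 : ι)
    (hc : ∀ i, i ≠ i0 → x * g i = g i * x) (ha : x * g i0 = -(g i0 * x)) :
    ∀ L : List ι, L.Nodup → (i0 ∉ L → x * (L.map g).prod = (L.map g).prod * x) ∧
      (i0 ∈ L → x * (L.map g).prod = -((L.map g).prod * x))
  | [], _ => ⟨fun _ => by simp, fun h => absurd h List.not_mem_nil⟩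
  | i :: L, hnd => by
    have hnd' := List.nodup_cons.1 hnd
    obtain ⟨ih1, ih2⟩ := list_anticomm g x i0 hc ha L hnd'.2
    simp only [List.map_cons, List.prod_cons, List.mem_cons, not_or]
    constructor
    · rintro ⟨h1, h2⟩
      rw [← mul_assoc, hc i (Ne.symm h1), mul_assoc, ih1 h2, mul_assoc]
    · rintro (h | h)
      · subst h
        rw [← mul_assoc, ha, neg_mul, mul_assoc, ih1 hnd'.1, mul_assoc]
      · have hne : i ≠ i0 := fun h' => hnd'.1 (h' ▸ h)
        rw [← mul_assoc, hc i hne, mul_assoc, ih2 h, mul_neg, mul_assoc]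

theorem list_sq {ι : Type*} (g : ι → C) (hcomm : ∀ i j, i ≠ j → g i * g j = g j * g i)
    (hsq : ∀ i, g i * g i = 1) :
    ∀ L : List ι, L.Nodup → (L.map g).prod * (L.map g).prod = 1
  | [], _ => by simp
  | i :: L, hnd => by
    have hnd' := List.nodup_cons.1 hnd
    have ih := list_sq g hcomm hsq L hnd'.2
    have hc : Commute (g i) (L.map g).prod := by
      apply Commute.list_prod_right
      intro y hy
      obtain ⟨j, hj, rfl⟩ := List.mem_map.1 hy
      exact hcomm i j (fun h => hnd'.1 (h ▸ hj))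
    simp only [List.map_cons, List.prod_cons]
    calc g i * (L.map g).prod * (g i * (L.map g).prod)
        = g i * ((L.map g).prod * g i) * (L.map g).prod := by noncomm_ring
      _ = g i * (g i * (L.map g).prod) * (L.map g).prod := by rw [hc.eq]
      _ = (g i * g i) * ((L.map g).prod * (L.map g).prod) := by noncomm_ring
      _ = 1 := by rw [hsq, ih, one_mul]

end Ring

section Split
variable (R : Type*) [CommRing R] (m : ℕ)

theorem splitForm_even_apply (x : Fin (m * 2) → R) :
    QuadGrp.splitForm R (m * 2) x =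
      ∑ i : Fin m, x (finProdFinEquiv (i, 0)) * x (finProdFinEquiv (i, 1)) := by
  unfold QuadGrp.splitForm
  rw [dif_neg (by omega : ¬ (m * 2) % 2 = 1)]
  rw [add_apply, sum_apply, zero_apply, add_zero]
  have h : m * 2 / 2 = m := by omega
  refine Fintype.sum_equiv (finCongr h) _ _ (fun i => ?_)
  simp only [QuadraticMap.linMulLin_apply, LinearMap.proj_apply]
  congr 2
  · apply Fin.ext
    simp [finProdFinEquiv]
  · apply Fin.ext
    simp [finProdFinEquiv]
    omega

theorem polar_eq (x y : Fin (m * 2) → R) :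
    QuadraticMap.polar (QuadGrp.splitForm R (m * 2)) x y =
      ∑ i : Fin m, (x (finProdFinEquiv (i, 0)) * y (finProdFinEquiv (i, 1)) +
        y (finProdFinEquiv (i, 0)) * x (finProdFinEquiv (i, 1))) := by
  rw [QuadraticMap.polar, splitForm_even_apply, splitForm_even_apply, splitForm_even_apply,
    ← Finset.sum_sub_distrib, ← Finset.sum_sub_distrib]
  refine Finset.sum_congr rfl (fun i _ => ?_)
  simp only [Pi.add_apply]
  ring

theorem Q_single (p : Fin m × Fin 2) :
    QuadGrp.splitForm R (m * 2) (Pi.single (finProdFinEquiv p) 1) = 0 := by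
  rw [splitForm_even_apply]
  refine Finset.sum_eq_zero (fun i _ => ?_)
  simp only [Pi.single_apply, EmbeddingLike.apply_eq_iff_eq]
  by_cases h : (i, (0 : Fin 2)) = p
  · have : ¬ (i, (1 : Fin 2)) = p := by
      rw [← h]; simp
    simp [this]
  · simp [h]

theorem polar_pair (i : Fin m) :
    QuadraticMap.polar (QuadGrp.splitForm R (m * 2)) (Pi.single (finProdFinEquiv (i, 0)) 1)
      (Pi.single (finProdFinEquiv (i, 1)) 1) = 1 := by
  rw [polar_eq, Finset.sum_eq_single i]
  · simp
  · intro j _ hj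
    simp [Pi.single_apply, hj]
  · simp

theorem polar_ne (p q : Fin m × Fin 2) (hpq : p.1 ≠ q.1) :
    QuadraticMap.polar (QuadGrp.splitForm R (m * 2)) (Pi.single (finProdFinEquiv p) 1)
      (Pi.single (finProdFinEquiv q) 1) = 0 := by
  rw [polar_eq]
  refine Finset.sum_eq_zero (fun i _ => ?_)
  have h1 : ¬ ((i, (0 : Fin 2)) = p ∧ (i, (1 : Fin 2)) = q) :=
    fun ⟨h1, h2⟩ => hpq (by rw [← h1, ← h2])
  have h2 : ¬ ((i, (0 : Fin 2)) = q ∧ (i, (1 : Fin 2)) = p) :=
    fun ⟨h1, h2⟩ => hpq (by rw [← h1, ← h2])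
  simp only [Pi.single_apply, EmbeddingLike.apply_eq_iff_eq]
  split_ifs <;> simp_all

end Split

end Groth.Agent.Helper22.CliffEven
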