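import Groth.Prelude.Def_QuadGrp
import Mathlib.LinearAlgebra.CliffordAlgebra.Grading
import Mathlib.Tactic

open CliffordAlgebra

namespace Groth.Agent.Helper22.CliffThree

section General
variable {R : Type*} [CommRing R] {M : Type*} [AddCommGroup M] [Module R M] (Q : QuadraticForm R M)

theorem ι_triple_swap (v a b : M) :
    ι Q v * ι Q b * ι Q a + ι Q a * ι Q b * ι Q v =
      ι Q (QuadraticMap.polar Q v b • a - QuadraticMap.polar Q v a • b + QuadraticMap.polar Q a b • v) := by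
  have h1 := ι_mul_ι_add_swap (Q := Q) v b
  have h2 := ι_mul_ι_add_swap (Q := Q) v a
  have h3 := ι_mul_ι_add_swap (Q := Q) a b
  calc ι Q v * ι Q b * ι Q a + ι Q a * ι Q b * ι Q v
      = (ι Q v * ι Q b + ι Q b * ι Q v) * ι Q a - ι Q b * (ι Q v * ι Q a + ι Q a * ι Q v)
          + (ι Q a * ι Q b + ι Q b * ι Q a) * ι Q v := by noncomm_ring
    _ = _ := by
      rw [h1, h2, h3, ← Algebra.commutes, ← Algebra.smul_def, ← Algebra.smul_def, ← Algebra.smul_def,
        map_add, map_sub, map_smul, map_smul, map_smul]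

theorem ι_quint (v a b : M) :
    ι Q a * ι Q b * ι Q v * ι Q b * ι Q a ∈ LinearMap.range (ι Q) := by
  have h1 : ι Q a * ι Q b * ι Q v * ι Q b * ι Q a = ι Q a * (ι Q b * ι Q v * ι Q b) * ι Q a := by
    noncomm_ring
  rw [h1, ι_mul_ι_mul_ι, ι_mul_ι_mul_ι]
  exact ⟨_, rfl⟩

/-- `(α + ab) v (α + ba)` is a vector. -/
theorem conj_mem (α : R) (v a b : M) :
    (algebraMap R _ α + ι Q a * ι Q b) * ι Q v * (algebraMap R _ α + ι Q b * ι Q a) ∈
      LinearMap.range (ι Q) := by
  have hc : ∀ y : CliffordAlgebra Q, y * algebraMap R _ α = algebraMap R _ α * y :=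
    fun y => (Algebra.commutes α y).symm
  have h : (algebraMap R _ α + ι Q a * ι Q b) * ι Q v * (algebraMap R _ α + ι Q b * ι Q a) =
      (α * α) • ι Q v + α • (ι Q v * ι Q b * ι Q a + ι Q a * ι Q b * ι Q v) +
        ι Q a * ι Q b * ι Q v * ι Q b * ι Q a := by
    simp only [Algebra.smul_def, map_mul]
    simp only [add_mul, mul_add, mul_assoc, hc]
    abel
  rw [h, ι_triple_swap]
  refine Submodule.add_mem _ (Submodule.add_mem _ (Submodule.smul_mem _ _ ⟨_, rfl⟩)
    (Submodule.smul_mem _ _ ⟨_, rfl⟩)) (ι_quint Q v a b)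

theorem norm_eq (α : R) (a b : M) :
    (algebraMap R _ α + ι Q a * ι Q b) * (algebraMap R _ α + ι Q b * ι Q a) =
      algebraMap R _ (α * α + α * QuadraticMap.polar Q a b + Q a * Q b) := by
  have hc : ∀ y : CliffordAlgebra Q, y * algebraMap R _ α = algebraMap R _ α * y :=
    fun y => (Algebra.commutes α y).symm
  have h3 := ι_mul_ι_add_swap (Q := Q) a b
  have h4 : ι Q a * ι Q b * (ι Q b * ι Q a) = algebraMap R _ (Q a * Q b) := by
    rw [mul_assoc, ← mul_assoc (ι Q b), ι_sq_scalar, Algebra.commutes, ← mul_assoc, ι_sq_scalar,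
      ← map_mul]
  calc (algebraMap R _ α + ι Q a * ι Q b) * (algebraMap R _ α + ι Q b * ι Q a)
      = algebraMap R _ α * algebraMap R _ α + algebraMap R _ α * (ι Q a * ι Q b + ι Q b * ι Q a)
          + ι Q a * ι Q b * (ι Q b * ι Q a) := by
        simp only [add_mul, mul_add, hc]; abel
    _ = _ := by rw [h3, h4]; simp only [map_add, map_mul]

end General

section Rel
variable {k : Type*} [CommRing k] {C : Type*} [Ring C] [Algebra k C] (e0 e1 e2 : C)
  (r00 : e0 * e0 = 1) (r11 : e1 * e1 = 0) (r22 : e2 * e2 = 0)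
  (r10 : e1 * e0 = -(e0 * e1)) (r20 : e2 * e0 = -(e0 * e2)) (r21 : e2 * e1 = 1 - e1 * e2)
include r00 r11 r22 r10 r20 r21

theorem assocs :
    (∀ x, e0 * (e0 * x) = x) ∧ (∀ x, e1 * (e1 * x) = 0) ∧ (∀ x, e2 * (e2 * x) = 0) ∧
    (∀ x, e1 * (e0 * x) = -(e0 * (e1 * x))) ∧ (∀ x, e2 * (e0 * x) = -(e0 * (e2 * x))) ∧
    (∀ x, e2 * (e1 * x) = x - e1 * (e2 * x)) := by
  refine ⟨fun x => ?_, fun x => ?_, fun x => ?_, fun x => ?_, fun x => ?_, fun x => ?_⟩
  · rw [← mul_assoc, r00, one_mul]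
  · rw [← mul_assoc, r11, zero_mul]
  · rw [← mul_assoc, r22, zero_mul]
  · rw [← mul_assoc, r10, neg_mul, mul_assoc]
  · rw [← mul_assoc, r20, neg_mul, mul_assoc]
  · rw [← mul_assoc, r21, sub_mul, one_mul, mul_assoc]

set_option linter.unusedSimpArgs false in
theorem prods :
    (e0 * e1) * (e0 * e1) = 0 ∧ (e0 * e1) * (e0 * e2) = -(e1 * e2) ∧ (e0 * e1) * (e1 * e2) = 0 ∧
    (e0 * e2) * (e0 * e1) = e1 * e2 - 1 ∧ (e0 * e2) * (e0 * e2) = 0 ∧ (e0 * e2) * (e1 * e2) = e0 * e2 ∧
    (e1 * e2) * (e0 * e1) = e0 * e1 ∧ (e1 * e2) * (e0 * e2) = 0 ∧ (e1 * e2) * (e1 * e2) = e1 * e2 := by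
  obtain ⟨a00, a11, a22, a10, a20, a21⟩ := assocs e0 e1 e2 r00 r11 r22 r10 r20 r21
  refine ⟨?_, ?_, ?_, ?_, ?_, ?_, ?_, ?_, ?_⟩ <;>
    simp only [mul_assoc, r00, r11, r22, r10, r20, r21, a00, a11, a22, a10, a20, a21, mul_neg, neg_mul,
      mul_sub, sub_mul, mul_one, one_mul, mul_zero, zero_mul, neg_neg, neg_zero, sub_zero, zero_sub, sub_self] <;>
    try abel

/-- The span of `1, e0e1, e0e2, e1e2` is closed under multiplication. -/
theorem W_mul {x y : C}
    (hx : x ∈ Submodule.span k ({1, e0 * e1, e0 * e2, e1 * e2} : Set C))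
    (hy : y ∈ Submodule.span k ({1, e0 * e1, e0 * e2, e1 * e2} : Set C)) :
    x * y ∈ Submodule.span k ({1, e0 * e1, e0 * e2, e1 * e2} : Set C) := by
  obtain ⟨p1, p2, p3, p4, p5, p6, p7, p8, p9⟩ := prods e0 e1 e2 r00 r11 r22 r10 r20 r21
  have hle : Submodule.span k ({1, e0 * e1, e0 * e2, e1 * e2} : Set C) *
      Submodule.span k ({1, e0 * e1, e0 * e2, e1 * e2} : Set C) ≤
      Submodule.span k ({1, e0 * e1, e0 * e2, e1 * e2} : Set C) := by
    rw [Submodule.span_mul_span]
    apply Submodule.span_le.2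
    rintro _ ⟨a, ha, b, hb, rfl⟩
    have m1 : (1 : C) ∈ Submodule.span k ({1, e0 * e1, e0 * e2, e1 * e2} : Set C) :=
      Submodule.subset_span (by simp)
    have m01 : e0 * e1 ∈ Submodule.span k ({1, e0 * e1, e0 * e2, e1 * e2} : Set C) :=
      Submodule.subset_span (by simp)
    have m02 : e0 * e2 ∈ Submodule.span k ({1, e0 * e1, e0 * e2, e1 * e2} : Set C) :=
      Submodule.subset_span (by simp)
    have m12 : e1 * e2 ∈ Submodule.span k ({1, e0 * e1, e0 * e2, e1 * e2} : Set C) :=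
      Submodule.subset_span (by simp)
    simp only [Set.mem_insert_iff, Set.mem_singleton_iff] at ha hb
    rcases ha with rfl | rfl | rfl | rfl <;> rcases hb with rfl | rfl | rfl | rfl <;>
      simp only [one_mul, mul_one, p1, p2, p3, p4, p5, p6, p7, p8, p9, SetLike.mem_coe] <;>
      first
        | assumption
        | exact Submodule.zero_mem _
        | exact Submodule.neg_mem _ m12
        | exact Submodule.sub_mem _ m12 m1
  exact hle (Submodule.mul_mem_mul hx hy)

end Rel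

section Three
variable (k : Type*) [CommRing k]

theorem splitForm_three_apply (x : Fin 3 → k) :
    QuadGrp.splitForm k 3 x = x 0 * x 0 + x 1 * x 2 := by
  unfold QuadGrp.splitForm
  rw [dif_pos (by norm_num : 3 % 2 = 1)]
  rw [add_apply, sum_apply]
  erw [Fin.sum_univ_one]
  simp only [QuadraticMap.linMulLin_apply, QuadraticMap.comp_apply, QuadraticMap.sq_apply,
    LinearMap.proj_apply]
  rw [add_comm]
  rfl

/-- The basis vectors in the Clifford algebra. -/
noncomputable def e (i : Fin 3) : CliffordAlgebra (QuadGrp.splitForm k 3) :=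
  ι (QuadGrp.splitForm k 3) (Pi.single i 1)

theorem ι_eq (m : Fin 3 → k) :
    ι (QuadGrp.splitForm k 3) m = m 0 • e k 0 + m 1 • e k 1 + m 2 • e k 2 := by
  have : m = m 0 • Pi.single 0 1 + m 1 • Pi.single 1 1 + m 2 • Pi.single 2 1 := by
    ext i; fin_cases i <;> simp
  conv_lhs => rw [this]
  simp only [map_add, map_smul, e]

theorem rels :
    e k 0 * e k 0 = 1 ∧ e k 1 * e k 1 = 0 ∧ e k 2 * e k 2 = 0 ∧
    e k 1 * e k 0 = -(e k 0 * e k 1) ∧ e k 2 * e k 0 = -(e k 0 * e k 2) ∧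
    e k 2 * e k 1 = 1 - e k 1 * e k 2 := by
  refine ⟨?_, ?_, ?_, ?_, ?_, ?_⟩
  · rw [e, ι_sq_scalar, splitForm_three_apply]; simp
  · rw [e, ι_sq_scalar, splitForm_three_apply]; simp
  · rw [e, ι_sq_scalar, splitForm_three_apply]; simp
  · rw [e, e, eq_neg_iff_add_eq_zero, ι_mul_ι_add_swap, QuadraticMap.polar]
    simp [splitForm_three_apply]
  · rw [e, e, eq_neg_iff_add_eq_zero, ι_mul_ι_add_swap, QuadraticMap.polar]
    simp [splitForm_three_apply]
  · rw [e, e, eq_sub_iff_add_eq, ι_mul_ι_add_swap, QuadraticMap.polar]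
    simp [splitForm_three_apply]

end Three

section Three'
variable (k : Type*) [CommRing k]

/-- The span of `1, e0e1, e0e2, e1e2`. -/
noncomputable def W : Submodule k (CliffordAlgebra (QuadGrp.splitForm k 3)) :=
  Submodule.span k {1, e k 0 * e k 1, e k 0 * e k 2, e k 1 * e k 2}

theorem W_mul' {x y : CliffordAlgebra (QuadGrp.splitForm k 3)} (hx : x ∈ W k) (hy : y ∈ W k) :
    x * y ∈ W k := by
  obtain ⟨r00, r11, r22, r10, r20, r21⟩ := rels k
  exact W_mul (e k 0) (e k 1) (e k 2) r00 r11 r22 r10 r20 r21 hx hy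

theorem pair_mem_W (m₁ m₂ : Fin 3 → k) :
    ι (QuadGrp.splitForm k 3) m₁ * ι (QuadGrp.splitForm k 3) m₂ ∈ W k := by
  obtain ⟨r00, r11, r22, r10, r20, r21⟩ := rels k
  have m1 : (1 : CliffordAlgebra (QuadGrp.splitForm k 3)) ∈ W k := Submodule.subset_span (by simp)
  have m01 : e k 0 * e k 1 ∈ W k := Submodule.subset_span (by simp)
  have m02 : e k 0 * e k 2 ∈ W k := Submodule.subset_span (by simp)
  have m12 : e k 1 * e k 2 ∈ W k := Submodule.subset_span (by simp)
  have m00 : e k 0 * e k 0 ∈ W k := by rw [r00]; exact m1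
  have m11 : e k 1 * e k 1 ∈ W k := by rw [r11]; exact Submodule.zero_mem _
  have m22 : e k 2 * e k 2 ∈ W k := by rw [r22]; exact Submodule.zero_mem _
  have m10 : e k 1 * e k 0 ∈ W k := by rw [r10]; exact Submodule.neg_mem _ m01
  have m20 : e k 2 * e k 0 ∈ W k := by rw [r20]; exact Submodule.neg_mem _ m02
  have m21 : e k 2 * e k 1 ∈ W k := by rw [r21]; exact Submodule.sub_mem _ m1 m12
  rw [ι_eq, ι_eq]
  simp only [add_mul, mul_add, smul_mul_assoc, mul_smul_comm]
  repeat first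
    | apply Submodule.add_mem
    | apply Submodule.smul_mem
    | assumption

theorem even_le_W : evenOdd (QuadGrp.splitForm k 3) 0 ≤ W k := by
  intro x hx
  refine even_induction (QuadGrp.splitForm k 3) (motive := fun x _ => x ∈ W k) ?_ ?_ ?_ x hx
  · intro r
    rw [Algebra.algebraMap_eq_smul_one]
    exact Submodule.smul_mem _ _ (Submodule.subset_span (by simp))
  · intro x y _ _ hx hy
    exact Submodule.add_mem _ hx hy
  · intro m₁ m₂ x _ hx
    exact W_mul' k (pair_mem_W k m₁ m₂) hx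

theorem mem_W_iff {x : CliffordAlgebra (QuadGrp.splitForm k 3)} (hx : x ∈ W k) :
    ∃ a b c d : k, x = a • 1 + (b • (e k 0 * e k 1) + (c • (e k 0 * e k 2) + d • (e k 1 * e k 2))) := by
  rw [W, Submodule.mem_span_insert] at hx
  obtain ⟨a, z, hz, rfl⟩ := hx
  rw [Submodule.mem_span_insert] at hz
  obtain ⟨b, z, hz, rfl⟩ := hz
  rw [Submodule.mem_span_insert] at hz
  obtain ⟨c, z, hz, rfl⟩ := hz
  rw [Submodule.mem_span_singleton] at hz
  obtain ⟨d, rfl⟩ := hz
  exact ⟨a, b, c, d, rfl⟩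

end Three'

section Fld
variable (k : Type*) [Field k]

/-- Over a field every even element of the rank three split Clifford algebra is `α + ι a ι b`. -/
theorem exists_decomp {x : CliffordAlgebra (QuadGrp.splitForm k 3)}
    (hx : x ∈ evenOdd (QuadGrp.splitForm k 3) 0) :
    ∃ (α : k) (a b : Fin 3 → k), x = algebraMap k _ α +
      ι (QuadGrp.splitForm k 3) a * ι (QuadGrp.splitForm k 3) b := by
  obtain ⟨r00, r11, r22, r10, r20, r21⟩ := rels k
  obtain ⟨a, b, c, d, rfl⟩ := mem_W_iff k (even_le_W k hx)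
  by_cases hd : d = 0
  · refine ⟨a, Pi.single 0 1, b • Pi.single 1 1 + c • Pi.single 2 1, ?_⟩
    subst hd
    rw [Algebra.algebraMap_eq_smul_one]
    simp only [map_add, map_smul, mul_add, mul_smul_comm, zero_smul, add_zero]
    rfl
  · obtain ⟨s, rfl⟩ : ∃ s, c = s * d := ⟨c / d, by field_simp⟩
    refine ⟨a + b * s, Pi.single 1 1 + s • Pi.single 0 1, d • Pi.single 2 1 - b • Pi.single 0 1, ?_⟩
    rw [Algebra.algebraMap_eq_smul_one]
    simp only [map_add, map_sub, map_smul]
    change _ = _ + (e k 1 + s • e k 0) * (d • e k 2 - b • e k 0)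
    simp only [add_mul, mul_sub, mul_smul_comm, smul_mul_assoc, r10, r00]
    module

end Fld

section Main
variable (k : Type*) [Field k]

theorem conj_mem_range (u : (CliffordAlgebra (QuadGrp.splitForm k 3))ˣ)
    (hu : u ∈ QuadGrp.evenUnits (QuadGrp.splitForm k 3)) (v : Fin 3 → k) :
    (u : CliffordAlgebra (QuadGrp.splitForm k 3)) * ι (QuadGrp.splitForm k 3) v *
      ((u⁻¹ : (CliffordAlgebra (QuadGrp.splitForm k 3))ˣ) : CliffordAlgebra (QuadGrp.splitForm k 3)) ∈
      LinearMap.range (ι (QuadGrp.splitForm k 3)) := by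
  obtain ⟨α, a, b, hx⟩ := exists_decomp k ((QuadGrp.mem_evenUnits _ u).1 hu)
  have hN := norm_eq (QuadGrp.splitForm k 3) α a b
  have hmem := conj_mem (QuadGrp.splitForm k 3) α v a b
  rw [← hx] at hN hmem
  set u' := algebraMap k (CliffordAlgebra (QuadGrp.splitForm k 3)) α +
    ι (QuadGrp.splitForm k 3) b * ι (QuadGrp.splitForm k 3) a with hu'
  set N := α * α + α * QuadraticMap.polar (QuadGrp.splitForm k 3) a b +
    (QuadGrp.splitForm k 3) a * (QuadGrp.splitForm k 3) b with hNdef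
  have hu'eq : u' = ↑u⁻¹ * (↑u * u') := by rw [← mul_assoc, Units.inv_mul, one_mul]
  by_cases hN0 : N = 0
  · have hu'0 : u' = 0 := by
      rw [hu'eq, hN, hN0, map_zero, mul_zero]
    have hsc : (u : CliffordAlgebra (QuadGrp.splitForm k 3)) =
        algebraMap k _ (2 * α + QuadraticMap.polar (QuadGrp.splitForm k 3) a b) := by
      have h3 := ι_mul_ι_add_swap (Q := QuadGrp.splitForm k 3) a b
      have h5 : ι (QuadGrp.splitForm k 3) a * ι (QuadGrp.splitForm k 3) b =
          algebraMap k _ (QuadraticMap.polar (QuadGrp.splitForm k 3) a b) -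
            ι (QuadGrp.splitForm k 3) b * ι (QuadGrp.splitForm k 3) a := eq_sub_of_add_eq h3
      have h4 : ι (QuadGrp.splitForm k 3) b * ι (QuadGrp.splitForm k 3) a =
          - algebraMap k (CliffordAlgebra (QuadGrp.splitForm k 3)) α := by
        have := hu'0
        rw [hu'] at this
        exact eq_neg_of_add_eq_zero_right this
      rw [hx, h5, h4]
      simp only [map_add, two_mul]
      abel
    rw [hsc, Algebra.commutes, mul_assoc, ← hsc, Units.mul_inv, mul_one]
    exact ⟨v, rfl⟩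
  · have h6 : u' = N • ((u⁻¹ : (CliffordAlgebra (QuadGrp.splitForm k 3))ˣ) :
        CliffordAlgebra (QuadGrp.splitForm k 3)) := by
      rw [hu'eq, hN, ← Algebra.commutes, Algebra.smul_def]
    have h7 : ((u⁻¹ : (CliffordAlgebra (QuadGrp.splitForm k 3))ˣ) :
        CliffordAlgebra (QuadGrp.splitForm k 3)) = N⁻¹ • u' := by
      rw [h6, smul_smul, inv_mul_cancel₀ hN0, one_smul]
    rw [h7, mul_smul_comm]
    exact Submodule.smul_mem _ _ hmem

theorem evenUnits_le_GPin' :
    QuadGrp.evenUnits (QuadGrp.splitForm k 3) ≤ QuadGrp.GPin' (QuadGrp.splitForm k 3) := by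
  intro u hu
  rw [QuadGrp.mem_GPin']
  apply le_antisymm
  · intro x hx
    rw [Submodule.mem_smul_pointwise_iff_exists] at hx
    obtain ⟨_, ⟨v, rfl⟩, rfl⟩ := hx
    rw [ConjAct.units_smul_def, ConjAct.ofConjAct_toConjAct]
    exact conj_mem_range k u hu v
  · intro x hx
    obtain ⟨v, rfl⟩ := hx
    have h1 : ConjAct.toConjAct u⁻¹ • ι (QuadGrp.splitForm k 3) v ∈
        LinearMap.range (ι (QuadGrp.splitForm k 3)) := by
      rw [ConjAct.units_smul_def, ConjAct.ofConjAct_toConjAct]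
      exact conj_mem_range k u⁻¹ (inv_mem hu) v
    have := Submodule.smul_mem_pointwise_smul _ (ConjAct.toConjAct u) _ h1
    rwa [smul_smul, ← map_mul, mul_inv_cancel, map_one, one_smul] at this

end Main

end Groth.Agent.Helper22.CliffThree
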