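import Mathlib.Algebra.Homology.Embedding.CochainComplex
import Mathlib.Algebra.Homology.Refinements
import Mathlib.Algebra.Homology.HomologicalComplexAbelian
import Mathlib.CategoryTheory.Abelian.Refinements

/-!
# The cocone (homotopy fibre) of a morphism of cochain complexes, concretely

Helper library (helper22): for `g : J ⟶ M` the complex `cc g` with terms `J.X k ⊞ M.X (k - 1)`,
and the fact that for a termwise short exact sequence `0 ⟶ C ⟶ J ⟶ C' ⟶ 0` and a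
quasi-isomorphism `c' : C' ⟶ M` the canonical map `C ⟶ cc (q ≫ c')` is a quasi-isomorphism.
-/

set_option autoImplicit false
universe v u
open CategoryTheory CategoryTheory.Limits

namespace Groth.Agent.Helper22.Cocone

variable {A : Type u} [Category.{v} A] [Abelian A]

/-- The identification `M.X k ≅ M.X (k + 1 - 1)`. -/
def sh (M : CochainComplex A ℤ) (k : ℤ) : M.X k ≅ M.X (k + 1 - 1) :=
  M.XIsoOfEq (by omega)

lemma sh_hom_d (M : CochainComplex A ℤ) (k l : ℤ) :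
    (sh M k).hom ≫ M.d (k + 1 - 1) l = M.d k l :=
  HomologicalComplex.XIsoOfEq_hom_comp_d M _ l

lemma d_sh_hom (M : CochainComplex A ℤ) (j k : ℤ) :
    M.d j k ≫ (sh M k).hom = M.d j (k + 1 - 1) :=
  HomologicalComplex.d_comp_XIsoOfEq_hom M _ j

lemma sh_inv_d (M : CochainComplex A ℤ) (k l : ℤ) :
    (sh M k).inv ≫ M.d k l = M.d (k + 1 - 1) l :=
  HomologicalComplex.XIsoOfEq_inv_comp_d M _ l

lemma d_sh_inv (M : CochainComplex A ℤ) (j k : ℤ) :
    M.d j (k + 1 - 1) ≫ (sh M k).inv = M.d j k :=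
  HomologicalComplex.d_comp_XIsoOfEq_inv M _ j

lemma lift_eta {X Y T : A} (b : T ⟶ X ⊞ Y) : b = biprod.lift (b ≫ biprod.fst) (b ≫ biprod.snd) := by
  apply biprod.hom_ext
  · rw [biprod.lift_fst]
  · rw [biprod.lift_snd]

lemma comp_lift' {X Y T T' : A} (π : T' ⟶ T) (x : T ⟶ X) (y : T ⟶ Y) :
    π ≫ biprod.lift x y = biprod.lift (π ≫ x) (π ≫ y) := by
  apply biprod.hom_ext
  · rw [Category.assoc, biprod.lift_fst, biprod.lift_fst]
  · rw [Category.assoc, biprod.lift_snd, biprod.lift_snd]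

lemma lift_add' {X Y T : A} (x x' : T ⟶ X) (y y' : T ⟶ Y) :
    biprod.lift x y + biprod.lift x' y' = biprod.lift (x + x') (y + y') := by
  apply biprod.hom_ext
  · rw [Preadditive.add_comp, biprod.lift_fst, biprod.lift_fst, biprod.lift_fst]
  · rw [Preadditive.add_comp, biprod.lift_snd, biprod.lift_snd, biprod.lift_snd]

variable {J M : CochainComplex A ℤ} (g : J ⟶ M)

/-- The differential of the cocone. -/
noncomputable def dcc (k : ℤ) : J.X k ⊞ M.X (k - 1) ⟶ J.X (k + 1) ⊞ M.X (k + 1 - 1) :=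
  biprod.desc (biprod.lift (J.d k (k + 1)) (g.f k ≫ (sh M k).hom))
    (biprod.lift 0 (-(M.d (k - 1) (k + 1 - 1))))

lemma lift_dcc (k : ℤ) {T : A} (x : T ⟶ J.X k) (y : T ⟶ M.X (k - 1)) :
    biprod.lift x y ≫ dcc g k = biprod.lift (x ≫ J.d k (k + 1))
      (x ≫ g.f k ≫ (sh M k).hom - y ≫ M.d (k - 1) (k + 1 - 1)) := by
  unfold dcc
  rw [biprod.lift_desc]
  apply biprod.hom_ext
  · rw [Preadditive.add_comp, Category.assoc, Category.assoc, biprod.lift_fst, biprod.lift_fst,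
      biprod.lift_fst, comp_zero, add_zero]
  · rw [Preadditive.add_comp, Category.assoc, Category.assoc, biprod.lift_snd, biprod.lift_snd,
      biprod.lift_snd, Preadditive.comp_neg]
    exact (sub_eq_add_neg _ _).symm

lemma gsh_d (k : ℤ) :
    (g.f k ≫ (sh M k).hom) ≫ M.d (k + 1 - 1) (k + 1 + 1 - 1) =
      J.d k (k + 1) ≫ g.f (k + 1) ≫ (sh M (k + 1)).hom := by
  rw [Category.assoc, sh_hom_d, ← Category.assoc, ← g.comm, Category.assoc, d_sh_hom]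

lemma dcc_sq (k : ℤ) : dcc g k ≫ dcc g (k + 1) = 0 := by
  apply biprod.hom_ext'
  · have e : (biprod.inl : J.X k ⟶ J.X k ⊞ M.X (k - 1)) = biprod.lift (𝟙 _) 0 := by
      apply biprod.hom_ext
      · rw [biprod.inl_fst, biprod.lift_fst]
      · rw [biprod.inl_snd, biprod.lift_snd]
    rw [e, ← Category.assoc, lift_dcc, lift_dcc, comp_zero]
    apply biprod.hom_ext
    · simp only [biprod.lift_fst, zero_comp, Category.id_comp, HomologicalComplex.d_comp_d]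
    · simp only [biprod.lift_snd, zero_comp, Category.id_comp, sub_zero]
      rw [gsh_d, sub_self]
  · have e : (biprod.inr : M.X (k - 1) ⟶ J.X k ⊞ M.X (k - 1)) = biprod.lift 0 (𝟙 _) := by
      apply biprod.hom_ext
      · rw [biprod.inr_fst, biprod.lift_fst]
      · rw [biprod.inr_snd, biprod.lift_snd]
    rw [e, ← Category.assoc, lift_dcc, lift_dcc, comp_zero]
    apply biprod.hom_ext
    · simp only [biprod.lift_fst, zero_comp]
    · simp only [biprod.lift_snd, zero_comp, Category.id_comp, zero_sub, Preadditive.neg_comp,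
        HomologicalComplex.d_comp_d, neg_zero]

/-- The cocone of `g`. -/
noncomputable def cc : CochainComplex A ℤ :=
  CochainComplex.of (fun k => J.X k ⊞ M.X (k - 1)) (dcc g) (dcc_sq g)

lemma cc_d (k : ℤ) : (cc g).d k (k + 1) = dcc g k := by
  show CochainComplex.of.d (fun k => J.X k ⊞ M.X (k - 1)) (dcc g) k (k + 1) = dcc g k
  exact CochainComplex.of_d _ _ k

variable {C : CochainComplex A ℤ} (ι : C ⟶ J) (h : ι ≫ g = 0)

/-- The canonical map into the cocone. -/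
noncomputable def ccMap : C ⟶ cc g where
  f k := biprod.lift (ι.f k) 0
  comm' i j hij := by
    have hij' : i + 1 = j := hij
    subst hij'
    rw [cc_d]
    show biprod.lift (ι.f i) 0 ≫ dcc g i = C.d i (i + 1) ≫ biprod.lift (ι.f (i + 1)) 0
    have h0 : ι.f i ≫ g.f i = 0 := congrArg (fun t : C ⟶ M => t.f i) h
    rw [lift_dcc, comp_lift', comp_zero, zero_comp, sub_zero, ← Category.assoc, h0, zero_comp,
      ι.comm]

lemma ccMap_f (k : ℤ) : (ccMap g ι h).f k = biprod.lift (ι.f k) 0 := rfl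

section Qis

variable {C J C' M : CochainComplex A ℤ} (ι : C ⟶ J) (q : J ⟶ C') (c' : C' ⟶ M)

lemma lift_ses (hq : ∀ k, Epi (q.f k))
    (hex : ∀ (k : ℤ) ⦃T : A⦄ (x : T ⟶ J.X k), x ≫ q.f k = 0 →
      ∃ (T' : A) (π : T' ⟶ T) (_ : Epi π) (c : T' ⟶ C.X k), π ≫ x = c ≫ ι.f k)
    (a b : ℤ) ⦃T : A⦄ (x : T ⟶ J.X b) (x₁ : T ⟶ C'.X a) (hx : x ≫ q.f b = x₁ ≫ C'.d a b) :
    ∃ (T' : A) (π : T' ⟶ T) (_ : Epi π) (z : T' ⟶ J.X a) (c : T' ⟶ C.X b),
      π ≫ x = z ≫ J.d a b + c ≫ ι.f b ∧ z ≫ q.f a = π ≫ x₁ := by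
  haveI := hq a
  obtain ⟨T₁, π₁, hπ₁, z, hz⟩ := surjective_up_to_refinements_of_epi (q.f a) x₁
  have hw : (π₁ ≫ x - z ≫ J.d a b) ≫ q.f b = 0 := by
    have e1 : (π₁ ≫ x) ≫ q.f b = z ≫ q.f a ≫ C'.d a b := by
      rw [Category.assoc, hx, ← Category.assoc, hz, Category.assoc]
    have e2 : (z ≫ J.d a b) ≫ q.f b = z ≫ q.f a ≫ C'.d a b := by
      rw [Category.assoc, ← q.comm]
    rw [Preadditive.sub_comp, e1, e2, sub_self]
  obtain ⟨T₂, π₂, hπ₂, c, hc⟩ := hex b (π₁ ≫ x - z ≫ J.d a b) hw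
  refine ⟨T₂, π₂ ≫ π₁, epi_comp _ _, π₂ ≫ z, c, ?_, ?_⟩
  · rw [← hc, Preadditive.comp_sub]
    simp only [Category.assoc]
    abel
  · simp only [Category.assoc]
    rw [hz]

theorem ccMap_mono (hι : ∀ k, Mono (ι.f k)) (hq : ∀ k, Epi (q.f k)) (hιq : ι ≫ q = 0)
    (hex : ∀ (k : ℤ) ⦃T : A⦄ (x : T ⟶ J.X k), x ≫ q.f k = 0 →
      ∃ (T' : A) (π : T' ⟶ T) (_ : Epi π) (c : T' ⟶ C.X k), π ≫ x = c ≫ ι.f k)
    [QuasiIso c'] (i : ℤ) ⦃T : A⦄ (x₂ : T ⟶ C.X (i + 1))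
    (b : T ⟶ J.X i ⊞ M.X (i - 1))
    (hb : x₂ ≫ biprod.lift (ι.f (i + 1)) 0 = b ≫ dcc (q ≫ c') i) :
    ∃ (T' : A) (π : T' ⟶ T) (_ : Epi π) (x₁ : T' ⟶ C.X i), π ≫ x₂ = x₁ ≫ C.d i (i + 1) := by
  have hιqf : ∀ k, ι.f k ≫ q.f k = 0 := fun k => congrArg (fun t : C ⟶ C' => t.f k) hιq
  rw [lift_eta b, lift_dcc] at hb
  have E1 : x₂ ≫ ι.f (i + 1) = b ≫ biprod.fst ≫ J.d i (i + 1) := by
    have := congrArg (fun t => t ≫ biprod.fst) hb
    simpa only [Category.assoc, biprod.lift_fst] using this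
  have E2 : b ≫ biprod.fst ≫ q.f i ≫ c'.f i = b ≫ biprod.snd ≫ M.d (i - 1) i := by
    have := congrArg (fun t => t ≫ biprod.snd) hb
    simp only [Category.assoc, biprod.lift_snd, comp_zero, HomologicalComplex.comp_f] at this
    have h2 := sub_eq_zero.1 this.symm
    have h3 := congrArg (fun t => t ≫ (sh M i).inv) h2
    simp only [Category.assoc, Iso.hom_inv_id, Category.comp_id, d_sh_inv] at h3
    exact h3
  have hc'm : Mono (HomologicalComplex.homologyMap c' i) := inferInstance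
  rw [HomologicalComplex.mono_homologyMap_iff_up_to_refinements c' (i - 1) i (i + 1)
    (by simp) (by simp)] at hc'm
  have hcyc : (b ≫ biprod.fst ≫ q.f i) ≫ C'.d i (i + 1) = 0 := by
    simp only [Category.assoc]
    rw [q.comm, reassoc_of% E1.symm, hιqf, comp_zero]
  obtain ⟨T₁, π₁, hπ₁, x₁, hx₁⟩ := hc'm (b ≫ biprod.fst ≫ q.f i) hcyc (b ≫ biprod.snd) (by
    simp only [Category.assoc]
    exact E2)
  obtain ⟨T₂, π₂, hπ₂, z, c₀, hz1, hz2⟩ := lift_ses ι q hq hex (i - 1) i (π₁ ≫ b ≫ biprod.fst) x₁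
    (by simpa only [Category.assoc] using hx₁)
  refine ⟨T₂, π₂ ≫ π₁, epi_comp _ _, c₀, ?_⟩
  haveI := hι (i + 1)
  rw [← cancel_mono (ι.f (i + 1))]
  have hfin : (π₂ ≫ π₁ ≫ b ≫ biprod.fst) ≫ J.d i (i + 1) = c₀ ≫ ι.f i ≫ J.d i (i + 1) := by
    rw [hz1, Preadditive.add_comp, Category.assoc, J.d_comp_d, comp_zero, zero_add, Category.assoc]
  calc ((π₂ ≫ π₁) ≫ x₂) ≫ ι.f (i + 1) = π₂ ≫ π₁ ≫ x₂ ≫ ι.f (i + 1) := by
        simp only [Category.assoc]
    _ = (π₂ ≫ π₁ ≫ b ≫ biprod.fst) ≫ J.d i (i + 1) := by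
        rw [E1]
        simp only [Category.assoc]
    _ = c₀ ≫ ι.f i ≫ J.d i (i + 1) := hfin
    _ = (c₀ ≫ C.d i (i + 1)) ≫ ι.f (i + 1) := by rw [Category.assoc, ι.comm]

theorem ccMap_epi (hι : ∀ k, Mono (ι.f k)) (hq : ∀ k, Epi (q.f k)) (hιq : ι ≫ q = 0)
    (hex : ∀ (k : ℤ) ⦃T : A⦄ (x : T ⟶ J.X k), x ≫ q.f k = 0 →
      ∃ (T' : A) (π : T' ⟶ T) (_ : Epi π) (c : T' ⟶ C.X k), π ≫ x = c ≫ ι.f k)
    [QuasiIso c'] (i : ℤ) ⦃T : A⦄ (b : T ⟶ J.X (i + 1) ⊞ M.X (i + 1 - 1))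
    (hb : b ≫ dcc (q ≫ c') (i + 1) = 0) :
    ∃ (T' : A) (π : T' ⟶ T) (_ : Epi π) (x₂ : T' ⟶ C.X (i + 1))
      (_ : x₂ ≫ C.d (i + 1) (i + 1 + 1) = 0) (y₁ : T' ⟶ J.X i ⊞ M.X (i - 1)),
      π ≫ b = x₂ ≫ biprod.lift (ι.f (i + 1)) 0 + y₁ ≫ dcc (q ≫ c') i := by
  have hιqf : ∀ k, ι.f k ≫ q.f k = 0 := fun k => congrArg (fun t : C ⟶ C' => t.f k) hιq
  have hιgf : ∀ k, ι.f k ≫ q.f k ≫ c'.f k = 0 := fun k => by
    rw [← Category.assoc, hιqf, zero_comp]
  rw [lift_eta b, lift_dcc] at hb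
  have F1 : b ≫ biprod.fst ≫ J.d (i + 1) (i + 1 + 1) = 0 := by
    have := congrArg (fun t => t ≫ biprod.fst) hb
    simpa only [Category.assoc, biprod.lift_fst, zero_comp] using this
  have F2 : b ≫ biprod.snd ≫ (sh M i).inv ≫ M.d i (i + 1) =
      b ≫ biprod.fst ≫ q.f (i + 1) ≫ c'.f (i + 1) := by
    have := congrArg (fun t => t ≫ biprod.snd) hb
    simp only [Category.assoc, biprod.lift_snd, zero_comp, HomologicalComplex.comp_f] at this
    have h2 := sub_eq_zero.1 this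
    have h3 := congrArg (fun t => t ≫ (sh M (i + 1)).inv) h2
    simp only [Category.assoc, Iso.hom_inv_id, Category.comp_id, d_sh_inv] at h3
    rw [h3, sh_inv_d]
  have hc'm : Mono (HomologicalComplex.homologyMap c' (i + 1)) := inferInstance
  rw [HomologicalComplex.mono_homologyMap_iff_up_to_refinements c' i (i + 1) (i + 1 + 1)
    (by simp) (by simp)] at hc'm
  have hcyc : (b ≫ biprod.fst ≫ q.f (i + 1)) ≫ C'.d (i + 1) (i + 1 + 1) = 0 := by
    simp only [Category.assoc]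
    rw [q.comm, reassoc_of% F1, zero_comp]
  obtain ⟨T₁, π₁, hπ₁, x₁, hx₁⟩ := hc'm (b ≫ biprod.fst ≫ q.f (i + 1)) hcyc
    (b ≫ biprod.snd ≫ (sh M i).inv) (by
      simp only [Category.assoc]
      exact F2.symm)
  obtain ⟨T₂, π₂, hπ₂, z, c, hz1, hz2⟩ := lift_ses ι q hq hex i (i + 1)
    (π₁ ≫ b ≫ biprod.fst) x₁ (by simpa only [Category.assoc] using hx₁)
  have hccyc : c ≫ C.d (i + 1) (i + 1 + 1) = 0 := by
    haveI := hι (i + 1 + 1)
    rw [← cancel_mono (ι.f (i + 1 + 1)), zero_comp, Category.assoc, ← ι.comm]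
    have e : c ≫ ι.f (i + 1) = π₂ ≫ π₁ ≫ b ≫ biprod.fst - z ≫ J.d i (i + 1) := by
      rw [hz1]
      abel
    rw [← Category.assoc, e, Preadditive.sub_comp]
    simp only [Category.assoc, F1, HomologicalComplex.d_comp_d, comp_zero, sub_zero]
  have hv : (π₂ ≫ π₁ ≫ b ≫ biprod.snd ≫ (sh M i).inv - z ≫ q.f i ≫ c'.f i) ≫ M.d i (i + 1) = 0 := by
    have t1 : π₂ ≫ π₁ ≫ b ≫ biprod.snd ≫ (sh M i).inv ≫ M.d i (i + 1) =
        z ≫ J.d i (i + 1) ≫ q.f (i + 1) ≫ c'.f (i + 1) := by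
      rw [F2]
      have := congrArg (fun t => t ≫ q.f (i + 1) ≫ c'.f (i + 1)) hz1
      simp only [Category.assoc, Preadditive.add_comp, hιgf, comp_zero, add_zero] at this
      exact this
    have t2 : z ≫ q.f i ≫ c'.f i ≫ M.d i (i + 1) =
        z ≫ J.d i (i + 1) ≫ q.f (i + 1) ≫ c'.f (i + 1) := by
      simp only [HomologicalComplex.Hom.comm, HomologicalComplex.Hom.comm_assoc]
    rw [Preadditive.sub_comp]
    simp only [Category.assoc]
    rw [t1, t2, sub_self]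
  have hc'e : Epi (HomologicalComplex.homologyMap c' i) := inferInstance
  rw [HomologicalComplex.epi_homologyMap_iff_up_to_refinements c' (i - 1) i (i + 1)
    (by simp) (by simp)] at hc'e
  obtain ⟨T₃, π₃, hπ₃, u', hu', w, hw⟩ := hc'e _ hv
  obtain ⟨T₄, π₄, hπ₄, u, c₁, hu1, hu2⟩ := lift_ses ι q hq hex i (i + 1)
    (0 : T₃ ⟶ J.X (i + 1)) u' (by rw [zero_comp, hu'])
  rw [comp_zero] at hu1
  have e₁ : c₁ ≫ ι.f (i + 1) = -(u ≫ J.d i (i + 1)) := eq_neg_of_add_eq_zero_right hu1.symm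
  have hc₁ : c₁ ≫ C.d (i + 1) (i + 1 + 1) = 0 := by
    haveI := hι (i + 1 + 1)
    rw [← cancel_mono (ι.f (i + 1 + 1)), zero_comp, Category.assoc, ← ι.comm, ← Category.assoc,
      e₁, Preadditive.neg_comp, Category.assoc, J.d_comp_d, comp_zero, neg_zero]
  refine ⟨T₄, π₄ ≫ π₃ ≫ π₂ ≫ π₁, inferInstance, π₄ ≫ π₃ ≫ c + c₁, ?_,
    biprod.lift (π₄ ≫ π₃ ≫ z + u) (-(π₄ ≫ w)), ?_⟩
  · rw [Preadditive.add_comp, hc₁, add_zero]
    simp only [Category.assoc, hccyc, comp_zero]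
  · rw [lift_dcc]
    apply biprod.hom_ext
    · simp only [Category.assoc, Preadditive.add_comp, biprod.lift_fst]
      have h1 := congrArg (fun t => π₄ ≫ π₃ ≫ t) hz1
      simp only [Preadditive.comp_add] at h1
      rw [h1, e₁]
      abel
    · simp only [Category.assoc, Preadditive.add_comp, biprod.lift_snd, comp_zero, zero_add,
        HomologicalComplex.comp_f]
      have h2 := congrArg (fun t => π₄ ≫ t ≫ (sh M i).hom) hw
      simp only [Category.assoc, Preadditive.comp_sub, Preadditive.sub_comp, Preadditive.comp_add,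
        Preadditive.add_comp, Iso.inv_hom_id, Category.comp_id, d_sh_hom] at h2
      rw [← reassoc_of% hu2, sub_eq_iff_eq_add] at h2
      rw [h2, Preadditive.neg_comp, sub_neg_eq_add]
      simp only [Category.assoc]
      abel

theorem ccMap_qis (hι : ∀ k, Mono (ι.f k)) (hq : ∀ k, Epi (q.f k)) (hιq : ι ≫ q = 0)
    (hex : ∀ (k : ℤ) ⦃T : A⦄ (x : T ⟶ J.X k), x ≫ q.f k = 0 →
      ∃ (T' : A) (π : T' ⟶ T) (_ : Epi π) (c : T' ⟶ C.X k), π ≫ x = c ≫ ι.f k)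
    [QuasiIso c'] (hg : ι ≫ (q ≫ c') = 0) : QuasiIso (ccMap (q ≫ c') ι hg) := by
  rw [quasiIso_iff]
  intro n
  obtain ⟨i, rfl⟩ : ∃ i : ℤ, n = i + 1 := ⟨n - 1, by omega⟩
  rw [quasiIsoAt_iff_isIso_homologyMap]
  have hmono : Mono (HomologicalComplex.homologyMap (ccMap (q ≫ c') ι hg) (i + 1)) := by
    rw [HomologicalComplex.mono_homologyMap_iff_up_to_refinements _ i (i + 1) (i + 1 + 1)
      (by simp) (by simp)]
    intro T (x₂ : T ⟶ C.X (i + 1)) hx₂ (b : T ⟶ J.X i ⊞ M.X (i - 1)) hb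
    refine ccMap_mono ι q c' hι hq hιq hex i x₂ b ?_
    rw [← cc_d]
    exact hb
  have hepi : Epi (HomologicalComplex.homologyMap (ccMap (q ≫ c') ι hg) (i + 1)) := by
    rw [HomologicalComplex.epi_homologyMap_iff_up_to_refinements _ i (i + 1) (i + 1 + 1)
      (by simp) (by simp)]
    intro T (b : T ⟶ J.X (i + 1) ⊞ M.X (i + 1 - 1)) hb
    obtain ⟨T', π, hπ, x₂, hx₂, y₁, hy⟩ := ccMap_epi ι q c' hι hq hιq hex i b (by
      rw [← cc_d]
      exact hb)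
    refine ⟨T', π, hπ, x₂, hx₂, y₁, ?_⟩
    rw [cc_d]
    exact hy
  exact isIso_of_mono_of_epi _

end Qis

end Groth.Agent.Helper22.Cocone
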