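import Mathlib.AlgebraicGeometry.Morphisms.QuasiSeparated
import Mathlib.AlgebraicGeometry.Morphisms.Separated
import Mathlib.AlgebraicGeometry.Limits
import Mathlib.AlgebraicGeometry.Morphisms.ClosedImmersion
import Mathlib.Topology.KrullDimension
import Mathlib.RingTheory.Spectrum.Prime.ConstructibleSet

/-!
Helper lemmas on schemes of dimension `≤ 0`.
-/

namespace Groth.Agent.Helper22

open AlgebraicGeometry CategoryTheory TopologicalSpace

universe u

theorem eq_of_specializes_of_dim_le_zero {X : Type*} [TopologicalSpace X] [T0Space X]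
    (h : topologicalKrullDim X ≤ 0) {x y : X} (hxy : x ⤳ y) : x = y := by
  by_contra hne
  have hle : closure ({y} : Set X) ⊆ closure {x} := hxy.closure_subset
  let cx : IrreducibleCloseds X := ⟨closure {x}, isIrreducible_singleton.closure, isClosed_closure⟩
  let cy : IrreducibleCloseds X := ⟨closure {y}, isIrreducible_singleton.closure, isClosed_closure⟩
  have hlt : cy < cx := by
    refine lt_of_le_of_ne hle ?_
    intro heq
    have h1 : closure ({y} : Set X) = closure {x} := congrArg (fun c => c.carrier) heq
    have hyx : y ⤳ x := by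
      rw [specializes_iff_closure_subset, h1]
    exact hne ((hxy.antisymm hyx).eq)
  have : (1 : WithBot ℕ∞) ≤ topologicalKrullDim X :=
    Order.one_le_krullDim_iff.mpr ⟨cy, cx, hlt⟩
  have h2 := this.trans h
  exact absurd h2 (by decide)

/-- In a quasi-separated scheme with no nontrivial specializations, if `V` is an affine open and `W`
a quasi-compact open, then `V \ W` is open. -/
theorem isOpen_diff_of_isAffineOpen (X : Scheme.{u}) [QuasiSeparatedSpace X]
    (hsp : ∀ x y : X, x ⤳ y → x = y) {V : X.Opens} (hV : IsAffineOpen V) {W : Set X}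
    (hWo : IsOpen W) (hWc : IsCompact W) : IsOpen ((V : Set X) \ W) := by
  set s : Set (Spec Γ(X, V)) := hV.fromSpec.base ⁻¹' W with hs
  have hso : IsOpen s := hWo.preimage hV.fromSpec.continuous
  have hsc : IsCompact s := by
    have h1 : IsCompact ((V : Set X) ∩ W) := hV.isCompact.inter_of_isOpen hWc V.2 hWo
    have h2 : s = hV.fromSpec.base ⁻¹' ((V : Set X) ∩ W) := by
      ext z
      simp only [hs, Set.mem_preimage, Set.mem_inter_iff, iff_and_self]
      intro _
      have : hV.fromSpec.base z ∈ Set.range hV.fromSpec.base := ⟨z, rfl⟩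
      rwa [hV.range_fromSpec] at this
    rw [h2]
    apply hV.fromSpec.isOpenEmbedding.isInducing.isCompact_preimage'  h1
    rw [hV.range_fromSpec]
    exact Set.inter_subset_left
  have hcons : Topology.IsConstructible s := hsc.isConstructible hso
  have hstab : StableUnderSpecialization s := by
    intro a b hab ha
    have := hsp _ _ (hab.map hV.fromSpec.continuous)
    have hab' : a = b := hV.fromSpec.isOpenEmbedding.injective this
    rwa [← hab']
  have hclosed : IsClosed s :=
    PrimeSpectrum.isClosed_of_stableUnderSpecialization_of_isConstructible hstab hcons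
  have himg : (V : Set X) \ W = hV.fromSpec.base '' sᶜ := by
    ext z
    constructor
    · rintro ⟨hzV, hzW⟩
      have : z ∈ Set.range hV.fromSpec.base := by rw [hV.range_fromSpec]; exact hzV
      obtain ⟨a, rfl⟩ := this
      exact ⟨a, hzW, rfl⟩
    · rintro ⟨a, ha, rfl⟩
      refine ⟨?_, ha⟩
      have : hV.fromSpec.base a ∈ Set.range hV.fromSpec.base := ⟨a, rfl⟩
      rwa [hV.range_fromSpec] at this
  rw [himg]
  exact hV.fromSpec.isOpenEmbedding.isOpenMap _ hclosed.isOpen_compl

/-- Affine opens are closed in a quasi-separated scheme without nontrivial specializations. -/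
theorem isClosed_of_isAffineOpen (X : Scheme.{u}) [QuasiSeparatedSpace X]
    (hsp : ∀ x y : X, x ⤳ y → x = y) {U : X.Opens} (hU : IsAffineOpen U) :
    IsClosed (U : Set X) := by
  rw [← isOpen_compl_iff, isOpen_iff_forall_mem_open]
  intro z hz
  obtain ⟨_, ⟨V, hV, rfl⟩, hzV, -⟩ :=
    X.isBasis_affineOpens.exists_subset_of_mem_open (Set.mem_univ z) isOpen_univ
  exact ⟨(V : Set X) \ U, fun a ha => ha.2,
    isOpen_diff_of_isAffineOpen X hsp hV U.2 hU.isCompact, hzV, hz⟩

end Groth.Agent.Helper22

namespace Groth.Agent.Helper22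

open AlgebraicGeometry CategoryTheory TopologicalSpace

universe u

theorem totallySeparatedSpace_of_dim_le_zero (X : Scheme.{u}) [QuasiSeparatedSpace X]
    (h : topologicalKrullDim X ≤ 0) : TotallySeparatedSpace X := by
  have hsp : ∀ x y : X, x ⤳ y → x = y := fun x y hxy => eq_of_specializes_of_dim_le_zero h hxy
  rw [totallySeparatedSpace_iff_exists_isClopen]
  intro x y hxy
  have hns : ¬ y ⤳ x := fun h' => hxy (hsp _ _ h').symm
  rw [specializes_iff_forall_open] at hns
  push_neg at hns
  obtain ⟨W, hWo, hxW, hyW⟩ := hns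
  obtain ⟨_, ⟨U, hU, rfl⟩, hxU, hUW⟩ :=
    X.isBasis_affineOpens.exists_subset_of_mem_open hxW hWo
  exact ⟨U, ⟨isClosed_of_isAffineOpen X hsp hU, U.2⟩, hxU, fun hyU => hyW (hUW hyU)⟩

end Groth.Agent.Helper22

namespace Groth.Agent.Helper22

open AlgebraicGeometry CategoryTheory TopologicalSpace

universe u

/-- An open subset of an affine open which is closed is again affine. -/
theorem isAffineOpen_of_le_of_isClosed {X : Scheme.{u}} {U W : X.Opens} (hU : IsAffineOpen U)
    (hWU : W ≤ U) (hW : IsClosed (W : Set X)) : IsAffineOpen W := by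
  have : IsAffine U.toScheme := hU
  have hcl : IsClosedImmersion (X.homOfLE hWU) := by
    apply IsClosedImmersion.of_isPreimmersion
    have hrange : Set.range (X.homOfLE hWU) = U.ι ⁻¹' (W : Set X) := by
      ext x
      constructor
      · rintro ⟨y, rfl⟩
        have h2 : ((X.homOfLE hWU) y).1 = y.1 := Scheme.homOfLE_apply hWU y
        show ((X.homOfLE hWU) y).1 ∈ W
        rw [h2]; exact y.2
      · intro hxW
        exact ⟨⟨x.1, hxW⟩, Scheme.homOfLE_apply' _ _ _⟩
    rw [hrange]
    exact hW.preimage U.ι.continuous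
  exact isAffine_of_isAffineHom (X.homOfLE hWU)

/-- In a quasi-separated scheme with no nontrivial specializations, every quasi-compact open is
affine. -/
theorem isAffineOpen_of_isCompact_of_specializes_eq (X : Scheme.{u}) [QuasiSeparatedSpace X]
    (hsp : ∀ x y : X, x ⤳ y → x = y) (U : X.Opens) (hU : IsCompact (U : Set X)) :
    IsAffineOpen U := by
  refine compact_open_induction_on (P := fun U => IsAffineOpen U) U hU ?_ ?_
  · exact isAffineOpen_bot X
  · intro S hS V hSaff
    have hScl : IsClosed (S : Set X) := isClosed_of_isAffineOpen X hsp hSaff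
    have hVcl : IsClosed (V.1 : Set X) := isClosed_of_isAffineOpen X hsp V.2
    let W : X.Opens := ⟨(V.1 : Set X) \ S, V.1.2.sdiff hScl⟩
    have hWcl : IsClosed (W : Set X) := hVcl.sdiff S.2
    have hWaff : IsAffineOpen W := isAffineOpen_of_le_of_isClosed V.2 (fun x hx => hx.1) hWcl
    have hdisj : Disjoint S W := by
      rw [← Opens.coe_disjoint]
      exact Set.disjoint_sdiff_right
    have heq : S ⊔ V.1 = S ⊔ W := by
      ext x
      simp only [Opens.coe_sup, Set.mem_union, SetLike.mem_coe, W, Opens.coe_mk, Set.mem_diff]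
      tauto
    rw [heq]
    exact hSaff.sup_of_disjoint hWaff hdisj

end Groth.Agent.Helper22
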