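import Groth.Agent.Lib.Helper22.PostEquiv
import Mathlib

set_option autoImplicit false
set_option backward.isDefEq.respectTransparency false
set_option backward.isDefEq.respectTransparency.types false

namespace Groth.Agent.Helper22.EquivComp

open CategoryTheory FibCat Groth.Agent.Helper22.PostEquiv

universe v₂ u₂ v₃ u₃ v₄ u₄ v u

section
variable {C : Type u} [Category.{v} C]

lemma lift_id_congr {X : Type u₂} [Category.{v₂} X] (p : X ⥤ C) {a b : X} (χ : a ⟶ b) {T T' : C}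
    (e : T = T') (h : p.IsHomLift (𝟙 T) χ) : p.IsHomLift (𝟙 T') χ := by
  subst e
  exact h

variable {𝒳 : BasedCategory.{v₂, u₂} C} {𝒴 : BasedCategory.{v₃, u₃} C}
  {𝒵 : BasedCategory.{v₄, u₄} C}

/-- the composite of two quasi-inverse pairs is a quasi-inverse pair (one of the two
isomorphisms). -/
def compIso (F : 𝒳 ⥤ᵇ 𝒴) (G : 𝒴 ⥤ᵇ 𝒳) (F' : 𝒴 ⥤ᵇ 𝒵) (G' : 𝒵 ⥤ᵇ 𝒴)
    (e₁ : BasedFunctor.comp F G ≅ BasedFunctor.id 𝒳)
    (e₁' : BasedFunctor.comp F' G' ≅ BasedFunctor.id 𝒴) :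
    BasedFunctor.comp (BasedFunctor.comp F F') (BasedFunctor.comp G' G) ≅ BasedFunctor.id 𝒳 :=
  BasedNatIso.mkNatIso
    (NatIso.ofComponents
      (fun x => G.toFunctor.mapIso (appIso e₁' (F.obj x)) ≪≫ appIso e₁ x) (by
      intro x x' k
      have n1 : G'.map (F'.map (F.map k)) ≫ e₁'.hom.toNatTrans.app (F.obj x') =
          e₁'.hom.toNatTrans.app (F.obj x) ≫ F.map k :=
        e₁'.hom.toNatTrans.naturality (F.map k)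
      have n2 : G.map (F.map k) ≫ e₁.hom.toNatTrans.app x' = e₁.hom.toNatTrans.app x ≫ k :=
        e₁.hom.toNatTrans.naturality k
      show G.map (G'.map (F'.map (F.map k))) ≫
          (G.map (e₁'.hom.toNatTrans.app (F.obj x')) ≫ e₁.hom.toNatTrans.app x') =
        (G.map (e₁'.hom.toNatTrans.app (F.obj x)) ≫ e₁.hom.toNatTrans.app x) ≫ k
      rw [← Category.assoc, ← G.toFunctor.map_comp, n1, G.toFunctor.map_comp, Category.assoc, n2,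
        Category.assoc]))
    (fun x => by
      have h1 : 𝒴.p.IsHomLift (𝟙 (𝒴.p.obj (F.obj x))) (e₁'.hom.toNatTrans.app (F.obj x)) :=
        e₁'.hom.isHomLift' (F.obj x)
      haveI := h1
      haveI h2 : 𝒳.p.IsHomLift (𝟙 (𝒴.p.obj (F.obj x)))
          (G.map (e₁'.hom.toNatTrans.app (F.obj x))) := inferInstance
      haveI h3 : 𝒳.p.IsHomLift (𝟙 (𝒳.p.obj x)) (e₁.hom.toNatTrans.app x) := e₁.hom.isHomLift' x
      exact IsHomLift.comp_lift_id_left' 𝒳.p (𝒴.p.obj (F.obj x))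
        (G.map (e₁'.hom.toNatTrans.app (F.obj x))) (𝟙 (𝒳.p.obj x)) (e₁.hom.toNatTrans.app x))

lemma isEquivOver_symm {F : 𝒳 ⥤ᵇ 𝒴} {G : 𝒴 ⥤ᵇ 𝒳}
    (e₁ : BasedFunctor.comp F G ≅ BasedFunctor.id 𝒳)
    (e₂ : BasedFunctor.comp G F ≅ BasedFunctor.id 𝒴) : FibCat.IsEquivOver G :=
  ⟨F, ⟨e₂⟩, ⟨e₁⟩⟩

lemma isEquivOver_comp (F : 𝒳 ⥤ᵇ 𝒴) (F' : 𝒴 ⥤ᵇ 𝒵) (hF : FibCat.IsEquivOver F)
    (hF' : FibCat.IsEquivOver F') : FibCat.IsEquivOver (BasedFunctor.comp F F') := by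
  obtain ⟨G, ⟨e₁⟩, ⟨e₂⟩⟩ := hF
  obtain ⟨G', ⟨e₁'⟩, ⟨e₂'⟩⟩ := hF'
  exact ⟨BasedFunctor.comp G' G, ⟨compIso F G F' G' e₁ e₁'⟩, ⟨compIso G' F' G F e₂' e₂⟩⟩

lemma isRepresentable_of_equiv (Φ : 𝒳 ⥤ᵇ 𝒴) (hΦ : FibCat.IsEquivOver Φ)
    (h : FibCat.IsRepresentable 𝒳) : FibCat.IsRepresentable 𝒴 := by
  obtain ⟨W, E, hE⟩ := h
  obtain ⟨Ψ, ⟨e₁⟩, ⟨e₂⟩⟩ := hΦ
  exact ⟨W, BasedFunctor.comp Ψ E, isEquivOver_comp Ψ E ⟨Φ, ⟨e₂⟩, ⟨e₁⟩⟩ hE⟩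

end

end Groth.Agent.Helper22.EquivComp
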