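import Mathlib
import Groth.Prelude.Def_SchFin2

set_option autoImplicit false
set_option backward.isDefEq.respectTransparency false
set_option backward.isDefEq.respectTransparency.types false

open TensorProduct

namespace Groth.Agent.Helper22.FEtAlg

universe u

/-! ### kernel of a finite projective algebra map is generated by an idempotent -/

theorem ker_algebraMap_eq_span_idem (A B : Type u) [CommRing A] [CommRing B] [Algebra A B]
    [Module.Finite A B] [Module.Projective A B] :
    ∃ e : A, IsIdempotentElem e ∧ RingHom.ker (algebraMap A B) = Ideal.span {e} := by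
  obtain ⟨s, hs⟩ := (Module.projective_def (R := A) (P := B)).1 inferInstance
  let I : Ideal A := RingHom.ker (algebraMap A B)
  let T : Ideal A := Ideal.span (Set.range fun pq : B × B => s pq.1 pq.2)
  have h1 : (⊤ : Submodule A B) ≤ T • (⊤ : Submodule A B) := by
    intro b _
    have hb : b = Finsupp.linearCombination A id (s b) := (hs b).symm
    rw [hb, Finsupp.linearCombination_apply]
    refine Submodule.sum_mem _ (fun q _ => ?_)
    exact Submodule.smul_mem_smul (Ideal.subset_span ⟨(b, q), rfl⟩) Submodule.mem_top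
  obtain ⟨r, hr1, hr2⟩ := Submodule.exists_sub_one_mem_and_smul_eq_zero_of_fg_of_le_smul T
    (⊤ : Submodule A B) Module.Finite.fg_top h1
  have hrI : r ∈ I := by
    have := hr2 1 Submodule.mem_top
    rw [Algebra.smul_def, mul_one] at this
    exact this
  have hT : ∀ t ∈ T, ∀ a ∈ I, a * t = 0 := by
    intro t ht
    refine Submodule.span_induction (p := fun t _ => ∀ a ∈ I, a * t = 0) ?_ ?_ ?_ ?_ ht
    · rintro _ ⟨⟨p, q⟩, rfl⟩ a ha
      have ha' : algebraMap A B a = 0 := ha
      have h0 : a • p = 0 := by rw [Algebra.smul_def, ha', zero_mul]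
      have : a * (s p) q = (s (a • p)) q := by
        rw [map_smul, Finsupp.smul_apply, smul_eq_mul]
      rw [this, h0, map_zero, Finsupp.zero_apply]
    · intro a _; exact mul_zero a
    · intro x y _ _ hx hy a ha; rw [mul_add, hx a ha, hy a ha, add_zero]
    · intro c x _ hx a ha; rw [smul_eq_mul, mul_left_comm, hx a ha, mul_zero]
  have ht : (1 - r) ∈ T := by
    have : -(r - 1) ∈ T := T.neg_mem hr1
    rwa [neg_sub] at this
  have hrr : r * (1 - r) = 0 := hT _ ht r hrI
  have hidem : IsIdempotentElem r := by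
    have : r * r = r := by
      have h2 : r * (1 - r) = r - r * r := by rw [mul_sub, mul_one]
      rw [h2] at hrr
      exact (sub_eq_zero.1 hrr).symm
    exact this
  refine ⟨r, hidem, le_antisymm ?_ ?_⟩
  · intro a ha
    have h3 : a * (1 - r) = 0 := hT _ ht a ha
    have h4 : a = a * r := by
      have : a * (1 - r) = a - a * r := by rw [mul_sub, mul_one]
      rw [this] at h3
      exact sub_eq_zero.1 h3
    rw [h4]
    exact Ideal.mul_mem_left _ _ (Ideal.subset_span rfl)
  · rw [Ideal.span_le]
    rintro _ rfl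
    exact hrI

theorem ker_algHom_eq_span_idem {R A B : Type u} [CommRing R] [CommRing A] [CommRing B]
    [Algebra R A] [Algebra R B] [Algebra.Etale R A] [Algebra.Etale R B] [Module.Finite R B]
    (f : A →ₐ[R] B) :
    ∃ e : A, IsIdempotentElem e ∧ ∀ a : A, f a = 0 ↔ a ∈ Ideal.span {e} := by
  letI : Algebra A B := f.toRingHom.toAlgebra
  haveI : IsScalarTower R A B := IsScalarTower.of_algebraMap_eq (fun r => (f.commutes r).symm)
  haveI : Algebra.Etale A B := Algebra.Etale.of_restrictScalars (R := R) (A := A) (B := B)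
  haveI : Module.Finite A B := Module.Finite.of_restrictScalars_finite R A B
  haveI : Module.FinitePresentation A B :=
    Module.FinitePresentation.of_finite_of_finitePresentation A B
  haveI : Module.Flat A B := inferInstance
  haveI : Module.Projective A B := Module.Flat.projective_of_finitePresentation
  obtain ⟨e, he, hk⟩ := ker_algebraMap_eq_span_idem A B
  refine ⟨e, he, fun a => ?_⟩
  rw [← hk]
  exact Iff.rfl

theorem idem_eq_of_span {A : Type u} [CommRing A] {x y : A} (hx : IsIdempotentElem x)
    (hy : IsIdempotentElem y) (h1 : x ∈ Ideal.span {y}) (h2 : y ∈ Ideal.span {x}) : x = y := by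
  obtain ⟨a, ha⟩ := Ideal.mem_span_singleton'.1 h1
  obtain ⟨b, hb⟩ := Ideal.mem_span_singleton'.1 h2
  have e1 : x * y = x := by rw [← ha, mul_assoc, hy.eq]
  have e2 : y * x = y := by rw [← hb, mul_assoc, hx.eq]
  rw [← e1, mul_comm, e2]

/-! ### base change lemmas for `IsBaseChange` -/

section BC

variable {R S : Type u} [CommRing R] [CommRing S] [Algebra R S]

theorem isBaseChange_of_surj {M N Mq Nq : Type u}
    [AddCommGroup M] [AddCommGroup N] [AddCommGroup Mq] [AddCommGroup Nq]
    [Module R M] [Module R N] [Module S N] [IsScalarTower R S N]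
    [Module R Mq] [Module R Nq] [Module S Nq] [IsScalarTower R S Nq]
    (f : M →ₗ[R] N) (hf : IsBaseChange S f)
    (πM : M →ₗ[R] Mq) (hπM : Function.Surjective πM)
    (πN : N →ₗ[S] Nq) (hπN : Function.Surjective πN)
    (fq : Mq →ₗ[R] Nq) (hfq : ∀ m, fq (πM m) = πN (f m))
    (hK : ∀ n, πN n = 0 → n ∈ Submodule.span S (f '' {m | πM m = 0})) :
    IsBaseChange S fq := by
  apply IsBaseChange.of_lift_unique
  intro Q _ _ _ _ g
  let g0 : N →ₗ[S] Q := hf.lift (g.comp πM)
  have hg0 : ∀ m, g0 (f m) = g (πM m) := fun m => hf.lift_eq _ m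
  have hker : LinearMap.ker πN ≤ LinearMap.ker g0 := by
    intro n hn
    have hn' := hK n hn
    refine (Submodule.span_le.2 ?_) hn'
    rintro _ ⟨m, hm, rfl⟩
    show g0 (f m) = 0
    rw [hg0, show πM m = 0 from hm, map_zero]
  have hconst : ∀ n n', πN n = πN n' → g0 n = g0 n' := by
    intro n n' h
    have hk : n - n' ∈ LinearMap.ker πN := by rw [LinearMap.mem_ker, map_sub, h, sub_self]
    have h0 : g0 (n - n') = 0 := LinearMap.mem_ker.1 (hker hk)
    calc g0 n = g0 ((n - n') + n') := by rw [sub_add_cancel]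
      _ = g0 (n - n') + g0 n' := map_add _ _ _
      _ = g0 n' := by rw [h0, zero_add]
  let sec : Nq → N := fun y => Classical.choose (hπN y)
  have hsec : ∀ y, πN (sec y) = y := fun y => Classical.choose_spec (hπN y)
  let gb : Nq →ₗ[S] Q :=
    { toFun := fun y => g0 (sec y)
      map_add' := fun y y' => by
        show g0 (sec (y + y')) = g0 (sec y) + g0 (sec y')
        rw [← map_add]
        apply hconst
        rw [map_add, hsec, hsec, hsec]
      map_smul' := fun s y => by
        show g0 (sec (s • y)) = s • g0 (sec y)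
        rw [← map_smul]
        apply hconst
        rw [map_smul, hsec, hsec] }
  have hgb : ∀ n, gb (πN n) = g0 n := fun n => hconst _ _ (hsec _)
  refine ⟨gb, ?_, ?_⟩
  · apply LinearMap.ext
    intro x
    obtain ⟨m, rfl⟩ := hπM x
    show gb (fq (πM m)) = g (πM m)
    rw [hfq, hgb, hg0]
  · intro g' hg'
    apply LinearMap.ext
    intro y
    obtain ⟨n, rfl⟩ := hπN y
    rw [hgb]
    have h2 : g'.comp πN = g0 := hf.algHom_ext _ _ (fun m => by
      show g' (πN (f m)) = g0 (f m)
      rw [← hfq, hg0]
      exact LinearMap.congr_fun hg' (πM m))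
    exact LinearMap.congr_fun h2 n

theorem isBaseChange_prod {M N M' N' P : Type u}
    [AddCommGroup M] [AddCommGroup N] [AddCommGroup M'] [AddCommGroup N'] [AddCommGroup P]
    [Module R M] [Module R N] [Module S N] [IsScalarTower R S N]
    [Module R M'] [Module R N'] [Module S N'] [IsScalarTower R S N']
    [Module R P] [Module S P] [IsScalarTower R S P]
    (f : M →ₗ[R] N) (hf : IsBaseChange S f) (f' : M' →ₗ[R] N') (hf' : IsBaseChange S f')
    (e : P ≃ₗ[S] N × N')
    (F : (M × M') →ₗ[R] P) (hF : ∀ x, e (F x) = (f x.1, f' x.2)) :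
    IsBaseChange S F := by
  apply IsBaseChange.of_lift_unique
  intro Q _ _ _ _ h
  let g1 : N →ₗ[S] Q := hf.lift (h.comp (LinearMap.inl R M M'))
  let g2 : N' →ₗ[S] Q := hf'.lift (h.comp (LinearMap.inr R M M'))
  have hg1 : ∀ m, g1 (f m) = h (m, 0) := fun m => hf.lift_eq _ m
  have hg2 : ∀ m, g2 (f' m) = h (0, m) := fun m => hf'.lift_eq _ m
  let el : P →ₗ[S] N × N' := e.toLinearMap
  let G : P →ₗ[S] Q := (g1.coprod g2).comp el
  refine ⟨G, ?_, ?_⟩
  · apply LinearMap.ext
    rintro ⟨m, m'⟩
    show (g1.coprod g2) (e (F (m, m'))) = h (m, m')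
    rw [hF, LinearMap.coprod_apply, hg1, hg2, ← map_add, Prod.mk_add_mk, add_zero, zero_add]
  · intro g' hg'
    let es : N × N' →ₗ[S] P := e.symm.toLinearMap
    let g'' : N × N' →ₗ[S] Q := g'.comp es
    have hF1 : ∀ m, e.symm (f m, 0) = F (m, 0) := by
      intro m
      rw [LinearEquiv.symm_apply_eq, hF]
      show (f m, 0) = (f m, f' 0)
      rw [map_zero]
    have hF2 : ∀ m, e.symm (0, f' m) = F (0, m) := by
      intro m
      rw [LinearEquiv.symm_apply_eq, hF]
      show (0, f' m) = (f 0, f' m)
      rw [map_zero]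
    have e1 : g''.comp (LinearMap.inl S N N') = g1 := hf.algHom_ext _ _ (fun m => by
      show g' (e.symm (f m, 0)) = g1 (f m)
      rw [hg1, hF1]
      exact LinearMap.congr_fun hg' (m, 0))
    have e2 : g''.comp (LinearMap.inr S N N') = g2 := hf'.algHom_ext _ _ (fun m => by
      show g' (e.symm (0, f' m)) = g2 (f' m)
      rw [hg2, hF2]
      exact LinearMap.congr_fun hg' (0, m))
    apply LinearMap.ext
    intro y
    show g' y = (g1.coprod g2) (e y)
    obtain ⟨⟨n, n'⟩, rfl⟩ := e.symm.surjective y
    rw [LinearEquiv.apply_symm_apply, LinearMap.coprod_apply, ← e1, ← e2]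
    show g' (e.symm (n, n')) = g' (e.symm (n, 0)) + g' (e.symm (0, n'))
    rw [← map_add, ← map_add, Prod.mk_add_mk, add_zero, zero_add]

theorem ker_le_span_of_flat [Module.Flat R S] {M N M' N' : Type u}
    [AddCommGroup M] [AddCommGroup N] [AddCommGroup M'] [AddCommGroup N']
    [Module R M] [Module R N] [Module S N] [IsScalarTower R S N]
    [Module R M'] [Module R N'] [Module S N'] [IsScalarTower R S N']
    (ρ : M →ₗ[R] N) (hρ : IsBaseChange S ρ) (ρ' : M' →ₗ[R] N') (hρ' : IsBaseChange S ρ')
    (φ : M →ₗ[R] M') (ψ : N →ₗ[S] N') (hcomm : ∀ m, ψ (ρ m) = ρ' (φ m))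
    (x : N) (hx : ψ x = 0) :
    x ∈ Submodule.span S (ρ '' {m | φ m = 0}) := by
  have h1 : ∀ t : S ⊗[R] M, hρ'.equiv (φ.lTensor S t) = ψ (hρ.equiv t) := by
    intro t
    induction t using TensorProduct.induction_on with
    | zero => rw [map_zero, map_zero, map_zero, map_zero]
    | tmul s m =>
        rw [LinearMap.lTensor_tmul, IsBaseChange.equiv_tmul, IsBaseChange.equiv_tmul, map_smul,
          hcomm]
    | add a b ha hb => rw [map_add, map_add, map_add, map_add, ha, hb]
  have key : ∀ t' : S ⊗[R] (LinearMap.ker φ),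
      hρ.equiv ((LinearMap.ker φ).subtype.lTensor S t') ∈
        Submodule.span S (ρ '' {m | φ m = 0}) := by
    intro t'
    induction t' using TensorProduct.induction_on with
    | zero => rw [map_zero, map_zero]; exact Submodule.zero_mem _
    | tmul s k =>
        rw [LinearMap.lTensor_tmul, IsBaseChange.equiv_tmul]
        exact Submodule.smul_mem _ _ (Submodule.subset_span ⟨k.1, k.2, rfl⟩)
    | add a b ha hb => rw [map_add, map_add]; exact Submodule.add_mem _ ha hb
  have ht : φ.lTensor S (hρ.equiv.symm x) = 0 := by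
    apply hρ'.equiv.injective
    rw [h1, LinearEquiv.apply_symm_apply, hx, map_zero]
  have hex : Function.Exact ((LinearMap.ker φ).subtype.lTensor S) (φ.lTensor S) :=
    Module.Flat.lTensor_exact S (LinearMap.exact_subtype_ker_map φ)
  obtain ⟨t', ht'⟩ := (hex _).1 ht
  have := key t'
  rw [ht', LinearEquiv.apply_symm_apply] at this
  exact this

theorem span_range_of_isBaseChange {M N : Type u} [AddCommGroup M] [AddCommGroup N]
    [Module R M] [Module R N] [Module S N] [IsScalarTower R S N]
    (f : M →ₗ[R] N) (hf : IsBaseChange S f) (n : N) :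
    n ∈ Submodule.span S (Set.range f) :=
  hf.inductionOn n (fun n => n ∈ Submodule.span S (Set.range f)) (Submodule.zero_mem _)
    (fun m => Submodule.subset_span ⟨m, rfl⟩) (fun s n hn => Submodule.smul_mem _ s hn)
    (fun _ _ h1 h2 => Submodule.add_mem _ h1 h2)

end BC

/-! ### the same in `IsBCAlong` form -/

open SchFin

section BCAlong

variable {R S : Type u} [CommRing R] [CommRing S] (g : R →+* S)

theorem isBCAlong_congr {M N : Type u} [AddCommGroup M] [AddCommGroup N] [Module R M] [Module S N]
    (f f' : M →ₛₗ[g] N) (h : ∀ m, f m = f' m) (hf : IsBCAlong g f) : IsBCAlong g f' := by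
  have : f = f' := LinearMap.ext h
  rw [← this]
  exact hf

theorem isBCAlong_of_surj {M N Mq Nq : Type u}
    [AddCommGroup M] [AddCommGroup N] [AddCommGroup Mq] [AddCommGroup Nq]
    [Module R M] [Module S N] [Module R Mq] [Module S Nq]
    (f : M →ₛₗ[g] N) (hf : IsBCAlong g f)
    (πM : M →ₗ[R] Mq) (hπM : Function.Surjective πM)
    (πN : N →ₗ[S] Nq) (hπN : Function.Surjective πN)
    (fq : Mq →ₛₗ[g] Nq) (hfq : ∀ m, fq (πM m) = πN (f m))
    (hK : ∀ n, πN n = 0 → n ∈ Submodule.span S (f '' {m | πM m = 0})) :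
    IsBCAlong g fq := by
  letI : Algebra R S := g.toAlgebra
  letI : Module R N := Module.compHom N g
  haveI : IsScalarTower R S N := IsScalarTower.of_algebraMap_smul fun _ _ => rfl
  letI : Module R Nq := Module.compHom Nq g
  haveI : IsScalarTower R S Nq := IsScalarTower.of_algebraMap_smul fun _ _ => rfl
  exact isBaseChange_of_surj (S := S)
    ({ toFun := f, map_add' := f.map_add, map_smul' := f.map_smulₛₗ } : M →ₗ[R] N) hf
    πM hπM πN hπN
    ({ toFun := fq, map_add' := fq.map_add, map_smul' := fq.map_smulₛₗ } : Mq →ₗ[R] Nq) hfq hK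

theorem isBCAlong_prod {M N M' N' P : Type u}
    [AddCommGroup M] [AddCommGroup N] [AddCommGroup M'] [AddCommGroup N'] [AddCommGroup P]
    [Module R M] [Module S N] [Module R M'] [Module S N'] [Module S P]
    (f : M →ₛₗ[g] N) (hf : IsBCAlong g f) (f' : M' →ₛₗ[g] N') (hf' : IsBCAlong g f')
    (e : P ≃ₗ[S] N × N')
    (F : (M × M') →ₛₗ[g] P) (hF : ∀ x, e (F x) = (f x.1, f' x.2)) :
    IsBCAlong g F := by
  letI : Algebra R S := g.toAlgebra
  letI : Module R N := Module.compHom N g
  haveI : IsScalarTower R S N := IsScalarTower.of_algebraMap_smul fun _ _ => rfl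
  letI : Module R N' := Module.compHom N' g
  haveI : IsScalarTower R S N' := IsScalarTower.of_algebraMap_smul fun _ _ => rfl
  letI : Module R P := Module.compHom P g
  haveI : IsScalarTower R S P := IsScalarTower.of_algebraMap_smul fun _ _ => rfl
  exact isBaseChange_prod (S := S)
    ({ toFun := f, map_add' := f.map_add, map_smul' := f.map_smulₛₗ } : M →ₗ[R] N) hf
    ({ toFun := f', map_add' := f'.map_add, map_smul' := f'.map_smulₛₗ } : M' →ₗ[R] N') hf'
    e
    ({ toFun := F, map_add' := F.map_add, map_smul' := F.map_smulₛₗ } : (M × M') →ₗ[R] P)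
    hF

theorem ker_le_span_of_flat' (hg : g.Flat) {M N M' N' : Type u}
    [AddCommGroup M] [AddCommGroup N] [AddCommGroup M'] [AddCommGroup N']
    [Module R M] [Module S N] [Module R M'] [Module S N']
    (ρ : M →ₛₗ[g] N) (hρ : IsBCAlong g ρ) (ρ' : M' →ₛₗ[g] N') (hρ' : IsBCAlong g ρ')
    (φ : M →ₗ[R] M') (ψ : N →ₗ[S] N') (hcomm : ∀ m, ψ (ρ m) = ρ' (φ m))
    (x : N) (hx : ψ x = 0) :
    x ∈ Submodule.span S (ρ '' {m | φ m = 0}) := by
  letI : Algebra R S := g.toAlgebra
  haveI : Module.Flat R S := hg
  letI : Module R N := Module.compHom N g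
  haveI : IsScalarTower R S N := IsScalarTower.of_algebraMap_smul fun _ _ => rfl
  letI : Module R N' := Module.compHom N' g
  haveI : IsScalarTower R S N' := IsScalarTower.of_algebraMap_smul fun _ _ => rfl
  exact ker_le_span_of_flat (S := S)
    ({ toFun := ρ, map_add' := ρ.map_add, map_smul' := ρ.map_smulₛₗ } : M →ₗ[R] N) hρ
    ({ toFun := ρ', map_add' := ρ'.map_add, map_smul' := ρ'.map_smulₛₗ } : M' →ₗ[R] N') hρ'
    φ ψ hcomm x hx

theorem span_range_of_isBCAlong {M N : Type u} [AddCommGroup M] [AddCommGroup N]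
    [Module R M] [Module S N] (f : M →ₛₗ[g] N) (hf : IsBCAlong g f) (n : N) :
    n ∈ Submodule.span S (Set.range f) := by
  letI : Algebra R S := g.toAlgebra
  letI : Module R N := Module.compHom N g
  haveI : IsScalarTower R S N := IsScalarTower.of_algebraMap_smul fun _ _ => rfl
  exact span_range_of_isBaseChange (S := S)
    ({ toFun := f, map_add' := f.map_add, map_smul' := f.map_smulₛₗ } : M →ₗ[R] N) hf n

end BCAlong

/-! ### products of étale algebras -/

section ProdEtale

variable {R A B : Type u} [CommRing R] [CommRing A] [CommRing B] [Algebra R A] [Algebra R B]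

theorem etale_prod [Algebra.Etale R A] [Algebra.Etale R B] : Algebra.Etale R (A × B) := by
  let F : Bool → Type u := fun b => cond b A B
  letI iR : ∀ b, CommRing (F b) := fun b =>
    match b with
    | true => (inferInstance : CommRing A)
    | false => (inferInstance : CommRing B)
  letI iA : ∀ b, Algebra R (F b) := fun b =>
    match b with
    | true => (inferInstance : Algebra R A)
    | false => (inferInstance : Algebra R B)
  haveI iE : ∀ b, Algebra.Etale R (F b) := fun b =>
    match b with
    | true => (inferInstance : Algebra.Etale R A)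
    | false => (inferInstance : Algebra.Etale R B)
  haveI : Algebra.Etale R (∀ b, F b) := inferInstance
  let e : (∀ b, F b) ≃ₐ[R] A × B :=
    { toFun := fun x => (x true, x false)
      invFun := fun y b => match b with
        | true => y.1
        | false => y.2
      left_inv := fun x => by funext b; cases b <;> rfl
      right_inv := fun y => rfl
      map_mul' := fun x y => rfl
      map_add' := fun x y => rfl
      commutes' := fun r => rfl }
  exact Algebra.Etale.of_equiv e

end ProdEtale

end Groth.Agent.Helper22.FEtAlg
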