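import Mathlib
import Groth.Prelude.Def_SchFin2
import Groth.Agent.Lib.Helper22.FEtAlg

set_option autoImplicit false
set_option backward.isDefEq.respectTransparency false
set_option backward.isDefEq.respectTransparency.types false
set_option maxHeartbeats 400000

open CategoryTheory CategoryTheory.Limits SchFin

namespace Groth.Agent.Helper22.FEtObj

open Groth.Agent.Helper22.FEtAlg

universe u

/-! ### algebra helpers -/

section AlgHelpers

variable {R A B : Type u} [CommRing R] [CommRing A] [CommRing B] [Algebra R A] [Algebra R B]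

/-- `(a, a') ↦ a (1 - e) + a' e` for an idempotent `e`. -/
def cornerHom (e : A) (he : IsIdempotentElem e) : A × A →ₐ[R] A where
  toFun x := x.1 * (1 - e) + x.2 * e
  map_one' := by show (1 : A) * (1 - e) + 1 * e = 1; ring
  map_mul' x y := by
    show (x.1 * y.1) * (1 - e) + (x.2 * y.2) * e =
      (x.1 * (1 - e) + x.2 * e) * (y.1 * (1 - e) + y.2 * e)
    have h1 : e * e = e := he.eq
    linear_combination (-(x.1 * y.1 - x.1 * y.2 - x.2 * y.1 + x.2 * y.2)) * h1
  map_zero' := by show (0 : A) * (1 - e) + 0 * e = 0; ring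
  map_add' x y := by
    show (x.1 + y.1) * (1 - e) + (x.2 + y.2) * e =
      (x.1 * (1 - e) + x.2 * e) + (y.1 * (1 - e) + y.2 * e)
    ring
  commutes' r := by
    show algebraMap R A r * (1 - e) + algebraMap R A r * e = algebraMap R A r
    ring

theorem cornerHom_apply (e : A) (he : IsIdempotentElem e) (x : A × A) :
    cornerHom (R := R) e he x = x.1 * (1 - e) + x.2 * e := rfl

theorem quot_etale [Algebra.Etale R A] (d : A) (hd : IsIdempotentElem d) :
    Algebra.Etale R (A ⧸ Ideal.span {d}) := by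
  haveI : IsLocalization.Away (1 - d) (A ⧸ Ideal.span {d}) :=
    IsLocalization.away_of_isIdempotentElem hd.one_sub
      (by rw [sub_sub_cancel]; exact Ideal.mk_ker) Ideal.Quotient.mk_surjective
  haveI : Algebra.Etale A (A ⧸ Ideal.span {d}) := Algebra.Etale.of_isLocalizationAway (1 - d)
  exact Algebra.Etale.comp R A (A ⧸ Ideal.span {d})

theorem quot_finite [Module.Finite R A] (I : Ideal A) : Module.Finite R (A ⧸ I) :=
  Module.Finite.of_surjective (Ideal.Quotient.mkₐ R I).toLinearMap
    (Ideal.Quotient.mkₐ_surjective R I)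

theorem prod_bijective (f : A →ₐ[R] B) (hf : Function.Surjective f) (e : A)
    (he : IsIdempotentElem e) (hk : ∀ a, f a = 0 ↔ a ∈ Ideal.span {e}) :
    Function.Bijective (f.prod (Ideal.Quotient.mkₐ R (Ideal.span {1 - e}))) := by
  have hfe : f e = 0 := (hk e).2 (Ideal.subset_span rfl)
  have hm1 : Ideal.Quotient.mk (Ideal.span {1 - e}) (1 - e) = 0 :=
    Ideal.Quotient.eq_zero_iff_mem.2 (Ideal.subset_span rfl)
  have hme : Ideal.Quotient.mk (Ideal.span {1 - e}) e = 1 := by
    have : Ideal.Quotient.mk (Ideal.span {1 - e}) (1 - e) = 1 - Ideal.Quotient.mk _ e := by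
      rw [map_sub, map_one]
    rw [this] at hm1
    exact (sub_eq_zero.1 hm1).symm
  constructor
  · rw [injective_iff_map_eq_zero]
    intro a ha
    have h1 : f a = 0 := congrArg Prod.fst ha
    have h2 : Ideal.Quotient.mk (Ideal.span {1 - e}) a = 0 := congrArg Prod.snd ha
    obtain ⟨c, hc⟩ := Ideal.mem_span_singleton'.1 ((hk a).1 h1)
    obtain ⟨c', hc'⟩ := Ideal.mem_span_singleton'.1 (Ideal.Quotient.eq_zero_iff_mem.1 h2)
    have e1 : a * e = a := by rw [← hc, mul_assoc, he.eq]
    have e2 : a * e = 0 := by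
      rw [← hc', mul_assoc, sub_mul, one_mul, he.eq, sub_self, mul_zero]
    rw [← e1, e2]
  · rintro ⟨b, d⟩
    obtain ⟨a1, rfl⟩ := hf b
    obtain ⟨a2, rfl⟩ := Ideal.Quotient.mk_surjective d
    refine ⟨a1 * (1 - e) + a2 * e, Prod.ext ?_ ?_⟩
    · show f (a1 * (1 - e) + a2 * e) = f a1
      rw [map_add, map_mul, map_mul, map_sub, map_one, hfe, sub_zero, mul_one, mul_zero, add_zero]
    · show Ideal.Quotient.mk (Ideal.span {1 - e}) (a1 * (1 - e) + a2 * e) =
        Ideal.Quotient.mk (Ideal.span {1 - e}) a2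
      rw [map_add, map_mul, map_mul, hm1, hme, mul_zero, mul_one, zero_add]

/-- the map to a subsingleton algebra -/
def toSubsingleton (R A T : Type u) [CommRing R] [CommRing A] [CommRing T] [Algebra R A]
    [Algebra R T] [Subsingleton T] : A →ₐ[R] T where
  toFun _ := 0
  map_one' := Subsingleton.elim _ _
  map_mul' _ _ := Subsingleton.elim _ _
  map_zero' := rfl
  map_add' _ _ := Subsingleton.elim _ _
  commutes' _ := Subsingleton.elim _ _

end AlgHelpers

variable {X : RSpace.{u}}

/-! ### products -/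

def prodAlg (A B : Alg X) : Alg X where
  carrier p := A.carrier p × B.carrier p
  res h := RingHom.prodMap (A.res h) (B.res h)
  res_algebraMap h a := Prod.ext (A.res_algebraMap h a) (B.res_algebraMap h a)
  res_self p b := Prod.ext (A.res_self p b.1) (B.res_self p b.2)
  res_comp h h' b := Prod.ext (A.res_comp h h' b.1) (B.res_comp h h' b.2)

theorem prodAlg_isQcoh {A B : Alg X} (hA : A.IsQcoh) (hB : B.IsQcoh) :
    (prodAlg A B).IsQcoh := by
  intro p q h
  let e : (prodAlg A B).toMod.carrier q ≃ₗ[X.ring q]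
      (A.toMod.carrier q × B.toMod.carrier q) :=
    { toFun := id, invFun := id, map_add' := fun _ _ => rfl, map_smul' := fun _ _ => rfl,
      left_inv := fun _ => rfl, right_inv := fun _ => rfl }
  exact isBCAlong_prod (X.res h) (A.toMod.res h) (hA p q h) (B.toMod.res h) (hB p q h) e
    ((prodAlg A B).toMod.res h) (fun x => rfl)

def prodObj (A B : FEt X) : FEt X :=
  ⟨prodAlg A.obj B.obj, by
    refine And.intro (prodAlg_isQcoh A.property.1 B.property.1) (fun p => ?_)
    haveI := (A.property.2 p).1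
    haveI := (A.property.2 p).2
    haveI := (B.property.2 p).1
    haveI := (B.property.2 p).2
    exact And.intro
      (inferInstance : Module.Finite (X.ring p) (A.obj.carrier p × B.obj.carrier p))
      etale_prod⟩

def pfst (A B : FEt X) : prodObj A B ⟶ A :=
  ObjectProperty.homMk (Alg.Hom.mk
    (fun p => AlgHom.fst (X.ring p) (A.obj.carrier p) (B.obj.carrier p)) (fun _ _ => rfl))

def psnd (A B : FEt X) : prodObj A B ⟶ B :=
  ObjectProperty.homMk (Alg.Hom.mk
    (fun p => AlgHom.snd (X.ring p) (A.obj.carrier p) (B.obj.carrier p)) (fun _ _ => rfl))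

def plift {C A B : FEt X} (u : C ⟶ A) (v : C ⟶ B) : C ⟶ prodObj A B :=
  ObjectProperty.homMk (Alg.Hom.mk
    (fun p => (u.hom.app p).prod (v.hom.app p))
    (fun h b => Prod.ext (u.hom.compat h b) (v.hom.compat h b)))

def prodIsLimit (A B : FEt X) : IsLimit (BinaryFan.mk (pfst A B) (psnd A B)) :=
  BinaryFan.isLimitMk (fun s => plift s.fst s.snd)
    (fun s => ObjectProperty.hom_ext _ (Alg.hom_ext _ _ (fun p => AlgHom.ext fun c => rfl)))
    (fun s => ObjectProperty.hom_ext _ (Alg.hom_ext _ _ (fun p => AlgHom.ext fun c => rfl)))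
    (fun s m h1 h2 => ObjectProperty.hom_ext _ (Alg.hom_ext _ _ (fun p => AlgHom.ext fun c =>
      Prod.ext (congrArg (fun t => t.hom.app p c) h1) (congrArg (fun t => t.hom.app p c) h2))))

theorem hasBinaryProducts : HasBinaryProducts (FEt X) :=
  haveI : ∀ {A B : FEt X}, HasLimit (pair A B) := fun {A B} => ⟨⟨⟨_, prodIsLimit A B⟩⟩⟩
  hasBinaryProducts_of_hasLimit_pair (C := FEt X)

/-! ### kernel idempotents -/

theorem exists_idem {A B : FEt X} (f : A ⟶ B) (p : X.pt) :
    ∃ e : A.obj.carrier p, IsIdempotentElem e ∧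
      ∀ a, f.hom.app p a = 0 ↔ a ∈ Ideal.span {e} := by
  haveI := (A.property.2 p).2
  haveI := (B.property.2 p).1
  haveI := (B.property.2 p).2
  exact ker_algHom_eq_span_idem (f.hom.app p)

noncomputable def kerIdem {A B : FEt X} (f : A ⟶ B) (p : X.pt) : A.obj.carrier p :=
  Classical.choose (exists_idem f p)

theorem kerIdem_idem {A B : FEt X} (f : A ⟶ B) (p : X.pt) : IsIdempotentElem (kerIdem f p) :=
  (Classical.choose_spec (exists_idem f p)).1

theorem kerIdem_spec {A B : FEt X} (f : A ⟶ B) (p : X.pt) (a : A.obj.carrier p) :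
    f.hom.app p a = 0 ↔ a ∈ Ideal.span {kerIdem f p} :=
  (Classical.choose_spec (exists_idem f p)).2 a

theorem kerIdem_map {A B : FEt X} (f : A ⟶ B) (p : X.pt) : f.hom.app p (kerIdem f p) = 0 :=
  (kerIdem_spec f p _).2 (Ideal.subset_span rfl)

theorem kerIdem_res (hflat : ∀ (p q : X.pt) (h : p ≤ q), (X.res h).Flat) {A B : FEt X}
    (f : A ⟶ B) {p q : X.pt} (h : p ≤ q) : A.obj.res h (kerIdem f p) = kerIdem f q := by
  have hx : IsIdempotentElem (A.obj.res h (kerIdem f p)) := by
    show A.obj.res h (kerIdem f p) * A.obj.res h (kerIdem f p) = A.obj.res h (kerIdem f p)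
    rw [← map_mul, (kerIdem_idem f p).eq]
  apply idem_eq_of_span hx (kerIdem_idem f q)
  · rw [← kerIdem_spec]
    rw [← f.hom.compat h, kerIdem_map, map_zero]
  · have h0 : (f.hom.app q).toLinearMap (kerIdem f q) = 0 := kerIdem_map f q
    have h1 := ker_le_span_of_flat' (M := A.obj.carrier p) (N := A.obj.carrier q)
      (M' := B.obj.carrier p) (N' := B.obj.carrier q) (X.res h) (hflat p q h) (A.obj.toMod.res h)
      (A.property.1 p q h) (B.obj.toMod.res h) (B.property.1 p q h)
      (f.hom.app p).toLinearMap (f.hom.app q).toLinearMap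
      (fun m => (f.hom.compat h m).symm) (kerIdem f q) h0
    have h2 : kerIdem f q ∈
        (Ideal.span {A.obj.res h (kerIdem f p)}).restrictScalars (X.ring q) := by
      refine (Submodule.span_le.2 ?_) h1
      rintro _ ⟨m, hm, rfl⟩
      have hm' : (m : A.obj.carrier p) ∈ Ideal.span {kerIdem f p} := (kerIdem_spec f p m).1 hm
      obtain ⟨a, rfl⟩ := Ideal.mem_span_singleton'.1 hm'
      show A.obj.res h (a * kerIdem f p) ∈ Ideal.span {A.obj.res h (kerIdem f p)}
      rw [map_mul]
      exact Ideal.mul_mem_left _ _ (Ideal.subset_span rfl)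
    exact h2

/-! ### monomorphisms are pointwise injective -/

theorem mono_injective (hflat : ∀ (p q : X.pt) (h : p ≤ q), (X.res h).Flat) {A B : FEt X}
    (f : A ⟶ B) [Mono f] (p : X.pt) : Function.Injective (f.hom.app p) := by
  let v : prodObj A A ⟶ A := ObjectProperty.homMk (Alg.Hom.mk
    (fun p => cornerHom (kerIdem f p) (kerIdem_idem f p))
    (fun {p q} h b => by
      show A.obj.res h (b.1 * (1 - kerIdem f p) + b.2 * kerIdem f p) =
        A.obj.res h b.1 * (1 - kerIdem f q) + A.obj.res h b.2 * kerIdem f q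
      rw [map_add, map_mul, map_mul, map_sub, map_one, kerIdem_res hflat f h]))
  have hv : v ≫ f = pfst A A ≫ f := by
    apply ObjectProperty.hom_ext
    apply Alg.hom_ext
    intro p
    apply AlgHom.ext
    intro c
    show f.hom.app p (c.1 * (1 - kerIdem f p) + c.2 * kerIdem f p) = f.hom.app p c.1
    rw [map_add, map_mul, map_mul, map_sub, map_one, kerIdem_map, sub_zero, mul_one, mul_zero,
      add_zero]
  have hv' : v = pfst A A := (cancel_mono f).1 hv
  have h0 : kerIdem f p = 0 := by
    have := congrArg (fun t => t.hom.app p ((0 : A.obj.carrier p), (1 : A.obj.carrier p))) hv'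
    have h1 : (0 : A.obj.carrier p) * (1 - kerIdem f p) + 1 * kerIdem f p = 0 := this
    rw [zero_mul, one_mul, zero_add] at h1
    exact h1
  rw [injective_iff_map_eq_zero]
  intro a ha
  obtain ⟨c, rfl⟩ := Ideal.mem_span_singleton'.1 ((kerIdem_spec f p a).1 ha)
  rw [h0, mul_zero]

end Groth.Agent.Helper22.FEtObj
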