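import Mathlib
import Groth.Prelude.Def_SchFin2
import Groth.Agent.Lib.Helper22.FEtAlg
import Groth.Agent.Lib.Helper22.FEtObj

set_option autoImplicit false
set_option backward.isDefEq.respectTransparency false
set_option backward.isDefEq.respectTransparency.types false
set_option maxHeartbeats 400000

open CategoryTheory CategoryTheory.Limits SchFin

namespace Groth.Agent.Helper22.FEtObj

open Groth.Agent.Helper22.FEtAlg

universe u

variable {X : RSpace.{u}}

/-! ### quotients by compatible idempotents -/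

theorem span_le_comap {A : Alg X} (d : ∀ p, A.carrier p)
    (hres : ∀ {p q : X.pt} (h : p ≤ q), A.res h (d p) = d q) {p q : X.pt} (h : p ≤ q) :
    Ideal.span {d p} ≤ (Ideal.span {d q}).comap (A.res h) := by
  rw [Ideal.span_le]
  rintro _ rfl
  show A.res h (d p) ∈ Ideal.span {d q}
  rw [hres h]
  exact Ideal.subset_span rfl

def quotAlg (A : Alg X) (d : ∀ p, A.carrier p)
    (hres : ∀ {p q : X.pt} (h : p ≤ q), A.res h (d p) = d q) : Alg X where
  carrier p := A.carrier p ⧸ Ideal.span {d p}
  res {p q} h := Ideal.quotientMap (Ideal.span {d q}) (A.res h) (span_le_comap d hres h)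
  res_algebraMap {p q} h a := by
    show Ideal.quotientMap _ _ _ (Ideal.Quotient.mk _ (algebraMap _ _ a)) =
      Ideal.Quotient.mk _ (algebraMap _ _ (X.res h a))
    rw [Ideal.quotientMap_mk, A.res_algebraMap]
  res_self p b := by
    obtain ⟨a, rfl⟩ := Ideal.Quotient.mk_surjective b
    rw [Ideal.quotientMap_mk, A.res_self]
  res_comp h h' b := by
    obtain ⟨a, rfl⟩ := Ideal.Quotient.mk_surjective b
    rw [Ideal.quotientMap_mk, Ideal.quotientMap_mk, Ideal.quotientMap_mk, A.res_comp]

theorem quotAlg_isQcoh {A : Alg X} (hA : A.IsQcoh) (d : ∀ p, A.carrier p)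
    (hres : ∀ {p q : X.pt} (h : p ≤ q), A.res h (d p) = d q) : (quotAlg A d hres).IsQcoh := by
  intro p q h
  refine isBCAlong_of_surj (M := A.carrier p) (N := A.carrier q)
    (Mq := A.carrier p ⧸ Ideal.span {d p}) (Nq := A.carrier q ⧸ Ideal.span {d q})
    (X.res h) (A.toMod.res h) (hA p q h)
    (Ideal.Quotient.mkₐ (X.ring p) (Ideal.span {d p})).toLinearMap
    (Ideal.Quotient.mkₐ_surjective (X.ring p) (Ideal.span {d p}))
    (Ideal.Quotient.mkₐ (X.ring q) (Ideal.span {d q})).toLinearMap
    (Ideal.Quotient.mkₐ_surjective (X.ring q) (Ideal.span {d q}))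
    ((quotAlg A d hres).toMod.res h) (fun m => rfl) ?_
  intro n hn
  have hn' : n ∈ Ideal.span {d q} := Ideal.Quotient.eq_zero_iff_mem.1 hn
  obtain ⟨b, rfl⟩ := Ideal.mem_span_singleton'.1 hn'
  have hb := span_range_of_isBCAlong (M := A.carrier p) (N := A.carrier q) (X.res h)
    (A.toMod.res h) (hA p q h) b
  have h3 : (LinearMap.mulRight (X.ring q) (d q)) b ∈
      Submodule.map (LinearMap.mulRight (X.ring q) (d q))
        (Submodule.span (X.ring q) (Set.range (A.toMod.res h))) :=
    Submodule.mem_map_of_mem hb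
  rw [Submodule.map_span] at h3
  refine Submodule.span_mono ?_ h3
  rintro _ ⟨_, ⟨(a : A.carrier p), rfl⟩, rfl⟩
  refine ⟨(a * d p : A.carrier p), ?_, ?_⟩
  · show Ideal.Quotient.mk _ (a * d p) = 0
    exact Ideal.Quotient.eq_zero_iff_mem.2 (Ideal.mul_mem_left _ _ (Ideal.subset_span rfl))
  · show A.res h (a * d p) = A.res h a * d q
    rw [map_mul, hres h]

def quotObj (A : FEt X) (d : ∀ p, A.obj.carrier p) (hd : ∀ p, IsIdempotentElem (d p))
    (hres : ∀ {p q : X.pt} (h : p ≤ q), A.obj.res h (d p) = d q) : FEt X :=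
  ⟨quotAlg A.obj d hres, by
    refine And.intro (quotAlg_isQcoh A.property.1 d hres) (fun p => ?_)
    haveI := (A.property.2 p).1
    haveI := (A.property.2 p).2
    exact And.intro (quot_finite (Ideal.span {d p})) (quot_etale (d p) (hd p))⟩

def quotMap (A : FEt X) (d : ∀ p, A.obj.carrier p) (hd : ∀ p, IsIdempotentElem (d p))
    (hres : ∀ {p q : X.pt} (h : p ≤ q), A.obj.res h (d p) = d q) : A ⟶ quotObj A d hd hres :=
  ObjectProperty.homMk (Alg.Hom.mk
    (fun p => Ideal.Quotient.mkₐ (X.ring p) (Ideal.span {d p})) (fun _ _ => rfl))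

/-! ### epi-mono factorization -/

theorem epi_mono_fact (hflat : ∀ (p q : X.pt) (h : p ≤ q), (X.res h).Flat) {A B : FEt X}
    (f : A ⟶ B) :
    ∃ (Q : FEt X) (g : A ⟶ Q) (h : Q ⟶ B), g ≫ h = f ∧
      (∀ p : X.pt, Function.Surjective (g.hom.app p)) ∧
      ∀ p : X.pt, Function.Injective (h.hom.app p) := by
  let Q := quotObj A (fun p => kerIdem f p) (fun p => kerIdem_idem f p)
    (fun h => kerIdem_res hflat f h)
  let g : A ⟶ Q := quotMap A _ _ _
  let h' : Q ⟶ B := ObjectProperty.homMk (Alg.Hom.mk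
    (fun p => Ideal.Quotient.liftₐ (Ideal.span {kerIdem f p}) (f.hom.app p)
      (fun a ha => (kerIdem_spec f p a).2 ha))
    (fun {p q} h b => by
      obtain ⟨a, rfl⟩ := Ideal.Quotient.mk_surjective b
      exact f.hom.compat h a))
  refine ⟨Q, g, h', ?_, ?_, ?_⟩
  · apply ObjectProperty.hom_ext
    apply Alg.hom_ext
    intro p
    apply AlgHom.ext
    intro c
    rfl
  · intro p
    exact Ideal.Quotient.mk_surjective
  · intro p
    rw [injective_iff_map_eq_zero]
    intro b hb
    obtain ⟨a, rfl⟩ := Ideal.Quotient.mk_surjective b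
    have : f.hom.app p a = 0 := hb
    exact Ideal.Quotient.eq_zero_iff_mem.2 ((kerIdem_spec f p a).1 this)

/-! ### pointwise surjections split off a direct factor -/

theorem surj_direct_factor (hflat : ∀ (p q : X.pt) (h : p ≤ q), (X.res h).Flat) {A B : FEt X}
    (f : A ⟶ B) (hf : ∀ p : X.pt, Function.Surjective (f.hom.app p)) :
    ∃ (D : FEt X) (π : A ⟶ D), Nonempty (IsLimit (BinaryFan.mk f π)) := by
  let D := quotObj A (fun p => 1 - kerIdem f p) (fun p => (kerIdem_idem f p).one_sub)
    (fun {p q} h => by rw [map_sub, map_one, kerIdem_res hflat f h])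
  let π : A ⟶ D := quotMap A _ _ _
  have hbij : ∀ p, Function.Bijective ((f.hom.app p).prod (π.hom.app p)) := fun p =>
    prod_bijective (f.hom.app p) (hf p) (kerIdem f p) (kerIdem_idem f p) (kerIdem_spec f p)
  let E : ∀ p, A.obj.carrier p ≃ₐ[X.ring p] (B.obj.carrier p × D.obj.carrier p) := fun p =>
    AlgEquiv.ofBijective _ (hbij p)
  have hE1 : ∀ p (y : B.obj.carrier p × D.obj.carrier p), f.hom.app p ((E p).symm y) = y.1 :=
    fun p y => congrArg Prod.fst ((E p).apply_symm_apply y)
  have hE2 : ∀ p (y : B.obj.carrier p × D.obj.carrier p), π.hom.app p ((E p).symm y) = y.2 :=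
    fun p y => congrArg Prod.snd ((E p).apply_symm_apply y)
  have hinj : ∀ p (a a' : A.obj.carrier p), f.hom.app p a = f.hom.app p a' →
      π.hom.app p a = π.hom.app p a' → a = a' := fun p a a' h1 h2 =>
    (hbij p).1 (Prod.ext h1 h2)
  refine ⟨D, π, ⟨BinaryFan.isLimitMk
    (fun s => ObjectProperty.homMk (Alg.Hom.mk
      (fun p => ((E p).symm : (B.obj.carrier p × D.obj.carrier p) →ₐ[X.ring p] A.obj.carrier p).comp
        ((s.fst.hom.app p).prod (s.snd.hom.app p)))
      (fun {p q} h c => by
        apply hinj q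
        · show f.hom.app q (A.obj.res h ((E p).symm (s.fst.hom.app p c, s.snd.hom.app p c))) =
            f.hom.app q ((E q).symm (s.fst.hom.app q (s.pt.obj.res h c),
              s.snd.hom.app q (s.pt.obj.res h c)))
          rw [← f.hom.compat h, hE1, hE1]
          exact s.fst.hom.compat h c
        · show π.hom.app q (A.obj.res h ((E p).symm (s.fst.hom.app p c, s.snd.hom.app p c))) =
            π.hom.app q ((E q).symm (s.fst.hom.app q (s.pt.obj.res h c),
              s.snd.hom.app q (s.pt.obj.res h c)))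
          rw [← π.hom.compat h, hE2, hE2]
          exact s.snd.hom.compat h c))) ?_ ?_ ?_⟩⟩
  · intro s
    apply ObjectProperty.hom_ext
    apply Alg.hom_ext
    intro p
    apply AlgHom.ext
    intro c
    exact hE1 p _
  · intro s
    apply ObjectProperty.hom_ext
    apply Alg.hom_ext
    intro p
    apply AlgHom.ext
    intro c
    exact hE2 p _
  · intro s m h1 h2
    apply ObjectProperty.hom_ext
    apply Alg.hom_ext
    intro p
    apply AlgHom.ext
    intro c
    apply hinj p
    · exact (congrArg (fun t => t.hom.app p c) h1).trans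
        (hE1 p (s.fst.hom.app p c, s.snd.hom.app p c)).symm
    · exact (congrArg (fun t => t.hom.app p c) h2).trans
        (hE2 p (s.fst.hom.app p c, s.snd.hom.app p c)).symm

end Groth.Agent.Helper22.FEtObj
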