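import Mathlib
import Groth.Prelude.Def_SchFin2
import Groth.Agent.Lib.Helper22.FEtAlg
import Groth.Agent.Lib.Helper22.FEtObj
import Groth.Agent.Lib.Helper22.FEtQuot

set_option autoImplicit false
set_option backward.isDefEq.respectTransparency false
set_option backward.isDefEq.respectTransparency.types false
set_option maxHeartbeats 400000

open CategoryTheory CategoryTheory.Limits SchFin

namespace Groth.Agent.Helper22.FEtObj

open Groth.Agent.Helper22.FEtAlg

universe u

section DiffIdeal

variable {R C A : Type u} [CommRing R] [CommRing C] [CommRing A] [Algebra R C] [Algebra R A]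

/-- the ideal generated by the differences of two algebra maps -/
def diffIdeal (u v : C →ₐ[R] A) : Ideal A := Ideal.span (Set.range fun c : C => u c - v c)

theorem diffIdeal_le_sq [Algebra.FormallyUnramified R C] (u v : C →ₐ[R] A) :
    diffIdeal u v ≤ diffIdeal u v * diffIdeal u v := by
  let J : Ideal A := diffIdeal u v
  let I : Ideal (A ⧸ (J * J)) := J.map (Ideal.Quotient.mk (J * J))
  have hI : IsNilpotent I := ⟨2, by
    show I ^ 2 = ⊥
    rw [pow_two, ← Ideal.map_mul, Ideal.map_quotient_self]⟩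
  have heq : (Ideal.Quotient.mkₐ R (J * J)).comp u = (Ideal.Quotient.mkₐ R (J * J)).comp v :=
    Algebra.FormallyUnramified.ext (R := R) (I := I) hI (fun c => by
      show Ideal.Quotient.mk I (Ideal.Quotient.mk (J * J) (u c)) =
        Ideal.Quotient.mk I (Ideal.Quotient.mk (J * J) (v c))
      rw [Ideal.Quotient.eq, ← map_sub]
      exact Ideal.mem_map_of_mem _ (Ideal.subset_span ⟨c, rfl⟩))
  have key : ∀ c, u c - v c ∈ J * J := fun c => Ideal.Quotient.eq.1 (AlgHom.congr_fun heq c)
  exact Ideal.span_le.2 (by rintro _ ⟨c, rfl⟩; exact key c)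

theorem exists_idem_of_coeq [Algebra.FormallyUnramified R C] [IsNoetherianRing A]
    (u v : C →ₐ[R] A) :
    ∃ e : A, IsIdempotentElem e ∧ diffIdeal u v = Ideal.span {e} := by
  have h1 : IsIdempotentElem (diffIdeal u v) :=
    le_antisymm Ideal.mul_le_right (diffIdeal_le_sq u v)
  exact (Ideal.isIdempotentElem_iff_of_fg _ (IsNoetherian.noetherian _)).1 h1

end DiffIdeal

variable {X : RSpace.{u}}

theorem exists_coeqIdem (hnoeth : ∀ p : X.pt, IsNoetherianRing (X.ring p)) {C A : FEt X}
    (u v : C ⟶ A) (p : X.pt) :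
    ∃ e : A.obj.carrier p, IsIdempotentElem e ∧
      diffIdeal (u.hom.app p) (v.hom.app p) = Ideal.span {e} := by
  haveI := hnoeth p
  haveI := (A.property.2 p).1
  haveI := (C.property.2 p).2
  haveI : IsNoetherianRing (A.obj.carrier p) :=
    Algebra.FiniteType.isNoetherianRing (X.ring p) (A.obj.carrier p)
  exact exists_idem_of_coeq _ _

noncomputable def coeqIdem (hnoeth : ∀ p : X.pt, IsNoetherianRing (X.ring p)) {C A : FEt X}
    (u v : C ⟶ A) (p : X.pt) : A.obj.carrier p :=
  Classical.choose (exists_coeqIdem hnoeth u v p)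

theorem coeqIdem_idem (hnoeth : ∀ p : X.pt, IsNoetherianRing (X.ring p)) {C A : FEt X}
    (u v : C ⟶ A) (p : X.pt) : IsIdempotentElem (coeqIdem hnoeth u v p) :=
  (Classical.choose_spec (exists_coeqIdem hnoeth u v p)).1

theorem coeqIdem_spec (hnoeth : ∀ p : X.pt, IsNoetherianRing (X.ring p)) {C A : FEt X}
    (u v : C ⟶ A) (p : X.pt) :
    diffIdeal (u.hom.app p) (v.hom.app p) = Ideal.span {coeqIdem hnoeth u v p} :=
  (Classical.choose_spec (exists_coeqIdem hnoeth u v p)).2

theorem coeqIdem_res (hnoeth : ∀ p : X.pt, IsNoetherianRing (X.ring p)) {C A : FEt X}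
    (u v : C ⟶ A) {p q : X.pt} (h : p ≤ q) :
    A.obj.res h (coeqIdem hnoeth u v p) = coeqIdem hnoeth u v q := by
  have hx : IsIdempotentElem (A.obj.res h (coeqIdem hnoeth u v p)) := by
    show A.obj.res h (coeqIdem hnoeth u v p) * A.obj.res h (coeqIdem hnoeth u v p) =
      A.obj.res h (coeqIdem hnoeth u v p)
    rw [← map_mul, (coeqIdem_idem hnoeth u v p).eq]
  apply idem_eq_of_span hx (coeqIdem_idem hnoeth u v q)
  · rw [← coeqIdem_spec]
    have hmem : coeqIdem hnoeth u v p ∈ diffIdeal (u.hom.app p) (v.hom.app p) := by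
      rw [coeqIdem_spec hnoeth]
      exact Ideal.subset_span rfl
    have hle : diffIdeal (u.hom.app p) (v.hom.app p) ≤
        (diffIdeal (u.hom.app q) (v.hom.app q)).comap (A.obj.res h) := by
      refine Ideal.span_le.2 ?_
      rintro _ ⟨c, rfl⟩
      show A.obj.res h (u.hom.app p c - v.hom.app p c) ∈ diffIdeal (u.hom.app q) (v.hom.app q)
      rw [map_sub, u.hom.compat h c, v.hom.compat h c]
      exact Ideal.subset_span ⟨C.obj.res h c, rfl⟩
    exact hle hmem
  · have he : coeqIdem hnoeth u v q ∈ diffIdeal (u.hom.app q) (v.hom.app q) := by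
      rw [coeqIdem_spec hnoeth]
      exact Ideal.subset_span rfl
    refine (Ideal.span_le.2 ?_) he
    rintro _ ⟨c', rfl⟩
    let δ : C.obj.carrier q →ₗ[X.ring q] A.obj.carrier q :=
      (u.hom.app q).toLinearMap - (v.hom.app q).toLinearMap
    have hc' := span_range_of_isBCAlong (M := C.obj.carrier p) (N := C.obj.carrier q) (X.res h)
      (C.obj.toMod.res h) (C.property.1 p q h) c'
    have hsub : Submodule.span (X.ring q) (Set.range (C.obj.toMod.res h)) ≤
        ((Ideal.span {A.obj.res h (coeqIdem hnoeth u v p)}).restrictScalars (X.ring q)).comap δ := by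
      refine Submodule.span_le.2 ?_
      rintro _ ⟨(c : C.obj.carrier p), rfl⟩
      show u.hom.app q (C.obj.res h c) - v.hom.app q (C.obj.res h c) ∈
        Ideal.span {A.obj.res h (coeqIdem hnoeth u v p)}
      rw [← u.hom.compat h c, ← v.hom.compat h c, ← map_sub]
      have hc : u.hom.app p c - v.hom.app p c ∈ Ideal.span {coeqIdem hnoeth u v p} := by
        rw [← coeqIdem_spec]
        exact Ideal.subset_span ⟨c, rfl⟩
      obtain ⟨a, ha⟩ := Ideal.mem_span_singleton'.1 hc
      rw [← ha, map_mul]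
      exact Ideal.mul_mem_left _ _ (Ideal.subset_span rfl)
    exact hsub hc'

noncomputable def coeqObj (hnoeth : ∀ p : X.pt, IsNoetherianRing (X.ring p)) {C A : FEt X}
    (u v : C ⟶ A) : FEt X :=
  quotObj A (fun p => coeqIdem hnoeth u v p) (fun p => coeqIdem_idem hnoeth u v p)
    (fun h => coeqIdem_res hnoeth u v h)

noncomputable def coeqπ (hnoeth : ∀ p : X.pt, IsNoetherianRing (X.ring p)) {C A : FEt X}
    (u v : C ⟶ A) : A ⟶ coeqObj hnoeth u v :=
  quotMap A _ _ _

theorem coeq_condition (hnoeth : ∀ p : X.pt, IsNoetherianRing (X.ring p)) {C A : FEt X}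
    (u v : C ⟶ A) : u ≫ coeqπ hnoeth u v = v ≫ coeqπ hnoeth u v := by
  apply ObjectProperty.hom_ext
  apply Alg.hom_ext
  intro p
  apply AlgHom.ext
  intro c
  show Ideal.Quotient.mk (Ideal.span {coeqIdem hnoeth u v p}) (u.hom.app p c) =
    Ideal.Quotient.mk (Ideal.span {coeqIdem hnoeth u v p}) (v.hom.app p c)
  rw [Ideal.Quotient.eq, ← coeqIdem_spec]
  exact Ideal.subset_span ⟨c, rfl⟩

theorem cofork_kills (hnoeth : ∀ p : X.pt, IsNoetherianRing (X.ring p)) {C A : FEt X}
    (u v : C ⟶ A) (s : Cofork u v) (p : X.pt) (a : A.obj.carrier p)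
    (ha : a ∈ Ideal.span {coeqIdem hnoeth u v p}) : s.π.hom.app p a = 0 := by
  rw [← coeqIdem_spec] at ha
  have hle : diffIdeal (u.hom.app p) (v.hom.app p) ≤ RingHom.ker (s.π.hom.app p).toRingHom := by
    refine Ideal.span_le.2 ?_
    rintro _ ⟨c, rfl⟩
    show s.π.hom.app p (u.hom.app p c - v.hom.app p c) = 0
    rw [map_sub, sub_eq_zero]
    exact congrArg (fun t => t.hom.app p c) s.condition
  exact hle ha

noncomputable def coeqDesc (hnoeth : ∀ p : X.pt, IsNoetherianRing (X.ring p)) {C A : FEt X}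
    (u v : C ⟶ A) (s : Cofork u v) : coeqObj hnoeth u v ⟶ s.pt :=
  ObjectProperty.homMk (Alg.Hom.mk
    (fun p => Ideal.Quotient.liftₐ (Ideal.span {coeqIdem hnoeth u v p}) (s.π.hom.app p)
      (fun a ha => cofork_kills hnoeth u v s p a ha))
    (fun {p q} h b => by
      obtain ⟨a, rfl⟩ := Ideal.Quotient.mk_surjective b
      exact s.π.hom.compat h a))

noncomputable def coeqIsColimit (hnoeth : ∀ p : X.pt, IsNoetherianRing (X.ring p)) {C A : FEt X}
    (u v : C ⟶ A) :
    IsColimit (Cofork.ofπ (coeqπ hnoeth u v) (coeq_condition hnoeth u v)) :=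
  Cofork.IsColimit.mk _ (fun s => coeqDesc hnoeth u v s)
    (fun s => ObjectProperty.hom_ext _ (Alg.hom_ext _ _ (fun p => AlgHom.ext fun c => rfl)))
    (fun s m hm => ObjectProperty.hom_ext _ (Alg.hom_ext _ _ (fun p => AlgHom.ext fun b => by
      obtain ⟨a, rfl⟩ := Ideal.Quotient.mk_surjective b
      exact congrArg (fun t => t.hom.app p a) hm)))

theorem hasCoequalizers (hnoeth : ∀ p : X.pt, IsNoetherianRing (X.ring p)) :
    HasCoequalizers (FEt X) :=
  haveI : ∀ {C A : FEt X} {u v : C ⟶ A}, HasColimit (parallelPair u v) := fun {C A u v} =>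
    ⟨⟨⟨_, coeqIsColimit hnoeth u v⟩⟩⟩
  hasCoequalizers_of_hasColimit_parallelPair (FEt X)

end Groth.Agent.Helper22.FEtObj
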