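import Mathlib
import Groth.Prelude.Def_SchFin2
import Groth.Agent.Lib.Helper22.FEtAlg
import Groth.Agent.Lib.Helper22.FEtObj
import Groth.Agent.Lib.Helper22.FEtQuot
import Groth.Agent.Lib.Helper22.FEtCoeq

set_option autoImplicit false
set_option backward.isDefEq.respectTransparency false
set_option backward.isDefEq.respectTransparency.types false
set_option maxHeartbeats 400000

open CategoryTheory CategoryTheory.Limits SchFin TensorProduct

namespace Groth.Agent.Helper22.FEtObj

open Groth.Agent.Helper22.FEtAlg

universe u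

section BCTensor

variable {R S : Type u} [CommRing R] [CommRing S] [Algebra R S]

theorem isBaseChange_tensor {M N M' N' P : Type u}
    [AddCommGroup M] [AddCommGroup N] [AddCommGroup M'] [AddCommGroup N'] [AddCommGroup P]
    [Module R M] [Module R N] [Module S N] [IsScalarTower R S N]
    [Module R M'] [Module R N'] [Module S N'] [IsScalarTower R S N']
    [Module R P] [Module S P] [IsScalarTower R S P]
    (f : M →ₗ[R] N) (hf : IsBaseChange S f) (f' : M' →ₗ[R] N') (hf' : IsBaseChange S f')
    (e : P ≃ₗ[S] N ⊗[S] N')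
    (F : M ⊗[R] M' →ₗ[R] P) (hF : ∀ m m', e (F (m ⊗ₜ m')) = f m ⊗ₜ f' m') :
    IsBaseChange S F := by
  apply IsBaseChange.of_lift_unique
  intro Q _ _ _ _ h
  let L0 : M → (N' →ₗ[S] Q) := fun a => hf'.lift (h.comp (TensorProduct.mk R M M' a))
  have hL0 : ∀ a m', L0 a (f' m') = h (a ⊗ₜ m') := fun a m' => hf'.lift_eq _ m'
  let L : M →ₗ[R] (N' →ₗ[S] Q) :=
    { toFun := L0
      map_add' := fun a b => hf'.algHom_ext _ _ (fun m' => by
        rw [LinearMap.add_apply, hL0, hL0, hL0, TensorProduct.add_tmul, map_add])
      map_smul' := fun r a => hf'.algHom_ext _ _ (fun m' => by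
        rw [RingHom.id_apply, LinearMap.smul_apply, hL0, hL0, ← TensorProduct.smul_tmul',
          map_smul]) }
  let L' : N →ₗ[S] (N' →ₗ[S] Q) := hf.lift L
  have hL' : ∀ m, L' (f m) = L m := fun m => hf.lift_eq _ m
  let el : P →ₗ[S] N ⊗[S] N' := e.toLinearMap
  let G : P →ₗ[S] Q := (TensorProduct.lift L').comp el
  refine ⟨G, ?_, ?_⟩
  · apply TensorProduct.ext'
    intro m m'
    show (TensorProduct.lift L') (e (F (m ⊗ₜ m'))) = h (m ⊗ₜ m')
    rw [hF, TensorProduct.lift.tmul, hL']
    exact hL0 m m'
  · intro g' hg'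
    let es : N ⊗[S] N' →ₗ[S] P := e.symm.toLinearMap
    let g'' : N ⊗[S] N' →ₗ[S] Q := g'.comp es
    have hes : ∀ m m', e.symm (f m ⊗ₜ f' m') = F (m ⊗ₜ m') := fun m m' => by
      rw [LinearEquiv.symm_apply_eq, hF]
    have hcur : TensorProduct.curry g'' = L' := hf.algHom_ext _ _ (fun m => by
      rw [hL']
      apply hf'.algHom_ext
      intro m'
      show g' (e.symm (f m ⊗ₜ f' m')) = L0 m (f' m')
      rw [hes, hL0]
      exact LinearMap.congr_fun hg' (m ⊗ₜ m'))
    have hg'' : g'' = TensorProduct.lift L' := by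
      apply TensorProduct.ext'
      intro n n'
      rw [TensorProduct.lift.tmul, ← hcur]
      rfl
    apply LinearMap.ext
    intro y
    show g' y = (TensorProduct.lift L') (e y)
    rw [← hg'']
    show g' y = g' (e.symm (e y))
    rw [LinearEquiv.symm_apply_apply]

end BCTensor

theorem isBCAlong_tensor {R S : Type u} [CommRing R] [CommRing S] (g : R →+* S)
    {M N M' N' P : Type u}
    [AddCommGroup M] [AddCommGroup N] [AddCommGroup M'] [AddCommGroup N'] [AddCommGroup P]
    [Module R M] [Module S N] [Module R M'] [Module S N'] [Module S P]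
    (f : M →ₛₗ[g] N) (hf : IsBCAlong g f) (f' : M' →ₛₗ[g] N') (hf' : IsBCAlong g f')
    (e : P ≃ₗ[S] N ⊗[S] N')
    (F : M ⊗[R] M' →ₛₗ[g] P) (hF : ∀ m m', e (F (m ⊗ₜ m')) = f m ⊗ₜ f' m') :
    IsBCAlong g F := by
  letI : Algebra R S := g.toAlgebra
  letI : Module R N := Module.compHom N g
  haveI : IsScalarTower R S N := IsScalarTower.of_algebraMap_smul fun _ _ => rfl
  letI : Module R N' := Module.compHom N' g
  haveI : IsScalarTower R S N' := IsScalarTower.of_algebraMap_smul fun _ _ => rfl
  letI : Module R P := Module.compHom P g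
  haveI : IsScalarTower R S P := IsScalarTower.of_algebraMap_smul fun _ _ => rfl
  exact isBaseChange_tensor (S := S)
    ({ toFun := f, map_add' := f.map_add, map_smul' := f.map_smulₛₗ } : M →ₗ[R] N) hf
    ({ toFun := f', map_add' := f'.map_add, map_smul' := f'.map_smulₛₗ } : M' →ₗ[R] N') hf'
    e
    ({ toFun := F, map_add' := F.map_add, map_smul' := F.map_smulₛₗ } : M ⊗[R] M' →ₗ[R] P)
    hF

variable {X : RSpace.{u}}

/-- restriction on tensor products of algebras -/
noncomputable def tensorRes (A B : Alg X) {p q : X.pt} (h : p ≤ q) :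
    (A.carrier p ⊗[X.ring p] B.carrier p) →+* (A.carrier q ⊗[X.ring q] B.carrier q) :=
  letI : Algebra (X.ring p) (A.carrier q ⊗[X.ring q] B.carrier q) :=
    ((algebraMap (X.ring q) (A.carrier q ⊗[X.ring q] B.carrier q)).comp (X.res h)).toAlgebra
  (Algebra.TensorProduct.lift
    ({ toRingHom := (Algebra.TensorProduct.includeLeftRingHom :
          A.carrier q →+* A.carrier q ⊗[X.ring q] B.carrier q).comp (A.res h)
       commutes' := fun r => by
         show (A.res h (algebraMap _ _ r)) ⊗ₜ[X.ring q] (1 : B.carrier q) =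
           algebraMap (X.ring q) _ (X.res h r)
         rw [A.res_algebraMap, Algebra.TensorProduct.algebraMap_apply] } :
      A.carrier p →ₐ[X.ring p] (A.carrier q ⊗[X.ring q] B.carrier q))
    ({ toRingHom := (Algebra.TensorProduct.includeRight (R := X.ring q) (A := A.carrier q)
          (B := B.carrier q)).toRingHom.comp (B.res h)
       commutes' := fun r => by
         show (1 : A.carrier q) ⊗ₜ[X.ring q] (B.res h (algebraMap _ _ r)) =
           algebraMap (X.ring q) _ (X.res h r)
         rw [B.res_algebraMap, Algebra.TensorProduct.algebraMap_apply,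
           Algebra.algebraMap_eq_smul_one (A := B.carrier q),
           Algebra.algebraMap_eq_smul_one (A := A.carrier q), TensorProduct.smul_tmul] } :
      B.carrier p →ₐ[X.ring p] (A.carrier q ⊗[X.ring q] B.carrier q))
    (fun _ _ => Commute.all _ _)).toRingHom

theorem tensorRes_tmul (A B : Alg X) {p q : X.pt} (h : p ≤ q) (a : A.carrier p)
    (b : B.carrier p) : tensorRes A B h (a ⊗ₜ b) = A.res h a ⊗ₜ B.res h b := by
  have h0 : tensorRes A B h (a ⊗ₜ b) =
      (A.res h a ⊗ₜ[X.ring q] (1 : B.carrier q)) * ((1 : A.carrier q) ⊗ₜ[X.ring q] B.res h b) :=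
    rfl
  rw [h0, Algebra.TensorProduct.tmul_mul_tmul, mul_one, one_mul]

noncomputable def tensorAlg (A B : Alg X) : Alg X where
  carrier p := A.carrier p ⊗[X.ring p] B.carrier p
  res h := tensorRes A B h
  res_algebraMap {p q} h r := by
    show tensorRes A B h (algebraMap _ _ r) = algebraMap _ _ (X.res h r)
    rw [Algebra.TensorProduct.algebraMap_apply, tensorRes_tmul, A.res_algebraMap, map_one,
      Algebra.TensorProduct.algebraMap_apply]
  res_self p t := by
    induction t using TensorProduct.induction_on with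
    | zero => exact map_zero _
    | tmul a b => rw [tensorRes_tmul, A.res_self, B.res_self]
    | add x y hx hy => rw [map_add, hx, hy]
  res_comp h h' t := by
    induction t using TensorProduct.induction_on with
    | zero => rw [map_zero, map_zero, map_zero]
    | tmul a b => rw [tensorRes_tmul, tensorRes_tmul, tensorRes_tmul, A.res_comp, B.res_comp]
    | add x y hx hy => rw [map_add, map_add, map_add, hx, hy]

theorem tensorAlg_isQcoh {A B : Alg X} (hA : A.IsQcoh) (hB : B.IsQcoh) :
    (tensorAlg A B).IsQcoh := by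
  intro p q h
  let e : (tensorAlg A B).toMod.carrier q ≃ₗ[X.ring q]
      (A.carrier q ⊗[X.ring q] B.carrier q) :=
    { toFun := id, invFun := id, map_add' := fun _ _ => rfl, map_smul' := fun _ _ => rfl,
      left_inv := fun _ => rfl, right_inv := fun _ => rfl }
  exact isBCAlong_tensor (M := A.carrier p) (N := A.carrier q) (M' := B.carrier p)
    (N' := B.carrier q) (X.res h) (A.toMod.res h) (hA p q h) (B.toMod.res h) (hB p q h) e
    ((tensorAlg A B).toMod.res h) (fun m m' => tensorRes_tmul A B h m m')

noncomputable def coprodObj (A B : FEt X) : FEt X :=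
  ⟨tensorAlg A.obj B.obj, by
    refine And.intro (tensorAlg_isQcoh A.property.1 B.property.1) (fun p => ?_)
    haveI := (A.property.2 p).1
    haveI := (A.property.2 p).2
    haveI := (B.property.2 p).1
    haveI := (B.property.2 p).2
    refine And.intro (inferInstance :
      Module.Finite (X.ring p) (A.obj.carrier p ⊗[X.ring p] B.obj.carrier p)) ?_
    haveI : Algebra.Etale (A.obj.carrier p) (A.obj.carrier p ⊗[X.ring p] B.obj.carrier p) :=
      inferInstance
    exact Algebra.Etale.comp (X.ring p) (A.obj.carrier p)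
      (A.obj.carrier p ⊗[X.ring p] B.obj.carrier p)⟩

noncomputable def cinl (A B : FEt X) : A ⟶ coprodObj A B :=
  ObjectProperty.homMk (Alg.Hom.mk
    (fun p => (Algebra.TensorProduct.includeLeft :
      A.obj.carrier p →ₐ[X.ring p] A.obj.carrier p ⊗[X.ring p] B.obj.carrier p))
    (fun {p q} h a => by
      show tensorRes A.obj B.obj h (a ⊗ₜ 1) = (A.obj.res h a) ⊗ₜ 1
      rw [tensorRes_tmul, map_one]))

noncomputable def cinr (A B : FEt X) : B ⟶ coprodObj A B :=
  ObjectProperty.homMk (Alg.Hom.mk
    (fun p => (Algebra.TensorProduct.includeRight :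
      B.obj.carrier p →ₐ[X.ring p] A.obj.carrier p ⊗[X.ring p] B.obj.carrier p))
    (fun {p q} h b => by
      show tensorRes A.obj B.obj h (1 ⊗ₜ b) = 1 ⊗ₜ (B.obj.res h b)
      rw [tensorRes_tmul, map_one]))

noncomputable def cdesc {A B D : FEt X} (u : A ⟶ D) (v : B ⟶ D) : coprodObj A B ⟶ D :=
  ObjectProperty.homMk (Alg.Hom.mk
    (fun p => Algebra.TensorProduct.productMap (u.hom.app p) (v.hom.app p))
    (fun {p q} h t => by
      induction t using TensorProduct.induction_on with
      | zero => simp only [map_zero]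
      | tmul a b =>
          show D.obj.res h (Algebra.TensorProduct.productMap (u.hom.app p) (v.hom.app p) (a ⊗ₜ b)) =
            Algebra.TensorProduct.productMap (u.hom.app q) (v.hom.app q)
              (tensorRes A.obj B.obj h (a ⊗ₜ b))
          rw [tensorRes_tmul, Algebra.TensorProduct.productMap_apply_tmul,
            Algebra.TensorProduct.productMap_apply_tmul, map_mul, u.hom.compat, v.hom.compat]
      | add x y hx hy => simp only [map_add, hx, hy]))

noncomputable def coprodIsColimit (A B : FEt X) :
    IsColimit (BinaryCofan.mk (cinl A B) (cinr A B)) :=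
  BinaryCofan.isColimitMk (fun s => cdesc s.inl s.inr)
    (fun s => ObjectProperty.hom_ext _ (Alg.hom_ext _ _ (fun p => AlgHom.ext fun a => by
      show Algebra.TensorProduct.productMap (s.inl.hom.app p) (s.inr.hom.app p) (a ⊗ₜ 1) =
        s.inl.hom.app p a
      rw [Algebra.TensorProduct.productMap_apply_tmul, map_one, mul_one]
      all_goals rfl)))
    (fun s => ObjectProperty.hom_ext _ (Alg.hom_ext _ _ (fun p => AlgHom.ext fun b => by
      show Algebra.TensorProduct.productMap (s.inl.hom.app p) (s.inr.hom.app p) (1 ⊗ₜ b) =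
        s.inr.hom.app p b
      rw [Algebra.TensorProduct.productMap_apply_tmul, map_one, one_mul]
      all_goals rfl)))
    (fun s m h1 h2 => ObjectProperty.hom_ext _ (Alg.hom_ext _ _ (fun p => AlgHom.ext fun t => by
      induction t using TensorProduct.induction_on with
      | zero => simp only [map_zero]
      | tmul a b =>
          have e1 : m.hom.app p (a ⊗ₜ 1) = s.inl.hom.app p a :=
            congrArg (fun t => t.hom.app p a) h1
          have e2 : m.hom.app p (1 ⊗ₜ b) = s.inr.hom.app p b :=
            congrArg (fun t => t.hom.app p b) h2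
          have e3 : (a ⊗ₜ[X.ring p] b : A.obj.carrier p ⊗[X.ring p] B.obj.carrier p) =
              (a ⊗ₜ 1) * (1 ⊗ₜ b) := by
            rw [Algebra.TensorProduct.tmul_mul_tmul, mul_one, one_mul]
          show m.hom.app p (a ⊗ₜ b) =
            Algebra.TensorProduct.productMap (s.inl.hom.app p) (s.inr.hom.app p) (a ⊗ₜ b)
          rw [Algebra.TensorProduct.productMap_apply_tmul, e3, map_mul, e1, e2]
          all_goals rfl
      | add x y hx hy => simp only [map_add, hx, hy])))

theorem hasBinaryCoproducts : HasBinaryCoproducts (FEt X) :=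
  haveI : ∀ {A B : FEt X}, HasColimit (pair A B) := fun {A B} => ⟨⟨⟨_, coprodIsColimit A B⟩⟩⟩
  hasBinaryCoproducts_of_hasColimit_pair (FEt X)

theorem hasPushouts (hnoeth : ∀ p : X.pt, IsNoetherianRing (X.ring p)) :
    HasPushouts (FEt X) := by
  haveI := hasBinaryCoproducts (X := X)
  haveI := hasCoequalizers hnoeth
  exact hasPushouts_of_hasBinaryCoproducts_of_hasCoequalizers (FEt X)

end Groth.Agent.Helper22.FEtObj
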