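import Mathlib
import Groth.Prelude.Def_SchFin2
import Groth.Agent.Lib.Helper22.FEtAlg

set_option autoImplicit false
set_option maxHeartbeats 400000
set_option backward.isDefEq.respectTransparency false
set_option backward.isDefEq.respectTransparency.types false

open TensorProduct CategoryTheory SchFin

namespace Groth.Agent.Helper22.FEtObj

universe u

/-- A finite projective algebra with injective structure map admits a linear retraction. -/
theorem exists_retraction (A B : Type u) [CommRing A] [CommRing B] [Algebra A B]
    [Module.Finite A B] [Module.Projective A B] (hinj : Function.Injective (algebraMap A B)) :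
    ∃ ρ : B →ₗ[A] A, ρ 1 = 1 := by
  obtain ⟨s, hs⟩ := (Module.projective_def (R := A) (P := B)).1 inferInstance
  let T : Ideal A := Ideal.span (Set.range fun pq : B × B => s pq.1 pq.2)
  have h1 : (⊤ : Submodule A B) ≤ T • (⊤ : Submodule A B) := by
    intro b _
    have hb : b = Finsupp.linearCombination A id (s b) := (hs b).symm
    rw [hb, Finsupp.linearCombination_apply]
    refine Submodule.sum_mem _ (fun q _ => ?_)
    exact Submodule.smul_mem_smul (Ideal.subset_span ⟨(b, q), rfl⟩) Submodule.mem_top
  obtain ⟨r, hr1, hr2⟩ := Submodule.exists_sub_one_mem_and_smul_eq_zero_of_fg_of_le_smul T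
    (⊤ : Submodule A B) Module.Finite.fg_top h1
  have hr0 : r = 0 := by
    have := hr2 1 Submodule.mem_top
    rw [Algebra.smul_def, mul_one] at this
    exact hinj (this.trans (map_zero _).symm)
  have h1T : (1 : A) ∈ T := by
    have : -(r - 1) ∈ T := T.neg_mem hr1
    rwa [hr0, zero_sub, neg_neg] at this
  let ev : (B →ₗ[A] A) →ₗ[A] A := LinearMap.applyₗ (1 : B)
  have hT : T ≤ LinearMap.range ev := by
    refine Ideal.span_le.2 ?_
    rintro _ ⟨⟨p, q⟩, rfl⟩
    refine ⟨((Finsupp.lapply q).comp s).comp (LinearMap.mulLeft A p), ?_⟩
    change (s (p * 1)) q = (s p) q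
    rw [mul_one]
  obtain ⟨ρ, hρ⟩ := hT h1T
  exact ⟨ρ, hρ⟩

/-- An injective map of finite etale algebras with equal ranks is bijective. -/
theorem bijective_of_injective_of_rank_eq {R A B : Type u} [CommRing R] [CommRing A] [CommRing B]
    [Algebra R A] [Algebra R B] [Algebra.Etale R A] [Algebra.Etale R B]
    [Module.Finite R A] [Module.Finite R B]
    (f : A →ₐ[R] B) (hf : Function.Injective f)
    (hr : ∀ P : PrimeSpectrum R, Module.rankAtStalk A P = Module.rankAtStalk B P) :
    Function.Bijective f := by
  letI : Algebra A B := f.toRingHom.toAlgebra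
  haveI : IsScalarTower R A B := IsScalarTower.of_algebraMap_eq (fun r => (f.commutes r).symm)
  haveI : Algebra.Etale A B := Algebra.Etale.of_restrictScalars (R := R) (A := A) (B := B)
  haveI : Module.Finite A B := Module.Finite.of_restrictScalars_finite R A B
  haveI : Module.FinitePresentation A B :=
    Module.FinitePresentation.of_finite_of_finitePresentation A B
  haveI : Module.Flat A B := inferInstance
  haveI : Module.Projective A B := Module.Flat.projective_of_finitePresentation
  obtain ⟨ρ, hρ⟩ := exists_retraction A B (show Function.Injective (algebraMap A B) from hf)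
  let ρR : B →ₗ[R] A := ρ.restrictScalars R
  have hρf : ∀ a : A, ρ (f a) = a := by
    intro a
    have : f a = a • (1 : B) := by
      rw [Algebra.smul_def, mul_one]; rfl
    rw [this, map_smul, hρ, smul_eq_mul, mul_one]
  have hsurj : Function.Surjective ρR := fun a => ⟨f a, hρf a⟩
  haveI : Module.Flat R A := inferInstance
  haveI : Module.Flat R B := inferInstance
  have hbij : Function.Bijective ρR :=
    Module.bijective_of_surjective_of_rankAtStalk_eq hsurj
      (fun m _ => (hr ⟨m, inferInstance⟩).symm)
  refine ⟨hf, fun b => ⟨ρ b, hbij.1 ?_⟩⟩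
  exact hρf (ρ b)

/-- A surjective map of finite etale algebras with equal ranks is bijective. -/
theorem bijective_of_surjective_of_rank_eq {R A B : Type u} [CommRing R] [CommRing A] [CommRing B]
    [Algebra R A] [Algebra R B] [Algebra.Etale R A] [Algebra.Etale R B]
    [Module.Finite R A] [Module.Finite R B]
    (f : A →ₐ[R] B) (hf : Function.Surjective f)
    (hr : ∀ P : PrimeSpectrum R, Module.rankAtStalk A P = Module.rankAtStalk B P) :
    Function.Bijective f := by
  haveI : Module.Flat R A := inferInstance
  haveI : Module.Flat R B := inferInstance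
  exact Module.bijective_of_surjective_of_rankAtStalk_eq (φ := f.toLinearMap) hf
    (fun m _ => hr ⟨m, inferInstance⟩)

variable {X : RSpace.{u}}

/-- A morphism of etale covers which is bijective at every point is an isomorphism. -/
theorem isIso_of_bijective {A B : FEt X} (f : A ⟶ B)
    (h : ∀ p, Function.Bijective (f.hom.app p)) : IsIso f := by
  let e : ∀ p, A.obj.carrier p ≃ₐ[X.ring p] B.obj.carrier p :=
    fun p => AlgEquiv.ofBijective (f.hom.app p) (h p)
  let g : B ⟶ A := ObjectProperty.homMk (Alg.Hom.mk
    (fun p => ((e p).symm : B.obj.carrier p →ₐ[X.ring p] A.obj.carrier p))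
    (fun {p q} hpq b => by
      apply (h q).1
      show f.hom.app q (A.obj.res hpq ((e p).symm b)) =
        f.hom.app q ((e q).symm (B.obj.res hpq b))
      rw [← f.hom.compat]
      have h1 : f.hom.app p ((e p).symm b) = b := (e p).apply_symm_apply b
      have h2 : f.hom.app q ((e q).symm (B.obj.res hpq b)) = B.obj.res hpq b :=
        (e q).apply_symm_apply _
      rw [h1, h2]))
  refine ⟨⟨g, ?_, ?_⟩⟩
  · apply ObjectProperty.hom_ext
    apply Alg.hom_ext
    intro p
    apply AlgHom.ext
    intro a
    exact (e p).symm_apply_apply a
  · apply ObjectProperty.hom_ext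
    apply Alg.hom_ext
    intro p
    apply AlgHom.ext
    intro b
    exact (e p).apply_symm_apply b

/-- An isomorphism of etale covers is bijective at every point. -/
theorem bijective_of_isIso {A B : FEt X} (f : A ⟶ B) [IsIso f] (p : X.pt) :
    Function.Bijective (f.hom.app p) := by
  have h1 : ∀ a, (inv f).hom.app p (f.hom.app p a) = a := by
    intro a
    have := congrArg (fun t => t.hom.app p a) (IsIso.hom_inv_id f)
    exact this
  have h2 : ∀ b, f.hom.app p ((inv f).hom.app p b) = b := by
    intro b
    have := congrArg (fun t => t.hom.app p b) (IsIso.inv_hom_id f)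
    exact this
  exact ⟨Function.LeftInverse.injective h1, Function.RightInverse.surjective h2⟩

end Groth.Agent.Helper22.FEtObj
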