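import Mathlib
import Groth.Prelude.Def_SchFin2
import Groth.Agent.Lib.Helper22.FEtAlg
import Groth.Agent.Lib.Helper22.FEtObj
import Groth.Agent.Lib.Helper22.FEtQuot
import Groth.Agent.Lib.Helper22.FEtRank

set_option autoImplicit false
set_option maxHeartbeats 400000
set_option backward.isDefEq.respectTransparency false
set_option backward.isDefEq.respectTransparency.types false

open TensorProduct CategoryTheory SchFin

namespace Groth.Agent.Helper22.FEtObj

universe u

/-- Over an algebraically closed field, an etale algebra has as many primes as its dimension. -/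
theorem card_spec_etale_algClosed (Ω T : Type u) [Field Ω] [IsAlgClosed Ω] [CommRing T]
    [Algebra Ω T] [Algebra.Etale Ω T] :
    Nat.card (PrimeSpectrum T) = Module.finrank Ω T := by
  obtain ⟨I, _, Ai, _, _, e, H⟩ :=
    (Algebra.Etale.iff_exists_algEquiv_prod (K := Ω) (A := T)).1 inferInstance
  haveI : ∀ i, Module.Finite Ω (Ai i) := fun i => (H i).1
  have hfin : ∀ i, Module.finrank Ω (Ai i) = 1 := by
    intro i
    haveI : Algebra.IsIntegral Ω (Ai i) := Algebra.IsIntegral.of_finite Ω (Ai i)
    have hb := IsAlgClosed.algebraMap_bijective_of_isIntegral (k := Ω) (K := Ai i)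
    have := (LinearEquiv.ofBijective (Algebra.linearMap Ω (Ai i)) hb).finrank_eq
    rw [Module.finrank_self] at this
    exact this.symm
  haveI : Fintype I := Fintype.ofFinite I
  have h1 : Module.finrank Ω T = Fintype.card I := by
    rw [e.toLinearEquiv.finrank_eq, Module.finrank_pi_fintype]
    simp [hfin]
  have h2 : Nat.card (PrimeSpectrum T) = Fintype.card I := by
    have e1 : PrimeSpectrum T ≃ PrimeSpectrum (Π i, Ai i) :=
      (PrimeSpectrum.comapEquiv e.toRingEquiv).toEquiv
    have e2 : (Σ i, PrimeSpectrum (Ai i)) ≃ PrimeSpectrum (Π i, Ai i) :=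
      Equiv.ofBijective _ (PrimeSpectrum.sigmaToPi_bijective Ai)
    have e3 : (Σ i, PrimeSpectrum (Ai i)) ≃ I :=
      Equiv.sigmaUnique I (fun i => PrimeSpectrum (Ai i))
    rw [Nat.card_congr (e1.trans (e2.symm.trans e3)), Nat.card_eq_fintype_card]
  rw [h1, h2]

theorem card_spec_tensor {R E : Type u} (Ω : Type u) [CommRing R] [CommRing E] [Algebra R E]
    [Module.Finite R E] [Algebra.Etale R E] [Field Ω] [IsAlgClosed Ω] [Algebra R Ω] :
    Nat.card (PrimeSpectrum (Ω ⊗[R] E)) =
      Module.rankAtStalk E (PrimeSpectrum.comap (algebraMap R Ω) default) := by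
  haveI : Module.Flat R E := inferInstance
  have h1 : Module.rankAtStalk (Ω ⊗[R] E) (default : PrimeSpectrum Ω) =
      Module.finrank Ω (Ω ⊗[R] E) := by
    rw [Module.rankAtStalk_eq_finrank_of_free]
    simp
  rw [card_spec_etale_algClosed Ω (Ω ⊗[R] E), ← h1,
    Module.rankAtStalk_baseChange (S := Ω) (M := E) default]

theorem rankAtStalk_of_isBCAlong {R S : Type u} [CommRing R] [CommRing S] (g : R →+* S)
    {M N : Type u} [AddCommGroup M] [AddCommGroup N] [Module R M] [Module S N]
    [Module.Finite R M] [Module.Flat R M]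
    (f : M →ₛₗ[g] N) (hf : IsBCAlong g f) (Q : PrimeSpectrum S) :
    Module.rankAtStalk N Q = Module.rankAtStalk M (PrimeSpectrum.comap g Q) := by
  letI : Algebra R S := g.toAlgebra
  letI : Module R N := Module.compHom N g
  haveI : IsScalarTower R S N := IsScalarTower.of_algebraMap_smul fun _ _ => rfl
  exact Module.rankAtStalk_isBaseChange (S := S)
    (f := ({ toFun := f, map_add' := f.map_add, map_smul' := f.map_smulₛₗ } : M →ₗ[R] N)) hf Q

variable {X : RSpace.{u}}

theorem rank_const_pt (hpw : X.IsPwConnected) (E : FEt X) (p : X.pt)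
    (P P' : PrimeSpectrum (X.ring p)) :
    Module.rankAtStalk (E.obj.carrier p) P = Module.rankAtStalk (E.obj.carrier p) P' := by
  haveI := (E.property.2 p).1
  haveI := (E.property.2 p).2
  haveI : Module.FinitePresentation (X.ring p) (E.obj.carrier p) :=
    Module.FinitePresentation.of_finite_of_finitePresentation _ _
  haveI : Module.Flat (X.ring p) (E.obj.carrier p) := inferInstance
  haveI := hpw p
  exact (Module.isLocallyConstant_rankAtStalk (R := X.ring p)
    (M := E.obj.carrier p)).apply_eq_of_preconnectedSpace P P'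

theorem rank_le (E : FEt X) {p q : X.pt} (h : p ≤ q) (Q : PrimeSpectrum (X.ring q)) :
    Module.rankAtStalk (E.obj.carrier q) Q =
      Module.rankAtStalk (E.obj.carrier p) (PrimeSpectrum.comap (X.res h) Q) := by
  haveI := (E.property.2 p).1
  haveI := (E.property.2 p).2
  haveI : Module.Flat (X.ring p) (E.obj.carrier p) := inferInstance
  exact rankAtStalk_of_isBCAlong (X.res h) (M := E.obj.carrier p) (N := E.obj.carrier q)
    (E.obj.toMod.res h) (E.property.1 p q h) Q

theorem rank_const (htop : X.IsTopConnected) (hpw : X.IsPwConnected) (E : FEt X)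
    (p q : X.pt) (P : PrimeSpectrum (X.ring p)) (Q : PrimeSpectrum (X.ring q)) :
    Module.rankAtStalk (E.obj.carrier p) P = Module.rankAtStalk (E.obj.carrier q) Q := by
  have key : ∀ p q : X.pt, Relation.EqvGen (fun a b : X.pt => a ≤ b) p q →
      ∀ (P : PrimeSpectrum (X.ring p)) (Q : PrimeSpectrum (X.ring q)),
      Module.rankAtStalk (E.obj.carrier p) P = Module.rankAtStalk (E.obj.carrier q) Q := by
    intro p q hpq
    induction hpq with
    | rel a b hab =>
      intro P Q
      rw [rank_le E hab Q]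
      exact rank_const_pt hpw E a _ _
    | refl a => exact fun P Q => rank_const_pt hpw E a P Q
    | symm a b _ ih => exact fun P Q => (ih Q P).symm
    | trans a b c _ _ ih1 ih2 =>
      intro P Q
      haveI := hpw b
      obtain ⟨Q0⟩ : Nonempty (PrimeSpectrum (X.ring b)) := inferInstance
      exact (ih1 P Q0).trans (ih2 Q0 Q)
  exact key p q (htop.2 p q) P Q

variable {Ω : Type u} [Field Ω] [IsAlgClosed Ω]

/-- the prime of the ring of the base point under a geometric point -/
noncomputable def kerPrime (ξ : GeomPt X Ω) : PrimeSpectrum (X.ring ξ.base) :=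
  PrimeSpectrum.comap ξ.toField default

theorem card_fib (ξ : GeomPt X Ω) (E : FEt X) :
    Nat.card (ξ.Fib E.obj) = Module.rankAtStalk (E.obj.carrier ξ.base) (kerPrime ξ) := by
  letI : Algebra (X.ring ξ.base) Ω := ξ.toField.toAlgebra
  haveI := (E.property.2 ξ.base).1
  haveI := (E.property.2 ξ.base).2
  exact card_spec_tensor (R := X.ring ξ.base) (E := E.obj.carrier ξ.base) Ω

theorem fibMap_injective (ξ : GeomPt X Ω) {A B : Alg X} (f : A ⟶ B)
    (hf : Function.Surjective (f.app ξ.base)) : Function.Injective (ξ.fibMap f) := by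
  letI : Algebra (X.ring ξ.base) Ω := ξ.toField.toAlgebra
  apply PrimeSpectrum.comap_injective_of_surjective
  exact Algebra.TensorProduct.map_surjective (f := AlgHom.id Ω Ω) (g := f.app ξ.base)
    Function.surjective_id hf

theorem iso_of_fib_bij (hX : X.IsSchematic) (htop : X.IsTopConnected) (hpw : X.IsPwConnected)
    (ξ : GeomPt X Ω) {A B : FEt X} (f : A ⟶ B)
    (hbij : Function.Bijective (ξ.fibMap f.hom)) : IsIso f := by
  have hflat := hX.1.2
  obtain ⟨Q, g, h, hgh, hg, hh⟩ := epi_mono_fact hflat f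
  have hAB : Nat.card (ξ.Fib B.obj) = Nat.card (ξ.Fib A.obj) :=
    Nat.card_congr (Equiv.ofBijective _ hbij)
  have hfg : ξ.fibMap f.hom = ξ.fibMap g.hom ∘ ξ.fibMap h.hom := by
    rw [← hgh]
    exact ξ.fibMap_comp g.hom h.hom
  have hgsurj : Function.Surjective (ξ.fibMap g.hom) := by
    intro y
    obtain ⟨z, hz⟩ := hbij.2 y
    refine ⟨ξ.fibMap h.hom z, ?_⟩
    rw [← hz, hfg]
    rfl
  have hginj : Function.Injective (ξ.fibMap g.hom) := fibMap_injective ξ g.hom (hg ξ.base)
  have hQA : Nat.card (ξ.Fib Q.obj) = Nat.card (ξ.Fib A.obj) :=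
    Nat.card_congr (Equiv.ofBijective _ ⟨hginj, hgsurj⟩)
  have cA := card_fib ξ A
  have cB := card_fib ξ B
  have cQ := card_fib ξ Q
  have rAQ : ∀ (p : X.pt) (P : PrimeSpectrum (X.ring p)),
      Module.rankAtStalk (A.obj.carrier p) P = Module.rankAtStalk (Q.obj.carrier p) P := by
    intro p P
    rw [rank_const htop hpw A p ξ.base P (kerPrime ξ), rank_const htop hpw Q p ξ.base P (kerPrime ξ),
      ← cA, ← cQ, hQA]
  have rQB : ∀ (p : X.pt) (P : PrimeSpectrum (X.ring p)),
      Module.rankAtStalk (Q.obj.carrier p) P = Module.rankAtStalk (B.obj.carrier p) P := by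
    intro p P
    rw [rank_const htop hpw B p ξ.base P (kerPrime ξ), rank_const htop hpw Q p ξ.base P (kerPrime ξ),
      ← cB, ← cQ, hQA, hAB]
  apply isIso_of_bijective
  intro p
  haveI := (A.property.2 p).1
  haveI := (A.property.2 p).2
  haveI := (B.property.2 p).1
  haveI := (B.property.2 p).2
  haveI := (Q.property.2 p).1
  haveI := (Q.property.2 p).2
  have hgb := bijective_of_surjective_of_rank_eq (g.hom.app p) (hg p) (rAQ p)
  have hhb := bijective_of_injective_of_rank_eq (h.hom.app p) (hh p) (rQB p)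
  have hcomp : ⇑(f.hom.app p) = ⇑(h.hom.app p) ∘ ⇑(g.hom.app p) := by
    rw [← hgh]
    rfl
  rw [hcomp]
  exact hhb.comp hgb

theorem fibFunctor_reflects (hX : X.IsSchematic) (htop : X.IsTopConnected)
    (hpw : X.IsPwConnected) (ξ : GeomPt X Ω) : ξ.fibFunctor.ReflectsIsomorphisms := by
  refine ⟨fun {A B} φ hφ => ?_⟩
  have h1 : IsIso (FintypeCat.incl.map (ξ.fibFunctor.map φ)) := inferInstance
  have h2 : Function.Bijective (ξ.fibMap φ.unop.hom) :=
    (isIso_iff_bijective (FintypeCat.incl.map (ξ.fibFunctor.map φ))).1 h1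
  have h3 : IsIso φ.unop := iso_of_fib_bij hX htop hpw ξ φ.unop h2
  exact (isIso_unop_iff φ).1 h3

end Groth.Agent.Helper22.FEtObj
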