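import Mathlib
import Groth.Prelude.Def_SchFin2
import Groth.Agent.Lib.Helper22.FEtObj

set_option autoImplicit false
set_option maxHeartbeats 400000
set_option backward.isDefEq.respectTransparency false
set_option backward.isDefEq.respectTransparency.types false

open TensorProduct SchFin

namespace Groth.Agent.Helper22.FEtInv

universe u v

/-! ### characters of a trivial algebra -/

theorem exists_eval {B : Type u} [CommRing B] {K : Type u} [CommRing K] [Algebra B K] [Nontrivial K]
    (hK : ∀ e : K, IsIdempotentElem e → e = 0 ∨ e = 1) {ι : Type v} [Fintype ι] [DecidableEq ι]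
    (χ : (ι → B) →ₐ[B] K) : ∃ i, ∀ x, χ x = algebraMap B K (x i) := by
  have hs : ∑ i, Pi.single i (1 : B) = (1 : ι → B) :=
    Finset.univ_sum_single (fun _ : ι => (1 : B))
  have hsum : ∑ i, χ (Pi.single i (1 : B)) = 1 := by
    rw [← map_sum, hs, map_one]
  have hid : ∀ i, IsIdempotentElem (χ (Pi.single i (1 : B))) := by
    intro i
    show χ (Pi.single i 1) * χ (Pi.single i 1) = χ (Pi.single i 1)
    rw [← map_mul, ← Pi.single_mul, mul_one]
  have hex : ∃ i, χ (Pi.single i (1 : B)) = 1 := by
    by_contra hne
    simp only [not_exists] at hne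
    have h0 : ∀ i, χ (Pi.single i (1 : B)) = 0 := fun i => (hK _ (hid i)).resolve_right (hne i)
    rw [Finset.sum_congr rfl (fun i _ => h0 i), Finset.sum_const_zero] at hsum
    exact zero_ne_one hsum
  obtain ⟨i, hi⟩ := hex
  refine ⟨i, fun x => ?_⟩
  have h1 : x * Pi.single i (1 : B) = (x i) • Pi.single i (1 : B) := by
    funext j
    by_cases hj : j = i
    · rw [hj]
      simp
    · simp [Pi.single_eq_of_ne hj]
  calc χ x = χ x * χ (Pi.single i 1) := by rw [hi, mul_one]
    _ = χ (x * Pi.single i 1) := (map_mul χ _ _).symm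
    _ = χ ((x i) • Pi.single i (1 : B)) := by rw [h1]
    _ = x i • χ (Pi.single i 1) := map_smul χ _ _
    _ = algebraMap B K (x i) := by rw [hi, Algebra.algebraMap_eq_smul_one]

/-! ### a connected quotient of a Noetherian ring -/

theorem exists_connected_quotient (B : Type u) [CommRing B] [IsNoetherianRing B] [Nontrivial B] :
    ∃ f : B, IsIdempotentElem f ∧ f ≠ 1 ∧
      ∀ e : B ⧸ Ideal.span {f}, IsIdempotentElem e → e = 0 ∨ e = 1 := by
  let S : Set (Ideal B) := {I | ∃ f : B, IsIdempotentElem f ∧ f ≠ 1 ∧ I = Ideal.span {f}}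
  have hS : S.Nonempty := ⟨Ideal.span {0}, 0, IsIdempotentElem.zero, zero_ne_one, rfl⟩
  obtain ⟨I, ⟨f, hf, hf1, rfl⟩, hmax⟩ :=
    (set_has_maximal_iff_noetherian (R := B) (M := B)).2 inferInstance S hS
  refine ⟨f, hf, hf1, ?_⟩
  intro ebar hebar
  obtain ⟨e, rfl⟩ := Ideal.Quotient.mk_surjective ebar
  have hff : f * f = f := hf
  have hmem : e * e - e ∈ Ideal.span {f} := by
    rw [← Ideal.Quotient.eq, map_mul]
    exact hebar
  obtain ⟨c, hc⟩ := Ideal.mem_span_singleton'.1 hmem
  have hee : e * e = e + c * f := by rw [hc]; ring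
  have h1f : (1 - f) * f = 0 := by rw [sub_mul, one_mul, hff, sub_self]
  have h2 : (1 - f) * (1 - f) = 1 - f := by rw [mul_sub, mul_one, h1f, sub_zero]
  have he' : ((1 - f) * e) * ((1 - f) * e) = (1 - f) * e := by
    calc (1 - f) * e * ((1 - f) * e) = ((1 - f) * (1 - f)) * (e * e) := by ring
      _ = (1 - f) * (e + c * f) := by rw [h2, hee]
      _ = (1 - f) * e + c * ((1 - f) * f) := by ring
      _ = (1 - f) * e := by rw [h1f, mul_zero, add_zero]
  have hfe' : f * ((1 - f) * e) = 0 := by
    calc f * ((1 - f) * e) = ((1 - f) * f) * e := by ring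
      _ = 0 := by rw [h1f, zero_mul]
  have hmk : Ideal.Quotient.mk (Ideal.span {f}) ((1 - f) * e) =
      Ideal.Quotient.mk (Ideal.span {f}) e := by
    rw [Ideal.Quotient.eq]
    exact Ideal.mem_span_singleton'.2 ⟨-e, by ring⟩
  have hf' : IsIdempotentElem (f + (1 - f) * e) := by
    show (f + (1 - f) * e) * (f + (1 - f) * e) = f + (1 - f) * e
    calc (f + (1 - f) * e) * (f + (1 - f) * e)
        = f * f + 2 * (f * ((1 - f) * e)) + ((1 - f) * e) * ((1 - f) * e) := by ring
      _ = f + (1 - f) * e := by rw [hff, hfe', he', mul_zero, add_zero]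
  have hle : Ideal.span {f} ≤ Ideal.span {f + (1 - f) * e} := by
    rw [Ideal.span_singleton_le_iff_mem]
    exact Ideal.mem_span_singleton'.2 ⟨f, by rw [mul_add, hff, hfe', add_zero]⟩
  have hf0 : Ideal.Quotient.mk (Ideal.span {f}) f = 0 :=
    Ideal.Quotient.eq_zero_iff_mem.2 (Ideal.mem_span_singleton_self f)
  by_cases h1 : f + (1 - f) * e = 1
  · right
    rw [← hmk]
    have h3 : (1 - f) * e = 1 - f := by
      have h4 : (1 - f) * e = (f + (1 - f) * e) - f := by ring
      rw [h4, h1]
    rw [h3, map_sub, map_one, hf0, sub_zero]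
  · left
    have hle' : Ideal.span {f + (1 - f) * e} ≤ Ideal.span {f} := by
      by_contra hnle
      exact hmax _ ⟨f + (1 - f) * e, hf', h1, rfl⟩ (lt_of_le_not_ge hle hnle)
    have hmem' : f + (1 - f) * e ∈ Ideal.span {f} := hle' (Ideal.mem_span_singleton_self _)
    have he'mem : (1 - f) * e ∈ Ideal.span {f} := by
      have h5 := (Ideal.span {f}).sub_mem hmem' (Ideal.mem_span_singleton_self f)
      rwa [add_sub_cancel_left] at h5
    rw [← hmk]
    exact Ideal.Quotient.eq_zero_iff_mem.2 he'mem

/-! ### finite flat algebras over a connected base are faithfully flat -/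

theorem faithfullyFlat_of_connected (R B : Type u) [CommRing R] [CommRing B] [Algebra R B]
    [IsNoetherianRing R] [ConnectedSpace (PrimeSpectrum R)] [Module.Finite R B] [Module.Flat R B]
    [Nontrivial B] : Module.FaithfullyFlat R B := by
  apply Module.FaithfullyFlat.of_comap_surjective
  haveI hfp : Algebra.FinitePresentation R B :=
    Algebra.FinitePresentation.of_finiteType.1 inferInstance
  have hopen : IsOpenMap (PrimeSpectrum.comap (algebraMap R B)) :=
    PrimeSpectrum.isOpenMap_comap_of_hasGoingDown_of_finitePresentation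
  have hclosed : IsClosedMap (PrimeSpectrum.comap (algebraMap R B)) :=
    PrimeSpectrum.isClosedMap_comap_of_isIntegral _ (algebraMap_isIntegral_iff.2 inferInstance)
  have hclopen : IsClopen (Set.range (PrimeSpectrum.comap (algebraMap R B))) :=
    ⟨hclosed.isClosed_range, hopen.isOpen_range⟩
  have hne : (Set.range (PrimeSpectrum.comap (algebraMap R B))).Nonempty := Set.range_nonempty _
  have huniv := hclopen.eq_univ hne
  intro P
  have hP : P ∈ Set.range (PrimeSpectrum.comap (algebraMap R B)) := by
    rw [huniv]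
    exact Set.mem_univ P
  exact hP

/-! ### invariants of a family of endomorphisms -/

section Inv

variable {R A : Type u} [CommRing R] [CommRing A] [Algebra R A] {I : Type v}

/-- the subalgebra of elements fixed by a family of endomorphisms -/
def invSub (φ : I → (A →ₐ[R] A)) : Subalgebra R A where
  carrier := {a | ∀ i, φ i a = a}
  mul_mem' := fun {a b} ha hb i => by rw [map_mul, ha i, hb i]
  one_mem' := fun i => map_one _
  add_mem' := fun {a b} ha hb i => by rw [map_add, ha i, hb i]
  zero_mem' := fun i => map_zero _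
  algebraMap_mem' := fun r i => (φ i).commutes r

theorem mem_invSub (φ : I → (A →ₐ[R] A)) (a : A) : a ∈ invSub φ ↔ ∀ i, φ i a = a := Iff.rfl

theorem finite_invSub [IsNoetherianRing R] [Module.Finite R A] (φ : I → (A →ₐ[R] A)) :
    Module.Finite R (invSub φ) := by
  haveI : IsNoetherian R A := isNoetherian_of_isNoetherianRing_of_finite R A
  exact Module.Finite.of_injective (invSub φ).val.toLinearMap Subtype.val_injective

theorem map_val_eq_lTensor {T : Type u} [CommRing T] [Algebra R T] (C : Subalgebra R A)
    (s : T ⊗[R] C) :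
    Algebra.TensorProduct.map (AlgHom.id T T) C.val s =
      LinearMap.lTensor T C.val.toLinearMap s := by
  induction s using TensorProduct.induction_on with
  | zero => rw [map_zero, map_zero]
  | tmul x c => rfl
  | add s s' hs hs' => rw [map_add, map_add, hs, hs']

theorem exists_of_invariant {T : Type u} [CommRing T] [Algebra R T] [Module.Flat R T]
    [Fintype I] [DecidableEq I] (φ : I → (A →ₐ[R] A)) (t : T ⊗[R] A)
    (ht : ∀ i, Algebra.TensorProduct.map (AlgHom.id T T) (φ i) t = t) :
    ∃ s : T ⊗[R] (invSub φ),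
      Algebra.TensorProduct.map (AlgHom.id T T) (invSub φ).val s = t := by
  let δ : A →ₗ[R] (I → A) := LinearMap.pi fun i => (φ i).toLinearMap - LinearMap.id
  have hex : Function.Exact (invSub φ).val.toLinearMap δ := by
    intro a
    constructor
    · intro ha
      have ha' : a ∈ invSub φ := by
        intro i
        have h1 := congrFun ha i
        have h2 : φ i a - a = 0 := h1
        exact sub_eq_zero.1 h2
      exact ⟨⟨a, ha'⟩, rfl⟩
    · rintro ⟨c, rfl⟩
      funext i
      show φ i c.1 - c.1 = 0
      rw [c.2 i, sub_self]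
  have hex' := Module.Flat.lTensor_exact T hex
  have hcomp : ∀ (s : T ⊗[R] A) (i : I),
      TensorProduct.piRight R R T (fun _ : I => A) (LinearMap.lTensor T δ s) i =
        Algebra.TensorProduct.map (AlgHom.id T T) (φ i) s - s := by
    intro s i
    induction s using TensorProduct.induction_on with
    | zero => simp
    | tmul x a =>
      show x ⊗ₜ[R] (φ i a - a) = x ⊗ₜ[R] (φ i a) - x ⊗ₜ[R] a
      rw [TensorProduct.tmul_sub]
    | add s s' hs hs' =>
      simp only [map_add, Pi.add_apply, hs, hs']
      abel
  have hzero : LinearMap.lTensor T δ t = 0 := by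
    apply (TensorProduct.piRight R R T (fun _ : I => A)).injective
    funext i
    simp only [hcomp, ht i, sub_self, map_zero, Pi.zero_apply]
  obtain ⟨s, hs⟩ := (hex' t).1 hzero
  exact ⟨s, (map_val_eq_lTensor (invSub φ) s).trans hs⟩

end Inv

/-! ### base change of a submodule of invariants -/

section Sub

variable {R S : Type u} [CommRing R] [CommRing S] [Algebra R S]

theorem isBaseChange_of_sub [Module.Flat R S] {M N M' N' : Type u}
    [AddCommGroup M] [AddCommGroup N] [AddCommGroup M'] [AddCommGroup N']
    [Module R M] [Module R N] [Module S N] [IsScalarTower R S N]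
    [Module R M'] [Module R N'] [Module S N'] [IsScalarTower R S N']
    (f : M →ₗ[R] N) (hf : IsBaseChange S f)
    (ιM : M' →ₗ[R] M) (hιM : Function.Injective ιM) (ιN : N' →ₗ[S] N)
    (hιN : Function.Injective ιN)
    (f' : M' →ₗ[R] N') (hf' : ∀ m, ιN (f' m) = f (ιM m))
    (hsurj : ∀ n' : N', ∃ s : S ⊗[R] M', hf.equiv (LinearMap.lTensor S ιM s) = ιN n') :
    IsBaseChange S f' := by
  have hL : ∀ s : S ⊗[R] M',
      ιN (f'.liftBaseChange S s) = hf.equiv (LinearMap.lTensor S ιM s) := by
    intro s
    induction s using TensorProduct.induction_on with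
    | zero => simp
    | tmul a m =>
      rw [LinearMap.liftBaseChange_tmul, LinearMap.lTensor_tmul, IsBaseChange.equiv_tmul,
        map_smul, hf']
    | add s s' hs hs' => rw [map_add, map_add, map_add, map_add, hs, hs']
  have hbij : Function.Bijective (f'.liftBaseChange S) := by
    constructor
    · intro s s' h
      have h1 : hf.equiv (LinearMap.lTensor S ιM s) = hf.equiv (LinearMap.lTensor S ιM s') := by
        rw [← hL, ← hL, h]
      exact Module.Flat.lTensor_preserves_injective_linearMap (M := S) ιM hιM
        (hf.equiv.injective h1)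
    · intro n'
      obtain ⟨s, hs⟩ := hsurj n'
      exact ⟨s, hιN (by rw [hL, hs])⟩
  exact IsBaseChange.of_equiv (LinearEquiv.ofBijective (f'.liftBaseChange S) hbij) (fun m => by
    show f'.liftBaseChange S (1 ⊗ₜ m) = f' m
    rw [LinearMap.liftBaseChange_tmul, one_smul])

end Sub

theorem isBCAlong_inv {R S : Type u} [CommRing R] [CommRing S] (g : R →+* S) (hg : g.Flat)
    {A A' : Type u} [CommRing A] [CommRing A'] [Algebra R A] [Algebra S A'] {I : Type v}
    [Fintype I] [DecidableEq I] (φ : I → (A →ₐ[R] A)) (φ' : I → (A' →ₐ[S] A'))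
    (f : A →ₛₗ[g] A') (hf : IsBCAlong g f) (hcompat : ∀ i a, f (φ i a) = φ' i (f a))
    (f' : ↥(invSub φ) →ₛₗ[g] ↥(invSub φ')) (hf' : ∀ c, (f' c).1 = f c.1) : IsBCAlong g f' := by
  letI : Algebra R S := g.toAlgebra
  haveI : Module.Flat R S := hg
  letI : Module R A' := Module.compHom A' g
  haveI : IsScalarTower R S A' := IsScalarTower.of_algebraMap_smul fun _ _ => rfl
  letI : Module R ↥(invSub φ') := Module.compHom _ g
  haveI : IsScalarTower R S ↥(invSub φ') := IsScalarTower.of_algebraMap_smul fun _ _ => rfl
  let ρ : A →ₗ[R] A' := { toFun := f, map_add' := f.map_add, map_smul' := f.map_smulₛₗ }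
  have hbc : IsBaseChange S ρ := hf
  let ρ' : ↥(invSub φ) →ₗ[R] ↥(invSub φ') :=
    { toFun := f', map_add' := f'.map_add, map_smul' := f'.map_smulₛₗ }
  have key : ∀ (i : I) (t : S ⊗[R] A),
      hbc.equiv (Algebra.TensorProduct.map (AlgHom.id S S) (φ i) t) = φ' i (hbc.equiv t) := by
    intro i t
    induction t using TensorProduct.induction_on with
    | zero => rw [map_zero, map_zero, map_zero]
    | tmul s a =>
      rw [Algebra.TensorProduct.map_tmul, IsBaseChange.equiv_tmul, IsBaseChange.equiv_tmul,
        map_smul]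
      exact congrArg (fun z => s • z) (hcompat i a)
    | add t t' ht ht' => rw [map_add, map_add, map_add, map_add, ht, ht']
  have h : IsBaseChange S ρ' := by
    refine isBaseChange_of_sub ρ hbc (invSub φ).val.toLinearMap Subtype.val_injective
      (invSub φ').val.toLinearMap Subtype.val_injective ρ' (fun c => hf' c) ?_
    intro n'
    have ht : ∀ i, Algebra.TensorProduct.map (AlgHom.id S S) (φ i) (hbc.equiv.symm n'.1) =
        hbc.equiv.symm n'.1 := by
      intro i
      apply hbc.equiv.injective
      rw [key, LinearEquiv.apply_symm_apply]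
      exact n'.2 i
    obtain ⟨s, hs⟩ := exists_of_invariant φ (hbc.equiv.symm n'.1) ht
    refine ⟨s, ?_⟩
    have h1 : LinearMap.lTensor S (invSub φ).val.toLinearMap s = hbc.equiv.symm n'.1 := by
      rw [← map_val_eq_lTensor]
      exact hs
    rw [h1]
    exact hbc.equiv.apply_symm_apply n'.1
  exact h

end Groth.Agent.Helper22.FEtInv
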