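import Mathlib
import Groth.Agent.Lib.Helper22.FEtInv

set_option autoImplicit false
set_option maxHeartbeats 400000
set_option backward.isDefEq.respectTransparency false
set_option backward.isDefEq.respectTransparency.types false

open TensorProduct SchFin

namespace Groth.Agent.Helper22.FEtInv

universe u v

/-! ### a connected trivialising cover -/

theorem exists_connected_triv {R A : Type u} [CommRing R] [CommRing A] [Algebra R A]
    [IsNoetherianRing R] [ConnectedSpace (PrimeSpectrum R)]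
    (B : Type u) [CommRing B] [Algebra R B] [Module.Finite R B] [Module.FaithfullyFlat R B] (n : ℕ)
    (e : B ⊗[R] A ≃ₐ[B] (Fin n → B)) :
    ∃ (B₁ : Type u) (_ : CommRing B₁) (_ : Algebra R B₁), Nontrivial B₁ ∧ Module.Finite R B₁ ∧
      Module.FaithfullyFlat R B₁ ∧ (∀ e : B₁, IsIdempotentElem e → e = 0 ∨ e = 1) ∧
      Nonempty (B₁ ⊗[R] A ≃ₐ[B₁] (Fin n → B₁)) := by
  haveI : Nontrivial R := PrimeSpectrum.nonempty_iff_nontrivial.1 inferInstance
  haveI : Nontrivial B := (FaithfulSMul.algebraMap_injective R B).nontrivial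
  haveI : IsNoetherianRing B := IsNoetherianRing.of_finite R B
  obtain ⟨f, hf, hf1, hconn⟩ := exists_connected_quotient B
  haveI hloc : IsLocalization.Away (1 - f) (B ⧸ Ideal.span {f}) :=
    IsLocalization.away_of_isIdempotentElem hf.one_sub
      (by rw [sub_sub_cancel]; exact Ideal.mk_ker) Ideal.Quotient.mk_surjective
  haveI : Module.Flat B (B ⧸ Ideal.span {f}) := IsLocalization.flat _ (Submonoid.powers (1 - f))
  haveI : Module.Flat R (B ⧸ Ideal.span {f}) := Module.Flat.trans R B _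
  haveI : Module.Finite R (B ⧸ Ideal.span {f}) := FEtObj.quot_finite _
  haveI : Nontrivial (B ⧸ Ideal.span {f}) := by
    rw [Ideal.Quotient.nontrivial_iff]
    intro htop
    apply hf1
    have h1 : (1 : B) ∈ Ideal.span {f} := by rw [htop]; trivial
    obtain ⟨a, ha⟩ := Ideal.mem_span_singleton'.1 h1
    have hff : f * f = f := hf
    calc f = (a * f) * f := by rw [ha, one_mul]
      _ = a * (f * f) := by ring
      _ = 1 := by rw [hff, ha]
  haveI : Module.FaithfullyFlat R (B ⧸ Ideal.span {f}) := faithfullyFlat_of_connected R _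
  refine ⟨B ⧸ Ideal.span {f}, inferInstance, inferInstance, inferInstance, inferInstance,
    inferInstance, hconn, ⟨?_⟩⟩
  exact (Algebra.TensorProduct.cancelBaseChange R B (B ⧸ Ideal.span {f})
      (B ⧸ Ideal.span {f}) A).symm.trans
    ((Algebra.TensorProduct.congr AlgEquiv.refl e).trans
      (Algebra.TensorProduct.piScalarRight B (B ⧸ Ideal.span {f}) (B ⧸ Ideal.span {f}) (Fin n)))

theorem exists_local_structure {R A : Type u} [CommRing R] [CommRing A] [Algebra R A]
    [IsNoetherianRing R] [ConnectedSpace (PrimeSpectrum R)] {I : Type v} (φ : I → (A →ₐ[R] A))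
    (B : Type u) [CommRing B] [Algebra R B] [Module.Finite R B] [Module.FaithfullyFlat R B] (n : ℕ)
    (e : B ⊗[R] A ≃ₐ[B] (Fin n → B)) :
    ∃ (B₁ : Type u) (_ : CommRing B₁) (_ : Algebra R B₁), Nontrivial B₁ ∧ Module.Finite R B₁ ∧
      Module.FaithfullyFlat R B₁ ∧
      ∃ (e₁ : B₁ ⊗[R] A ≃ₐ[B₁] (Fin n → B₁)) (τ : I → Fin n → Fin n),
        ∀ i t j, e₁ (Algebra.TensorProduct.map (AlgHom.id B₁ B₁) (φ i) t) j = e₁ t (τ i j) := by
  obtain ⟨B₁, _, _, hnt, hfin, hff, hconn, ⟨e₁⟩⟩ := exists_connected_triv (R := R) (A := A) B n e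
  refine ⟨B₁, inferInstance, inferInstance, hnt, hfin, hff, e₁, ?_⟩
  haveI := hnt
  have hex : ∀ i : I, ∀ j : Fin n, ∃ k : Fin n, ∀ x : Fin n → B₁,
      e₁ (Algebra.TensorProduct.map (AlgHom.id B₁ B₁) (φ i) (e₁.symm x)) j = x k := fun i j =>
    exists_eval hconn ((Pi.evalAlgHom B₁ (fun _ : Fin n => B₁) j).comp
      ((e₁.toAlgHom.comp (Algebra.TensorProduct.map (AlgHom.id B₁ B₁) (φ i))).comp
        e₁.symm.toAlgHom))
  choose τ hτ using hex
  refine ⟨τ, fun i t j => ?_⟩
  have h1 := hτ i j (e₁ t)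
  rwa [AlgEquiv.symm_apply_apply] at h1

/-! ### consequences of the local structure -/

/-- the relation generated by a family of self-maps of an index set -/
def rel {n : ℕ} {I : Type v} (τ : I → Fin n → Fin n) (j j' : Fin n) : Prop := ∃ i, τ i j = j'

theorem const_on_class {B₁ : Type u} {n : ℕ} {I : Type v} (τ : I → Fin n → Fin n)
    (x : Fin n → B₁) (hx : ∀ i j, x (τ i j) = x j) (j : Fin n) :
    x (Quot.out (Quot.mk (rel τ) j)) = x j := by
  have hlift : ∀ a b, rel τ a b → x a = x b := by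
    intro a b hab
    obtain ⟨i, rfl⟩ := hab
    exact (hx i a).symm
  have h1 : ∀ j', x j' = Quot.lift x hlift (Quot.mk (rel τ) j') := fun _ => rfl
  rw [h1 (Quot.out (Quot.mk (rel τ) j)), h1 j, Quot.out_eq]

/-- pullback of functions along the chosen representatives of the classes -/
noncomputable def pb (B₁ : Type u) [CommRing B₁] {n : ℕ} {I : Type v} (τ : I → Fin n → Fin n) :
    (Fin n → B₁) →ₐ[B₁] (Quot (rel τ) → B₁) where
  toFun := fun x q => x (Quot.out q)
  map_one' := rfl
  map_mul' := fun _ _ => rfl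
  map_zero' := rfl
  map_add' := fun _ _ => rfl
  commutes' := fun _ => rfl

section LS

variable {R A : Type u} [CommRing R] [CommRing A] [Algebra R A] {I : Type v} [Fintype I]
  [DecidableEq I] (φ : I → (A →ₐ[R] A)) {B₁ : Type u} [CommRing B₁] [Algebra R B₁]
  [Module.Flat R B₁] {n : ℕ} (e₁ : B₁ ⊗[R] A ≃ₐ[B₁] (Fin n → B₁)) (τ : I → Fin n → Fin n)
  (hτ : ∀ i t j, e₁ (Algebra.TensorProduct.map (AlgHom.id B₁ B₁) (φ i) t) j = e₁ t (τ i j))

/-- the map from the base change of the invariants to functions -/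
noncomputable def psi : B₁ ⊗[R] (invSub φ) →ₐ[B₁] (Fin n → B₁) :=
  e₁.toAlgHom.comp (Algebra.TensorProduct.map (AlgHom.id B₁ B₁) (invSub φ).val)

theorem psi_apply (s : B₁ ⊗[R] (invSub φ)) :
    psi φ e₁ s = e₁ (Algebra.TensorProduct.map (AlgHom.id B₁ B₁) (invSub φ).val s) := rfl

theorem map_map_val (i : I) (s : B₁ ⊗[R] (invSub φ)) :
    Algebra.TensorProduct.map (AlgHom.id B₁ B₁) (φ i)
      (Algebra.TensorProduct.map (AlgHom.id B₁ B₁) (invSub φ).val s) =
      Algebra.TensorProduct.map (AlgHom.id B₁ B₁) (invSub φ).val s := by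
  induction s using TensorProduct.induction_on with
  | zero => rw [map_zero, map_zero]
  | tmul b c =>
    show b ⊗ₜ[R] (φ i c.1) = b ⊗ₜ[R] c.1
    rw [c.2 i]
  | add s s' hs hs' => rw [map_add, map_add, hs, hs']

theorem psi_injective : Function.Injective (psi φ e₁) := by
  have h1 : Function.Injective (LinearMap.lTensor B₁ (invSub φ).val.toLinearMap) :=
    Module.Flat.lTensor_preserves_injective_linearMap (M := B₁) _ Subtype.val_injective
  intro s s' h
  have h2 : Algebra.TensorProduct.map (AlgHom.id B₁ B₁) (invSub φ).val s =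
      Algebra.TensorProduct.map (AlgHom.id B₁ B₁) (invSub φ).val s' := e₁.injective h
  rw [map_val_eq_lTensor, map_val_eq_lTensor] at h2
  exact h1 h2

include hτ in
theorem psi_range (x : Fin n → B₁) : (∃ s, psi φ e₁ s = x) ↔ ∀ i j, x (τ i j) = x j := by
  constructor
  · rintro ⟨s, rfl⟩ i j
    rw [psi_apply, ← hτ, map_map_val]
  · intro hx
    have ht : ∀ i, Algebra.TensorProduct.map (AlgHom.id B₁ B₁) (φ i) (e₁.symm x) = e₁.symm x := by
      intro i
      apply e₁.injective
      funext j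
      rw [hτ, AlgEquiv.apply_symm_apply, hx i j]
    obtain ⟨s, hs⟩ := exists_of_invariant φ (e₁.symm x) ht
    exact ⟨s, by rw [psi_apply, hs, AlgEquiv.apply_symm_apply]⟩

/-- the map from the base change of the invariants to functions on the classes -/
noncomputable def theta : B₁ ⊗[R] (invSub φ) →ₐ[B₁] (Quot (rel τ) → B₁) :=
  (pb B₁ τ).comp (psi φ e₁)

theorem theta_apply (s : B₁ ⊗[R] (invSub φ)) (q : Quot (rel τ)) :
    theta φ e₁ τ s q = psi φ e₁ s (Quot.out q) := rfl

include hτ in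
theorem theta_bijective : Function.Bijective (theta φ e₁ τ) := by
  constructor
  · intro s s' h
    apply psi_injective φ e₁
    funext j
    have h1 := (psi_range φ e₁ τ hτ (psi φ e₁ s)).1 ⟨s, rfl⟩
    have h2 := (psi_range φ e₁ τ hτ (psi φ e₁ s')).1 ⟨s', rfl⟩
    rw [← const_on_class τ _ h1 j, ← const_on_class τ _ h2 j]
    exact congrFun h (Quot.mk (rel τ) j)
  · intro y
    have hx : ∀ i j, (fun j => y (Quot.mk (rel τ) j)) (τ i j) =
        (fun j => y (Quot.mk (rel τ) j)) j := by
      intro i j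
      show y (Quot.mk (rel τ) (τ i j)) = y (Quot.mk (rel τ) j)
      rw [Quot.sound (r := rel τ) (a := j) (b := τ i j) ⟨i, rfl⟩]
    obtain ⟨s, hs⟩ := (psi_range φ e₁ τ hτ (fun j => y (Quot.mk (rel τ) j))).2 hx
    refine ⟨s, ?_⟩
    funext q
    rw [theta_apply, hs]
    show y (Quot.mk (rel τ) (Quot.out q)) = y q
    rw [Quot.out_eq]

include hτ in
theorem etale_of_ls [Module.FaithfullyFlat R B₁] : Algebra.Etale R (invSub φ) := by
  haveI : Algebra.Etale B₁ (B₁ ⊗[R] (invSub φ)) :=
    Algebra.Etale.of_equiv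
      (AlgEquiv.ofBijective (theta φ e₁ τ) (theta_bijective φ e₁ τ hτ)).symm
  exact Algebra.Etale.of_etale_tensorProduct_of_faithfullyFlat B₁

end LS

theorem etale_invSub {R A : Type u} [CommRing R] [CommRing A] [Algebra R A] [IsNoetherianRing R]
    [ConnectedSpace (PrimeSpectrum R)] {I : Type v} [Finite I] (φ : I → (A →ₐ[R] A))
    (B : Type u) [CommRing B] [Algebra R B] [Module.Finite R B] [Module.FaithfullyFlat R B] (n : ℕ)
    (e : B ⊗[R] A ≃ₐ[B] (Fin n → B)) : Algebra.Etale R (invSub φ) := by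
  classical
  haveI : Fintype I := Fintype.ofFinite I
  obtain ⟨B₁, _, _, hnt, hfin, hff, e₁, τ, hτ⟩ := exists_local_structure φ B n e
  haveI := hff
  exact etale_of_ls φ e₁ τ hτ

end Groth.Agent.Helper22.FEtInv
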