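import Mathlib
import Groth.Prelude.Def_SchFin2
import Groth.Agent.Lib.Helper22.FEtAlg
import Groth.Agent.Lib.Helper22.FEtObj
import Groth.Agent.Lib.Helper22.FEtQuot

set_option autoImplicit false
set_option backward.isDefEq.respectTransparency false
set_option backward.isDefEq.respectTransparency.types false
set_option maxHeartbeats 400000

open CategoryTheory CategoryTheory.Limits SchFin

namespace Groth.Agent.Helper22.FEtObj

open Groth.Agent.Helper22.FEtAlg

universe u

theorem isBaseChange_ring {R S N : Type u} [CommRing R] [CommRing S] [Algebra R S]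
    [AddCommGroup N] [Module R N] [Module S N] [IsScalarTower R S N]
    (f : R →ₗ[R] N) (e : N ≃ₗ[S] S) (hf : ∀ r, e (f r) = algebraMap R S r) :
    IsBaseChange S f := by
  apply IsBaseChange.of_lift_unique
  intro Q _ _ _ _ h
  let el : N →ₗ[S] S := e.toLinearMap
  let G : N →ₗ[S] Q := (LinearMap.toSpanSingleton S Q (h 1)).comp el
  have hG : ∀ n, G n = e n • h 1 := fun n => rfl
  refine ⟨G, ?_, ?_⟩
  · apply LinearMap.ext
    intro r
    show G (f r) = h r
    rw [hG, hf, algebraMap_smul, ← map_smul, smul_eq_mul, mul_one]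
  · intro g' hg'
    apply LinearMap.ext
    intro n
    rw [hG]
    have h1 : f 1 = e.symm 1 := by rw [LinearEquiv.eq_symm_apply, hf, map_one]
    have h2 : n = e n • e.symm 1 := by
      apply e.injective
      rw [map_smul, LinearEquiv.apply_symm_apply, smul_eq_mul, mul_one]
    have h3 : g' (f 1) = h 1 := LinearMap.congr_fun hg' 1
    conv_lhs => rw [h2]
    rw [map_smul, ← h1, h3]

theorem isBCAlong_ring {R S N : Type u} [CommRing R] [CommRing S] (g : R →+* S)
    [AddCommGroup N] [Module S N] (f : R →ₛₗ[g] N) (e : N ≃ₗ[S] S) (hf : ∀ r, e (f r) = g r) :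
    IsBCAlong g f := by
  letI : Algebra R S := g.toAlgebra
  letI : Module R N := Module.compHom N g
  haveI : IsScalarTower R S N := IsScalarTower.of_algebraMap_smul fun _ _ => rfl
  exact isBaseChange_ring (S := S)
    ({ toFun := f, map_add' := f.map_add, map_smul' := f.map_smulₛₗ } : R →ₗ[R] N) e hf

variable {X : RSpace.{u}}

theorem str_isQcoh (X : RSpace.{u}) : (Alg.str X).IsQcoh := by
  intro p q h
  let e : (Alg.str X).toMod.carrier q ≃ₗ[X.ring q] X.ring q :=
    { toFun := id, invFun := id, map_add' := fun _ _ => rfl, map_smul' := fun _ _ => rfl,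
      left_inv := fun _ => rfl, right_inv := fun _ => rfl }
  exact isBCAlong_ring (N := (Alg.str X).toMod.carrier q) (X.res h) ((Alg.str X).toMod.res h) e
    (fun r => rfl)

def strObj (X : RSpace.{u}) : FEt X :=
  ⟨Alg.str X, by
    refine And.intro (str_isQcoh X) (fun p => ?_)
    exact And.intro (inferInstance : Module.Finite (X.ring p) (X.ring p))
      (inferInstance : Algebra.Etale (X.ring p) (X.ring p))⟩

def strDesc (A : FEt X) : strObj X ⟶ A :=
  ObjectProperty.homMk (Alg.Hom.mk (fun p => Algebra.ofId (X.ring p) (A.obj.carrier p))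
    (fun h b => A.obj.res_algebraMap h b))

theorem hasInitial : HasInitial (FEt X) := by
  haveI : ∀ Y : FEt X, Nonempty (strObj X ⟶ Y) := fun Y => ⟨strDesc Y⟩
  haveI : ∀ Y : FEt X, Subsingleton (strObj X ⟶ Y) := fun Y => ⟨fun a b =>
    ObjectProperty.hom_ext _ (Alg.hom_ext _ _ (fun p => AlgHom.ext fun c =>
      ((a.hom.app p).commutes c).trans ((b.hom.app p).commutes c).symm))⟩
  exact hasInitial_of_unique (strObj X)

noncomputable def termObj (X : RSpace.{u}) : FEt X :=
  quotObj (strObj X) (fun p => (1 : X.ring p)) (fun _ => IsIdempotentElem.one)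
    (fun h => map_one (X.res h))

instance termObj_subsingleton (p : X.pt) : Subsingleton ((termObj X).obj.carrier p) :=
  Ideal.Quotient.subsingleton_iff.2 Ideal.span_singleton_one

theorem hasTerminal : HasTerminal (FEt X) := by
  haveI : ∀ Y : FEt X, Nonempty (Y ⟶ termObj X) := fun Y =>
    ⟨ObjectProperty.homMk (Alg.Hom.mk
      (fun p => toSubsingleton (X.ring p) (Y.obj.carrier p) ((termObj X).obj.carrier p))
      (fun _ _ => Subsingleton.elim _ _))⟩
  haveI : ∀ Y : FEt X, Subsingleton (Y ⟶ termObj X) := fun Y => ⟨fun a b =>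
    ObjectProperty.hom_ext _ (Alg.hom_ext _ _ (fun p => AlgHom.ext fun c =>
      Subsingleton.elim _ _))⟩
  exact hasTerminal_of_unique (termObj X)

end Groth.Agent.Helper22.FEtObj
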