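import Mathlib
import Groth.Prelude.Def_SchFin2
import Groth.Agent.Lib.Helper22.FEtAlg
import Groth.Agent.Lib.Helper22.FEtObj
import Groth.Agent.Lib.Helper22.FEtQuot
import Groth.Agent.Lib.Helper22.FEtTerm
import Groth.Agent.Lib.Helper22.FEtCoeq
import Groth.Agent.Lib.Helper22.FEtCoprod
import Groth.Agent.Lib.Helper22.FEtRank

set_option autoImplicit false
set_option maxHeartbeats 400000
set_option backward.isDefEq.respectTransparency false
set_option backward.isDefEq.respectTransparency.types false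

open TensorProduct CategoryTheory CategoryTheory.Limits SchFin

namespace Groth.Agent.Helper22.FEtObj

universe u

/-! ### passing (co)limit (co)cones to the opposite category -/

section OpHelpers

universe v₁ u₁

variable {C : Type u₁} [Category.{v₁} C]

def binaryFanOpIsLimit (P Q : Cᵒᵖ) {W : C} (i : P.unop ⟶ W) (j : Q.unop ⟶ W)
    (h : IsColimit (BinaryCofan.mk i j)) :
    IsLimit (BinaryFan.mk (X := P) (Y := Q) (P := Opposite.op W) i.op j.op) :=
  BinaryFan.isLimitMk (fun s => (h.desc (BinaryCofan.mk s.fst.unop s.snd.unop)).op)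
    (fun s => Quiver.Hom.unop_inj
      (h.fac (BinaryCofan.mk s.fst.unop s.snd.unop) ⟨WalkingPair.left⟩))
    (fun s => Quiver.Hom.unop_inj
      (h.fac (BinaryCofan.mk s.fst.unop s.snd.unop) ⟨WalkingPair.right⟩))
    (fun s m h1 h2 => Quiver.Hom.unop_inj
      (h.uniq (BinaryCofan.mk s.fst.unop s.snd.unop) m.unop (by
        rintro ⟨_ | _⟩
        · exact congrArg Quiver.Hom.unop h1
        · exact congrArg Quiver.Hom.unop h2)))

def binaryCofanOpIsColimit (P Q : Cᵒᵖ) {W : C} (i : W ⟶ P.unop) (j : W ⟶ Q.unop)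
    (h : IsLimit (BinaryFan.mk i j)) :
    IsColimit (BinaryCofan.mk (X := P) (Y := Q) (P := Opposite.op W) i.op j.op) :=
  BinaryCofan.isColimitMk (fun s => (h.lift (BinaryFan.mk s.inl.unop s.inr.unop)).op)
    (fun s => Quiver.Hom.unop_inj
      (h.fac (BinaryFan.mk s.inl.unop s.inr.unop) ⟨WalkingPair.left⟩))
    (fun s => Quiver.Hom.unop_inj
      (h.fac (BinaryFan.mk s.inl.unop s.inr.unop) ⟨WalkingPair.right⟩))
    (fun s m h1 h2 => Quiver.Hom.unop_inj
      (h.uniq (BinaryFan.mk s.inl.unop s.inr.unop) m.unop (by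
        rintro ⟨_ | _⟩
        · exact congrArg Quiver.Hom.unop h1
        · exact congrArg Quiver.Hom.unop h2)))

def forkOpIsLimit {P Q : Cᵒᵖ} (u v : P ⟶ Q) {W : C} (π : P.unop ⟶ W)
    (w : u.unop ≫ π = v.unop ≫ π) (h : IsColimit (Cofork.ofπ π w)) :
    IsLimit (Fork.ofι (f := u) (g := v) π.op (Quiver.Hom.unop_inj w)) :=
  Fork.IsLimit.mk _
    (fun s => (Cofork.IsColimit.desc' h s.ι.unop
      (congrArg Quiver.Hom.unop s.condition)).1.op)
    (fun s => Quiver.Hom.unop_inj (Cofork.IsColimit.desc' h s.ι.unop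
      (congrArg Quiver.Hom.unop s.condition)).2)
    (fun s m hm => Quiver.Hom.unop_inj (Cofork.IsColimit.hom_ext h
      ((congrArg Quiver.Hom.unop hm).trans (Cofork.IsColimit.desc' h s.ι.unop
        (congrArg Quiver.Hom.unop s.condition)).2.symm)))

end OpHelpers

/-! ### characters and primes of a finite algebra over an algebraically closed field -/

section Beta

variable {R : Type u} [CommRing R] (Ω : Type u) [Field Ω] [IsAlgClosed Ω] [Algebra R Ω]
variable {E E' : Type u} [CommRing E] [Algebra R E] [CommRing E'] [Algebra R E']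

noncomputable def chi (φ : E →ₐ[R] Ω) : Ω ⊗[R] E →ₐ[Ω] Ω :=
  Algebra.TensorProduct.lift (AlgHom.id Ω Ω) φ (fun _ _ => Commute.all _ _)

theorem chi_tmul (φ : E →ₐ[R] Ω) (ω : Ω) (e : E) : chi Ω φ (ω ⊗ₜ e) = ω * φ e := rfl

noncomputable def beta (φ : E →ₐ[R] Ω) : PrimeSpectrum (Ω ⊗[R] E) :=
  ⟨RingHom.ker (chi Ω φ), RingHom.ker_isPrime _⟩

theorem mem_beta (φ : E →ₐ[R] Ω) (t : Ω ⊗[R] E) :
    t ∈ (beta Ω φ).asIdeal ↔ chi Ω φ t = 0 := Iff.rfl

theorem beta_comp (f : E →ₐ[R] E') (φ' : E' →ₐ[R] Ω) :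
    PrimeSpectrum.comap (Algebra.TensorProduct.map (AlgHom.id Ω Ω) f).toRingHom (beta Ω φ') =
      beta Ω (φ'.comp f) := by
  have h : (chi Ω φ').comp (Algebra.TensorProduct.map (AlgHom.id Ω Ω) f) =
      chi Ω (φ'.comp f) := by
    apply Algebra.TensorProduct.ext'
    intro ω e
    rfl
  apply PrimeSpectrum.ext
  ext t
  show chi Ω φ' (Algebra.TensorProduct.map (AlgHom.id Ω Ω) f t) = 0 ↔ chi Ω (φ'.comp f) t = 0
  rw [← h]
  rfl

theorem beta_injective : Function.Injective (beta Ω (R := R) (E := E)) := by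
  intro φ φ' h
  apply AlgHom.ext
  intro e
  have h1 : ((1 : Ω) ⊗ₜ[R] e - φ e ⊗ₜ[R] (1 : E)) ∈ (beta Ω φ).asIdeal := by
    rw [mem_beta, map_sub, chi_tmul, chi_tmul, map_one, one_mul, mul_one, sub_self]
  rw [h, mem_beta, map_sub, chi_tmul, chi_tmul, map_one, one_mul, mul_one, sub_eq_zero] at h1
  exact h1.symm

theorem beta_surjective [Module.Finite R E] : Function.Surjective (beta Ω (R := R) (E := E)) := by
  intro 𝔮
  haveI : Module.Finite Ω (Ω ⊗[R] E) := inferInstance
  haveI : 𝔮.asIdeal.IsPrime := 𝔮.2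
  haveI : IsDomain ((Ω ⊗[R] E) ⧸ 𝔮.asIdeal) := Ideal.Quotient.isDomain _
  haveI : Module.Finite Ω ((Ω ⊗[R] E) ⧸ 𝔮.asIdeal) :=
    Module.Finite.of_surjective (Ideal.Quotient.mkₐ Ω 𝔮.asIdeal).toLinearMap
      Ideal.Quotient.mk_surjective
  haveI : Algebra.IsIntegral Ω ((Ω ⊗[R] E) ⧸ 𝔮.asIdeal) := Algebra.IsIntegral.of_finite Ω _
  have hb : Function.Bijective (algebraMap Ω ((Ω ⊗[R] E) ⧸ 𝔮.asIdeal)) :=
    IsAlgClosed.algebraMap_bijective_of_isIntegral
  let ε : Ω ≃ₐ[Ω] ((Ω ⊗[R] E) ⧸ 𝔮.asIdeal) := AlgEquiv.ofBijective (Algebra.ofId Ω _) hb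
  let χ : Ω ⊗[R] E →ₐ[Ω] Ω :=
    (ε.symm : ((Ω ⊗[R] E) ⧸ 𝔮.asIdeal) →ₐ[Ω] Ω).comp (Ideal.Quotient.mkₐ Ω 𝔮.asIdeal)
  let φ : E →ₐ[R] Ω :=
    (χ.restrictScalars R).comp (Algebra.TensorProduct.includeRight : E →ₐ[R] Ω ⊗[R] E)
  refine ⟨φ, ?_⟩
  have hχ : chi Ω φ = χ := by
    apply Algebra.TensorProduct.ext'
    intro ω e
    rw [chi_tmul]
    show ω * χ (1 ⊗ₜ e) = χ (ω ⊗ₜ e)
    have : ω ⊗ₜ[R] e = ω • ((1 : Ω) ⊗ₜ[R] e) := by
      rw [TensorProduct.smul_tmul', smul_eq_mul, mul_one]
    rw [this, map_smul, smul_eq_mul]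
  apply PrimeSpectrum.ext
  ext t
  show chi Ω φ t = 0 ↔ t ∈ 𝔮.asIdeal
  rw [hχ]
  show ε.symm (Ideal.Quotient.mk 𝔮.asIdeal t) = 0 ↔ _
  rw [map_eq_zero_iff _ ε.symm.injective, Ideal.Quotient.eq_zero_iff_mem]

end Beta

/-! ### the functor of characters -/

variable {X : RSpace.{u}} {Ω : Type u} [Field Ω] [IsAlgClosed Ω]

@[reducible] noncomputable def algΩ (ξ : GeomPt X Ω) : Algebra (X.ring ξ.base) Ω :=
  ξ.toField.toAlgebra

attribute [local instance] algΩ

noncomputable def homFunctor (ξ : GeomPt X Ω) : (FEt X)ᵒᵖ ⥤ Type u where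
  obj A := (A.unop.obj.carrier ξ.base →ₐ[X.ring ξ.base] Ω)
  map {A B} f := TypeCat.ofHom (fun φ => φ.comp (f.unop.hom.app ξ.base))
  map_id A := by
    ext φ
    rfl
  map_comp f g := by
    ext φ
    rfl

noncomputable def betaEquiv (ξ : GeomPt X Ω) (E : FEt X) :
    (E.obj.carrier ξ.base →ₐ[X.ring ξ.base] Ω) ≃ ξ.Fib E.obj :=
  haveI := (E.property.2 ξ.base).1
  Equiv.ofBijective (fun φ => beta Ω φ) ⟨beta_injective Ω, beta_surjective Ω⟩

noncomputable def fibIso (ξ : GeomPt X Ω) : homFunctor ξ ≅ ξ.fibFunctor ⋙ FintypeCat.incl :=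
  NatIso.ofComponents (fun A => Equiv.toIso (betaEquiv ξ A.unop)) (fun {A B} f => by
    ext φ
    exact (beta_comp Ω (f.unop.hom.app ξ.base) φ).symm)

theorem transferLim (ξ : GeomPt X Ω) (J : Type) [SmallCategory J]
    [PreservesLimitsOfShape J (homFunctor ξ)] : PreservesLimitsOfShape J ξ.fibFunctor := by
  haveI : PreservesLimitsOfShape J (ξ.fibFunctor ⋙ FintypeCat.incl) :=
    preservesLimitsOfShape_of_natIso (fibIso ξ)
  exact preservesLimitsOfShape_of_reflects_of_preserves ξ.fibFunctor FintypeCat.incl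

theorem transferColim (ξ : GeomPt X Ω) (J : Type) [SmallCategory J]
    [PreservesColimitsOfShape J (homFunctor ξ)] : PreservesColimitsOfShape J ξ.fibFunctor := by
  haveI : PreservesColimitsOfShape J (ξ.fibFunctor ⋙ FintypeCat.incl) :=
    preservesColimitsOfShape_of_natIso (fibIso ξ)
  exact preservesColimitsOfShape_of_reflects_of_preserves ξ.fibFunctor FintypeCat.incl

/-! ### terminal and initial objects -/

noncomputable def strIsInitial (X : RSpace.{u}) : IsInitial (strObj X) :=
  IsInitial.ofUniqueHom (fun Y => strDesc Y)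
    (fun Y m => ObjectProperty.hom_ext _ (Alg.hom_ext _ _ (fun p => AlgHom.ext fun c =>
      ((m.hom.app p).commutes c).trans (((strDesc Y).hom.app p).commutes c).symm)))

noncomputable def termIsTerminal (X : RSpace.{u}) : IsTerminal (termObj X) :=
  IsTerminal.ofUniqueHom
    (fun Y => ObjectProperty.homMk (Alg.Hom.mk
      (fun p => toSubsingleton (X.ring p) (Y.obj.carrier p) ((termObj X).obj.carrier p))
      (fun _ _ => Subsingleton.elim _ _)))
    (fun Y m => ObjectProperty.hom_ext _ (Alg.hom_ext _ _ (fun p => AlgHom.ext fun c =>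
      Subsingleton.elim _ _)))

theorem hom_preservesTerminal (ξ : GeomPt X Ω) :
    PreservesLimitsOfShape (Discrete PEmpty.{1}) (homFunctor ξ) := by
  have hU : Unique ((homFunctor ξ).obj (Opposite.op (strObj X))) :=
    { default := (Algebra.ofId (X.ring ξ.base) Ω : X.ring ξ.base →ₐ[X.ring ξ.base] Ω)
      uniq := fun φ => AlgHom.ext fun r =>
        ((show X.ring ξ.base →ₐ[X.ring ξ.base] Ω from φ).commutes r).trans
          ((Algebra.ofId (X.ring ξ.base) Ω).commutes r).symm }
  have hT : IsTerminal ((homFunctor ξ).obj (Opposite.op (strObj X))) :=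
    (Types.isTerminalEquivUnique _).symm hU
  haveI : PreservesLimit (Functor.empty.{0} (FEt X)ᵒᵖ) (homFunctor ξ) :=
    preservesLimit_of_preserves_limit_cone (terminalOpOfInitial (strIsInitial X))
      ((isLimitMapConeEmptyConeEquiv (homFunctor ξ) (Opposite.op (strObj X))).symm hT)
  exact preservesLimitsOfShape_pempty_of_preservesTerminal (homFunctor ξ)

theorem hom_preservesInitial (ξ : GeomPt X Ω) :
    PreservesColimitsOfShape (Discrete PEmpty.{1}) (homFunctor ξ) := by
  have hE : IsEmpty ((homFunctor ξ).obj (Opposite.op (termObj X))) := by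
    refine ⟨fun ψ => ?_⟩
    have h1 : (show (termObj X).obj.carrier ξ.base →ₐ[X.ring ξ.base] Ω from ψ) 1 = 1 := map_one _
    have h0 : (show (termObj X).obj.carrier ξ.base →ₐ[X.ring ξ.base] Ω from ψ) 0 = 0 := map_zero _
    rw [Subsingleton.elim (1 : (termObj X).obj.carrier ξ.base) 0, h0] at h1
    exact zero_ne_one h1
  have hI : IsInitial ((homFunctor ξ).obj (Opposite.op (termObj X))) :=
    ((Types.initial_iff_empty _).2 hE).some
  haveI : PreservesColimit (Functor.empty.{0} (FEt X)ᵒᵖ) (homFunctor ξ) :=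
    preservesColimit_of_preserves_colimit_cocone (initialOpOfTerminal (termIsTerminal X))
      ((isColimitMapCoconeEmptyCoconeEquiv (homFunctor ξ) (Opposite.op (termObj X))).symm hI)
  exact preservesColimitsOfShape_pempty_of_preservesInitial (homFunctor ξ)

/-! ### binary products of the opposite category (tensor products) -/

noncomputable def homProdIsLimit (ξ : GeomPt X Ω) (A B : FEt X) :
    IsLimit (BinaryFan.mk ((homFunctor ξ).map (cinl A B).op)
      ((homFunctor ξ).map (cinr A B).op)) :=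
  BinaryFan.isLimitMk
    (fun s => TypeCat.ofHom (fun z =>
      (Algebra.TensorProduct.productMap
        (show A.obj.carrier ξ.base →ₐ[X.ring ξ.base] Ω from s.fst z)
        (show B.obj.carrier ξ.base →ₐ[X.ring ξ.base] Ω from s.snd z) :
        (coprodObj A B).obj.carrier ξ.base →ₐ[X.ring ξ.base] Ω)))
    (fun s => by
      ext z
      exact Algebra.TensorProduct.productMap_left _ _)
    (fun s => by
      ext z
      exact Algebra.TensorProduct.productMap_right _ _)
    (fun s m h1 h2 => by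
      ext z
      have e1 : ∀ a : A.obj.carrier ξ.base,
          (show (coprodObj A B).obj.carrier ξ.base →ₐ[X.ring ξ.base] Ω from m z) (a ⊗ₜ 1) =
          (show A.obj.carrier ξ.base →ₐ[X.ring ξ.base] Ω from s.fst z) a := fun a =>
        congrArg (fun ψ : A.obj.carrier ξ.base →ₐ[X.ring ξ.base] Ω => ψ a) (types_congr_hom h1 z)
      have e2 : ∀ b : B.obj.carrier ξ.base,
          (show (coprodObj A B).obj.carrier ξ.base →ₐ[X.ring ξ.base] Ω from m z) (1 ⊗ₜ b) =
          (show B.obj.carrier ξ.base →ₐ[X.ring ξ.base] Ω from s.snd z) b := fun b =>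
        congrArg (fun ψ : B.obj.carrier ξ.base →ₐ[X.ring ξ.base] Ω => ψ b) (types_congr_hom h2 z)
      show (show (coprodObj A B).obj.carrier ξ.base →ₐ[X.ring ξ.base] Ω from m z) =
        Algebra.TensorProduct.productMap
          (show A.obj.carrier ξ.base →ₐ[X.ring ξ.base] Ω from s.fst z)
          (show B.obj.carrier ξ.base →ₐ[X.ring ξ.base] Ω from s.snd z)
      refine AlgHom.ext (fun t => ?_)
      induction t using TensorProduct.induction_on with
      | zero => rw [map_zero, map_zero]
      | tmul a b =>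
        have hab : a ⊗ₜ[X.ring ξ.base] b =
            (a ⊗ₜ[X.ring ξ.base] (1 : B.obj.carrier ξ.base)) *
              ((1 : A.obj.carrier ξ.base) ⊗ₜ[X.ring ξ.base] b) := by
          rw [Algebra.TensorProduct.tmul_mul_tmul, mul_one, one_mul]
        have hL : (show (coprodObj A B).obj.carrier ξ.base →ₐ[X.ring ξ.base] Ω from m z)
            (a ⊗ₜ[X.ring ξ.base] b) =
            (show A.obj.carrier ξ.base →ₐ[X.ring ξ.base] Ω from s.fst z) a *
            (show B.obj.carrier ξ.base →ₐ[X.ring ξ.base] Ω from s.snd z) b := by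
          rw [hab, map_mul, e1, e2]
        exact hL.trans (Algebra.TensorProduct.productMap_apply_tmul _ _ a b).symm
      | add x y hx hy => rw [map_add, map_add, hx, hy])

theorem hom_preservesBinaryProducts (ξ : GeomPt X Ω) :
    PreservesLimitsOfShape (Discrete WalkingPair) (homFunctor ξ) := by
  refine ⟨fun {K} => ?_⟩
  haveI : PreservesLimit (pair (K.obj ⟨WalkingPair.left⟩) (K.obj ⟨WalkingPair.right⟩))
      (homFunctor ξ) :=
    preservesLimit_of_preserves_limit_cone
      (binaryFanOpIsLimit (K.obj ⟨WalkingPair.left⟩) (K.obj ⟨WalkingPair.right⟩)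
        (cinl (K.obj ⟨WalkingPair.left⟩).unop (K.obj ⟨WalkingPair.right⟩).unop)
        (cinr (K.obj ⟨WalkingPair.left⟩).unop (K.obj ⟨WalkingPair.right⟩).unop)
        (coprodIsColimit _ _))
      ((isLimitMapConeBinaryFanEquiv (homFunctor ξ) _ _).symm
        (homProdIsLimit ξ (K.obj ⟨WalkingPair.left⟩).unop (K.obj ⟨WalkingPair.right⟩).unop))
  exact preservesLimit_of_iso_diagram (homFunctor ξ) (diagramIsoPair K).symm

/-! ### equalizers of the opposite category (coequalizers) -/

theorem char_kills (hnoeth : ∀ p : X.pt, IsNoetherianRing (X.ring p)) {C A : FEt X}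
    (u v : C ⟶ A) (p : X.pt) {S : Type u} [CommRing S] [Algebra (X.ring p) S]
    (φ : A.obj.carrier p →ₐ[X.ring p] S)
    (hφ : φ.comp (u.hom.app p) = φ.comp (v.hom.app p))
    (a : A.obj.carrier p) (ha : a ∈ Ideal.span {coeqIdem hnoeth u v p}) : φ a = 0 := by
  rw [← coeqIdem_spec] at ha
  have hle : diffIdeal (u.hom.app p) (v.hom.app p) ≤ RingHom.ker φ.toRingHom := by
    refine Ideal.span_le.2 ?_
    rintro _ ⟨c, rfl⟩
    show φ (u.hom.app p c - v.hom.app p c) = 0
    rw [map_sub, sub_eq_zero]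
    exact AlgHom.congr_fun hφ c
  exact hle ha

noncomputable def homEqIsLimit (hnoeth : ∀ p : X.pt, IsNoetherianRing (X.ring p))
    (ξ : GeomPt X Ω) {P Q : (FEt X)ᵒᵖ} (u v : P ⟶ Q)
    (w' : (homFunctor ξ).map (coeqπ hnoeth u.unop v.unop).op ≫ (homFunctor ξ).map u =
      (homFunctor ξ).map (coeqπ hnoeth u.unop v.unop).op ≫ (homFunctor ξ).map v) :
    IsLimit (Fork.ofι ((homFunctor ξ).map (coeqπ hnoeth u.unop v.unop).op) w') :=
  Fork.IsLimit.mk _
    (fun s => TypeCat.ofHom (fun z =>
      (Ideal.Quotient.liftₐ (Ideal.span {coeqIdem hnoeth u.unop v.unop ξ.base})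
        (show P.unop.obj.carrier ξ.base →ₐ[X.ring ξ.base] Ω from s.ι z)
        (fun a ha => char_kills hnoeth u.unop v.unop ξ.base _
          (types_congr_hom s.condition z) a ha) :
        (coeqObj hnoeth u.unop v.unop).obj.carrier ξ.base →ₐ[X.ring ξ.base] Ω)))
    (fun s => by
      ext z
      show (AlgHom.comp _ _ : P.unop.obj.carrier ξ.base →ₐ[X.ring ξ.base] Ω) = _
      refine AlgHom.ext (fun a => ?_)
      rfl)
    (fun s m hm => by
      ext z
      show (show (coeqObj hnoeth u.unop v.unop).obj.carrier ξ.base →ₐ[X.ring ξ.base] Ω from m z)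
        = _
      refine AlgHom.ext (fun b => ?_)
      obtain ⟨a, rfl⟩ := Ideal.Quotient.mk_surjective b
      exact congrArg (fun ψ : P.unop.obj.carrier ξ.base →ₐ[X.ring ξ.base] Ω => ψ a)
        (types_congr_hom hm z))

theorem hom_preservesEqualizers (hnoeth : ∀ p : X.pt, IsNoetherianRing (X.ring p))
    (ξ : GeomPt X Ω) : PreservesLimitsOfShape WalkingParallelPair (homFunctor ξ) := by
  refine ⟨fun {K} => ?_⟩
  haveI : PreservesLimit (parallelPair (K.map WalkingParallelPairHom.left)
      (K.map WalkingParallelPairHom.right)) (homFunctor ξ) :=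
    preservesLimit_of_preserves_limit_cone
      (forkOpIsLimit (K.map WalkingParallelPairHom.left) (K.map WalkingParallelPairHom.right)
        (coeqπ hnoeth (K.map WalkingParallelPairHom.left).unop
          (K.map WalkingParallelPairHom.right).unop)
        (coeq_condition hnoeth _ _) (coeqIsColimit hnoeth _ _))
      ((isLimitMapConeForkEquiv (homFunctor ξ) _).symm
        (homEqIsLimit hnoeth ξ (K.map WalkingParallelPairHom.left)
          (K.map WalkingParallelPairHom.right) _))
  exact preservesLimit_of_iso_diagram (homFunctor ξ) (diagramIsoParallelPair K).symm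

/-! ### binary coproducts of the opposite category (products) -/

theorem homCoprodIsColimit (ξ : GeomPt X Ω) (A B : FEt X) :
    Nonempty (IsColimit (BinaryCofan.mk ((homFunctor ξ).map (pfst A B).op)
      ((homFunctor ξ).map (psnd A B).op))) := by
  rw [Types.binaryCofan_isColimit_iff]
  refine ⟨?_, ?_, ?_⟩
  · intro φ φ' h
    refine AlgHom.ext (fun a => ?_)
    exact congrArg (fun ψ : (A.obj.carrier ξ.base × B.obj.carrier ξ.base) →ₐ[X.ring ξ.base] Ω =>
      ψ (a, 0)) h
  · intro φ φ' h
    refine AlgHom.ext (fun b => ?_)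
    exact congrArg (fun ψ : (A.obj.carrier ξ.base × B.obj.carrier ξ.base) →ₐ[X.ring ξ.base] Ω =>
      ψ (0, b)) h
  · refine IsCompl.of_eq (Set.eq_empty_iff_forall_notMem.2 ?_) (Set.eq_univ_iff_forall.2 ?_)
    · rintro ψ ⟨⟨φ, rfl⟩, ⟨φ', h⟩⟩
      have h0 := congrArg
        (fun ψ : (A.obj.carrier ξ.base × B.obj.carrier ξ.base) →ₐ[X.ring ξ.base] Ω => ψ (1, 0)) h
      have h1 : (show B.obj.carrier ξ.base →ₐ[X.ring ξ.base] Ω from φ') 0 =
          (show A.obj.carrier ξ.base →ₐ[X.ring ξ.base] Ω from φ) 1 := h0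
      rw [map_zero, map_one] at h1
      exact zero_ne_one h1
    · intro ψ0
      let ψ : (A.obj.carrier ξ.base × B.obj.carrier ξ.base) →ₐ[X.ring ξ.base] Ω := ψ0
      by_cases h01 : ψ (0, 1) = 0
      · left
        have H : RingHom.ker (AlgHom.fst (X.ring ξ.base) (A.obj.carrier ξ.base)
            (B.obj.carrier ξ.base)).toRingHom ≤ RingHom.ker ψ.toRingHom := by
          rintro ⟨a, b⟩ hab
          have ha : a = 0 := hab
          subst ha
          have : ((0 : A.obj.carrier ξ.base), b) = (0, b) * (0, 1) := by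
            rw [Prod.mk_mul_mk, mul_zero, mul_one]
          show ψ (0, b) = 0
          rw [this, map_mul, h01, mul_zero]
        exact ⟨AlgHom.liftOfSurjective _ Prod.fst_surjective ψ H,
          AlgHom.liftOfSurjective_comp _ Prod.fst_surjective ψ H⟩
      · right
        have h10 : ψ (1, 0) = 0 := by
          have : ψ (1, 0) * ψ (0, 1) = 0 := by
            rw [← map_mul, Prod.mk_mul_mk, mul_zero, zero_mul]
            exact map_zero ψ
          exact (mul_eq_zero.1 this).resolve_right h01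
        have H : RingHom.ker (AlgHom.snd (X.ring ξ.base) (A.obj.carrier ξ.base)
            (B.obj.carrier ξ.base)).toRingHom ≤ RingHom.ker ψ.toRingHom := by
          rintro ⟨a, b⟩ hab
          have hb : b = 0 := hab
          subst hb
          have : (a, (0 : B.obj.carrier ξ.base)) = (a, 0) * (1, 0) := by
            rw [Prod.mk_mul_mk, mul_zero, mul_one]
          show ψ (a, 0) = 0
          rw [this, map_mul, h10, mul_zero]
        exact ⟨AlgHom.liftOfSurjective _ Prod.snd_surjective ψ H,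
          AlgHom.liftOfSurjective_comp _ Prod.snd_surjective ψ H⟩

theorem hom_preservesBinaryCoproducts (ξ : GeomPt X Ω) :
    PreservesColimitsOfShape (Discrete WalkingPair) (homFunctor ξ) := by
  refine ⟨fun {K} => ?_⟩
  haveI : PreservesColimit (pair (K.obj ⟨WalkingPair.left⟩) (K.obj ⟨WalkingPair.right⟩))
      (homFunctor ξ) :=
    preservesColimit_of_preserves_colimit_cocone
      (binaryCofanOpIsColimit (K.obj ⟨WalkingPair.left⟩) (K.obj ⟨WalkingPair.right⟩)
        (pfst (K.obj ⟨WalkingPair.left⟩).unop (K.obj ⟨WalkingPair.right⟩).unop)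
        (psnd (K.obj ⟨WalkingPair.left⟩).unop (K.obj ⟨WalkingPair.right⟩).unop)
        (prodIsLimit _ _))
      ((isColimitMapCoconeBinaryCofanEquiv (homFunctor ξ) _ _).symm
        (homCoprodIsColimit ξ (K.obj ⟨WalkingPair.left⟩).unop
          (K.obj ⟨WalkingPair.right⟩).unop).some)
  exact preservesColimit_of_iso_diagram (homFunctor ξ) (diagramIsoPair K).symm

/-! ### epimorphisms -/

theorem exists_linear_retraction {R A B : Type u} [CommRing R] [CommRing A] [CommRing B]
    [Algebra R A] [Algebra R B] [Algebra.Etale R A] [Algebra.Etale R B] [Module.Finite R B]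
    (f : A →ₐ[R] B) (hf : Function.Injective f) : ∃ ρ : B →ₗ[R] A, ∀ a, ρ (f a) = a := by
  letI : Algebra A B := f.toRingHom.toAlgebra
  haveI : IsScalarTower R A B := IsScalarTower.of_algebraMap_eq (fun r => (f.commutes r).symm)
  haveI : Algebra.Etale A B := Algebra.Etale.of_restrictScalars (R := R) (A := A) (B := B)
  haveI : Module.Finite A B := Module.Finite.of_restrictScalars_finite R A B
  haveI : Module.FinitePresentation A B :=
    Module.FinitePresentation.of_finite_of_finitePresentation A B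
  haveI : Module.Flat A B := inferInstance
  haveI : Module.Projective A B := Module.Flat.projective_of_finitePresentation
  obtain ⟨ρ, hρ⟩ := exists_retraction A B (show Function.Injective (algebraMap A B) from hf)
  refine ⟨ρ.restrictScalars R, fun a => ?_⟩
  have : f a = a • (1 : B) := by
    rw [Algebra.smul_def, mul_one]; rfl
  show ρ (f a) = a
  rw [this, map_smul, hρ, smul_eq_mul, mul_one]

theorem tensor_map_injective {R A B : Type u} (Ω : Type u) [CommRing R] [CommRing A] [CommRing B]
    [CommRing Ω] [Algebra R Ω] [Algebra R A] [Algebra R B] (f : A →ₐ[R] B) (ρ : B →ₗ[R] A)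
    (hρ : ∀ a, ρ (f a) = a) :
    Function.Injective (Algebra.TensorProduct.map (AlgHom.id Ω Ω) f) := by
  have key : ∀ t, LinearMap.lTensor Ω ρ (Algebra.TensorProduct.map (AlgHom.id Ω Ω) f t) = t := by
    intro t
    induction t using TensorProduct.induction_on with
    | zero => rw [map_zero, map_zero]
    | tmul ω a =>
      rw [Algebra.TensorProduct.map_tmul, LinearMap.lTensor_tmul, hρ]
      rfl
    | add x y hx hy => rw [map_add, map_add, hx, hy]
  exact Function.LeftInverse.injective key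

theorem fibMap_surjective (ξ : GeomPt X Ω) {A B : FEt X} (f : A ⟶ B)
    (hf : Function.Injective (f.hom.app ξ.base)) : Function.Surjective (ξ.fibMap f.hom) := by
  haveI := (A.property.2 ξ.base).1
  haveI := (A.property.2 ξ.base).2
  haveI := (B.property.2 ξ.base).1
  haveI := (B.property.2 ξ.base).2
  obtain ⟨ρ, hρ⟩ := exists_linear_retraction (f.hom.app ξ.base) hf
  have hinj := tensor_map_injective Ω (f.hom.app ξ.base) ρ hρ
  have hfin : (Algebra.TensorProduct.map (AlgHom.id Ω Ω) (f.hom.app ξ.base)).toRingHom.Finite := by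
    refine RingHom.Finite.of_comp_finite
      (f := algebraMap Ω (Ω ⊗[X.ring ξ.base] A.obj.carrier ξ.base)) ?_
    have : (Algebra.TensorProduct.map (AlgHom.id Ω Ω) (f.hom.app ξ.base)).toRingHom.comp
        (algebraMap Ω (Ω ⊗[X.ring ξ.base] A.obj.carrier ξ.base)) =
        algebraMap Ω (Ω ⊗[X.ring ξ.base] B.obj.carrier ξ.base) :=
      RingHom.ext fun ω =>
        (Algebra.TensorProduct.map (AlgHom.id Ω Ω) (f.hom.app ξ.base)).commutes ω
    rw [this]
    exact RingHom.finite_algebraMap.2 inferInstance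
  exact RingHom.IsIntegral.comap_surjective hfin.to_isIntegral hinj

theorem fib_preservesEpi (hflat : ∀ (p q : X.pt) (h : p ≤ q), (X.res h).Flat) (ξ : GeomPt X Ω) :
    ξ.fibFunctor.PreservesEpimorphisms := by
  refine ⟨?_⟩
  intro P Q f hf
  haveI : Mono f.unop := inferInstance
  have hinj := mono_injective hflat f.unop ξ.base
  have hsurj := fibMap_surjective ξ f.unop hinj
  exact ConcreteCategory.epi_of_surjective (ξ.fibFunctor.map f) hsurj

/-! ### assembly -/

theorem fib_preserves (hX : X.IsSchematic) (ξ : GeomPt X Ω) :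
    PreservesLimitsOfShape (Discrete PEmpty.{1}) ξ.fibFunctor ∧
      PreservesLimitsOfShape WalkingCospan ξ.fibFunctor ∧
      PreservesFiniteCoproducts ξ.fibFunctor ∧ ξ.fibFunctor.PreservesEpimorphisms := by
  have hnoeth := hX.1.1
  have hflat := hX.1.2
  haveI := hasCoequalizers (X := X) hnoeth
  haveI := hasBinaryCoproducts (X := X)
  haveI := hasInitial (X := X)
  haveI := hasBinaryProducts (X := X)
  haveI := hasTerminal (X := X)
  haveI : HasFiniteCoproducts (FEt X) := hasFiniteCoproducts_of_has_binary_and_initial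
  haveI : HasFiniteProducts (FEt X) := hasFiniteProducts_of_has_binary_and_terminal
  haveI h1 := hom_preservesTerminal ξ
  haveI h2 := hom_preservesBinaryProducts ξ
  haveI h3 := hom_preservesEqualizers hnoeth ξ
  haveI h4 := hom_preservesBinaryCoproducts ξ
  haveI h5 := hom_preservesInitial ξ
  haveI f1 : PreservesLimitsOfShape (Discrete PEmpty.{1}) ξ.fibFunctor := transferLim ξ _
  haveI f2 : PreservesLimitsOfShape (Discrete WalkingPair) ξ.fibFunctor := transferLim ξ _
  haveI f3 : PreservesLimitsOfShape WalkingParallelPair ξ.fibFunctor := transferLim ξ _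
  haveI f4 : PreservesColimitsOfShape (Discrete WalkingPair) ξ.fibFunctor := transferColim ξ _
  haveI f5 : PreservesColimitsOfShape (Discrete PEmpty.{1}) ξ.fibFunctor := transferColim ξ _
  haveI : HasEqualizers (FEt X)ᵒᵖ := inferInstance
  haveI : HasFiniteProducts (FEt X)ᵒᵖ := inferInstance
  haveI : HasFiniteCoproducts (FEt X)ᵒᵖ := inferInstance
  haveI : PreservesFiniteProducts ξ.fibFunctor :=
    Limits.PreservesFiniteProducts.of_preserves_binary_and_terminal ξ.fibFunctor
  haveI : PreservesFiniteLimits ξ.fibFunctor :=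
    preservesFiniteLimits_of_preservesEqualizers_and_finiteProducts ξ.fibFunctor
  refine ⟨f1, inferInstance,
    ⟨fun n => preservesShape_fin_of_preserves_binary_and_initial ξ.fibFunctor n⟩,
    fib_preservesEpi hflat ξ⟩

end Groth.Agent.Helper22.FEtObj
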