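import Mathlib
import Groth.Agent.Lib.Helper22.FEtInvLS
import Groth.Agent.Lib.Helper22.FEtPres

set_option autoImplicit false
set_option maxHeartbeats 400000
set_option backward.isDefEq.respectTransparency false
set_option backward.isDefEq.respectTransparency.types false

open TensorProduct SchFin

namespace Groth.Agent.Helper22.FEtInv

universe u v

section Char

variable {R A : Type u} [CommRing R] [CommRing A] [Algebra R A] {I : Type v} [Fintype I]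
  [DecidableEq I] (φ : I → (A →ₐ[R] A)) {B₁ : Type u} [CommRing B₁] [Algebra R B₁]
  [Module.Flat R B₁] {n : ℕ} (e₁ : B₁ ⊗[R] A ≃ₐ[B₁] (Fin n → B₁)) (τ : I → Fin n → Fin n)
  (hτ : ∀ i t j, e₁ (Algebra.TensorProduct.map (AlgHom.id B₁ B₁) (φ i) t) j = e₁ t (τ i j))
  (Ω : Type u) [Field Ω] [Algebra R Ω] [Algebra B₁ Ω] [IsScalarTower R B₁ Ω]

/-- the extension of a character to the base change -/
noncomputable def ext (χ : A →ₐ[R] Ω) : B₁ ⊗[R] A →ₐ[B₁] Ω :=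
  Algebra.TensorProduct.lift (Algebra.ofId B₁ Ω) χ (fun _ _ => Commute.all _ _)

theorem ext_tmul (χ : A →ₐ[R] Ω) (b : B₁) (a : A) :
    ext Ω χ (b ⊗ₜ[R] a) = algebraMap B₁ Ω b * χ a := rfl

theorem exists_index (χ : A →ₐ[R] Ω) :
    ∃ j : Fin n, ∀ t : B₁ ⊗[R] A, ext Ω χ t = algebraMap B₁ Ω (e₁ t j) := by
  have hK : ∀ e : Ω, IsIdempotentElem e → e = 0 ∨ e = 1 :=
    fun e he => IsIdempotentElem.iff_eq_zero_or_one.1 he
  obtain ⟨j, hj⟩ := exists_eval hK ((ext Ω χ).comp e₁.symm.toAlgHom)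
  refine ⟨j, fun t => ?_⟩
  have h2 : (ext Ω χ) (e₁.symm (e₁ t)) = algebraMap B₁ Ω (e₁ t j) := hj (e₁ t)
  rwa [AlgEquiv.symm_apply_apply] at h2

theorem ext_agree (χ χ' : A →ₐ[R] Ω) (h : ∀ c : invSub φ, χ c.1 = χ' c.1)
    (s : B₁ ⊗[R] invSub φ) :
    ext Ω χ (Algebra.TensorProduct.map (AlgHom.id B₁ B₁) (invSub φ).val s) =
      ext Ω χ' (Algebra.TensorProduct.map (AlgHom.id B₁ B₁) (invSub φ).val s) := by
  induction s using TensorProduct.induction_on with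
  | zero => rw [map_zero, map_zero, map_zero]
  | tmul b c =>
    show algebraMap B₁ Ω b * χ c.1 = algebraMap B₁ Ω b * χ' c.1
    rw [h c]
  | add s s' hs hs' => rw [map_add, map_add, map_add, hs, hs']

include hτ in
theorem same_class (χ χ' : A →ₐ[R] Ω) (h : ∀ c : invSub φ, χ c.1 = χ' c.1) (j j' : Fin n)
    (hj : ∀ t : B₁ ⊗[R] A, ext Ω χ t = algebraMap B₁ Ω (e₁ t j))
    (hj' : ∀ t : B₁ ⊗[R] A, ext Ω χ' t = algebraMap B₁ Ω (e₁ t j')) :
    Quot.mk (rel τ) j = Quot.mk (rel τ) j' := by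
  classical
  by_contra hne
  let x : Fin n → B₁ := fun k => if Quot.mk (rel τ) k = Quot.mk (rel τ) j then 1 else 0
  have hx : ∀ i k, x (τ i k) = x k := by
    intro i k
    show (if Quot.mk (rel τ) (τ i k) = Quot.mk (rel τ) j then (1 : B₁) else 0) =
      if Quot.mk (rel τ) k = Quot.mk (rel τ) j then 1 else 0
    rw [← Quot.sound (r := rel τ) (a := k) (b := τ i k) ⟨i, rfl⟩]
  obtain ⟨s, hs⟩ := (psi_range φ e₁ τ hτ x).2 hx
  have h1 := ext_agree φ Ω χ χ' h s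
  rw [hj, hj'] at h1
  have h2 : e₁ (Algebra.TensorProduct.map (AlgHom.id B₁ B₁) (invSub φ).val s) = x := hs
  rw [h2] at h1
  have hxj : x j = 1 := if_pos rfl
  have hxj' : x j' = 0 := if_neg (fun h => hne h.symm)
  rw [hxj, hxj', map_one, map_zero] at h1
  exact one_ne_zero h1

theorem map_map_of_comp {g h k : I} (hk : ∀ a, φ k a = φ g (φ h a)) (t : B₁ ⊗[R] A) :
    Algebra.TensorProduct.map (AlgHom.id B₁ B₁) (φ g)
      (Algebra.TensorProduct.map (AlgHom.id B₁ B₁) (φ h) t) =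
      Algebra.TensorProduct.map (AlgHom.id B₁ B₁) (φ k) t := by
  induction t using TensorProduct.induction_on with
  | zero => rw [map_zero, map_zero, map_zero]
  | tmul b a =>
    show b ⊗ₜ[R] (φ g (φ h a)) = b ⊗ₜ[R] (φ k a)
    rw [hk]
  | add t t' ht ht' => rw [map_add, map_add, map_add, ht, ht']

theorem map_map_of_inv {g k : I} (hk : ∀ a, φ g (φ k a) = a) (t : B₁ ⊗[R] A) :
    Algebra.TensorProduct.map (AlgHom.id B₁ B₁) (φ g)
      (Algebra.TensorProduct.map (AlgHom.id B₁ B₁) (φ k) t) = t := by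
  induction t using TensorProduct.induction_on with
  | zero => rw [map_zero, map_zero]
  | tmul b a =>
    show b ⊗ₜ[R] (φ g (φ k a)) = b ⊗ₜ[R] a
    rw [hk]
  | add t t' ht ht' => rw [map_add, map_add, ht, ht']

theorem map_of_id {k : I} (hk : ∀ a, φ k a = a) (t : B₁ ⊗[R] A) :
    Algebra.TensorProduct.map (AlgHom.id B₁ B₁) (φ k) t = t := by
  induction t using TensorProduct.induction_on with
  | zero => rw [map_zero]
  | tmul b a =>
    show b ⊗ₜ[R] (φ k a) = b ⊗ₜ[R] a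
    rw [hk]
  | add t t' ht ht' => rw [map_add, ht, ht']

include hτ in
theorem exists_of_eqvGen (hid : ∃ k, ∀ a, φ k a = a)
    (hcomp : ∀ g h, ∃ k, ∀ a, φ k a = φ g (φ h a)) (hinv : ∀ g, ∃ k, ∀ a, φ g (φ k a) = a)
    {j j' : Fin n} (hjj : Relation.EqvGen (rel τ) j j') :
    ∃ i, ∀ t : B₁ ⊗[R] A,
      algebraMap B₁ Ω (e₁ (Algebra.TensorProduct.map (AlgHom.id B₁ B₁) (φ i) t) j) =
        algebraMap B₁ Ω (e₁ t j') := by
  induction hjj with
  | rel a b hab =>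
    obtain ⟨i, rfl⟩ := hab
    exact ⟨i, fun t => by rw [hτ]⟩
  | refl a =>
    obtain ⟨k, hk⟩ := hid
    exact ⟨k, fun t => by rw [map_of_id φ hk]⟩
  | symm a b _ ih =>
    obtain ⟨g, hg⟩ := ih
    obtain ⟨k, hk⟩ := hinv g
    refine ⟨k, fun t => ?_⟩
    have h1 := hg (Algebra.TensorProduct.map (AlgHom.id B₁ B₁) (φ k) t)
    rw [map_map_of_inv φ hk] at h1
    exact h1.symm
  | trans a b c _ _ ih1 ih2 =>
    obtain ⟨g, hg⟩ := ih1
    obtain ⟨h, hh⟩ := ih2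
    obtain ⟨k, hk⟩ := hcomp g h
    refine ⟨k, fun t => ?_⟩
    rw [← map_map_of_comp φ hk, hg, hh]

include hτ in
theorem exists_conj (hid : ∃ k, ∀ a, φ k a = a)
    (hcomp : ∀ g h, ∃ k, ∀ a, φ k a = φ g (φ h a)) (hinv : ∀ g, ∃ k, ∀ a, φ g (φ k a) = a)
    (χ χ' : A →ₐ[R] Ω) (h : ∀ c : invSub φ, χ c.1 = χ' c.1) :
    ∃ i, ∀ a, χ' a = χ (φ i a) := by
  obtain ⟨j, hj⟩ := exists_index e₁ Ω χ
  obtain ⟨j', hj'⟩ := exists_index e₁ Ω χ'
  have hq := same_class φ e₁ τ hτ Ω χ χ' h j j' hj hj'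
  obtain ⟨i, hi⟩ := exists_of_eqvGen φ e₁ τ hτ Ω hid hcomp hinv (Quot.eqvGen_exact hq)
  refine ⟨i, fun a => ?_⟩
  have h1 : χ' a = ext Ω χ' ((1 : B₁) ⊗ₜ[R] a) := by rw [ext_tmul, map_one, one_mul]
  have h2 : χ (φ i a) = ext Ω χ ((1 : B₁) ⊗ₜ[R] (φ i a)) := by rw [ext_tmul, map_one, one_mul]
  rw [h1, h2, hj, hj']
  exact (hi ((1 : B₁) ⊗ₜ[R] a)).symm

end Char

theorem exists_conj_of_triv {R A : Type u} [CommRing R] [CommRing A] [Algebra R A]
    [IsNoetherianRing R] [ConnectedSpace (PrimeSpectrum R)] {I : Type v} [Finite I]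
    (φ : I → (A →ₐ[R] A)) (hid : ∃ k, ∀ a, φ k a = a)
    (hcomp : ∀ g h, ∃ k, ∀ a, φ k a = φ g (φ h a)) (hinv : ∀ g, ∃ k, ∀ a, φ g (φ k a) = a)
    (B : Type u) [CommRing B] [Algebra R B] [Module.Finite R B] [Module.FaithfullyFlat R B] (n : ℕ)
    (e : B ⊗[R] A ≃ₐ[B] (Fin n → B))
    (Ω : Type u) [Field Ω] [IsAlgClosed Ω] [Algebra R Ω] (χ χ' : A →ₐ[R] Ω)
    (h : ∀ c : invSub φ, χ c.1 = χ' c.1) : ∃ i, ∀ a, χ' a = χ (φ i a) := by
  classical
  haveI : Fintype I := Fintype.ofFinite I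
  obtain ⟨B₁, _, _, hnt, hfin, hff, e₁, τ, hτ⟩ := exists_local_structure φ B n e
  haveI := hnt
  haveI := hfin
  haveI := hff
  haveI : Nontrivial (Ω ⊗[R] B₁) := inferInstance
  obtain ⟨𝔮⟩ : Nonempty (PrimeSpectrum (Ω ⊗[R] B₁)) := inferInstance
  obtain ⟨β, -⟩ := FEtObj.beta_surjective Ω 𝔮
  letI : Algebra B₁ Ω := β.toRingHom.toAlgebra
  haveI : IsScalarTower R B₁ Ω := IsScalarTower.of_algebraMap_eq (fun r => (β.commutes r).symm)
  exact exists_conj φ e₁ τ hτ Ω hid hcomp hinv χ χ' h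

end Groth.Agent.Helper22.FEtInv
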