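import Mathlib
import Groth.Prelude.Def_SchFin2
import Groth.Agent.Lib.Helper22.FEtInvLS

set_option autoImplicit false
set_option maxHeartbeats 400000
set_option backward.isDefEq.respectTransparency false
set_option backward.isDefEq.respectTransparency.types false

open CategoryTheory CategoryTheory.Limits SchFin TensorProduct

namespace Groth.Agent.Helper22.FEtInv

universe u v

variable {X : RSpace.{u}}

section Obj

variable {A : FEt X} {I : Type v} (φ : I → (A ⟶ A))

/-- the pointwise family of endomorphisms -/
def famAt (p : X.pt) : I → (A.obj.carrier p →ₐ[X.ring p] A.obj.carrier p) :=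
  fun i => (φ i).hom.app p

theorem res_mem {p q : X.pt} (h : p ≤ q) (c : invSub (famAt φ p)) :
    A.obj.res h c.1 ∈ invSub (famAt φ q) := by
  intro i
  show (φ i).hom.app q (A.obj.res h c.1) = A.obj.res h c.1
  rw [← (φ i).hom.compat h c.1]
  exact congrArg (A.obj.res h) (c.2 i)

/-- the algebra of invariants -/
def invAlg : Alg X where
  carrier p := ↥(invSub (famAt φ p))
  res {p q} h := RingHom.codRestrict ((A.obj.res h).comp (invSub (famAt φ p)).val.toRingHom)
    (invSub (famAt φ q)) (fun c => res_mem φ h c)
  res_algebraMap h a := Subtype.ext (A.obj.res_algebraMap h a)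
  res_self p b := Subtype.ext (A.obj.res_self p b.1)
  res_comp h h' b := Subtype.ext (A.obj.res_comp h h' b.1)

theorem invAlg_isQcoh [Fintype I] [DecidableEq I]
    (hflat : ∀ (p q : X.pt) (h : p ≤ q), (X.res h).Flat) : (invAlg φ).IsQcoh := by
  intro p q h
  exact isBCAlong_inv (X.res h) (hflat p q h) (famAt φ p) (famAt φ q) (A.obj.toMod.res h)
    (A.property.1 p q h) (fun i a => ((φ i).hom.compat h a)) ((invAlg φ).toMod.res h)
    (fun c => rfl)

theorem invAlg_isEtCover [Finite I] (hX : X.IsSchematic) (hwc : X.IsWellConnected)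
    (hlt : ∀ A : FEt X, ∃ (B : Alg X) (n : ℕ), B.IsCovering ∧
      ∀ p : X.pt, Nonempty (TensorProduct (X.ring p) (B.carrier p) (A.obj.carrier p)
        ≃ₐ[B.carrier p] (Fin n → B.carrier p))) : (invAlg φ).IsEtCover := by
  classical
  haveI : Fintype I := Fintype.ofFinite I
  refine And.intro (invAlg_isQcoh φ hX.1.2) (fun p => ?_)
  haveI := hX.1.1 p
  haveI := hwc.2 p
  haveI := (A.property.2 p).1
  obtain ⟨B, n, hB, htriv⟩ := hlt A
  haveI := (hB.2 p).1
  haveI := (hB.2 p).2
  obtain ⟨e⟩ := htriv p
  exact And.intro (finite_invSub (famAt φ p)) (etale_invSub (famAt φ p) (B.carrier p) n e)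

/-- the inclusion of the invariants -/
def invι (h : (invAlg φ).IsEtCover) : (⟨invAlg φ, h⟩ : FEt X) ⟶ A :=
  ObjectProperty.homMk (Alg.Hom.mk (fun p => (invSub (famAt φ p)).val) (fun _ _ => rfl))

end Obj

section Lim

variable {G : Type u} [Group G] (K : SingleObj G ⥤ FEt X)

/-- the family of endomorphisms given by a diagram on a one-object category -/
def famOf : (SingleObj.star G ⟶ SingleObj.star G) →
    (K.obj (SingleObj.star G) ⟶ K.obj (SingleObj.star G)) := fun g => K.map g

/-- the cone of invariants -/
def invCone (h : (invAlg (famOf K)).IsEtCover) : Cone K where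
  pt := ⟨invAlg (famOf K), h⟩
  π :=
    { app := fun j => invι (famOf K) h
      naturality := fun j j' g => by
        apply ObjectProperty.hom_ext
        apply Alg.hom_ext
        intro p
        apply AlgHom.ext
        intro c
        show c.1 = (K.map g).hom.app p c.1
        exact (c.2 g).symm }

/-- the cone of invariants is a limit cone -/
def invConeIsLimit (h : (invAlg (famOf K)).IsEtCover) : IsLimit (invCone K h) where
  lift s := ObjectProperty.homMk (Alg.Hom.mk
    (fun p => AlgHom.codRestrict ((s.π.app (SingleObj.star G)).hom.app p)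
      (invSub (famAt (famOf K) p))
      (fun w g => by
        show (K.map g).hom.app p ((s.π.app (SingleObj.star G)).hom.app p w) =
          (s.π.app (SingleObj.star G)).hom.app p w
        have h1 := s.w g
        exact congrArg (fun t => t.hom.app p w) h1))
    (fun hpq b => Subtype.ext ((s.π.app (SingleObj.star G)).hom.compat hpq b)))
  fac s j := by
    apply ObjectProperty.hom_ext
    apply Alg.hom_ext
    intro p
    apply AlgHom.ext
    intro w
    rfl
  uniq s m hm := by
    apply ObjectProperty.hom_ext
    apply Alg.hom_ext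
    intro p
    apply AlgHom.ext
    intro w
    apply Subtype.ext
    exact congrArg (fun t => t.hom.app p w) (hm (SingleObj.star G))

end Lim

theorem hasLimitsOfShape_singleObj (hX : X.IsSchematic) (hwc : X.IsWellConnected)
    (hlt : ∀ A : FEt X, ∃ (B : Alg X) (n : ℕ), B.IsCovering ∧
      ∀ p : X.pt, Nonempty (TensorProduct (X.ring p) (B.carrier p) (A.obj.carrier p)
        ≃ₐ[B.carrier p] (Fin n → B.carrier p)))
    (G : Type u) [Group G] [Finite G] : HasLimitsOfShape (SingleObj G) (FEt X) := by
  haveI : Finite (SingleObj.star G ⟶ SingleObj.star G) := inferInstanceAs (Finite G)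
  exact ⟨fun K => HasLimit.mk
    ⟨invCone K (invAlg_isEtCover (famOf K) hX hwc hlt), invConeIsLimit K _⟩⟩

end Groth.Agent.Helper22.FEtInv
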