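import Mathlib
import Groth.Prelude.Def_SchFin2
import Groth.Agent.Lib.Helper22.FEtInvObj
import Groth.Agent.Lib.Helper22.FEtInvChar
import Groth.Agent.Lib.Helper22.FEtPres
import Groth.Agent.S15621
import Groth.Agent.S15622
import Groth.Agent.S15628
import Groth.Agent.S15631
import Groth.Agent.S15633

set_option autoImplicit false
set_option maxHeartbeats 400000
set_option backward.isDefEq.respectTransparency false
set_option backward.isDefEq.respectTransparency.types false

open CategoryTheory CategoryTheory.Limits SchFin TensorProduct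

namespace Groth.Agent.Helper22.FEtInv

universe u v

variable {X : RSpace.{u}}

/-! ### the universal property of the invariants -/

section Lift

variable {A W : FEt X} {I : Type v} (φ : I → (A ⟶ A)) (h : (invAlg φ).IsEtCover)

/-- a morphism fixed by the family factors through the invariants -/
def invLift (w : W ⟶ A) (hw : ∀ i, w ≫ φ i = w) : W ⟶ (⟨invAlg φ, h⟩ : FEt X) :=
  ObjectProperty.homMk (Alg.Hom.mk
    (fun p => AlgHom.codRestrict (w.hom.app p) (invSub (famAt φ p))
      (fun x i => congrArg (fun t => t.hom.app p x) (hw i)))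
    (fun hpq b => Subtype.ext (w.hom.compat hpq b)))

theorem invLift_fac (w : W ⟶ A) (hw : ∀ i, w ≫ φ i = w) :
    invLift φ h w hw ≫ invι φ h = w := by
  apply ObjectProperty.hom_ext
  apply Alg.hom_ext
  intro p
  apply AlgHom.ext
  intro x
  rfl

theorem invι_cancel {m m' : W ⟶ (⟨invAlg φ, h⟩ : FEt X)}
    (hm : m ≫ invι φ h = m' ≫ invι φ h) : m = m' := by
  apply ObjectProperty.hom_ext
  apply Alg.hom_ext
  intro p
  apply AlgHom.ext
  intro x
  apply Subtype.ext
  exact congrArg (fun t => t.hom.app p x) hm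

theorem invι_fix (i : I) : invι φ h ≫ φ i = invι φ h := by
  apply ObjectProperty.hom_ext
  apply Alg.hom_ext
  intro p
  apply AlgHom.ext
  intro c
  exact c.2 i

end Lift

/-! ### quotients in the opposite category -/

section Op

variable {G : Type u} [Group G] (K : SingleObj G ⥤ (FEt X)ᵒᵖ)

/-- the family of endomorphisms given by a diagram in the opposite category -/
def famOp : (SingleObj.star G ⟶ SingleObj.star G) →
    ((K.obj (SingleObj.star G)).unop ⟶ (K.obj (SingleObj.star G)).unop) :=
  fun g => (K.map g).unop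

/-- the cocone of invariants -/
def invCocone (h : (invAlg (famOp K)).IsEtCover) : Cocone K where
  pt := Opposite.op ⟨invAlg (famOp K), h⟩
  ι :=
    { app := fun j => (invι (famOp K) h).op
      naturality := fun j j' g => Quiver.Hom.unop_inj
        ((invι_fix (famOp K) h g).trans (Category.id_comp _).symm) }

theorem cocone_fix (s : Cocone K) (g : SingleObj.star G ⟶ SingleObj.star G) :
    (s.ι.app (SingleObj.star G)).unop ≫ famOp K g = (s.ι.app (SingleObj.star G)).unop :=
  congrArg Quiver.Hom.unop (s.w g)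

/-- the cocone of invariants is a colimit cocone -/
def invCoconeIsColimit (h : (invAlg (famOp K)).IsEtCover) : IsColimit (invCocone K h) where
  desc s := (invLift (famOp K) h (s.ι.app (SingleObj.star G)).unop (cocone_fix K s)).op
  fac s j := Quiver.Hom.unop_inj
    (invLift_fac (famOp K) h (s.ι.app (SingleObj.star G)).unop (cocone_fix K s))
  uniq s m hm := Quiver.Hom.unop_inj (invι_cancel (famOp K) h
    ((congrArg Quiver.Hom.unop (hm (SingleObj.star G))).trans
      (invLift_fac (famOp K) h (s.ι.app (SingleObj.star G)).unop (cocone_fix K s)).symm))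

end Op

theorem hasQuot (hX : X.IsSchematic) (hwc : X.IsWellConnected)
    (hlt : ∀ A : FEt X, ∃ (B : Alg X) (n : ℕ), B.IsCovering ∧
      ∀ p : X.pt, Nonempty (TensorProduct (X.ring p) (B.carrier p) (A.obj.carrier p)
        ≃ₐ[B.carrier p] (Fin n → B.carrier p)))
    (G : Type u) [Group G] [Finite G] : HasColimitsOfShape (SingleObj G) (FEt X)ᵒᵖ := by
  haveI : Finite (SingleObj.star G ⟶ SingleObj.star G) := inferInstanceAs (Finite G)
  exact ⟨fun K => HasColimit.mk
    ⟨invCocone K (invAlg_isEtCover (famOp K) hX hwc hlt), invCoconeIsColimit K _⟩⟩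

/-! ### the functor of characters preserves the quotients -/

section Pres

variable {Ω : Type u} [Field Ω] [IsAlgClosed Ω]

attribute [local instance] FEtObj.algΩ

theorem char_extends (ξ : GeomPt X Ω) {A C : FEt X} (ι : C ⟶ A)
    (hinj : Function.Injective (ι.hom.app ξ.base))
    (ψ : C.obj.carrier ξ.base →ₐ[X.ring ξ.base] Ω) :
    ∃ χ : A.obj.carrier ξ.base →ₐ[X.ring ξ.base] Ω, χ.comp (ι.hom.app ξ.base) = ψ := by
  haveI := (A.property.2 ξ.base).1
  obtain ⟨𝔓, h𝔓⟩ := FEtObj.fibMap_surjective ξ ι hinj (FEtObj.beta Ω ψ)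
  obtain ⟨χ, hχ⟩ := FEtObj.beta_surjective Ω (R := X.ring ξ.base)
    (E := A.obj.carrier ξ.base) 𝔓
  refine ⟨χ, FEtObj.beta_injective Ω ?_⟩
  rw [← FEtObj.beta_comp, hχ]
  exact h𝔓

theorem homQuot_isColimit (hX : X.IsSchematic) (hwc : X.IsWellConnected)
    (hlt : ∀ A : FEt X, ∃ (B : Alg X) (n : ℕ), B.IsCovering ∧
      ∀ p : X.pt, Nonempty (TensorProduct (X.ring p) (B.carrier p) (A.obj.carrier p)
        ≃ₐ[B.carrier p] (Fin n → B.carrier p)))
    (ξ : GeomPt X Ω) {G : Type u} [Group G] [Finite G] (K : SingleObj G ⥤ (FEt X)ᵒᵖ)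
    (h : (invAlg (famOp K)).IsEtCover) :
    Nonempty (IsColimit ((FEtObj.homFunctor ξ).mapCocone (invCocone K h))) := by
  classical
  haveI : Finite (SingleObj.star G ⟶ SingleObj.star G) := inferInstanceAs (Finite G)
  have hS : ∀ ψ : (invAlg (famOp K)).carrier ξ.base →ₐ[X.ring ξ.base] Ω,
      ∃ χ : (K.obj (SingleObj.star G)).unop.obj.carrier ξ.base →ₐ[X.ring ξ.base] Ω,
        χ.comp ((invι (famOp K) h).hom.app ξ.base) = ψ :=
    fun ψ => char_extends ξ (invι (famOp K) h) Subtype.val_injective ψ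
  have hO : ∀ χ χ' : (K.obj (SingleObj.star G)).unop.obj.carrier ξ.base →ₐ[X.ring ξ.base] Ω,
      χ.comp ((invι (famOp K) h).hom.app ξ.base) =
        χ'.comp ((invι (famOp K) h).hom.app ξ.base) →
      ∃ g : SingleObj.star G ⟶ SingleObj.star G,
        χ' = χ.comp ((K.map g).unop.hom.app ξ.base) := by
    intro χ χ' hχ
    haveI := hX.1.1 ξ.base
    haveI := hwc.2 ξ.base
    obtain ⟨B, n, hB, htriv⟩ := hlt (K.obj (SingleObj.star G)).unop
    haveI := (hB.2 ξ.base).1
    haveI := (hB.2 ξ.base).2
    obtain ⟨e⟩ := htriv ξ.base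
    have hid : ∃ k, ∀ a, famAt (famOp K) ξ.base k a = a := by
      refine ⟨𝟙 _, fun a => ?_⟩
      show ((K.map (𝟙 _)).unop).hom.app ξ.base a = a
      rw [K.map_id]
      rfl
    have hcomp : ∀ g k, ∃ l, ∀ a, famAt (famOp K) ξ.base l a =
        famAt (famOp K) ξ.base g (famAt (famOp K) ξ.base k a) := by
      intro g k
      refine ⟨g ≫ k, fun a => ?_⟩
      show ((K.map (g ≫ k)).unop).hom.app ξ.base a = _
      rw [K.map_comp]
      rfl
    have hinv : ∀ g, ∃ k, ∀ a,
        famAt (famOp K) ξ.base g (famAt (famOp K) ξ.base k a) = a := by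
      intro g
      let k : SingleObj.star G ⟶ SingleObj.star G := (show G from g)⁻¹
      have hk : g ≫ k = 𝟙 _ := inv_mul_cancel (show G from g)
      have h2 : K.map g ≫ K.map k = 𝟙 _ := by rw [← K.map_comp, hk, K.map_id]
      exact ⟨k, fun a => congrArg (fun t => t.unop.hom.app ξ.base a) h2⟩
    obtain ⟨g, hg⟩ := exists_conj_of_triv (famAt (famOp K) ξ.base) hid hcomp hinv
      (B.carrier ξ.base) n e Ω χ χ' (fun c => AlgHom.congr_fun hχ c)
    exact ⟨g, AlgHom.ext hg⟩
  choose sec hsec using hS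
  refine ⟨{ desc := fun s => TypeCat.ofHom (fun ψ => s.ι.app (SingleObj.star G) (sec ψ))
            fac := ?_
            uniq := ?_ }⟩
  · intro s j
    ext χ
    have hχ := hsec ((show (K.obj (SingleObj.star G)).unop.obj.carrier ξ.base →ₐ[X.ring ξ.base] Ω
      from χ).comp ((invι (famOp K) h).hom.app ξ.base))
    obtain ⟨g, hg⟩ := hO (show (K.obj (SingleObj.star G)).unop.obj.carrier ξ.base
      →ₐ[X.ring ξ.base] Ω from χ) _ hχ.symm
    have hw := types_congr_hom (s.w g) χ
    exact (congrArg (fun t => s.ι.app (SingleObj.star G) t) hg).trans hw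
  · intro s m hm
    ext ψ
    have h1 := types_congr_hom (hm (SingleObj.star G)) (sec ψ)
    exact (congrArg (fun t => m t) (hsec ψ).symm).trans h1

theorem hom_preservesQuot (hX : X.IsSchematic) (hwc : X.IsWellConnected)
    (hlt : ∀ A : FEt X, ∃ (B : Alg X) (n : ℕ), B.IsCovering ∧
      ∀ p : X.pt, Nonempty (TensorProduct (X.ring p) (B.carrier p) (A.obj.carrier p)
        ≃ₐ[B.carrier p] (Fin n → B.carrier p)))
    (ξ : GeomPt X Ω) (G : Type u) [Group G] [Finite G] :
    PreservesColimitsOfShape (SingleObj G) (FEtObj.homFunctor ξ) := by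
  haveI : Finite (SingleObj.star G ⟶ SingleObj.star G) := inferInstanceAs (Finite G)
  refine ⟨fun {K} => ?_⟩
  have h := invAlg_isEtCover (famOp K) hX hwc hlt
  exact preservesColimit_of_preserves_colimit_cocone (invCoconeIsColimit K h)
    (homQuot_isColimit hX hwc hlt ξ K h).some

theorem fib_preservesQuot (hX : X.IsSchematic) (hwc : X.IsWellConnected)
    (hlt : ∀ A : FEt X, ∃ (B : Alg X) (n : ℕ), B.IsCovering ∧
      ∀ p : X.pt, Nonempty (TensorProduct (X.ring p) (B.carrier p) (A.obj.carrier p)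
        ≃ₐ[B.carrier p] (Fin n → B.carrier p)))
    (ξ : GeomPt X Ω) (G : Type u) [Group G] [Finite G] :
    PreservesColimitsOfShape (SingleObj G) ξ.fibFunctor := by
  haveI := hom_preservesQuot hX hwc hlt ξ G
  haveI : PreservesColimitsOfShape (SingleObj G) (ξ.fibFunctor ⋙ FintypeCat.incl) :=
    preservesColimitsOfShape_of_natIso (FEtObj.fibIso ξ)
  exact preservesColimitsOfShape_of_reflects_of_preserves ξ.fibFunctor FintypeCat.incl

theorem galois (hX : X.IsSchematic) (hwc : X.IsWellConnected)
    (hlt : ∀ A : FEt X, ∃ (B : Alg X) (n : ℕ), B.IsCovering ∧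
      ∀ p : X.pt, Nonempty (TensorProduct (X.ring p) (B.carrier p) (A.obj.carrier p)
        ≃ₐ[B.carrier p] (Fin n → B.carrier p)))
    (hepi : ∀ (A B : FEt X) (f : A ⟶ B), Epi f → ∀ p : X.pt, Function.Surjective (f.hom.app p))
    (ξ : GeomPt X Ω) :
    ∃ h : PreGaloisCategory (FEt X)ᵒᵖ,
      @PreGaloisCategory.FiberFunctor (FEt X)ᵒᵖ _ h ξ.fibFunctor := by
  haveI : HasInitial (FEt X) := (Groth.Agent.S15621.result X hX).1
  haveI : HasPushouts (FEt X) := (Groth.Agent.S15621.result X hX).2
  haveI : HasTerminal (FEt X) := (Groth.Agent.S15622.result X hX).1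
  haveI : HasBinaryProducts (FEt X) := (Groth.Agent.S15622.result X hX).2
  haveI : HasFiniteProducts (FEt X) := hasFiniteProducts_of_has_binary_and_terminal
  have hpre : PreGaloisCategory (FEt X)ᵒᵖ :=
    { hasTerminal := inferInstance
      hasPullbacks := inferInstance
      hasFiniteCoproducts := inferInstance
      hasQuotientsByFiniteGroups := fun G _ _ => hasQuot hX hwc hlt G
      monoInducesIsoOnDirectSummand := fun {P Q} i _ => by
        have hsurj := hepi Q.unop P.unop i.unop inferInstance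
        obtain ⟨D, π, ⟨hlim⟩⟩ := Groth.Agent.S15628.result X hX i.unop hsurj
        exact ⟨Opposite.op D, π.op,
          ⟨FEtObj.binaryCofanOpIsColimit P (Opposite.op D) i.unop π hlim⟩⟩ }
  refine ⟨hpre, ?_⟩
  obtain ⟨f1, f2, f3, f4⟩ := Groth.Agent.S15633.result X hX ξ
  exact
    { preservesTerminalObjects := f1
      preservesPullbacks := f2
      preservesFiniteCoproducts := f3
      preservesEpis := f4
      preservesQuotientsByFiniteGroups := fun G _ _ => fib_preservesQuot hX hwc hlt ξ G
      reflectsIsos := Groth.Agent.S15631.result X hX hwc hlt ξ }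

end Pres

end Groth.Agent.Helper22.FEtInv
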