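import Groth.Prelude.Def_FilD
import Mathlib.CategoryTheory.Preadditive.Biproducts
import Mathlib.CategoryTheory.ObjectProperty.ContainsZero

/-!
# Binary biproducts of finite filtered objects

Helper library (helper22): the category `FilD.FilF A` has binary biproducts, computed levelwise.
-/

set_option autoImplicit false
universe v u
open CategoryTheory CategoryTheory.Limits Opposite

namespace Groth.Agent.Helper22.FilDBiprod

variable {A : Type u} [Category.{v} A] [Abelian A]

/-- Levelwise biproduct of two functors `ℤᵒᵖ ⥤ A`. -/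
@[reducible] noncomputable def sumFunctor (F G : ℤᵒᵖ ⥤ A) : ℤᵒᵖ ⥤ A where
  obj p := F.obj p ⊞ G.obj p
  map f := biprod.map (F.map f) (G.map f)
  map_id p := by
    apply biprod.hom_ext <;> simp
  map_comp f g := by
    apply biprod.hom_ext <;> simp

lemma isFinFil_sum {F G : ℤᵒᵖ ⥤ A} (hF : FilD.IsFinFil A F) (hG : FilD.IsFinFil A G) :
    FilD.IsFinFil A (sumFunctor F G) := by
  obtain ⟨hF1, ⟨b1, hb1⟩, ⟨a1, ha1⟩⟩ := hF
  obtain ⟨hG1, ⟨b2, hb2⟩, ⟨a2, ha2⟩⟩ := hG
  refine ⟨fun p q f => ?_, ⟨max b1 b2, fun p hp => ?_⟩, ⟨min a1 a2, fun p q f hp => ?_⟩⟩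
  · have := hF1 f
    have := hG1 f
    exact biprod.map_mono (F.map f) (G.map f)
  · have h1 := hb1 p (le_trans (le_max_left _ _) hp)
    have h2 := hb2 p (le_trans (le_max_right _ _) hp)
    show IsZero (F.obj (op p) ⊞ G.obj (op p))
    rw [IsZero.iff_id_eq_zero]
    apply biprod.hom_ext
    · exact h1.eq_of_tgt _ _
    · exact h2.eq_of_tgt _ _
  · have := ha1 f (le_trans hp (min_le_left _ _))
    have := ha2 f (le_trans hp (min_le_right _ _))
    exact (biprod.mapIso (asIso (F.map f)) (asIso (G.map f))).isIso_hom

/-- Direct sum of finite filtered objects. -/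
@[reducible] noncomputable def sum (X Y : FilD.FilF A) : FilD.FilF A :=
  ⟨sumFunctor X.obj Y.obj, isFinFil_sum X.property Y.property⟩

/-- The biproduct bicone of two finite filtered objects. -/
noncomputable def bicone (X Y : FilD.FilF A) : BinaryBicone X Y where
  pt := sum X Y
  fst := ObjectProperty.homMk
    { app := fun _ => biprod.fst, naturality := fun _ _ _ => biprod.map_fst _ _ }
  snd := ObjectProperty.homMk
    { app := fun _ => biprod.snd, naturality := fun _ _ _ => biprod.map_snd _ _ }
  inl := ObjectProperty.homMk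
    { app := fun _ => biprod.inl, naturality := fun _ _ _ => (biprod.inl_map _ _).symm }
  inr := ObjectProperty.homMk
    { app := fun _ => biprod.inr, naturality := fun _ _ _ => (biprod.inr_map _ _).symm }
  inl_fst := by
    apply ObjectProperty.hom_ext
    apply NatTrans.ext
    funext p
    exact biprod.inl_fst
  inl_snd := by
    apply ObjectProperty.hom_ext
    apply NatTrans.ext
    funext p
    exact biprod.inl_snd
  inr_fst := by
    apply ObjectProperty.hom_ext
    apply NatTrans.ext
    funext p
    exact biprod.inr_fst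
  inr_snd := by
    apply ObjectProperty.hom_ext
    apply NatTrans.ext
    funext p
    exact biprod.inr_snd

lemma bicone_total (X Y : FilD.FilF A) :
    (bicone X Y).fst ≫ (bicone X Y).inl + (bicone X Y).snd ≫ (bicone X Y).inr =
      𝟙 (bicone X Y).pt := by
  apply ObjectProperty.hom_ext
  apply NatTrans.ext
  funext p
  exact biprod.total

noncomputable instance hasBinaryBiproducts : HasBinaryBiproducts (FilD.FilF A) where
  has_binary_biproduct X Y := hasBinaryBiproduct_of_total (bicone X Y) (bicone_total X Y)

end Groth.Agent.Helper22.FilDBiprod
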