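import Groth.Agent.Lib.Helper22.FilDCore
import Mathlib.CategoryTheory.Abelian.Refinements
import Mathlib.CategoryTheory.Abelian.Exact

/-!
# Cokernels of strict morphisms of finite filtered objects

Helper library (helper22): the levelwise cokernel of a strict morphism of finite filtered objects is
a finite filtered object, and the graded pieces of the resulting sequence are exact.
-/

set_option autoImplicit false
universe v u
open CategoryTheory CategoryTheory.Limits Opposite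
open Groth.Agent.Helper22.FilDCore

namespace Groth.Agent.Helper22.FilDCoker

variable {A : Type u} [Category.{v} A] [Abelian A]

/-- The levelwise cokernel of a natural transformation. -/
@[reducible] noncomputable def cokerFun {F G : ℤᵒᵖ ⥤ A} (φ : F ⟶ G) : ℤᵒᵖ ⥤ A where
  obj P := cokernel (φ.app P)
  map {P Q} f := cokernel.map (φ.app P) (φ.app Q) (F.map f) (G.map f) (φ.naturality f).symm
  map_id P := by
    apply coequalizer.hom_ext
    simp
  map_comp f g := by
    apply coequalizer.hom_ext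
    simp

lemma cokerπ_naturality {F G : ℤᵒᵖ ⥤ A} (φ : F ⟶ G) {P Q : ℤᵒᵖ} (f : P ⟶ Q) :
    G.map f ≫ cokernel.π (φ.app Q) = cokernel.π (φ.app P) ≫ (cokerFun φ).map f :=
  (cokernel.π_desc _ _ _).symm

/-- The projection to the levelwise cokernel. -/
noncomputable def cokerπ {F G : ℤᵒᵖ ⥤ A} (φ : F ⟶ G) : G ⟶ cokerFun φ where
  app P := cokernel.π (φ.app P)
  naturality _ _ f := cokerπ_naturality φ f

lemma exact_coker {X Y : A} (f : X ⟶ Y) ⦃T : A⦄ (y : T ⟶ Y) (hy : y ≫ cokernel.π f = 0) :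
    ∃ (T' : A) (π : T' ⟶ T) (_ : Epi π) (x : T' ⟶ X), π ≫ y = x ≫ f :=
  (ShortComplex.exact_cokernel f).exact_up_to_refinements y hy

lemma coker_map_mono {X Y : FilD.FilF A} (u : X ⟶ Y) (hu : FilD.IsStrict u) {q q' : ℤ}
    (h : q ≤ q') : Mono ((cokerFun u.hom).map (homOfLE h).op) := by
  apply Preadditive.mono_of_cancel_zero
  intro T z hz
  obtain ⟨T₁, π₁, hπ₁, y, hy⟩ :=
    surjective_up_to_refinements_of_epi (cokernel.π (u.hom.app (op q'))) z
  have h1 : (y ≫ Y.obj.map (homOfLE h).op) ≫ cokernel.π (u.hom.app (op q)) = 0 := by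
    rw [Category.assoc, cokerπ_naturality u.hom (homOfLE h).op, ← Category.assoc, ← hy,
      Category.assoc, hz, comp_zero]
  obtain ⟨T₂, π₂, hπ₂, x, hx⟩ := exact_coker (u.hom.app (op q)) _ h1
  obtain ⟨T₃, π₃, hπ₃, x', hx'⟩ := (strict_iff u).1 hu q q' h x (π₂ ≫ y) (by
    rw [Category.assoc]
    exact hx.symm)
  have h2 : (π₃ ≫ π₂ ≫ π₁) ≫ z = 0 := by
    calc (π₃ ≫ π₂ ≫ π₁) ≫ z = π₃ ≫ π₂ ≫ (π₁ ≫ z) := by simp only [Category.assoc]
      _ = (π₃ ≫ π₂ ≫ y) ≫ cokernel.π (u.hom.app (op q')) := by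
          rw [hy]
          simp only [Category.assoc]
      _ = 0 := by rw [← hx', Category.assoc, cokernel.condition, comp_zero]
  have hep : Epi (π₃ ≫ π₂ ≫ π₁) := epi_comp _ _
  exact (cancel_epi (π₃ ≫ π₂ ≫ π₁)).1 (h2.trans comp_zero.symm)

lemma isFinFil_coker {X Y : FilD.FilF A} (u : X ⟶ Y) (hu : FilD.IsStrict u) :
    FilD.IsFinFil A (cokerFun u.hom) := by
  obtain ⟨bY, hbY⟩ := Y.property.2.1
  obtain ⟨aY, haY⟩ := Y.property.2.2
  have hmono : ∀ ⦃P Q : ℤᵒᵖ⦄ (f : P ⟶ Q), Mono ((cokerFun u.hom).map f) := by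
    intro P Q f
    induction P using Opposite.rec with
    | _ q' =>
      induction Q using Opposite.rec with
      | _ q =>
        have h : q ≤ q' := leOfHom f.unop
        obtain rfl : f = (homOfLE h).op := hom_eq _ _
        exact coker_map_mono u hu h
  refine ⟨hmono, ⟨bY, fun p hp => IsZero.of_epi (cokernel.π (u.hom.app (op p))) (hbY p hp)⟩,
    ⟨aY, fun P Q f hP => ?_⟩⟩
  have hm := hmono f
  have hiso : IsIso (Y.obj.map f) := haY f hP
  have hepi : Epi ((cokerFun u.hom).map f) := by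
    have e := cokerπ_naturality u.hom f
    have h1 : Epi (cokernel.π (u.hom.app P) ≫ (cokerFun u.hom).map f) := by
      rw [← e]
      infer_instance
    exact epi_of_epi (cokernel.π (u.hom.app P)) _
  exact isIso_of_mono_of_epi _

/-- The cokernel of a strict morphism, as a finite filtered object. -/
@[reducible] noncomputable def cokerObj {X Y : FilD.FilF A} (u : X ⟶ Y) (hu : FilD.IsStrict u) :
    FilD.FilF A :=
  ⟨cokerFun u.hom, isFinFil_coker u hu⟩

/-- The projection onto the cokernel of a strict morphism. -/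
noncomputable def cokerProj {X Y : FilD.FilF A} (u : X ⟶ Y) (hu : FilD.IsStrict u) :
    Y ⟶ cokerObj u hu :=
  ObjectProperty.homMk (cokerπ u.hom)

lemma cokerProj_app {X Y : FilD.FilF A} (u : X ⟶ Y) (hu : FilD.IsStrict u) (P : ℤᵒᵖ) :
    (cokerProj u hu).hom.app P = cokernel.π (u.hom.app P) := rfl

lemma comp_cokerProj {X Y : FilD.FilF A} (u : X ⟶ Y) (hu : FilD.IsStrict u) :
    u ≫ cokerProj u hu = 0 := by
  apply ObjectProperty.hom_ext
  apply NatTrans.ext
  funext P
  exact cokernel.condition (u.hom.app P)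

/-- Morphisms out of the cokernel. -/
noncomputable def cokerDesc {X Y Z : FilD.FilF A} (u : X ⟶ Y) (hu : FilD.IsStrict u)
    (g : Y ⟶ Z) (hg : u ≫ g = 0) : cokerObj u hu ⟶ Z :=
  ObjectProperty.homMk
    { app := fun P => cokernel.desc (u.hom.app P) (g.hom.app P)
        (congrArg (fun t => t.hom.app P) hg)
      naturality := fun P Q f => by
        apply coequalizer.hom_ext
        have e : Y.obj.map f ≫ cokernel.π (u.hom.app Q) =
            cokernel.π (u.hom.app P) ≫ (cokerFun u.hom).map f := cokerπ_naturality u.hom f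
        show cokernel.π (u.hom.app P) ≫ (cokerFun u.hom).map f ≫ cokernel.desc _ _ _ =
          cokernel.π (u.hom.app P) ≫ cokernel.desc _ _ _ ≫ Z.obj.map f
        rw [← Category.assoc, ← e, Category.assoc, cokernel.π_desc, cokernel.π_desc_assoc]
        exact g.hom.naturality f }

lemma cokerProj_desc {X Y Z : FilD.FilF A} (u : X ⟶ Y) (hu : FilD.IsStrict u)
    (g : Y ⟶ Z) (hg : u ≫ g = 0) : cokerProj u hu ≫ cokerDesc u hu g hg = g := by
  apply ObjectProperty.hom_ext
  apply NatTrans.ext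
  funext P
  exact cokernel.π_desc _ _ _

section Gr

variable {X Y : FilD.FilF A} (u : X ⟶ Y) (hu : FilD.IsStrict u)

lemma gr_cokerProj_epi (p : ℤ) : Epi ((FilD.grF A p).map (cokerProj u hu)) := by
  have e : grπ Y.obj p ≫ (FilD.gr A p).map (cokerProj u hu).hom =
      (cokerProj u hu).hom.app (op p) ≫ grπ (cokerObj u hu).obj p := grπ_map _ p
  have h0 : Epi ((cokerProj u hu).hom.app (op p)) := by
    rw [cokerProj_app]
    infer_instance
  have h2 : Epi (grπ (cokerObj u hu).obj p) :=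
    inferInstanceAs (Epi (cokernel.π ((cokerObj u hu).obj.map (FilD.stepHom p))))
  have h1 : Epi (grπ Y.obj p ≫ (FilD.gr A p).map (cokerProj u hu).hom) := by
    rw [e]
    exact epi_comp _ _
  show Epi ((FilD.gr A p).map (cokerProj u hu).hom)
  exact epi_of_epi (grπ Y.obj p) _

lemma gr_exact (p : ℤ) ⦃T : A⦄ (w : T ⟶ (FilD.grF A p).obj Y)
    (hw : w ≫ (FilD.grF A p).map (cokerProj u hu) = 0) :
    ∃ (T' : A) (π : T' ⟶ T) (_ : Epi π) (z : T' ⟶ (FilD.grF A p).obj X),
      π ≫ w = z ≫ (FilD.grF A p).map u := by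
  obtain ⟨T₁, π₁, hπ₁, y, hy⟩ := surjective_up_to_refinements_of_epi (grπ Y.obj p) w
  have e1 : grπ Y.obj p ≫ (FilD.gr A p).map (cokerProj u hu).hom =
      cokernel.π (u.hom.app (op p)) ≫ grπ (cokerObj u hu).obj p := grπ_map _ p
  have hw' : w ≫ (FilD.gr A p).map (cokerProj u hu).hom = 0 := hw
  have h1 : (y ≫ cokernel.π (u.hom.app (op p))) ≫ grπ (cokerObj u hu).obj p = 0 := by
    rw [Category.assoc, ← e1, ← Category.assoc, ← hy, Category.assoc, hw', comp_zero]
  have hm : Mono ((cokerObj u hu).obj.map (FilD.stepHom p)) := (cokerObj u hu).property.1 _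
  obtain ⟨c', hc'⟩ := exists_lift_of_grπ_eq_zero (cokerObj u hu).obj p _ h1
  obtain ⟨T₂, π₂, hπ₂, y', hy'⟩ :=
    surjective_up_to_refinements_of_epi (cokernel.π (u.hom.app (op (p + 1)))) c'
  have h2 : (π₂ ≫ y - y' ≫ Y.obj.map (FilD.stepHom p)) ≫ cokernel.π (u.hom.app (op p)) = 0 := by
    rw [Preadditive.sub_comp, Category.assoc, Category.assoc,
      cokerπ_naturality u.hom (FilD.stepHom p), ← Category.assoc y', ← hy', Category.assoc,
      hc', sub_self]
  obtain ⟨T₃, π₃, hπ₃, x, hx⟩ := exact_coker (u.hom.app (op p)) _ h2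
  refine ⟨T₃, π₃ ≫ π₂ ≫ π₁, epi_comp _ _, x ≫ grπ X.obj p, ?_⟩
  have e2 : grπ X.obj p ≫ (FilD.gr A p).map u.hom = u.hom.app (op p) ≫ grπ Y.obj p :=
    grπ_map _ p
  show (π₃ ≫ π₂ ≫ π₁) ≫ w = (x ≫ grπ X.obj p) ≫ (FilD.gr A p).map u.hom
  have h3 : (π₂ ≫ y - y' ≫ Y.obj.map (FilD.stepHom p)) ≫ grπ Y.obj p = π₂ ≫ π₁ ≫ w := by
    rw [Preadditive.sub_comp, Category.assoc, Category.assoc, step_grπ, comp_zero, sub_zero, hy]
  calc (π₃ ≫ π₂ ≫ π₁) ≫ w = π₃ ≫ (π₂ ≫ π₁ ≫ w) := by simp only [Category.assoc]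
    _ = π₃ ≫ (π₂ ≫ y - y' ≫ Y.obj.map (FilD.stepHom p)) ≫ grπ Y.obj p := by rw [h3]
    _ = (x ≫ u.hom.app (op p)) ≫ grπ Y.obj p := by rw [← Category.assoc, hx]
    _ = (x ≫ grπ X.obj p) ≫ (FilD.gr A p).map u.hom := by
        rw [Category.assoc, ← e2, Category.assoc]

include hu in
lemma gr_mono (hmono : ∀ p : ℤ, Mono (u.hom.app (op p))) (p : ℤ) :
    Mono ((FilD.grF A p).map u) := by
  apply Preadditive.mono_of_cancel_zero
  intro T z hz
  have hz' : z ≫ (FilD.gr A p).map u.hom = 0 := hz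
  obtain ⟨T₁, π₁, hπ₁, x, hx⟩ := surjective_up_to_refinements_of_epi (grπ X.obj p) z
  have e2 : grπ X.obj p ≫ (FilD.gr A p).map u.hom = u.hom.app (op p) ≫ grπ Y.obj p :=
    grπ_map _ p
  have h1 : (x ≫ u.hom.app (op p)) ≫ grπ Y.obj p = 0 := by
    rw [Category.assoc, ← e2, ← Category.assoc, ← hx, Category.assoc, hz', comp_zero]
  have hm : Mono (Y.obj.map (FilD.stepHom p)) := Y.property.1 _
  obtain ⟨y', hy'⟩ := exists_lift_of_grπ_eq_zero Y.obj p _ h1
  obtain ⟨T₂, π₂, hπ₂, x', hx'⟩ := (strict_iff u).1 hu p (p + 1) (Int.le_add_one le_rfl) x y'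
    hy'.symm
  have hmp := hmono p
  have h2 : x' ≫ X.obj.map (FilD.stepHom p) = π₂ ≫ x := by
    rw [← cancel_mono (u.hom.app (op p)), Category.assoc, Category.assoc]
    have nat : X.obj.map (FilD.stepHom p) ≫ u.hom.app (op p) =
        u.hom.app (op (p + 1)) ≫ Y.obj.map (FilD.stepHom p) := u.hom.naturality _
    rw [nat, ← Category.assoc, hx', Category.assoc, hy']
  have h3 : (π₂ ≫ π₁) ≫ z = 0 := by
    rw [Category.assoc, hx, ← Category.assoc, ← h2, Category.assoc, step_grπ, comp_zero]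
  have hep : Epi (π₂ ≫ π₁) := epi_comp _ _
  exact (cancel_epi (π₂ ≫ π₁)).1 (h3.trans comp_zero.symm)

end Gr

end Groth.Agent.Helper22.FilDCoker
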