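import Groth.Prelude.Def_FilD
import Mathlib.CategoryTheory.Abelian.Refinements
import Mathlib.CategoryTheory.Subobject.Lattice
import Mathlib.CategoryTheory.Limits.Preserves.Shapes.Kernels

/-!
# Finite filtered objects: element-style (refinement) toolkit
-/

set_option autoImplicit false

universe v u

open CategoryTheory CategoryTheory.Limits Opposite

namespace Groth.Agent.Helper22.FilDCore

variable {A : Type u} [Category.{v} A] [Abelian A]

lemma hom_eq {a b : ℤᵒᵖ} (f g : a ⟶ b) : f = g := by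
  apply Quiver.Hom.unop_inj
  apply Subsingleton.elim

omit [Abelian A] in
lemma map_comp_eq (F : ℤᵒᵖ ⥤ A) {a b c : ℤᵒᵖ} (f : a ⟶ b) (g : b ⟶ c) (h : a ⟶ c) :
    F.map f ≫ F.map g = F.map h := by
  rw [← F.map_comp, hom_eq (f ≫ g) h]

omit [Abelian A] in
lemma map_self (F : ℤᵒᵖ ⥤ A) {a : ℤᵒᵖ} (f : a ⟶ a) : F.map f = 𝟙 _ := by
  rw [hom_eq f (𝟙 a), F.map_id]

/-- The projection onto the graded piece. -/
noncomputable abbrev grπ (F : ℤᵒᵖ ⥤ A) (p : ℤ) : F.obj (op p) ⟶ (FilD.gr A p).obj F :=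
  cokernel.π (F.map (FilD.stepHom p))

instance (F : ℤᵒᵖ ⥤ A) (p : ℤ) : Epi (grπ F p) :=
  inferInstanceAs (Epi (cokernel.π (F.map (FilD.stepHom p))))

lemma grπ_map {F G : ℤᵒᵖ ⥤ A} (φ : F ⟶ G) (p : ℤ) :
    grπ F p ≫ (FilD.gr A p).map φ = φ.app (op p) ≫ grπ G p := by
  simp [grπ, FilD.gr]

lemma step_grπ (F : ℤᵒᵖ ⥤ A) (p : ℤ) : F.map (FilD.stepHom p) ≫ grπ F p = 0 :=
  cokernel.condition _

lemma exists_lift_of_grπ_eq_zero (F : ℤᵒᵖ ⥤ A) (p : ℤ) [Mono (F.map (FilD.stepHom p))]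
    {T : A} (x : T ⟶ F.obj (op p)) (hx : x ≫ grπ F p = 0) :
    ∃ x' : T ⟶ F.obj (op (p + 1)), x' ≫ F.map (FilD.stepHom p) = x :=
  ⟨Abelian.monoLift _ x hx, Abelian.monoLift_comp _ x hx⟩

lemma strict_iff {X Y : FilD.FilF A} (φ : X ⟶ Y) :
    FilD.IsStrict φ ↔ ∀ (p q : ℤ) (h : p ≤ q) ⦃T : A⦄ (x : T ⟶ X.obj.obj (op p))
      (y : T ⟶ Y.obj.obj (op q)),
      x ≫ φ.hom.app (op p) = y ≫ Y.obj.map (homOfLE h).op →
      ∃ (T' : A) (π : T' ⟶ T) (_ : Epi π) (x' : T' ⟶ X.obj.obj (op q)),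
        x' ≫ φ.hom.app (op q) = π ≫ y := by
  constructor
  · intro hs p q h T x y hxy
    have hm : Mono (Y.obj.map (homOfLE h).op) := Y.property.1 _
    have h1 := hs p q h
    have hf : (imageSubobject (φ.hom.app (op q) ≫ Y.obj.map (homOfLE h).op)).Factors
        (x ≫ φ.hom.app (op p)) := by
      rw [h1, Subobject.inf_factors]
      refine ⟨imageSubobject_factors_comp_self _ x, ?_⟩
      rw [hxy]
      exact (Subobject.mk_factors_iff _ _).2 ⟨y, by simp⟩
    obtain ⟨T', π, hπ, x', hx'⟩ := surjective_up_to_refinements_of_epi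
      (factorThruImageSubobject (φ.hom.app (op q) ≫ Y.obj.map (homOfLE h).op))
      (Subobject.factorThru _ _ hf)
    refine ⟨T', π, hπ, x', ?_⟩
    rw [← cancel_mono (Y.obj.map (homOfLE h).op), Category.assoc, Category.assoc, ← hxy]
    have := congrArg
      (· ≫ (imageSubobject (φ.hom.app (op q) ≫ Y.obj.map (homOfLE h).op)).arrow) hx'
    simpa using this.symm
  · intro H p q h
    have hm : Mono (Y.obj.map (homOfLE h).op) := Y.property.1 _
    apply le_antisymm
    · apply le_inf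
      · have hn : φ.hom.app (op q) ≫ Y.obj.map (homOfLE h).op =
            X.obj.map (homOfLE h).op ≫ φ.hom.app (op p) := (φ.hom.naturality _).symm
        refine imageSubobject_le _
          (X.obj.map (homOfLE h).op ≫ factorThruImageSubobject (φ.hom.app (op p))) ?_
        rw [Category.assoc, imageSubobject_arrow_comp, hn]
      · calc imageSubobject (φ.hom.app (op q) ≫ Y.obj.map (homOfLE h).op)
            ≤ imageSubobject (Y.obj.map (homOfLE h).op) := imageSubobject_comp_le _ _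
          _ = Subobject.mk (Y.obj.map (homOfLE h).op) := imageSubobject_mono _
    · set R := imageSubobject (φ.hom.app (op p)) ⊓ Subobject.mk (Y.obj.map (homOfLE h).op)
        with hR
      have hfac := (Subobject.inf_factors (X := imageSubobject (φ.hom.app (op p)))
        (Y := Subobject.mk (Y.obj.map (homOfLE h).op)) R.arrow).1 (Subobject.factors_self R)
      obtain ⟨a, ha⟩ : ∃ a, a ≫ (imageSubobject (φ.hom.app (op p))).arrow = R.arrow :=
        ⟨_, Subobject.factorThru_arrow _ _ hfac.1⟩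
      obtain ⟨y, hy⟩ : ∃ y, y ≫ Y.obj.map (homOfLE h).op = R.arrow := by
        obtain ⟨y, hy⟩ := (Subobject.mk_factors_iff _ _).1 hfac.2
        exact ⟨y, by simpa using hy⟩
      obtain ⟨T₁, π₁, hπ₁, x, hx⟩ := surjective_up_to_refinements_of_epi
        (factorThruImageSubobject (φ.hom.app (op p))) a
      have hxy : x ≫ φ.hom.app (op p) = (π₁ ≫ y) ≫ Y.obj.map (homOfLE h).op := by
        rw [Category.assoc, hy, ← ha, ← Category.assoc, hx, Category.assoc,
          imageSubobject_arrow_comp]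
      obtain ⟨T₂, π₂, hπ₂, x', hx'⟩ := H p q h x (π₁ ≫ y) hxy
      have hsq : (x' ≫ factorThruImageSubobject
          (φ.hom.app (op q) ≫ Y.obj.map (homOfLE h).op)) ≫
          (imageSubobject (φ.hom.app (op q) ≫ Y.obj.map (homOfLE h).op)).arrow =
          (π₂ ≫ π₁) ≫ R.arrow := by
        rw [Category.assoc, imageSubobject_arrow_comp, ← Category.assoc x', hx', ← hy]
        simp
      have : Epi (π₂ ≫ π₁) := epi_comp _ _
      have : HasLiftingProperty (π₂ ≫ π₁)
          (imageSubobject (φ.hom.app (op q) ≫ Y.obj.map (homOfLE h).op)).arrow :=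
        (strongEpi_of_epi (π₂ ≫ π₁)).llp _
      have sq : CommSq (x' ≫ factorThruImageSubobject
          (φ.hom.app (op q) ≫ Y.obj.map (homOfLE h).op)) (π₂ ≫ π₁)
          (imageSubobject (φ.hom.app (op q) ≫ Y.obj.map (homOfLE h).op)).arrow R.arrow :=
        ⟨hsq⟩
      exact Subobject.le_of_comm sq.lift sq.fac_right

lemma strict_of_step {X Y : FilD.FilF A} (φ : X ⟶ Y)
    (H : ∀ (p : ℤ) ⦃T : A⦄ (x : T ⟶ X.obj.obj (op p)),
      x ≫ φ.hom.app (op p) ≫ grπ Y.obj p = 0 →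
      ∃ (T' : A) (π : T' ⟶ T) (_ : Epi π) (x₁ : T' ⟶ X.obj.obj (op (p + 1))),
        x₁ ≫ X.obj.map (FilD.stepHom p) ≫ φ.hom.app (op p) = π ≫ x ≫ φ.hom.app (op p)) :
    FilD.IsStrict φ := by
  rw [strict_iff]
  suffices hmain : ∀ (n : ℕ) (p q : ℤ) (h : p ≤ q), q = p + n → ∀ ⦃T : A⦄
      (x : T ⟶ X.obj.obj (op p)) (y : T ⟶ Y.obj.obj (op q)),
      x ≫ φ.hom.app (op p) = y ≫ Y.obj.map (homOfLE h).op →
      ∃ (T' : A) (π : T' ⟶ T) (_ : Epi π) (x' : T' ⟶ X.obj.obj (op q)),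
        x' ≫ φ.hom.app (op q) = π ≫ y by
    intro p q h
    exact hmain (q - p).toNat p q h (by omega)
  intro n
  induction n with
  | zero =>
    intro p q h hq T x y hxy
    have hq' : q = p := by simpa using hq
    subst hq'
    refine ⟨T, 𝟙 T, inferInstance, x, ?_⟩
    rw [hxy, map_self, Category.comp_id, Category.id_comp]
  | succ n ih =>
    intro p q h hq T x y hxy
    have h1 : p + 1 ≤ q := by push_cast at hq; omega
    have hm : Mono (Y.obj.map (FilD.stepHom p)) := Y.property.1 _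
    have hy : y ≫ Y.obj.map (homOfLE h).op =
        (y ≫ Y.obj.map (homOfLE h1).op) ≫ Y.obj.map (FilD.stepHom p) := by
      rw [Category.assoc, map_comp_eq Y.obj _ _ (homOfLE h).op]
    have hz : x ≫ φ.hom.app (op p) ≫ grπ Y.obj p = 0 := by
      rw [← Category.assoc, hxy, hy, Category.assoc, step_grπ, comp_zero]
    obtain ⟨T', π, hπ, x₁, hx₁⟩ := H p x hz
    have hx₁' : x₁ ≫ φ.hom.app (op (p + 1)) = (π ≫ y) ≫ Y.obj.map (homOfLE h1).op := by
      rw [← cancel_mono (Y.obj.map (FilD.stepHom p)), Category.assoc,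
        ← φ.hom.naturality (FilD.stepHom p), hx₁, hxy, hy]
      simp only [Category.assoc]
    obtain ⟨T'', π', hπ', x', hx'⟩ := ih (p + 1) q h1 (by push_cast at hq; omega) x₁ (π ≫ y) hx₁'
    exact ⟨T'', π' ≫ π, epi_comp _ _, x', by rw [hx', Category.assoc]⟩

end Groth.Agent.Helper22.FilDCore
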