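import Groth.Agent.Lib.Helper22.FilDCore
import Mathlib.CategoryTheory.Abelian.Exact
import Mathlib.CategoryTheory.Preadditive.Injective.Basic
import Mathlib.Algebra.Homology.ShortComplex.Exact
import Mathlib.CategoryTheory.Limits.FunctorCategory.EpiMono

/-!
# Filtered injective objects: levelwise injectivity and the extension lemma
-/

set_option autoImplicit false

universe v u

open CategoryTheory CategoryTheory.Limits Opposite

namespace Groth.Agent.Helper22.FilDInj

open Groth.Agent.Helper22.FilDCore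

variable {A : Type u} [Category.{v} A] [Abelian A]

section Kernel

variable {F G : ℤᵒᵖ ⥤ A} (φ : F ⟶ G)

lemma kernel_ι_app_comp (P : ℤᵒᵖ) : (kernel.ι φ).app P ≫ φ.app P = 0 := by
  have := congr_app (kernel.condition φ) P
  simpa only [NatTrans.comp_app, zero_app] using this

lemma exists_kernel_lift (P : ℤᵒᵖ) ⦃T : A⦄ (x : T ⟶ F.obj P) (hx : x ≫ φ.app P = 0) :
    ∃ k : T ⟶ (kernel φ).obj P, k ≫ (kernel.ι φ).app P = x := by
  have hl : IsLimit (KernelFork.ofι ((kernel.ι φ).app P) (kernel_ι_app_comp φ P)) :=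
    isLimitForkMapOfIsLimit' ((evaluation ℤᵒᵖ A).obj P) (kernel.condition φ)
      (kernelIsKernel φ)
  exact ⟨(KernelFork.IsLimit.lift' hl x hx).1, (KernelFork.IsLimit.lift' hl x hx).2⟩

instance kernel_ι_app_mono (P : ℤᵒᵖ) : Mono ((kernel.ι φ).app P) :=
  (NatTrans.mono_iff_mono_app (kernel.ι φ)).1 inferInstance P

end Kernel

/-- The levelwise kernel of a morphism of finite filtered objects is a finite filtered object. -/
lemma isFinFil_kernel {X' X : FilD.FilF A} (u : X' ⟶ X) : FilD.IsFinFil A (kernel u.hom) := by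
  refine ⟨?_, ?_, ?_⟩
  · intro P Q f
    have hm : Mono (X'.obj.map f) := X'.property.1 f
    have h1 : (kernel u.hom).map f ≫ (kernel.ι u.hom).app Q =
        (kernel.ι u.hom).app P ≫ X'.obj.map f := (kernel.ι u.hom).naturality f
    have : Mono ((kernel u.hom).map f ≫ (kernel.ι u.hom).app Q) := by
      rw [h1]; infer_instance
    exact mono_of_mono _ ((kernel.ι u.hom).app Q)
  · obtain ⟨b, hb⟩ := X'.property.2.1
    exact ⟨b, fun p hp => IsZero.of_mono ((kernel.ι u.hom).app (op p)) (hb p hp)⟩
  · obtain ⟨a₁, ha₁⟩ := X'.property.2.2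
    obtain ⟨a₂, ha₂⟩ := X.property.2.2
    refine ⟨min a₁ a₂, ?_⟩
    intro P Q f hP
    have i1 : IsIso (X'.obj.map f) := ha₁ f (le_trans hP (min_le_left _ _))
    have i2 : IsIso (X.obj.map f) := ha₂ f (le_trans hP (min_le_right _ _))
    have hm : Mono ((kernel u.hom).map f) := by
      have h1 : (kernel u.hom).map f ≫ (kernel.ι u.hom).app Q =
          (kernel.ι u.hom).app P ≫ X'.obj.map f := (kernel.ι u.hom).naturality f
      have : Mono ((kernel u.hom).map f ≫ (kernel.ι u.hom).app Q) := by
        rw [h1]; infer_instance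
      exact mono_of_mono _ ((kernel.ι u.hom).app Q)
    have he : Epi ((kernel u.hom).map f) := by
      rw [epi_iff_surjective_up_to_refinements]
      intro T y
      have hx : (y ≫ (kernel.ι u.hom).app Q ≫ inv (X'.obj.map f)) ≫ u.hom.app P = 0 := by
        have hn : inv (X'.obj.map f) ≫ u.hom.app P = u.hom.app Q ≫ inv (X.obj.map f) := by
          rw [IsIso.inv_comp_eq, ← Category.assoc, IsIso.eq_comp_inv]
          exact (u.hom.naturality f).symm
        rw [Category.assoc, Category.assoc, hn, ← Category.assoc ((kernel.ι u.hom).app Q),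
          kernel_ι_app_comp, zero_comp, comp_zero]
      obtain ⟨k, hk⟩ := exists_kernel_lift u.hom P _ hx
      refine ⟨T, 𝟙 T, inferInstance, k, ?_⟩
      rw [Category.id_comp, ← cancel_mono ((kernel.ι u.hom).app Q), Category.assoc,
        (kernel.ι u.hom).naturality f, ← Category.assoc, hk]
      simp
    exact isIso_of_mono_of_epi _

lemma mono_app_of_mono {X' X : FilD.FilF A} (u : X' ⟶ X) [Mono u] (p : ℤ) :
    Mono (u.hom.app (op p)) := by
  let K : FilD.FilF A := ⟨kernel u.hom, isFinFil_kernel u⟩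
  let ι : K ⟶ X' := ObjectProperty.homMk (kernel.ι u.hom)
  have hι : ι ≫ u = 0 := by
    apply ObjectProperty.hom_ext
    exact kernel.condition u.hom
  have hι0 : ι = 0 := by
    rw [← cancel_mono u, hι, zero_comp]
  have hk0 : kernel.ι u.hom = 0 := congrArg (fun t => t.hom) hι0
  have hmono : Mono u.hom := by
    apply Preadditive.mono_of_cancel_zero
    intro P g hg
    rw [← kernel.lift_ι u.hom g hg, hk0, comp_zero]
  exact (NatTrans.mono_iff_mono_app u.hom).1 hmono (op p)

lemma injective_level {I : FilD.FilF A} (hI : FilD.IsFilteredInjective I) (p : ℤ) :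
    Injective (I.obj.obj (op p)) := by
  obtain ⟨b, hb⟩ := I.property.2.1
  suffices hmain : ∀ (n : ℕ) (p : ℤ), b ≤ p + n → Injective (I.obj.obj (op p)) from
    hmain (b - p).toNat p (by omega)
  intro n
  induction n with
  | zero =>
    intro p hp
    exact (hb p (by simpa using hp)).injective
  | succ n ih =>
    intro p hp
    have h1 : Injective (I.obj.obj (op (p + 1))) := ih (p + 1) (by push_cast at hp; omega)
    have h2 : Injective ((FilD.gr A p).obj I.obj) := hI p
    have hm : Mono (I.obj.map (FilD.stepHom p)) := I.property.1 _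
    let r : I.obj.obj (op p) ⟶ I.obj.obj (op (p + 1)) :=
      Injective.factorThru (𝟙 _) (I.obj.map (FilD.stepHom p))
    have hr : I.obj.map (FilD.stepHom p) ≫ r = 𝟙 _ := Injective.comp_factorThru _ _
    let spl := ShortComplex.Splitting.ofExactOfRetraction
      (ShortComplex.mk (I.obj.map (FilD.stepHom p)) (cokernel.π (I.obj.map (FilD.stepHom p)))
        (cokernel.condition _)) (ShortComplex.exact_cokernel _) r hr
        (by dsimp; infer_instance)
    have e : I.obj.obj (op p) ≅ I.obj.obj (op (p + 1)) ⊞ (FilD.gr A p).obj I.obj :=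
      spl.isoBinaryBiproduct
    exact Injective.of_iso e.symm inferInstance

/-- Partial solutions of the extension problem at a level. -/
abbrev Ext {M N I : FilD.FilF A} (d : M ⟶ N) (ψ : M ⟶ I) (p : ℤ) : Type v :=
  { g : N.obj.obj (op p) ⟶ I.obj.obj (op p) // d.hom.app (op p) ≫ g = ψ.hom.app (op p) }

theorem exists_extension {M N I : FilD.FilF A} (d : M ⟶ N) (hd : FilD.IsStrict d)
    (hI : FilD.IsFilteredInjective I) (ψ : M ⟶ I)
    (hker : ∀ (p : ℤ) ⦃T : A⦄ (x : T ⟶ M.obj.obj (op p)),
      x ≫ d.hom.app (op p) = 0 → x ≫ ψ.hom.app (op p) = 0) :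
    ∃ h : N ⟶ I, d ≫ h = ψ := by
  obtain ⟨b, hb⟩ := N.property.2.1
  have hψ0 : ∀ p, b ≤ p → ψ.hom.app (op p) = 0 := by
    intro p hp
    have := hker p (𝟙 _) ((hb p hp).eq_of_tgt _ _)
    simpa using this
  have step : ∀ (p q : ℤ) (hq : q = p + 1) (g' : N.obj.obj (op q) ⟶ I.obj.obj (op q)),
      d.hom.app (op q) ≫ g' = ψ.hom.app (op q) →
      ∃ g : N.obj.obj (op p) ⟶ I.obj.obj (op p), d.hom.app (op p) ≫ g = ψ.hom.app (op p) ∧
        N.obj.map (homOfLE (show p ≤ q by omega)).op ≫ g =
          g' ≫ I.obj.map (homOfLE (show p ≤ q by omega)).op := by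
    intro p q hq g' hg'
    subst hq
    obtain ⟨s, hs⟩ : ∃ s : M.obj.obj (op p) ⊞ N.obj.obj (op (p + 1)) ⟶ N.obj.obj (op p),
        s = biprod.desc (d.hom.app (op p)) (N.obj.map (FilD.stepHom p)) := ⟨_, rfl⟩
    obtain ⟨t, ht⟩ : ∃ t : M.obj.obj (op p) ⊞ N.obj.obj (op (p + 1)) ⟶ I.obj.obj (op p),
        t = biprod.desc (ψ.hom.app (op p)) (g' ≫ I.obj.map (FilD.stepHom p)) := ⟨_, rfl⟩
    have hs1 : biprod.inl ≫ s = d.hom.app (op p) := by rw [hs, biprod.inl_desc]
    have hs2 : biprod.inr ≫ s = N.obj.map (FilD.stepHom p) := by rw [hs, biprod.inr_desc]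
    have ht1 : biprod.inl ≫ t = ψ.hom.app (op p) := by rw [ht, biprod.inl_desc]
    have ht2 : biprod.inr ≫ t = g' ≫ I.obj.map (FilD.stepHom p) := by rw [ht, biprod.inr_desc]
    have hs3 : s = biprod.fst ≫ d.hom.app (op p) + biprod.snd ≫ N.obj.map (FilD.stepHom p) := by
      rw [hs, biprod.desc_eq]
    have ht3 : t = biprod.fst ≫ ψ.hom.app (op p) +
        biprod.snd ≫ g' ≫ I.obj.map (FilD.stepHom p) := by
      rw [ht, biprod.desc_eq]
    have hκ : kernel.ι s ≫ t = 0 := by
      obtain ⟨a, ha⟩ : ∃ a, a = kernel.ι s ≫ biprod.fst := ⟨_, rfl⟩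
      obtain ⟨c, hc⟩ : ∃ c, c = kernel.ι s ≫ biprod.snd := ⟨_, rfl⟩
      have h0 : a ≫ d.hom.app (op p) + c ≫ N.obj.map (FilD.stepHom p) = 0 := by
        calc a ≫ d.hom.app (op p) + c ≫ N.obj.map (FilD.stepHom p)
            = kernel.ι s ≫ (biprod.fst ≫ d.hom.app (op p) +
                biprod.snd ≫ N.obj.map (FilD.stepHom p)) := by
              rw [Preadditive.comp_add, ← Category.assoc, ← Category.assoc, ← ha, ← hc]
          _ = kernel.ι s ≫ s := by rw [← hs3]
          _ = 0 := kernel.condition s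
      have h0' : a ≫ d.hom.app (op p) = (-c) ≫ N.obj.map (FilD.stepHom p) := by
        rw [Preadditive.neg_comp]
        exact eq_neg_of_add_eq_zero_left h0
      obtain ⟨T', π, hπ, a', ha'⟩ := (strict_iff d).1 hd p (p + 1) (by omega) a (-c) h0'
      have h1 : (π ≫ a - a' ≫ M.obj.map (FilD.stepHom p)) ≫ d.hom.app (op p) = 0 := by
        rw [Preadditive.sub_comp, Category.assoc, Category.assoc, h0',
          d.hom.naturality (FilD.stepHom p), ← Category.assoc a', ha', Category.assoc, sub_self]
      have h2 := hker p _ h1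
      have e1 : π ≫ a ≫ ψ.hom.app (op p) =
          a' ≫ M.obj.map (FilD.stepHom p) ≫ ψ.hom.app (op p) := by
        rw [Preadditive.sub_comp, sub_eq_zero, Category.assoc, Category.assoc] at h2
        exact h2
      have htt : kernel.ι s ≫ t = a ≫ ψ.hom.app (op p) +
          c ≫ g' ≫ I.obj.map (FilD.stepHom p) := by
        rw [ht3, Preadditive.comp_add, ← Category.assoc, ← Category.assoc, ← ha, ← hc]
      have h3 : π ≫ kernel.ι s ≫ t = 0 := by
        rw [htt, Preadditive.comp_add, e1, ψ.hom.naturality (FilD.stepHom p), ← hg',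
          ← Category.assoc a', ← Category.assoc a', ha']
        simp
      exact (cancel_epi π).1 (by rw [h3, comp_zero])
    have hinj : Injective (I.obj.obj (op p)) := injective_level hI p
    let t' : Abelian.coimage s ⟶ I.obj.obj (op p) := cokernel.desc (kernel.ι s) t hκ
    let g : N.obj.obj (op p) ⟶ I.obj.obj (op p) :=
      Injective.factorThru t' (Abelian.factorThruCoimage s)
    have hg : s ≫ g = t := by
      rw [← Abelian.coimage.fac s, Category.assoc, Injective.comp_factorThru, cokernel.π_desc]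
    refine ⟨g, ?_, ?_⟩
    · rw [← hs1, Category.assoc, hg, ht1]
    · have h5 : N.obj.map (FilD.stepHom p) ≫ g = g' ≫ I.obj.map (FilD.stepHom p) := by
        rw [← hs2, Category.assoc, hg, ht2]
      exact h5
  have hz : ∀ p, b ≤ p →
      d.hom.app (op p) ≫ (0 : N.obj.obj (op p) ⟶ I.obj.obj (op p)) = ψ.hom.app (op p) :=
    fun p hp => by rw [comp_zero, hψ0 p hp]
  let G : ∀ p : ℤ, Ext d ψ p := fun p =>
    Int.inductionOn' (motive := Ext d ψ) p b ⟨0, hz b le_rfl⟩
      (fun k hk _ => ⟨0, hz (k + 1) (by omega)⟩)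
      (fun k _ g' => ⟨(step (k - 1) k (by omega) g'.1 g'.2).choose,
        (step (k - 1) k (by omega) g'.1 g'.2).choose_spec.1⟩)
  have hG : ∀ k, k ≤ b → N.obj.map (homOfLE (show k - 1 ≤ k by omega)).op ≫ (G (k - 1)).1 =
      (G k).1 ≫ I.obj.map (homOfLE (show k - 1 ≤ k by omega)).op := by
    intro k hk
    have e : G (k - 1) = ⟨(step (k - 1) k (by omega) (G k).1 (G k).2).choose,
        (step (k - 1) k (by omega) (G k).1 (G k).2).choose_spec.1⟩ :=
      Int.inductionOn'_sub_one hk
    rw [e]
    exact (step (k - 1) k (by omega) (G k).1 (G k).2).choose_spec.2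
  have hcompat : ∀ (p q : ℤ) (hq : q = p + 1),
      N.obj.map (homOfLE (show p ≤ q by omega)).op ≫ (G p).1 =
        (G q).1 ≫ I.obj.map (homOfLE (show p ≤ q by omega)).op := by
    intro p q hq
    by_cases hqb : q ≤ b
    · obtain rfl : p = q - 1 := by omega
      exact hG q hqb
    · exact (hb q (by omega)).eq_of_src _ _
  have hnat : ∀ (n : ℕ) (p q : ℤ) (h : p ≤ q), q = p + n →
      N.obj.map (homOfLE h).op ≫ (G p).1 = (G q).1 ≫ I.obj.map (homOfLE h).op := by
    intro n
    induction n with
    | zero =>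
      intro p q h hq
      obtain rfl : q = p := by simpa using hq
      rw [map_self, map_self, Category.id_comp, Category.comp_id]
    | succ n ih =>
      intro p q h hq
      have h1 : p + 1 ≤ q := by push_cast at hq; omega
      have e1 := ih (p + 1) q h1 (by push_cast at hq; omega)
      have e2 := hcompat p (p + 1) rfl
      rw [← map_comp_eq N.obj (homOfLE h1).op (homOfLE (show p ≤ p + 1 by omega)).op
        (homOfLE h).op, Category.assoc, e2, ← Category.assoc, e1, Category.assoc,
        map_comp_eq I.obj _ _ (homOfLE h).op]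
  refine ⟨ObjectProperty.homMk { app := fun P => (G P.unop).1, naturality := ?_ }, ?_⟩
  · intro P Q f
    have h : Q.unop ≤ P.unop := leOfHom f.unop
    have := hnat (P.unop - Q.unop).toNat Q.unop P.unop h (by omega)
    rw [hom_eq f (homOfLE h).op]
    exact this
  · apply ObjectProperty.hom_ext
    ext P
    exact (G P.unop).2

end Groth.Agent.Helper22.FilDInj
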