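import Groth.Agent.Lib.Helper22.FilDBiprod
import Groth.Agent.Lib.Helper22.FilDInj
import Mathlib.CategoryTheory.Preadditive.Injective.Basic

/-!
# Embedding finite filtered objects into filtered injectives

Helper library (helper22): every finite filtered object of an abelian category with enough
injectives admits a strict monomorphism into a filtered injective object.
-/

set_option autoImplicit false
universe v u
open CategoryTheory CategoryTheory.Limits Opposite
open Groth.Agent.Helper22.FilDCore Groth.Agent.Helper22.FilDInj Groth.Agent.Helper22.FilDBiprod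

namespace Groth.Agent.Helper22.FilDEmb

variable {A : Type u} [Category.{v} A] [Abelian A]

attribute [local instance] CategoryTheory.Abelian.hasFiniteBiproducts

omit [Abelian A] in
lemma map_comp₃_eq (F : ℤᵒᵖ ⥤ A) {a b c d : ℤᵒᵖ} (f : a ⟶ b) (g : b ⟶ c) (h : c ⟶ d)
    (k : a ⟶ d) : F.map f ≫ F.map g ≫ F.map h = F.map k := by
  rw [← F.map_comp, ← F.map_comp, hom_eq (f ≫ g ≫ h) k]

lemma injective_of_total {X Y Z : A} (p₁ : Z ⟶ X) (i₁ : X ⟶ Z) (p₂ : Z ⟶ Y) (i₂ : Y ⟶ Z)
    (total : p₁ ≫ i₁ + p₂ ≫ i₂ = 𝟙 Z) [Injective X] [Injective Y] : Injective Z where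
  factors g m _ := by
    refine ⟨Injective.factorThru (g ≫ p₁) m ≫ i₁ + Injective.factorThru (g ≫ p₂) m ≫ i₂, ?_⟩
    rw [Preadditive.comp_add, Injective.comp_factorThru_assoc, Injective.comp_factorThru_assoc,
      Category.assoc, Category.assoc, ← Preadditive.comp_add, total, Category.comp_id]

lemma injective_cokernel_of_split {X Y : A} (t : X ⟶ Y) (r : Y ⟶ X) (h : t ≫ r = 𝟙 X)
    [Injective Y] : Injective (cokernel t) where
  factors g m _ := by
    have ht : t ≫ (𝟙 Y - r ≫ t) = 0 := by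
      rw [Preadditive.comp_sub, Category.comp_id, ← Category.assoc, h, Category.id_comp, sub_self]
    have hσ : cokernel.desc t (𝟙 Y - r ≫ t) ht ≫ cokernel.π t = 𝟙 _ := by
      rw [← cancel_epi (cokernel.π t), cokernel.π_desc_assoc, Preadditive.sub_comp,
        Category.id_comp, Category.assoc, cokernel.condition, comp_zero, sub_zero,
        Category.comp_id]
    refine ⟨Injective.factorThru (g ≫ cokernel.desc t (𝟙 Y - r ≫ t) ht) m ≫ cokernel.π t, ?_⟩
    rw [Injective.comp_factorThru_assoc, Category.assoc, hσ, Category.comp_id]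

lemma isFilteredInjective_sum {X Y : FilD.FilF A} (hX : FilD.IsFilteredInjective X)
    (hY : FilD.IsFilteredInjective Y) : FilD.IsFilteredInjective (sum X Y) := by
  intro q
  have := hX q
  have := hY q
  exact injective_of_total ((FilD.grF A q).map (bicone X Y).fst)
    ((FilD.grF A q).map (bicone X Y).inl) ((FilD.grF A q).map (bicone X Y).snd)
    ((FilD.grF A q).map (bicone X Y).inr) (by
      have t := congrArg (fun f => (FilD.grF A q).map f) (bicone_total X Y)
      simp only [Functor.map_add, Functor.map_comp] at t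
      exact t.trans (CategoryTheory.Functor.map_id _ _))

section E

variable (a : ℤ) (J : A)

/-- The filtered object which is `J` in filtration degrees `≤ a` and zero above. -/
@[reducible] noncomputable def E : ℤᵒᵖ ⥤ A where
  obj q := ⨁ (fun _ : ULift.{v} (PLift (q.unop ≤ a)) => J)
  map {q' q} f := biproduct.desc (fun h : ULift.{v} (PLift (q'.unop ≤ a)) =>
    biproduct.ι (fun _ : ULift.{v} (PLift (q.unop ≤ a)) => J)
      ⟨⟨le_trans (leOfHom f.unop) h.down.down⟩⟩)
  map_id q := by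
    apply biproduct.hom_ext'
    intro j
    rw [biproduct.ι_desc, Category.comp_id]
  map_comp f g := by
    apply biproduct.hom_ext'
    intro j
    rw [biproduct.ι_desc, biproduct.ι_desc_assoc, biproduct.ι_desc]

lemma ι_E_map {q' q : ℤᵒᵖ} (f : q' ⟶ q) (j : ULift.{v} (PLift (q'.unop ≤ a))) :
    biproduct.ι (fun _ : ULift.{v} (PLift (q'.unop ≤ a)) => J) j ≫ (E a J).map f =
      biproduct.ι (fun _ : ULift.{v} (PLift (q.unop ≤ a)) => J)
        ⟨⟨le_trans (leOfHom f.unop) j.down.down⟩⟩ :=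
  biproduct.ι_desc _ _

/-- A retraction of the transition maps of `E a J`. -/
noncomputable def Eretr {q' q : ℤᵒᵖ} (_f : q' ⟶ q) : (E a J).obj q ⟶ (E a J).obj q' :=
  biproduct.desc (fun _ : ULift.{v} (PLift (q.unop ≤ a)) =>
    if h' : q'.unop ≤ a then
      biproduct.ι (fun _ : ULift.{v} (PLift (q'.unop ≤ a)) => J) ⟨⟨h'⟩⟩ else 0)

lemma ι_Eretr {q' q : ℤᵒᵖ} (f : q' ⟶ q) (j : ULift.{v} (PLift (q.unop ≤ a)))
    (h' : q'.unop ≤ a) :
    biproduct.ι (fun _ : ULift.{v} (PLift (q.unop ≤ a)) => J) j ≫ Eretr a J f =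
      biproduct.ι (fun _ : ULift.{v} (PLift (q'.unop ≤ a)) => J) ⟨⟨h'⟩⟩ := by
  unfold Eretr
  rw [biproduct.ι_desc, dif_pos h']

lemma E_map_retr {q' q : ℤᵒᵖ} (f : q' ⟶ q) : (E a J).map f ≫ Eretr a J f = 𝟙 _ := by
  apply biproduct.hom_ext'
  intro j
  rw [← Category.assoc, ι_E_map, ι_Eretr a J f _ j.down.down, Category.comp_id]

lemma E_retr_map {q' q : ℤᵒᵖ} (f : q' ⟶ q) (h' : q'.unop ≤ a) :
    Eretr a J f ≫ (E a J).map f = 𝟙 _ := by
  apply biproduct.hom_ext'
  intro j
  rw [← Category.assoc, ι_Eretr a J f j h', ι_E_map, Category.comp_id]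

instance E_map_mono {q' q : ℤᵒᵖ} (f : q' ⟶ q) : Mono ((E a J).map f) := by
  haveI : Mono ((E a J).map f ≫ Eretr a J f) := by
    rw [E_map_retr]
    infer_instance
  exact mono_of_mono _ (Eretr a J f)

lemma E_isZero {q : ℤᵒᵖ} (hq : ¬ q.unop ≤ a) : IsZero ((E a J).obj q) := by
  rw [IsZero.iff_id_eq_zero]
  apply biproduct.hom_ext'
  intro j
  exact absurd j.down.down hq

lemma E_isIso {q' q : ℤᵒᵖ} (f : q' ⟶ q) (h' : q'.unop ≤ a) : IsIso ((E a J).map f) :=
  ⟨⟨Eretr a J f, E_map_retr a J f, E_retr_map a J f h'⟩⟩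

lemma isFinFil_E : FilD.IsFinFil A (E a J) :=
  ⟨fun _ _ f => E_map_mono a J f,
    ⟨a + 1, fun p hp => E_isZero a J (by show ¬ p ≤ a; omega)⟩,
    ⟨a, fun _ _ f hp => E_isIso a J f hp⟩⟩

/-- `E a J` as a finite filtered object. -/
@[reducible] noncomputable def EF : FilD.FilF A := ⟨E a J, isFinFil_E a J⟩

lemma EF_injective [Injective J] : FilD.IsFilteredInjective (EF a J) := by
  intro q
  show Injective (cokernel ((E a J).map (FilD.stepHom q)))
  haveI : Injective ((E a J).obj (op q)) := by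
    show Injective (⨁ (fun _ : ULift.{v} (PLift (q ≤ a)) => J))
    infer_instance
  exact injective_cokernel_of_split _ (Eretr a J (FilD.stepHom q)) (E_map_retr a J _)

end E

section Trunc

/-- The functor `q ↦ X (max q c)`. -/
@[reducible] def truncFun (X : ℤᵒᵖ ⥤ A) (c : ℤ) : ℤᵒᵖ ⥤ A where
  obj q := X.obj (op (max q.unop c))
  map f := X.map (homOfLE (max_le_max_right c (leOfHom f.unop))).op
  map_id _ := map_self _ _
  map_comp _ _ := (map_comp_eq _ _ _ _).symm

variable (X : FilD.FilF A) (c : ℤ)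

lemma trunc_isIso {p q : ℤᵒᵖ} (f : p ⟶ q) (hp : p.unop ≤ c) :
    IsIso ((truncFun X.obj c).map f) := by
  have hpq : q.unop ≤ p.unop := leOfHom f.unop
  have h1 : max p.unop c = c := max_eq_right hp
  have h2 : max q.unop c = c := max_eq_right (le_trans hpq hp)
  have h3 : max p.unop c ≤ max q.unop c := by rw [h1, h2]
  exact ⟨⟨X.obj.map (homOfLE h3).op,
    (map_comp_eq X.obj _ _ (𝟙 _)).trans (X.obj.map_id _),
    (map_comp_eq X.obj _ _ (𝟙 _)).trans (X.obj.map_id _)⟩⟩

lemma isFinFil_trunc : FilD.IsFinFil A (truncFun X.obj c) := by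
  obtain ⟨b, hb⟩ := X.property.2.1
  refine ⟨fun _ _ f => X.property.1 _, ⟨b, fun p hp => ?_⟩,
    ⟨c, fun _ _ f hp => trunc_isIso X c f hp⟩⟩
  exact hb (max p c) (le_trans hp (le_max_left p c))

/-- The truncation of a filtered object: `q ↦ X (max q c)`. -/
@[reducible] def trunc : FilD.FilF A := ⟨truncFun X.obj c, isFinFil_trunc X c⟩

/-- The inclusion of the truncation. -/
def truncι : trunc X c ⟶ X :=
  ObjectProperty.homMk
    { app := fun q => X.obj.map (homOfLE (le_max_left q.unop c)).op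
      naturality := fun p q f =>
        (map_comp_eq X.obj _ _ ((homOfLE (le_max_left p.unop c)).op ≫ f)).trans
          (X.obj.map_comp _ _) }

lemma truncι_app (p : ℤ) :
    (truncι X c).hom.app (op p) = X.obj.map (homOfLE (le_max_left p c)).op := rfl

lemma truncι_strict : FilD.IsStrict (truncι X c) := by
  apply strict_of_step
  intro p T x hx
  change T ⟶ X.obj.obj (op (max p c)) at x
  by_cases hpc : p + 1 ≤ c
  · have h1 : max (p + 1) c ≤ max p c := by
      rw [max_eq_right hpc, max_eq_right (by omega : p ≤ c)]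
    have h4 : max p c ≤ max (p + 1) c := max_le_max_right c (by omega)
    refine ⟨T, 𝟙 T, inferInstance, x ≫ X.obj.map (homOfLE h1).op, ?_⟩
    show (x ≫ X.obj.map (homOfLE h1).op) ≫ X.obj.map (homOfLE h4).op ≫
      X.obj.map (homOfLE (le_max_left p c)).op =
      𝟙 T ≫ x ≫ X.obj.map (homOfLE (le_max_left p c)).op
    rw [Category.id_comp, Category.assoc,
      map_comp₃_eq X.obj _ _ _ (homOfLE (le_max_left p c)).op]
  · have hm := X.property.1 (FilD.stepHom p)
    have hx' : (x ≫ X.obj.map (homOfLE (le_max_left p c)).op) ≫ grπ X.obj p = 0 := by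
      rw [Category.assoc]
      exact hx
    obtain ⟨x', hx''⟩ := exists_lift_of_grπ_eq_zero X.obj p _ hx'
    have h2 : max (p + 1) c ≤ p + 1 := max_le le_rfl (by omega)
    have h4 : max p c ≤ max (p + 1) c := max_le_max_right c (by omega)
    refine ⟨T, 𝟙 T, inferInstance, x' ≫ X.obj.map (homOfLE h2).op, ?_⟩
    show (x' ≫ X.obj.map (homOfLE h2).op) ≫ X.obj.map (homOfLE h4).op ≫
      X.obj.map (homOfLE (le_max_left p c)).op =
      𝟙 T ≫ x ≫ X.obj.map (homOfLE (le_max_left p c)).op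
    rw [Category.id_comp, Category.assoc, map_comp₃_eq X.obj _ _ _ (FilD.stepHom p)]
    exact hx''

end Trunc

section V

/-- The inverse of the transition map `X a → X q` for `q ≤ a` below the stabilisation index. -/
noncomputable def toA (X : FilD.FilF A) (a : ℤ)
    (ha : ∀ ⦃p q : ℤᵒᵖ⦄ (f : p ⟶ q), p.unop ≤ a → IsIso (X.obj.map f)) (q : ℤ) (h : q ≤ a) :
    X.obj.obj (op q) ⟶ X.obj.obj (op a) :=
  @inv _ _ _ _ (X.obj.map (homOfLE h).op) (ha _ (le_refl a))

lemma map_toA (X : FilD.FilF A) (a : ℤ)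
    (ha : ∀ ⦃p q : ℤᵒᵖ⦄ (f : p ⟶ q), p.unop ≤ a → IsIso (X.obj.map f)) (q : ℤ) (h : q ≤ a) :
    X.obj.map (homOfLE h).op ≫ toA X a ha q h = 𝟙 _ :=
  @IsIso.hom_inv_id _ _ _ _ (X.obj.map (homOfLE h).op) (ha _ (le_refl a))

lemma toA_map (X : FilD.FilF A) (a : ℤ)
    (ha : ∀ ⦃p q : ℤᵒᵖ⦄ (f : p ⟶ q), p.unop ≤ a → IsIso (X.obj.map f)) (q : ℤ) (h : q ≤ a) :
    toA X a ha q h ≫ X.obj.map (homOfLE h).op = 𝟙 _ :=
  @IsIso.inv_hom_id _ _ _ _ (X.obj.map (homOfLE h).op) (ha _ (le_refl a))

lemma map_comp_toA (X : FilD.FilF A) (a : ℤ)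
    (ha : ∀ ⦃p q : ℤᵒᵖ⦄ (f : p ⟶ q), p.unop ≤ a → IsIso (X.obj.map f)) {p q : ℤ}
    (f : (op p : ℤᵒᵖ) ⟶ op q) (hp : p ≤ a) (hq : q ≤ a) :
    X.obj.map f ≫ toA X a ha q hq = toA X a ha p hp := by
  have e : X.obj.map (homOfLE hp).op ≫ X.obj.map f = X.obj.map (homOfLE hq).op :=
    map_comp_eq _ _ _ _
  calc X.obj.map f ≫ toA X a ha q hq
      = (toA X a ha p hp ≫ X.obj.map (homOfLE hp).op) ≫ X.obj.map f ≫ toA X a ha q hq := by
        rw [toA_map, Category.id_comp]
    _ = toA X a ha p hp ≫ (X.obj.map (homOfLE hp).op ≫ X.obj.map f) ≫ toA X a ha q hq := by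
        simp only [Category.assoc]
    _ = toA X a ha p hp := by rw [e, map_toA, Category.comp_id]

/-- Components of the morphism `X ⟶ E a J` induced by `g : X a ⟶ J`. -/
noncomputable def vApp (X : FilD.FilF A) (a : ℤ)
    (ha : ∀ ⦃p q : ℤᵒᵖ⦄ (f : p ⟶ q), p.unop ≤ a → IsIso (X.obj.map f)) {J : A}
    (g : X.obj.obj (op a) ⟶ J) (q : ℤ) : X.obj.obj (op q) ⟶ (E a J).obj (op q) :=
  if h : q ≤ a then
    toA X a ha q h ≫ g ≫ biproduct.ι (fun _ : ULift.{v} (PLift (q ≤ a)) => J) ⟨⟨h⟩⟩
  else 0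

lemma vApp_pos (X : FilD.FilF A) (a : ℤ)
    (ha : ∀ ⦃p q : ℤᵒᵖ⦄ (f : p ⟶ q), p.unop ≤ a → IsIso (X.obj.map f)) {J : A}
    (g : X.obj.obj (op a) ⟶ J) (q : ℤ) (h : q ≤ a) :
    vApp X a ha g q =
      toA X a ha q h ≫ g ≫ biproduct.ι (fun _ : ULift.{v} (PLift (q ≤ a)) => J) ⟨⟨h⟩⟩ :=
  dif_pos h

lemma vApp_neg (X : FilD.FilF A) (a : ℤ)
    (ha : ∀ ⦃p q : ℤᵒᵖ⦄ (f : p ⟶ q), p.unop ≤ a → IsIso (X.obj.map f)) {J : A}
    (g : X.obj.obj (op a) ⟶ J) (q : ℤ) (h : ¬ q ≤ a) : vApp X a ha g q = 0 :=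
  dif_neg h

lemma v_naturality (X : FilD.FilF A) (a : ℤ)
    (ha : ∀ ⦃p q : ℤᵒᵖ⦄ (f : p ⟶ q), p.unop ≤ a → IsIso (X.obj.map f)) {J : A}
    (g : X.obj.obj (op a) ⟶ J) (hg : X.obj.map (FilD.stepHom a) ≫ g = 0) {p q : ℤ}
    (f : (op p : ℤᵒᵖ) ⟶ op q) :
    X.obj.map f ≫ vApp X a ha g q = vApp X a ha g p ≫ (E a J).map f := by
  have hqp : q ≤ p := leOfHom f.unop
  by_cases hp : p ≤ a
  · have hq : q ≤ a := le_trans hqp hp
    rw [vApp_pos X a ha g q hq, vApp_pos X a ha g p hp]
    have h1 : biproduct.ι (fun _ : ULift.{v} (PLift (p ≤ a)) => J) ⟨⟨hp⟩⟩ ≫ (E a J).map f =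
        biproduct.ι (fun _ : ULift.{v} (PLift (q ≤ a)) => J) ⟨⟨hq⟩⟩ := ι_E_map a J f _
    rw [Category.assoc, Category.assoc, h1, ← Category.assoc, map_comp_toA X a ha f hp hq]
  · rw [vApp_neg X a ha g p hp, zero_comp]
    by_cases hq : q ≤ a
    · rw [vApp_pos X a ha g q hq]
      have h1 : a + 1 ≤ p := by omega
      have e2 : X.obj.map (homOfLE h1).op ≫ X.obj.map (FilD.stepHom a) ≫
          X.obj.map (homOfLE hq).op = X.obj.map f := map_comp₃_eq _ _ _ _ _
      have e3 : X.obj.map f ≫ toA X a ha q hq =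
          X.obj.map (homOfLE h1).op ≫ X.obj.map (FilD.stepHom a) := by
        rw [← e2, Category.assoc, Category.assoc, map_toA, Category.comp_id]
      rw [← Category.assoc, e3, Category.assoc, ← Category.assoc (X.obj.map (FilD.stepHom a)),
        hg, zero_comp, comp_zero]
    · rw [vApp_neg X a ha g q hq, comp_zero]

/-- The morphism `X ⟶ E a J` induced by `g : X a ⟶ J` vanishing on `X (a + 1)`. -/
noncomputable def v (X : FilD.FilF A) (a : ℤ)
    (ha : ∀ ⦃p q : ℤᵒᵖ⦄ (f : p ⟶ q), p.unop ≤ a → IsIso (X.obj.map f)) {J : A}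
    (g : X.obj.obj (op a) ⟶ J) (hg : X.obj.map (FilD.stepHom a) ≫ g = 0) : X.obj ⟶ E a J where
  app q := vApp X a ha g q.unop
  naturality _ _ f := v_naturality X a ha g hg f

lemma exists_trunc_lift (X : FilD.FilF A) (a : ℤ)
    (ha : ∀ ⦃p q : ℤᵒᵖ⦄ (f : p ⟶ q), p.unop ≤ a → IsIso (X.obj.map f)) {J : A}
    (g : X.obj.obj (op a) ⟶ J)
    (hgk : ∀ ⦃T : A⦄ (y : T ⟶ X.obj.obj (op a)), y ≫ g = 0 →
      ∃ y' : T ⟶ X.obj.obj (op (a + 1)), y' ≫ X.obj.map (FilD.stepHom a) = y)
    (p : ℤ) ⦃T : A⦄ (x : T ⟶ X.obj.obj (op p)) (hx : x ≫ vApp X a ha g p = 0) :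
    ∃ x₁ : T ⟶ (trunc X (a + 1)).obj.obj (op p),
      x₁ ≫ (truncι X (a + 1)).hom.app (op p) = x := by
  by_cases hp : p ≤ a
  · rw [vApp_pos X a ha g p hp] at hx
    have h1 : (x ≫ toA X a ha p hp) ≫ g = 0 := by
      have h0 : ((x ≫ toA X a ha p hp) ≫ g) ≫
          biproduct.ι (fun _ : ULift.{v} (PLift (p ≤ a)) => J) ⟨⟨hp⟩⟩ = 0 := by
        simpa only [Category.assoc] using hx
      rw [← cancel_mono (biproduct.ι (fun _ : ULift.{v} (PLift (p ≤ a)) => J) ⟨⟨hp⟩⟩), h0,
        zero_comp]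
    obtain ⟨y', hy'⟩ := hgk _ h1
    have h2 : max p (a + 1) ≤ a + 1 := max_le (by omega) le_rfl
    have h3 : p ≤ a + 1 := by omega
    refine ⟨y' ≫ X.obj.map (homOfLE h2).op, ?_⟩
    show (y' ≫ X.obj.map (homOfLE h2).op) ≫
      X.obj.map (homOfLE (le_max_left p (a + 1))).op = x
    have e : X.obj.map (homOfLE h2).op ≫ X.obj.map (homOfLE (le_max_left p (a + 1))).op =
        X.obj.map (FilD.stepHom a) ≫ X.obj.map (homOfLE hp).op := by
      rw [map_comp_eq X.obj _ _ (homOfLE h3).op, map_comp_eq X.obj _ _ (homOfLE h3).op]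
    rw [Category.assoc, e, ← Category.assoc, hy', Category.assoc, toA_map, Category.comp_id]
  · have h2 : max p (a + 1) ≤ p := max_le le_rfl (by omega)
    refine ⟨x ≫ X.obj.map (homOfLE h2).op, ?_⟩
    show (x ≫ X.obj.map (homOfLE h2).op) ≫
      X.obj.map (homOfLE (le_max_left p (a + 1))).op = x
    rw [Category.assoc, map_comp_eq X.obj _ _ (𝟙 _), X.obj.map_id, Category.comp_id]

/-- The chosen map from the bottom piece to an injective hull of the bottom graded piece. -/
noncomputable def gMap [EnoughInjectives A] (X : FilD.FilF A) (a : ℤ) :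
    X.obj.obj (op a) ⟶ Injective.under ((FilD.gr A a).obj X.obj) :=
  grπ X.obj a ≫ Injective.ι _

lemma gMap_zero [EnoughInjectives A] (X : FilD.FilF A) (a : ℤ) :
    X.obj.map (FilD.stepHom a) ≫ gMap X a = 0 := by
  unfold gMap
  rw [← Category.assoc, step_grπ, zero_comp]

lemma gMap_ker [EnoughInjectives A] (X : FilD.FilF A) (a : ℤ) ⦃T : A⦄
    (y : T ⟶ X.obj.obj (op a)) (hy : y ≫ gMap X a = 0) :
    ∃ y' : T ⟶ X.obj.obj (op (a + 1)), y' ≫ X.obj.map (FilD.stepHom a) = y := by
  have hm := X.property.1 (FilD.stepHom a)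
  have h1 : y ≫ grπ X.obj a = 0 := by
    rw [← cancel_mono (Injective.ι ((FilD.gr A a).obj X.obj)), Category.assoc, zero_comp]
    exact hy
  exact exists_lift_of_grπ_eq_zero X.obj a y h1

/-- The combined morphism `X ⟶ I' ⊕ E a J`. -/
noncomputable def uMap (X I' : FilD.FilF A) (a : ℤ)
    (ha : ∀ ⦃p q : ℤᵒᵖ⦄ (f : p ⟶ q), p.unop ≤ a → IsIso (X.obj.map f)) {J : A}
    (g : X.obj.obj (op a) ⟶ J) (hg : X.obj.map (FilD.stepHom a) ≫ g = 0) (e : X ⟶ I') :
    X ⟶ sum I' (EF a J) :=
  ObjectProperty.homMk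
    { app := fun q => biprod.lift (e.hom.app q) ((v X a ha g hg).app q)
      naturality := fun p q f => by
        show X.obj.map f ≫ biprod.lift (e.hom.app q) ((v X a ha g hg).app q) =
          biprod.lift (e.hom.app p) ((v X a ha g hg).app p) ≫
            biprod.map (I'.obj.map f) ((E a J).map f)
        apply biprod.hom_ext
        · rw [Category.assoc, biprod.lift_fst, Category.assoc, biprod.map_fst,
            biprod.lift_fst_assoc]
          exact e.hom.naturality f
        · rw [Category.assoc, biprod.lift_snd, Category.assoc, biprod.map_snd,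
            biprod.lift_snd_assoc]
          exact (v X a ha g hg).naturality f }

lemma uMap_app (X I' : FilD.FilF A) (a : ℤ)
    (ha : ∀ ⦃p q : ℤᵒᵖ⦄ (f : p ⟶ q), p.unop ≤ a → IsIso (X.obj.map f)) {J : A}
    (g : X.obj.obj (op a) ⟶ J) (hg : X.obj.map (FilD.stepHom a) ≫ g = 0) (e : X ⟶ I')
    (p : ℤ) : (uMap X I' a ha g hg e).hom.app (op p) =
      biprod.lift (e.hom.app (op p)) (vApp X a ha g p) := rfl

end V

theorem main [EnoughInjectives A] : ∀ (n : ℕ) (X : FilD.FilF A) (a : ℤ),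
    (∀ ⦃p q : ℤᵒᵖ⦄ (f : p ⟶ q), p.unop ≤ a → IsIso (X.obj.map f)) →
    (∀ p : ℤ, a + n ≤ p → IsZero (X.obj.obj (op p))) →
    ∃ (I : FilD.FilF A) (u : X ⟶ I), FilD.IsFilteredInjective I ∧
      (∀ p : ℤ, Mono (u.hom.app (op p))) ∧ FilD.IsStrict u := by
  intro n
  induction n with
  | zero =>
    intro X a ha hb
    have hz : ∀ p : ℤ, IsZero (X.obj.obj (op p)) := by
      intro p
      by_cases hp : a ≤ p
      · exact hb p (by simpa using hp)
      · have hpa : p ≤ a := by omega
        have := ha (homOfLE hpa).op (le_refl a)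
        exact IsZero.of_iso (hb a (by simp)) (asIso (X.obj.map (homOfLE hpa).op)).symm
    refine ⟨X, 𝟙 X, ?_, ?_, ?_⟩
    · intro q
      have : IsZero ((FilD.grF A q).obj X) := IsZero.of_epi (grπ X.obj q) (hz q)
      exact this.injective
    · intro p
      show Mono (𝟙 (X.obj.obj (op p)))
      infer_instance
    · rw [strict_iff]
      intro p q h T x y hxy
      exact ⟨T, 𝟙 T, inferInstance, y, (Category.comp_id y).trans (Category.id_comp y).symm⟩
  | succ n ih =>
    intro X a ha hb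
    obtain ⟨I', u', hI', hmono', hstr'⟩ := ih (trunc X (a + 1)) (a + 1)
      (fun p q f hp => trunc_isIso X (a + 1) f hp)
      (fun p hp => hb (max p (a + 1)) (by
        have := le_max_left p (a + 1)
        push_cast
        omega))
    obtain ⟨e, he⟩ := exists_extension (truncι X (a + 1)) (truncι_strict X (a + 1)) hI' u' (by
      intro p T x hx
      have hm : Mono ((truncι X (a + 1)).hom.app (op p)) := X.property.1 _
      have hx0 : x = 0 := by
        rw [← cancel_mono ((truncι X (a + 1)).hom.app (op p)), hx, zero_comp]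
      rw [hx0, zero_comp])
    have hep : ∀ p : ℤ, (truncι X (a + 1)).hom.app (op p) ≫ e.hom.app (op p) =
        u'.hom.app (op p) := by
      intro p
      have := congrArg (fun t => t.hom.app (op p)) he
      exact this
    refine ⟨sum I' (EF a (Injective.under ((FilD.gr A a).obj X.obj))),
      uMap X I' a ha (gMap X a) (gMap_zero X a) e, ?_, ?_, ?_⟩
    · exact isFilteredInjective_sum hI' (EF_injective a _)
    · intro p
      rw [uMap_app]
      apply Preadditive.mono_of_cancel_zero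
      intro T x hx
      have hx1 : x ≫ e.hom.app (op p) = 0 := by
        calc x ≫ e.hom.app (op p)
            = (x ≫ biprod.lift (e.hom.app (op p)) (vApp X a ha (gMap X a) p)) ≫ biprod.fst := by
              rw [Category.assoc, biprod.lift_fst]
          _ = 0 := by rw [hx, zero_comp]
      have hx2 : x ≫ vApp X a ha (gMap X a) p = 0 := by
        calc x ≫ vApp X a ha (gMap X a) p
            = (x ≫ biprod.lift (e.hom.app (op p)) (vApp X a ha (gMap X a) p)) ≫ biprod.snd := by
              rw [Category.assoc, biprod.lift_snd]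
          _ = 0 := by rw [hx, zero_comp]
      obtain ⟨x₁, hx₁⟩ := exists_trunc_lift X a ha (gMap X a) (gMap_ker X a) p x hx2
      have h0 : x₁ ≫ u'.hom.app (op p) = 0 := by
        rw [← hep p, ← Category.assoc, hx₁, hx1]
      have hm := hmono' p
      have hx₁0 : x₁ = 0 := by
        rw [← cancel_mono (u'.hom.app (op p)), h0, zero_comp]
      rw [← hx₁, hx₁0, zero_comp]
    · apply strict_of_step
      intro p T x hx
      by_cases hpa : p + 1 ≤ a
      · have hiso := ha (FilD.stepHom p) hpa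
        refine ⟨T, 𝟙 T, inferInstance, x ≫ inv (X.obj.map (FilD.stepHom p)), ?_⟩
        rw [Category.assoc, IsIso.inv_hom_id_assoc, Category.id_comp]
      · have hm : Mono ((sum I' (EF a (Injective.under ((FilD.gr A a).obj X.obj)))).obj.map
            (FilD.stepHom p)) :=
          (sum I' (EF a (Injective.under ((FilD.gr A a).obj X.obj)))).property.1 _
        obtain ⟨y, hy⟩ := exists_lift_of_grπ_eq_zero
          (sum I' (EF a (Injective.under ((FilD.gr A a).obj X.obj)))).obj p
          (x ≫ (uMap X I' a ha (gMap X a) (gMap_zero X a) e).hom.app (op p)) (by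
            rw [Category.assoc]
            exact hx)
        have hy' : y ≫ biprod.map (I'.obj.map (FilD.stepHom p))
            ((E a (Injective.under ((FilD.gr A a).obj X.obj))).map (FilD.stepHom p)) =
            x ≫ biprod.lift (e.hom.app (op p)) (vApp X a ha (gMap X a) p) := hy
        have hz : IsZero ((E a (Injective.under ((FilD.gr A a).obj X.obj))).obj
            (op (p + 1))) := E_isZero a _ (by show ¬ p + 1 ≤ a; exact hpa)
        have hx2 : x ≫ vApp X a ha (gMap X a) p = 0 := by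
          calc x ≫ vApp X a ha (gMap X a) p
              = (x ≫ biprod.lift (e.hom.app (op p)) (vApp X a ha (gMap X a) p)) ≫
                  biprod.snd := by
                rw [Category.assoc, biprod.lift_snd]
            _ = (y ≫ biprod.snd) ≫
                  (E a (Injective.under ((FilD.gr A a).obj X.obj))).map (FilD.stepHom p) := by
                rw [← hy', Category.assoc, biprod.map_snd, Category.assoc]
            _ = 0 := by rw [hz.eq_of_tgt (y ≫ biprod.snd) 0, zero_comp]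
        have hx1 : x ≫ e.hom.app (op p) =
            (y ≫ biprod.fst) ≫ I'.obj.map (FilD.stepHom p) := by
          calc x ≫ e.hom.app (op p)
              = (x ≫ biprod.lift (e.hom.app (op p)) (vApp X a ha (gMap X a) p)) ≫
                  biprod.fst := by
                rw [Category.assoc, biprod.lift_fst]
            _ = (y ≫ biprod.fst) ≫ I'.obj.map (FilD.stepHom p) := by
                rw [← hy', Category.assoc, biprod.map_fst, Category.assoc]
        obtain ⟨x₁, hx₁⟩ := exists_trunc_lift X a ha (gMap X a) (gMap_ker X a) p x hx2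
        have h3 : x₁ ≫ u'.hom.app (op p) = (y ≫ biprod.fst) ≫
            I'.obj.map (homOfLE (Int.le_add_one le_rfl : p ≤ p + 1)).op := by
          rw [← hep p, ← Category.assoc, hx₁]
          exact hx1
        obtain ⟨T', π, hπ, x₂, hx₂⟩ := (strict_iff u').1 hstr' p (p + 1)
          (Int.le_add_one le_rfl) x₁ (y ≫ biprod.fst) h3
        refine ⟨T', π, hπ, x₂ ≫ (truncι X (a + 1)).hom.app (op (p + 1)), ?_⟩
        rw [uMap_app]
        apply biprod.hom_ext
        · simp only [Category.assoc, biprod.lift_fst]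
          have nat : X.obj.map (FilD.stepHom p) ≫ e.hom.app (op p) =
              e.hom.app (op (p + 1)) ≫ I'.obj.map (FilD.stepHom p) := e.hom.naturality _
          rw [nat, reassoc_of% (hep (p + 1)), reassoc_of% hx₂, hx1]
          simp only [Category.assoc]
        · simp only [Category.assoc, biprod.lift_snd]
          have nat : X.obj.map (FilD.stepHom p) ≫ vApp X a ha (gMap X a) p =
              vApp X a ha (gMap X a) (p + 1) ≫
                (E a (Injective.under ((FilD.gr A a).obj X.obj))).map (FilD.stepHom p) :=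
            v_naturality X a ha (gMap X a) (gMap_zero X a) (FilD.stepHom p)
          rw [hx2, comp_zero, nat, hz.eq_of_tgt (vApp X a ha (gMap X a) (p + 1)) 0, zero_comp,
            comp_zero, comp_zero]

end Groth.Agent.Helper22.FilDEmb
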