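import Groth.Agent.Lib.Helper22.FilDTruncGE
import Groth.Agent.S1085

/-!
# Pushouts along strict monomorphisms of finite filtered objects

Helper library (helper22): a morphism of finite filtered objects which is a monomorphism on all
graded pieces is a strict monomorphism; pushouts along such morphisms.
-/

set_option autoImplicit false
universe v u
open CategoryTheory CategoryTheory.Limits Opposite
open Groth.Agent.Helper22.FilDCore Groth.Agent.Helper22.FilDBiprod Groth.Agent.Helper22.FilDCoker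
open Groth.Agent.Helper22.FilDTruncGE

namespace Groth.Agent.Helper22.FilDPush

variable {A : Type u} [Category.{v} A] [Abelian A]

section Gen

lemma sInl_sFst (X Y : FilD.FilF A) : sInl X Y ≫ sFst X Y = 𝟙 X := (bicone X Y).inl_fst
lemma sInl_sSnd (X Y : FilD.FilF A) : sInl X Y ≫ sSnd X Y = 0 := (bicone X Y).inl_snd
lemma sInr_sFst (X Y : FilD.FilF A) : sInr X Y ≫ sFst X Y = 0 := (bicone X Y).inr_fst
lemma sInr_sSnd (X Y : FilD.FilF A) : sInr X Y ≫ sSnd X Y = 𝟙 Y := (bicone X Y).inr_snd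
lemma s_total (X Y : FilD.FilF A) :
    sFst X Y ≫ sInl X Y + sSnd X Y ≫ sInr X Y = 𝟙 (sum X Y) := bicone_total X Y

lemma sumLift_eq {X Y Z : FilD.FilF A} (f : Z ⟶ X) (g : Z ⟶ Y) :
    sumLift f g = f ≫ sInl X Y + g ≫ sInr X Y := by
  apply sum_hom_ext'
  · rw [sumLift_fst, Preadditive.add_comp, Category.assoc, Category.assoc, sInl_sFst, sInr_sFst,
      Category.comp_id, comp_zero, add_zero]
  · rw [sumLift_snd, Preadditive.add_comp, Category.assoc, Category.assoc, sInl_sSnd, sInr_sSnd,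
      Category.comp_id, comp_zero, zero_add]

lemma mono_of_levels {X Y : FilD.FilF A} (f : X ⟶ Y) (h : ∀ p : ℤ, Mono (f.hom.app (op p))) :
    Mono f := by
  constructor
  intro Z g g' hgg
  apply ObjectProperty.hom_ext
  apply NatTrans.ext
  funext P
  have e : g.hom.app P ≫ f.hom.app P = g'.hom.app P ≫ f.hom.app P :=
    congrArg (fun t => t.hom.app P) hgg
  have hm : Mono (f.hom.app P) := h P.unop
  exact (cancel_mono (f.hom.app P)).1 e

/-- A morphism which is a monomorphism on all graded pieces is strict and a levelwise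
monomorphism. -/
lemma strict_of_grMono {X Y : FilD.FilF A} (f : X ⟶ Y)
    (h : ∀ p : ℤ, Mono ((FilD.grF A p).map f)) :
    FilD.IsStrict f ∧ ∀ p : ℤ, Mono (f.hom.app (op p)) := by
  let S : ShortComplex (FilD.FilF A) := ShortComplex.mk (0 : X ⟶ X) f zero_comp
  have hS : ∀ p : ℤ, (S.map (FilD.grF A p)).Exact := by
    intro p
    have hf0 : (S.map (FilD.grF A p)).f = 0 := (FilD.grF A p).map_zero _ _
    rw [ShortComplex.exact_iff_mono _ hf0]
    exact h p
  obtain ⟨h1, _, h3⟩ := Groth.Agent.S1085.result S hS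
  refine ⟨h3, fun p => ?_⟩
  have h1p := h1 p
  have hf0 : (S.map ((FilD.IsFinFil A).ι ⋙ (evaluation ℤᵒᵖ A).obj (op p))).f = 0 := rfl
  exact (ShortComplex.exact_iff_mono _ hf0).1 h1p

lemma gr_inl_fst (X Y : FilD.FilF A) (p : ℤ) :
    (FilD.grF A p).map (sInl X Y) ≫ (FilD.grF A p).map (sFst X Y) = 𝟙 _ := by
  rw [← CategoryTheory.Functor.map_comp, sInl_sFst, CategoryTheory.Functor.map_id]

lemma gr_inl_snd (X Y : FilD.FilF A) (p : ℤ) :
    (FilD.grF A p).map (sInl X Y) ≫ (FilD.grF A p).map (sSnd X Y) = 0 := by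
  rw [← CategoryTheory.Functor.map_comp, sInl_sSnd, Functor.map_zero]

lemma gr_inr_fst (X Y : FilD.FilF A) (p : ℤ) :
    (FilD.grF A p).map (sInr X Y) ≫ (FilD.grF A p).map (sFst X Y) = 0 := by
  rw [← CategoryTheory.Functor.map_comp, sInr_sFst, Functor.map_zero]

lemma gr_inr_snd (X Y : FilD.FilF A) (p : ℤ) :
    (FilD.grF A p).map (sInr X Y) ≫ (FilD.grF A p).map (sSnd X Y) = 𝟙 _ := by
  rw [← CategoryTheory.Functor.map_comp, sInr_sSnd, CategoryTheory.Functor.map_id]

end Gen

section Push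

variable {B I K' : FilD.FilF A} (j : B ⟶ I) (g : B ⟶ K')

/-- The morphism whose cokernel is the pushout. -/
noncomputable def pu : B ⟶ sum I K' := sumLift j g

lemma pu_fst : pu j g ≫ sFst I K' = j := sumLift_fst _ _
lemma pu_snd : pu j g ≫ sSnd I K' = g := sumLift_snd _ _

variable (hj : ∀ p : ℤ, Mono ((FilD.grF A p).map j))

include hj in
lemma pu_grMono (p : ℤ) : Mono ((FilD.grF A p).map (pu j g)) := by
  have := hj p
  have e : (FilD.grF A p).map (pu j g) ≫ (FilD.grF A p).map (sFst I K') =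
      (FilD.grF A p).map j := by
    rw [← CategoryTheory.Functor.map_comp, pu_fst]
  exact mono_of_mono_fac e

include hj in
lemma pu_strict : FilD.IsStrict (pu j g) := (strict_of_grMono _ (pu_grMono j g hj)).1

/-- The pushout of `j` and `g`. -/
@[reducible] noncomputable def PO : FilD.FilF A := cokerObj (pu j g) (pu_strict j g hj)

/-- The projection onto the pushout. -/
noncomputable def poProj : sum I K' ⟶ PO j g hj := cokerProj (pu j g) (pu_strict j g hj)

/-- The first inclusion into the pushout. -/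
noncomputable def poInl : I ⟶ PO j g hj := sInl I K' ≫ poProj j g hj

/-- The second inclusion into the pushout. -/
noncomputable def poInr : K' ⟶ PO j g hj := sInr I K' ≫ poProj j g hj

lemma pu_poProj : pu j g ≫ poProj j g hj = 0 := comp_cokerProj _ _

lemma po_rel : j ≫ poInl j g hj + g ≫ poInr j g hj = 0 := by
  have h : pu j g ≫ poProj j g hj = 0 := pu_poProj j g hj
  have e : pu j g = j ≫ sInl I K' + g ≫ sInr I K' := sumLift_eq j g
  rw [e, Preadditive.add_comp, Category.assoc, Category.assoc] at h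
  exact h

/-- Morphisms out of the pushout. -/
noncomputable def poDesc {Z : FilD.FilF A} (f₁ : I ⟶ Z) (f₂ : K' ⟶ Z)
    (h : j ≫ f₁ + g ≫ f₂ = 0) : PO j g hj ⟶ Z :=
  cokerDesc (pu j g) (pu_strict j g hj) (sumDesc f₁ f₂) (by
    have e : pu j g = j ≫ sInl I K' + g ≫ sInr I K' := sumLift_eq j g
    rw [e, Preadditive.add_comp, Category.assoc, Category.assoc, inl_sumDesc, inr_sumDesc]
    exact h)

lemma poProj_desc {Z : FilD.FilF A} (f₁ : I ⟶ Z) (f₂ : K' ⟶ Z) (h : j ≫ f₁ + g ≫ f₂ = 0) :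
    poProj j g hj ≫ poDesc j g hj f₁ f₂ h = sumDesc f₁ f₂ := cokerProj_desc _ _ _ _

lemma poInl_desc {Z : FilD.FilF A} (f₁ : I ⟶ Z) (f₂ : K' ⟶ Z) (h : j ≫ f₁ + g ≫ f₂ = 0) :
    poInl j g hj ≫ poDesc j g hj f₁ f₂ h = f₁ := by
  unfold poInl
  rw [Category.assoc, poProj_desc, inl_sumDesc]

lemma poInr_desc {Z : FilD.FilF A} (f₁ : I ⟶ Z) (f₂ : K' ⟶ Z) (h : j ≫ f₁ + g ≫ f₂ = 0) :
    poInr j g hj ≫ poDesc j g hj f₁ f₂ h = f₂ := by
  unfold poInr
  rw [Category.assoc, poProj_desc, inr_sumDesc]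

lemma po_hom_ext {Z : FilD.FilF A} {f f' : PO j g hj ⟶ Z}
    (h1 : poInl j g hj ≫ f = poInl j g hj ≫ f') (h2 : poInr j g hj ≫ f = poInr j g hj ≫ f') :
    f = f' := by
  have hepi : Epi (poProj j g hj) := cokerProj_epi (pu j g) (pu_strict j g hj)
  rw [← cancel_epi (poProj j g hj)]
  apply sum_hom_ext
  · rw [← Category.assoc, ← Category.assoc]
    exact h1
  · rw [← Category.assoc, ← Category.assoc]
    exact h2

section Gr

variable (p : ℤ)

lemma gr_total :
    (FilD.grF A p).map (sFst I K') ≫ (FilD.grF A p).map (poInl j g hj) +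
      (FilD.grF A p).map (sSnd I K') ≫ (FilD.grF A p).map (poInr j g hj) =
      (FilD.grF A p).map (poProj j g hj) := by
  rw [← CategoryTheory.Functor.map_comp, ← CategoryTheory.Functor.map_comp, ← Functor.map_add]
  congr 1
  unfold poInl poInr
  rw [← Category.assoc, ← Category.assoc, ← Preadditive.add_comp, s_total, Category.id_comp]

/-- Every element of `gr` of the pushout comes from the two summands. -/
lemma gr_po_epi ⦃T : A⦄ (b : T ⟶ (FilD.grF A p).obj (PO j g hj)) :
    ∃ (T' : A) (π : T' ⟶ T) (_ : Epi π) (y : T' ⟶ (FilD.grF A p).obj I)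
      (x : T' ⟶ (FilD.grF A p).obj K'),
      π ≫ b = y ≫ (FilD.grF A p).map (poInl j g hj) + x ≫ (FilD.grF A p).map (poInr j g hj) := by
  have hepi : Epi ((FilD.grF A p).map (poProj j g hj)) :=
    gr_cokerProj_epi (pu j g) (pu_strict j g hj) p
  obtain ⟨T', π, hπ, w, hw⟩ :=
    surjective_up_to_refinements_of_epi ((FilD.grF A p).map (poProj j g hj)) b
  refine ⟨T', π, hπ, w ≫ (FilD.grF A p).map (sFst I K'), w ≫ (FilD.grF A p).map (sSnd I K'), ?_⟩
  rw [hw, ← gr_total j g hj p, Preadditive.comp_add]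
  simp only [Category.assoc]

/-- The kernel of `gr I ⊕ gr K' ⟶ gr PO`. -/
lemma gr_po_exact ⦃T : A⦄ (y : T ⟶ (FilD.grF A p).obj I) (x : T ⟶ (FilD.grF A p).obj K')
    (h : y ≫ (FilD.grF A p).map (poInl j g hj) + x ≫ (FilD.grF A p).map (poInr j g hj) = 0) :
    ∃ (T' : A) (π : T' ⟶ T) (_ : Epi π) (b : T' ⟶ (FilD.grF A p).obj B),
      π ≫ y = b ≫ (FilD.grF A p).map j ∧ π ≫ x = b ≫ (FilD.grF A p).map g := by
  have hw : (y ≫ (FilD.grF A p).map (sInl I K') + x ≫ (FilD.grF A p).map (sInr I K')) ≫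
      (FilD.grF A p).map (poProj j g hj) = 0 := by
    rw [Preadditive.add_comp, Category.assoc, Category.assoc, ← CategoryTheory.Functor.map_comp,
      ← CategoryTheory.Functor.map_comp]
    exact h
  obtain ⟨T', π, hπ, b, hb⟩ := gr_exact (pu j g) (pu_strict j g hj) p _ hw
  refine ⟨T', π, hπ, b, ?_, ?_⟩
  · have h1 := congrArg (fun t => t ≫ (FilD.grF A p).map (sFst I K')) hb
    simp only [Category.assoc, Preadditive.add_comp, gr_inl_fst, gr_inr_fst, comp_zero,
      add_zero, Category.comp_id] at h1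
    rw [h1, ← CategoryTheory.Functor.map_comp, pu_fst]
  · have h1 := congrArg (fun t => t ≫ (FilD.grF A p).map (sSnd I K')) hb
    simp only [Category.assoc, Preadditive.add_comp, gr_inl_snd, gr_inr_snd, comp_zero,
      zero_add, Category.comp_id] at h1
    rw [h1, ← CategoryTheory.Functor.map_comp, pu_snd]

/-- The second inclusion into the pushout is a monomorphism on graded pieces. -/
lemma poInr_grMono : Mono ((FilD.grF A p).map (poInr j g hj)) := by
  apply Preadditive.mono_of_cancel_zero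
  intro T x hx
  have h0 : (0 : T ⟶ (FilD.grF A p).obj I) ≫ (FilD.grF A p).map (poInl j g hj) +
      x ≫ (FilD.grF A p).map (poInr j g hj) = 0 := by
    rw [zero_comp, zero_add, hx]
  obtain ⟨T', π, hπ, b, hb1, hb2⟩ := gr_po_exact j g hj p 0 x h0
  have := hj p
  have hb0 : b = 0 := by
    rw [← cancel_mono ((FilD.grF A p).map j), zero_comp, ← hb1, comp_zero]
  rw [hb0, zero_comp] at hb2
  exact (cancel_epi π).1 (hb2.trans comp_zero.symm)

end Gr

end Push

end Groth.Agent.Helper22.FilDPush
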