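import Groth.Agent.Lib.Helper22.FilDInj
import Groth.Agent.S1085
import Mathlib.Algebra.Homology.Embedding.CochainComplex
import Mathlib.Algebra.Homology.Single

/-!
# Facts on filtered resolutions

Helper library (helper22): consequences of `X[0] ⟶ J` being a filtered quasi-isomorphism with
`J` concentrated in non-negative degrees.
-/

set_option autoImplicit false
universe v u
open CategoryTheory CategoryTheory.Limits Opposite ZeroObject
open Groth.Agent.Helper22.FilDCore Groth.Agent.Helper22.FilDInj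

namespace Groth.Agent.Helper22.FilDRes

section Single

variable {C : Type u} [Category.{v} C] [Preadditive C] [HasZeroObject C]

/-- The degree zero term of `X[0]` is `X` (typed with `CochainComplex.singleFunctor`). -/
noncomputable def sX (X : C) : ((CochainComplex.singleFunctor C 0).obj X).X 0 ≅ X :=
  HomologicalComplex.singleObjXSelf (ComplexShape.up ℤ) 0 X

lemma sF_map_f {X Y : C} (f : X ⟶ Y) :
    ((CochainComplex.singleFunctor C 0).map f).f 0 = (sX X).hom ≫ f ≫ (sX Y).inv :=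
  HomologicalComplex.single_map_f_self (ComplexShape.up ℤ) 0 f

/-- Morphisms out of `X[0]`. -/
noncomputable def mkFromSingle {X : C} {K : CochainComplex C ℤ} (φ : X ⟶ K.X 0)
    (hφ : φ ≫ K.d 0 1 = 0) : (CochainComplex.singleFunctor C 0).obj X ⟶ K :=
  HomologicalComplex.mkHomFromSingle φ (by
    intro k hk
    have hk' : 0 + 1 = k := hk
    subst hk'
    exact hφ)

lemma mkFromSingle_f {X : C} {K : CochainComplex C ℤ} (φ : X ⟶ K.X 0)
    (hφ : φ ≫ K.d 0 1 = 0) : (mkFromSingle φ hφ).f 0 = (sX X).hom ≫ φ :=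
  HomologicalComplex.mkHomFromSingle_f _ _

lemma from_single_ext {X : C} {K : CochainComplex C ℤ}
    {f g : (CochainComplex.singleFunctor C 0).obj X ⟶ K} (h : f.f 0 = g.f 0) : f = g :=
  HomologicalComplex.from_single_hom_ext h

end Single

variable {A : Type u} [Category.{v} A] [Abelian A]

lemma neg_hom_app {X Y : FilD.FilF A} (f : X ⟶ Y) (P : ℤᵒᵖ) :
    (-f).hom.app P = -(f.hom.app P) := rfl

lemma comp_hom_app {X Y Z : FilD.FilF A} (f : X ⟶ Y) (g : Y ⟶ Z) (P : ℤᵒᵖ) :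
    (f ≫ g).hom.app P = f.hom.app P ≫ g.hom.app P := rfl

theorem res_facts {Z : FilD.FilF A} (J : CochainComplex (FilD.FilF A) ℤ) [J.IsStrictlyGE 0]
    (c : (CochainComplex.singleFunctor (FilD.FilF A) 0).obj Z ⟶ J)
    (hc : FilD.IsFilteredQuasiIso c) :
    (∀ p : ℤ, Mono ((c.f 0).hom.app (op p))) ∧ FilD.IsStrict (c.f 0) ∧
    c.f 0 ≫ J.d 0 1 = 0 ∧
    (∀ (p : ℤ) ⦃T : A⦄ (x : T ⟶ (J.X 0).obj.obj (op p)),
      x ≫ (J.d 0 1).hom.app (op p) = 0 →
      ∃ (T' : A) (π : T' ⟶ T) (_ : Epi π)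
        (x' : T' ⟶ (((CochainComplex.singleFunctor (FilD.FilF A) 0).obj Z).X 0).obj.obj (op p)),
        π ≫ x = x' ≫ (c.f 0).hom.app (op p)) ∧
    (∀ n : ℤ, 0 ≤ n → FilD.IsStrict (J.d n (n + 1))) ∧
    (∀ n : ℤ, 0 ≤ n → ∀ (p : ℤ) ⦃T : A⦄ (x : T ⟶ (J.X (n + 1)).obj.obj (op p)),
      x ≫ (J.d (n + 1) (n + 1 + 1)).hom.app (op p) = 0 →
      ∃ (T' : A) (π : T' ⟶ T) (_ : Epi π) (x' : T' ⟶ (J.X n).obj.obj (op p)),
        π ≫ x = x' ≫ (J.d n (n + 1)).hom.app (op p)) := by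
  have hIz : ∀ m, m < 0 → IsZero (J.X m) := fun m hm => J.isZero_of_isStrictlyGE 0 m hm
  have hF3 : ∀ (i j k : ℤ) (hij : i + 1 = j) (hjk : j + 1 = k), j ≠ 0 → ∀ p : ℤ,
      ((ShortComplex.mk (J.d i j) (J.d j k) (J.d_comp_d i j k)).map (FilD.grF A p)).Exact := by
    intro i j k hij hjk hj p
    have hq : QuasiIsoAt ((FilD.grCx p).map c) j := (hc p).quasiIsoAt j
    have hsrc : ((FilD.grCx p).obj
        ((CochainComplex.singleFunctor (FilD.FilF A) 0).obj Z)).ExactAt j := by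
      rw [HomologicalComplex.exactAt_iff]
      apply ShortComplex.exact_of_isZero_X₂
      exact Functor.map_isZero (FilD.grF A p)
        (HomologicalComplex.isZero_single_obj_X (ComplexShape.up ℤ) 0 Z j hj)
    have h2 := (quasiIsoAt_iff_exactAt _ j hsrc).1 hq
    exact (HomologicalComplex.exactAt_iff' _ i j k (by simp; omega) (by simp; omega)).1 h2
  have hc01 : c.f 0 ≫ J.d 0 1 = 0 := by
    rw [c.comm 0 1]; simp
  have hF2 : ∀ p : ℤ, ((ShortComplex.mk (c.f 0) (J.d 0 1) hc01).map (FilD.grF A p)).Exact ∧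
      Mono ((FilD.grF A p).map (c.f 0)) := by
    intro p
    have hq : QuasiIsoAt ((FilD.grCx p).map c) 0 := (hc p).quasiIsoAt 0
    rw [quasiIsoAt_iff' _ (-1) 0 1 (by simp) (by simp)] at hq
    have z1 : (FilD.grF A p).map
        (((CochainComplex.singleFunctor (FilD.FilF A) 0).obj Z).d (-1) 0) = 0 := by
      have e : ((CochainComplex.singleFunctor (FilD.FilF A) 0).obj Z).d (-1) 0 = 0 := rfl
      rw [e, Functor.map_zero]
    have z2 : (FilD.grF A p).map
        (((CochainComplex.singleFunctor (FilD.FilF A) 0).obj Z).d 0 1) = 0 := by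
      have e : ((CochainComplex.singleFunctor (FilD.FilF A) 0).obj Z).d 0 1 = 0 := rfl
      rw [e, Functor.map_zero]
    have z3 : (FilD.grF A p).map (J.d (-1) 0) = 0 := by
      rw [(hIz (-1) (by omega)).eq_of_src (J.d (-1) 0) 0, Functor.map_zero]
    have h := (ShortComplex.quasiIso_iff_of_zeros _ z1 z2 z3).1 hq
    exact h
  obtain ⟨hex₀, -, hstr₀⟩ := Groth.Agent.S1085.result
    (ShortComplex.mk (0 : (0 : FilD.FilF A) ⟶ _) (c.f 0) zero_comp)
    (fun p => (ShortComplex.exact_iff_mono _ (Functor.map_zero (FilD.grF A p) _ _)).2 (hF2 p).2)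
  have hmono₀ : ∀ p : ℤ, Mono ((c.f 0).hom.app (op p)) := fun p =>
    (ShortComplex.exact_iff_mono _ (by rfl)).1 (hex₀ p)
  obtain ⟨hex₁, -, -⟩ := Groth.Agent.S1085.result
    (ShortComplex.mk (c.f 0) (J.d 0 1) hc01) (fun p => (hF2 p).1)
  have hex₁' : ∀ (p : ℤ) ⦃T : A⦄ (x : T ⟶ (J.X 0).obj.obj (op p)),
      x ≫ (J.d 0 1).hom.app (op p) = 0 →
      ∃ (T' : A) (π : T' ⟶ T) (_ : Epi π)
        (x' : T' ⟶ (((CochainComplex.singleFunctor (FilD.FilF A) 0).obj Z).X 0).obj.obj (op p)),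
        π ≫ x = x' ≫ (c.f 0).hom.app (op p) := fun p =>
    (ShortComplex.exact_iff_exact_up_to_refinements _).1 (hex₁ p)
  refine ⟨hmono₀, hstr₀, hc01, hex₁', ?_, ?_⟩
  · intro n hn
    obtain ⟨-, hstrn, -⟩ := Groth.Agent.S1085.result
      (ShortComplex.mk (J.d n (n + 1)) (J.d (n + 1) (n + 1 + 1)) (J.d_comp_d _ _ _))
      (hF3 n (n + 1) (n + 1 + 1) rfl rfl (by omega))
    exact hstrn
  · intro n hn
    obtain ⟨hexn, -, -⟩ := Groth.Agent.S1085.result
      (ShortComplex.mk (J.d n (n + 1)) (J.d (n + 1) (n + 1 + 1)) (J.d_comp_d _ _ _))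
      (hF3 n (n + 1) (n + 1 + 1) rfl rfl (by omega))
    exact fun p => (ShortComplex.exact_iff_exact_up_to_refinements _).1 (hexn p)

end Groth.Agent.Helper22.FilDRes
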