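import Mathlib.Algebra.Homology.HomologicalComplex
import Mathlib.Algebra.Homology.Embedding.CochainComplex

/-!
# ℤ-indexed cochain complexes from ℕ-indexed sequences

Helper library (helper22): the cochain complex `0 ⟶ F 0 ⟶ F 1 ⟶ ⋯` concentrated in non-negative
degrees, with definitional control on its terms.
-/

set_option autoImplicit false
universe v u
open CategoryTheory CategoryTheory.Limits ZeroObject

namespace Groth.Agent.Helper22.OfSeq

variable {C : Type u} [Category.{v} C] [Preadditive C] [HasZeroObject C]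

/-- The terms. -/
noncomputable def XZ (F : ℕ → C) : ℤ → C
  | Int.ofNat k => F k
  | Int.negSucc _ => 0

/-- The differentials. -/
noncomputable def dZ (F : ℕ → C) (d : ∀ k, F k ⟶ F (k + 1)) : ∀ i j : ℤ, XZ F i ⟶ XZ F j
  | Int.ofNat a, Int.ofNat b => if h : a + 1 = b then d a ≫ eqToHom (congrArg F h) else 0
  | Int.ofNat _, Int.negSucc _ => 0
  | Int.negSucc _, _ => 0

lemma dZ_succ (F : ℕ → C) (d : ∀ k, F k ⟶ F (k + 1)) (a : ℕ) :
    dZ F d (Int.ofNat a) (Int.ofNat (a + 1)) = d a := by
  show (if h : a + 1 = a + 1 then d a ≫ eqToHom (congrArg F h) else 0) = d a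
  rw [dif_pos rfl, eqToHom_refl, Category.comp_id]

/-- The complex. -/
noncomputable def ofSeq (F : ℕ → C) (d : ∀ k, F k ⟶ F (k + 1))
    (sq : ∀ k, d k ≫ d (k + 1) = 0) : CochainComplex C ℤ where
  X := XZ F
  d := dZ F d
  shape i j h := by
    cases i with
    | ofNat a =>
      cases j with
      | ofNat b =>
        have hab : a + 1 ≠ b := fun hab => h (by subst hab; rfl)
        exact dif_neg hab
      | negSucc b => rfl
    | negSucc a => rfl
  d_comp_d' i j k hij hjk := by
    cases i with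
    | negSucc a => exact zero_comp
    | ofNat a =>
      have h1 : Int.ofNat a + 1 = j := hij
      subst h1
      have h2 : Int.ofNat a + 1 + 1 = k := hjk
      subst h2
      show dZ F d (Int.ofNat a) (Int.ofNat (a + 1)) ≫
        dZ F d (Int.ofNat (a + 1)) (Int.ofNat (a + 1 + 1)) = 0
      rw [dZ_succ, dZ_succ]
      exact sq a

variable (F : ℕ → C) (d : ∀ k, F k ⟶ F (k + 1)) (sq : ∀ k, d k ≫ d (k + 1) = 0)

lemma ofSeq_X (k : ℕ) : (ofSeq F d sq).X (k : ℤ) = F k := rfl

lemma ofSeq_d (k : ℕ) : (ofSeq F d sq).d (k : ℤ) ((k + 1 : ℕ) : ℤ) = d k := dZ_succ F d k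

lemma ofSeq_isZero (i : ℤ) (hi : i < 0) : IsZero ((ofSeq F d sq).X i) := by
  cases i with
  | ofNat a => exact absurd hi (by simp)
  | negSucc a => exact isZero_zero C

instance : (ofSeq F d sq).IsStrictlyGE 0 :=
  (CochainComplex.isStrictlyGE_iff _ 0).2 (fun i hi => ofSeq_isZero F d sq i hi)

end Groth.Agent.Helper22.OfSeq
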