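import Groth.Agent.Lib.Helper22.FilDEmb
import Groth.Agent.Lib.Helper22.FilDCoker
import Groth.Agent.Lib.Helper22.FilDRes
import Groth.Agent.Lib.Helper22.OfSeq

/-!
# Filtered injective resolutions of finite filtered objects

Helper library (helper22): construction of a filtered injective resolution `X[0] ⟶ I`.
-/

set_option autoImplicit false
universe v u
open CategoryTheory CategoryTheory.Limits Opposite ZeroObject
open Groth.Agent.Helper22.FilDCore Groth.Agent.Helper22.FilDInj Groth.Agent.Helper22.FilDCoker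
  Groth.Agent.Helper22.FilDRes Groth.Agent.Helper22.OfSeq

namespace Groth.Agent.Helper22.FilDResolve

variable {A : Type u} [Category.{v} A] [Abelian A] [EnoughInjectives A]

lemma exists_emb (Y : FilD.FilF A) : ∃ (I : FilD.FilF A) (u : Y ⟶ I),
    FilD.IsFilteredInjective I ∧ (∀ p : ℤ, Mono (u.hom.app (op p))) ∧ FilD.IsStrict u := by
  obtain ⟨b, hb⟩ := Y.property.2.1
  obtain ⟨a, ha⟩ := Y.property.2.2
  exact FilDEmb.main (b - a).toNat Y a ha (fun p hp => hb p (by omega))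

/-- A chosen filtered injective object containing `Y`. -/
noncomputable def Iof (Y : FilD.FilF A) : FilD.FilF A := (exists_emb Y).choose

/-- The chosen strict monomorphism. -/
noncomputable def uof (Y : FilD.FilF A) : Y ⟶ Iof Y := (exists_emb Y).choose_spec.choose

lemma Iof_inj (Y : FilD.FilF A) : FilD.IsFilteredInjective (Iof Y) :=
  (exists_emb Y).choose_spec.choose_spec.1

lemma uof_mono (Y : FilD.FilF A) (p : ℤ) : Mono ((uof Y).hom.app (op p)) :=
  (exists_emb Y).choose_spec.choose_spec.2.1 p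

lemma uof_strict (Y : FilD.FilF A) : FilD.IsStrict (uof Y) :=
  (exists_emb Y).choose_spec.choose_spec.2.2

/-- The cokernel of the chosen embedding. -/
noncomputable def Cof (Y : FilD.FilF A) : FilD.FilF A := cokerObj (uof Y) (uof_strict Y)

/-- The projection to the cokernel of the chosen embedding. -/
noncomputable def πof (Y : FilD.FilF A) : Iof Y ⟶ Cof Y := cokerProj (uof Y) (uof_strict Y)

lemma uof_πof (Y : FilD.FilF A) : uof Y ≫ πof Y = 0 := comp_cokerProj _ _

/-- The sequence of successive cokernels. -/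
noncomputable def seq (X : FilD.FilF A) : ℕ → FilD.FilF A
  | 0 => X
  | n + 1 => Cof (seq X n)

/-- The terms of the resolution. -/
noncomputable abbrev Iseq (X : FilD.FilF A) (n : ℕ) : FilD.FilF A := Iof (seq X n)

/-- The embeddings along the sequence. -/
noncomputable def uS (X : FilD.FilF A) (n : ℕ) : seq X n ⟶ Iseq X n := uof (seq X n)

/-- The projections along the sequence. -/
noncomputable def πS (X : FilD.FilF A) (n : ℕ) : Iseq X n ⟶ seq X (n + 1) := πof (seq X n)

lemma uS_πS (X : FilD.FilF A) (n : ℕ) : uS X n ≫ πS X n = 0 := uof_πof (seq X n)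

/-- The differentials of the resolution. -/
noncomputable def dseq (X : FilD.FilF A) (n : ℕ) : Iseq X n ⟶ Iseq X (n + 1) :=
  πS X n ≫ uS X (n + 1)

lemma dseq_comp (X : FilD.FilF A) (n : ℕ) : dseq X n ≫ dseq X (n + 1) = 0 := by
  unfold dseq
  rw [Category.assoc, ← Category.assoc (uS X (n + 1)), uS_πS, zero_comp, comp_zero]

lemma gr_dseq (X : FilD.FilF A) (n : ℕ) (p : ℤ) : (FilD.grF A p).map (dseq X n) =
    (FilD.grF A p).map (πS X n) ≫ (FilD.grF A p).map (uS X (n + 1)) :=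
  Functor.map_comp _ _ _

lemma gr_uS_mono (X : FilD.FilF A) (n : ℕ) (p : ℤ) : Mono ((FilD.grF A p).map (uS X n)) :=
  gr_mono (uof (seq X n)) (uof_strict _) (uof_mono _) p

lemma gr_πS_epi (X : FilD.FilF A) (n : ℕ) (p : ℤ) : Epi ((FilD.grF A p).map (πS X n)) :=
  gr_cokerProj_epi (uof (seq X n)) (uof_strict _) p

lemma gr_uS_πS_exact (X : FilD.FilF A) (n : ℕ) (p : ℤ) ⦃T : A⦄
    (w : T ⟶ (FilD.grF A p).obj (Iseq X n)) (hw : w ≫ (FilD.grF A p).map (πS X n) = 0) :
    ∃ (T' : A) (π : T' ⟶ T) (_ : Epi π) (z : T' ⟶ (FilD.grF A p).obj (seq X n)),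
      π ≫ w = z ≫ (FilD.grF A p).map (uS X n) :=
  gr_exact (uof (seq X n)) (uof_strict _) p w hw

lemma dseq_gr_exact (X : FilD.FilF A) (m : ℕ) (p : ℤ) ⦃T : A⦄
    (x₂ : T ⟶ (FilD.grF A p).obj (Iseq X (m + 1)))
    (h : x₂ ≫ (FilD.grF A p).map (dseq X (m + 1)) = 0) :
    ∃ (T' : A) (π : T' ⟶ T) (_ : Epi π) (x₁ : T' ⟶ (FilD.grF A p).obj (Iseq X m)),
      π ≫ x₂ = x₁ ≫ (FilD.grF A p).map (dseq X m) := by
  rw [gr_dseq] at h
  have hm := gr_uS_mono X (m + 1 + 1) p
  have h1 : x₂ ≫ (FilD.grF A p).map (πS X (m + 1)) = 0 := by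
    rw [← cancel_mono ((FilD.grF A p).map (uS X (m + 1 + 1))), Category.assoc, h, zero_comp]
  obtain ⟨T₁, π₁, hπ₁, z, hz⟩ := gr_uS_πS_exact X (m + 1) p x₂ h1
  have he := gr_πS_epi X m p
  obtain ⟨T₂, π₂, hπ₂, y, hy⟩ :=
    surjective_up_to_refinements_of_epi ((FilD.grF A p).map (πS X m)) z
  refine ⟨T₂, π₂ ≫ π₁, epi_comp _ _, y, ?_⟩
  rw [gr_dseq, ← Category.assoc y, ← hy, Category.assoc, Category.assoc, hz]

/-- The resolution complex. -/
noncomputable def resCx (X : FilD.FilF A) : CochainComplex (FilD.FilF A) ℤ :=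
  ofSeq (Iseq X) (dseq X) (dseq_comp X)

instance (X : FilD.FilF A) : (resCx X).IsStrictlyGE 0 :=
  inferInstanceAs ((ofSeq (Iseq X) (dseq X) (dseq_comp X)).IsStrictlyGE 0)

lemma resCx_isZero (X : FilD.FilF A) (i : ℤ) (hi : i < 0) : IsZero ((resCx X).X i) :=
  ofSeq_isZero _ _ _ i hi

lemma resCx_d (X : FilD.FilF A) (k : ℕ) :
    (resCx X).d (k : ℤ) ((k + 1 : ℕ) : ℤ) = dseq X k := ofSeq_d _ _ _ k

lemma resCx_inj (X : FilD.FilF A) (n : ℤ) : FilD.IsFilteredInjective ((resCx X).X n) := by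
  cases n with
  | ofNat k => exact Iof_inj (seq X k)
  | negSucc k =>
    intro q
    exact (Functor.map_isZero (FilD.grF A q) (isZero_zero (FilD.FilF A))).injective

/-- The degree zero component of the augmentation. -/
noncomputable def u0 (X : FilD.FilF A) : X ⟶ (resCx X).X 0 := uof X

lemma u0_comp_d (X : FilD.FilF A) : u0 X ≫ (resCx X).d 0 1 = 0 := by
  have e : (resCx X).d 0 1 = dseq X 0 := resCx_d X 0
  have h : uS X 0 ≫ dseq X 0 = 0 := by
    unfold dseq
    rw [← Category.assoc, uS_πS, zero_comp]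
  rw [e]
  exact h

lemma gr_u0_mono (X : FilD.FilF A) (p : ℤ) : Mono ((FilD.grF A p).map (u0 X)) :=
  gr_mono (uof X) (uof_strict _) (uof_mono _) p

lemma gr_u0_exact (X : FilD.FilF A) (p : ℤ) ⦃T : A⦄
    (w : T ⟶ (FilD.grF A p).obj ((resCx X).X 0))
    (hw : w ≫ (FilD.grF A p).map ((resCx X).d 0 1) = 0) :
    ∃ (T' : A) (π : T' ⟶ T) (_ : Epi π) (z : T' ⟶ (FilD.grF A p).obj X),
      π ≫ w = z ≫ (FilD.grF A p).map (u0 X) := by
  have e : (resCx X).d 0 1 = dseq X 0 := resCx_d X 0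
  rw [e] at hw
  obtain ⟨w', hw'⟩ : ∃ w' : T ⟶ (FilD.grF A p).obj (Iseq X 0), w' = w := ⟨w, rfl⟩
  have hw2 : w' ≫ (FilD.grF A p).map (πS X 0) ≫ (FilD.grF A p).map (uS X (0 + 1)) = 0 := by
    rw [← gr_dseq, hw']
    exact hw
  have hm1 := gr_uS_mono X (0 + 1) p
  have h1 : w' ≫ (FilD.grF A p).map (πS X 0) = 0 := by
    rw [← cancel_mono ((FilD.grF A p).map (uS X (0 + 1))), Category.assoc, hw2, zero_comp]
  obtain ⟨T', π, hπ, z, hz⟩ := gr_exact (uof X) (uof_strict _) p w' h1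
  refine ⟨T', π, hπ, z, ?_⟩
  rw [← hw']
  exact hz

/-- The augmentation of the resolution. -/
noncomputable def resMap (X : FilD.FilF A) :
    (CochainComplex.singleFunctor (FilD.FilF A) 0).obj X ⟶ resCx X :=
  mkFromSingle (u0 X) (u0_comp_d X)

lemma resMap_f (X : FilD.FilF A) : (resMap X).f 0 = (sX X).hom ≫ u0 X :=
  mkFromSingle_f _ _

theorem resMap_qis (X : FilD.FilF A) : FilD.IsFilteredQuasiIso (resMap X) := by
  intro p
  rw [quasiIso_iff]
  intro n
  by_cases hn : n = 0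
  · subst hn
    rw [quasiIsoAt_iff' _ (-1) 0 1 (by simp) (by simp)]
    have z1 : (FilD.grF A p).map
        (((CochainComplex.singleFunctor (FilD.FilF A) 0).obj X).d (-1) 0) = 0 := by
      have e : ((CochainComplex.singleFunctor (FilD.FilF A) 0).obj X).d (-1) 0 = 0 := rfl
      rw [e, Functor.map_zero]
    have z2 : (FilD.grF A p).map
        (((CochainComplex.singleFunctor (FilD.FilF A) 0).obj X).d 0 1) = 0 := by
      have e : ((CochainComplex.singleFunctor (FilD.FilF A) 0).obj X).d 0 1 = 0 := rfl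
      rw [e, Functor.map_zero]
    have z3 : (FilD.grF A p).map ((resCx X).d (-1) 0) = 0 := by
      rw [(resCx_isZero X (-1) (by omega)).eq_of_src ((resCx X).d (-1) 0) 0, Functor.map_zero]
    have e0 : (FilD.grF A p).map ((resMap X).f 0) =
        (FilD.grF A p).map (sX X).hom ≫ (FilD.grF A p).map (u0 X) := by
      rw [resMap_f]
      exact Functor.map_comp _ _ _
    have hm := gr_u0_mono X p
    have hmono : Mono ((FilD.grF A p).map ((resMap X).f 0)) := by
      rw [e0]
      exact mono_comp _ _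
    refine (ShortComplex.quasiIso_iff_of_zeros _ z1 z2 z3).2 ⟨?_, hmono⟩
    refine (ShortComplex.exact_iff_exact_up_to_refinements _).2 ?_
    intro T x₂ hx₂
    obtain ⟨T₁, π₁, hπ₁, z, hz⟩ := gr_u0_exact X p x₂ hx₂
    refine ⟨T₁, π₁, hπ₁, z ≫ (FilD.grF A p).map (sX X).inv, ?_⟩
    show π₁ ≫ x₂ = (z ≫ (FilD.grF A p).map (sX X).inv) ≫ (FilD.grF A p).map ((resMap X).f 0)
    rw [e0, Category.assoc, ← Category.assoc ((FilD.grF A p).map (sX X).inv),
      ← Functor.map_comp, Iso.inv_hom_id, CategoryTheory.Functor.map_id, Category.id_comp]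
    exact hz
  · have hsrc : ((FilD.grCx p).obj
        ((CochainComplex.singleFunctor (FilD.FilF A) 0).obj X)).ExactAt n := by
      rw [HomologicalComplex.exactAt_iff]
      apply ShortComplex.exact_of_isZero_X₂
      exact Functor.map_isZero (FilD.grF A p)
        (HomologicalComplex.isZero_single_obj_X (ComplexShape.up ℤ) 0 X n hn)
    rw [quasiIsoAt_iff_exactAt _ n hsrc]
    by_cases hneg : n < 0
    · rw [HomologicalComplex.exactAt_iff]
      apply ShortComplex.exact_of_isZero_X₂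
      exact Functor.map_isZero (FilD.grF A p) (resCx_isZero X n hneg)
    · obtain ⟨m, rfl⟩ : ∃ m : ℕ, n = ((m + 1 : ℕ) : ℤ) := ⟨(n - 1).toNat, by omega⟩
      rw [HomologicalComplex.exactAt_iff' _ ((m : ℕ) : ℤ) ((m + 1 : ℕ) : ℤ)
        ((m + 1 + 1 : ℕ) : ℤ) (by simp) (by simp)]
      refine (ShortComplex.exact_iff_exact_up_to_refinements _).2 ?_
      intro T x₂ hx₂
      have hx₂' : x₂ ≫ (FilD.grF A p).map (dseq X (m + 1)) = 0 := by
        rw [← resCx_d X (m + 1)]
        exact hx₂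
      obtain ⟨T', π, hπ, x₁, hx₁⟩ := dseq_gr_exact X m p x₂ hx₂'
      refine ⟨T', π, hπ, x₁, ?_⟩
      rw [← resCx_d X m] at hx₁
      exact hx₁

end Groth.Agent.Helper22.FilDResolve
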