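import Groth.Agent.Lib.Helper22.FilDPush
import Groth.Agent.Lib.Helper22.FilDResolve
import Mathlib.Algebra.Homology.HomotopyCategory.ShiftSequence

/-!
# Filtered injective resolutions of bounded below complexes of finite filtered objects

Helper library (helper22).
-/

set_option autoImplicit false
universe v u
open CategoryTheory CategoryTheory.Limits Opposite ZeroObject
open Groth.Agent.Helper22.FilDCore Groth.Agent.Helper22.FilDBiprod Groth.Agent.Helper22.FilDCoker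
open Groth.Agent.Helper22.FilDTruncGE Groth.Agent.Helper22.FilDPush
open Groth.Agent.Helper22.FilDResolve Groth.Agent.Helper22.OfSeq

namespace Groth.Agent.Helper22.FilDResCx

variable {A : Type u} [Category.{v} A] [Abelian A] [EnoughInjectives A]

lemma uof_gr (Y : FilD.FilF A) (p : ℤ) : Mono ((FilD.grF A p).map (uof Y)) :=
  gr_mono (uof Y) (uof_strict Y) (uof_mono Y) p

variable (K : CochainComplex (FilD.FilF A) ℤ)

/-- The data of the inductive construction in degree `k`. -/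
structure Stage (k : ℕ) where
  /-- the pushout object -/
  B : FilD.FilF A
  /-- the inclusion -/
  β : K.X (k : ℤ) ⟶ B
  /-- the induced differential -/
  δ : B ⟶ K.X ((k + 1 : ℕ) : ℤ)
  β_gr : ∀ p : ℤ, Mono ((FilD.grF A p).map β)
  β_δ : β ≫ δ = K.d (k : ℤ) ((k + 1 : ℕ) : ℤ)
  δ_d : δ ≫ K.d ((k + 1 : ℕ) : ℤ) ((k + 1 + 1 : ℕ) : ℤ) = 0
  im_δ : ∀ (p : ℤ) ⦃T : A⦄ (b : T ⟶ (FilD.grF A p).obj B),
    ∃ (T' : A) (π : T' ⟶ T) (_ : Epi π) (x : T' ⟶ (FilD.grF A p).obj (K.X (k : ℤ))),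
      π ≫ b ≫ (FilD.grF A p).map δ = x ≫ (FilD.grF A p).map (K.d (k : ℤ) ((k + 1 : ℕ) : ℤ))

/-- The initial stage. -/
noncomputable def stage0 : Stage K 0 where
  B := K.X ((0 : ℕ) : ℤ)
  β := 𝟙 _
  δ := K.d ((0 : ℕ) : ℤ) ((0 + 1 : ℕ) : ℤ)
  β_gr p := by
    rw [CategoryTheory.Functor.map_id]
    infer_instance
  β_δ := Category.id_comp _
  δ_d := K.d_comp_d _ _ _
  im_δ p T b := ⟨T, 𝟙 T, inferInstance, b, Category.id_comp _⟩

variable {K}

lemma step_cond {k : ℕ} (s : Stage K k) :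
    uof s.B ≫ (0 : Iof s.B ⟶ K.X ((k + 1 + 1 : ℕ) : ℤ)) +
      (-s.δ) ≫ K.d ((k + 1 : ℕ) : ℤ) ((k + 1 + 1 : ℕ) : ℤ) = 0 := by
  rw [comp_zero, zero_add, Preadditive.neg_comp, s.δ_d, neg_zero]

/-- The inductive step. -/
noncomputable def Step {k : ℕ} (s : Stage K k) : Stage K (k + 1) where
  B := PO (uof s.B) (-s.δ) (uof_gr s.B)
  β := poInr (uof s.B) (-s.δ) (uof_gr s.B)
  δ := poDesc (uof s.B) (-s.δ) (uof_gr s.B) 0 (K.d ((k + 1 : ℕ) : ℤ) ((k + 1 + 1 : ℕ) : ℤ))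
    (step_cond s)
  β_gr p := poInr_grMono _ _ _ p
  β_δ := poInr_desc _ _ _ _ _ _
  δ_d := by
    apply po_hom_ext
    · rw [← Category.assoc, poInl_desc, zero_comp, comp_zero]
    · rw [← Category.assoc, poInr_desc, K.d_comp_d, comp_zero]
  im_δ p T b := by
    obtain ⟨T', π, hπ, y, x, hb⟩ := gr_po_epi (uof s.B) (-s.δ) (uof_gr s.B) p b
    refine ⟨T', π, hπ, x, ?_⟩
    rw [← Category.assoc, hb, Preadditive.add_comp, Category.assoc, Category.assoc,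
      ← CategoryTheory.Functor.map_comp, ← CategoryTheory.Functor.map_comp, poInl_desc,
      poInr_desc, Functor.map_zero, comp_zero, zero_add]

variable (K)

/-- The stages of the construction. -/
noncomputable def stage : ∀ k : ℕ, Stage K k
  | 0 => stage0 K
  | k + 1 => Step (stage k)

/-- The pushout objects. -/
noncomputable def Bs (k : ℕ) : FilD.FilF A := (stage K k).B

/-- The terms of the resolution. -/
noncomputable abbrev Is (k : ℕ) : FilD.FilF A := Iof (Bs K k)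

/-- The chosen embeddings. -/
noncomputable def js (k : ℕ) : Bs K k ⟶ Is K k := uof (Bs K k)

lemma js_gr (k : ℕ) (p : ℤ) : Mono ((FilD.grF A p).map (js K k)) := uof_gr _ p

/-- The inclusions `Kᵏ ⟶ Bᵏ`. -/
noncomputable def βS (k : ℕ) : K.X (k : ℤ) ⟶ Bs K k := (stage K k).β

/-- The maps `Bᵏ ⟶ Kᵏ⁺¹`. -/
noncomputable def δS (k : ℕ) : Bs K k ⟶ K.X ((k + 1 : ℕ) : ℤ) := (stage K k).δ

/-- The pushout inclusions `Iᵏ ⟶ Bᵏ⁺¹`. -/
noncomputable def inlS (k : ℕ) : Is K k ⟶ Bs K (k + 1) :=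
  poInl (uof (stage K k).B) (-(stage K k).δ) (uof_gr (stage K k).B)

/-- The pushout inclusions `Kᵏ⁺¹ ⟶ Bᵏ⁺¹`. -/
noncomputable def inrS (k : ℕ) : K.X ((k + 1 : ℕ) : ℤ) ⟶ Bs K (k + 1) :=
  poInr (uof (stage K k).B) (-(stage K k).δ) (uof_gr (stage K k).B)

lemma βS_gr (k : ℕ) (p : ℤ) : Mono ((FilD.grF A p).map (βS K k)) := (stage K k).β_gr p

lemma βS_δS (k : ℕ) : βS K k ≫ δS K k = K.d (k : ℤ) ((k + 1 : ℕ) : ℤ) := (stage K k).β_δ

lemma δS_d (k : ℕ) : δS K k ≫ K.d ((k + 1 : ℕ) : ℤ) ((k + 1 + 1 : ℕ) : ℤ) = 0 := (stage K k).δ_d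

lemma im_δS (k : ℕ) (p : ℤ) ⦃T : A⦄ (b : T ⟶ (FilD.grF A p).obj (Bs K k)) :
    ∃ (T' : A) (π : T' ⟶ T) (_ : Epi π) (x : T' ⟶ (FilD.grF A p).obj (K.X (k : ℤ))),
      π ≫ b ≫ (FilD.grF A p).map (δS K k) =
        x ≫ (FilD.grF A p).map (K.d (k : ℤ) ((k + 1 : ℕ) : ℤ)) := (stage K k).im_δ p b

lemma βS_succ (k : ℕ) : βS K (k + 1) = inrS K k := rfl

lemma βS_zero_epi (p : ℤ) : Epi ((FilD.grF A p).map (βS K 0)) := by
  show Epi ((FilD.grF A p).map (𝟙 (K.X ((0 : ℕ) : ℤ))))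
  rw [CategoryTheory.Functor.map_id]
  infer_instance

lemma rel (k : ℕ) : js K k ≫ inlS K k = δS K k ≫ inrS K k := by
  have h : js K k ≫ inlS K k + (-(δS K k)) ≫ inrS K k = 0 :=
    po_rel (uof (stage K k).B) (-(stage K k).δ) (uof_gr (stage K k).B)
  rw [Preadditive.neg_comp, ← sub_eq_add_neg, sub_eq_zero] at h
  exact h

lemma inlS_δS (k : ℕ) : inlS K k ≫ δS K (k + 1) = 0 :=
  poInl_desc (uof (stage K k).B) (-(stage K k).δ) (uof_gr (stage K k).B) 0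
    (K.d ((k + 1 : ℕ) : ℤ) ((k + 1 + 1 : ℕ) : ℤ)) (step_cond (stage K k))

lemma inrS_δS (k : ℕ) :
    inrS K k ≫ δS K (k + 1) = K.d ((k + 1 : ℕ) : ℤ) ((k + 1 + 1 : ℕ) : ℤ) :=
  poInr_desc (uof (stage K k).B) (-(stage K k).δ) (uof_gr (stage K k).B) 0
    (K.d ((k + 1 : ℕ) : ℤ) ((k + 1 + 1 : ℕ) : ℤ)) (step_cond (stage K k))

lemma gr_epi (k : ℕ) (p : ℤ) ⦃T : A⦄ (b : T ⟶ (FilD.grF A p).obj (Bs K (k + 1))) :
    ∃ (T' : A) (π : T' ⟶ T) (_ : Epi π) (y : T' ⟶ (FilD.grF A p).obj (Is K k))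
      (x : T' ⟶ (FilD.grF A p).obj (K.X ((k + 1 : ℕ) : ℤ))),
      π ≫ b = y ≫ (FilD.grF A p).map (inlS K k) + x ≫ (FilD.grF A p).map (inrS K k) :=
  gr_po_epi (uof (stage K k).B) (-(stage K k).δ) (uof_gr (stage K k).B) p b

lemma gr_exact' (k : ℕ) (p : ℤ) ⦃T : A⦄ (y : T ⟶ (FilD.grF A p).obj (Is K k))
    (x : T ⟶ (FilD.grF A p).obj (K.X ((k + 1 : ℕ) : ℤ)))
    (h : y ≫ (FilD.grF A p).map (inlS K k) + x ≫ (FilD.grF A p).map (inrS K k) = 0) :
    ∃ (T' : A) (π : T' ⟶ T) (_ : Epi π) (b : T' ⟶ (FilD.grF A p).obj (Bs K k)),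
      π ≫ y = b ≫ (FilD.grF A p).map (js K k) ∧
        π ≫ x = -(b ≫ (FilD.grF A p).map (δS K k)) := by
  obtain ⟨T', π, hπ, b, hb1, hb2⟩ :=
    gr_po_exact (uof (stage K k).B) (-(stage K k).δ) (uof_gr (stage K k).B) p y x h
  refine ⟨T', π, hπ, b, hb1, ?_⟩
  rw [hb2, Functor.map_neg, Preadditive.comp_neg]
  rfl

/-- The components of the resolution map. -/
noncomputable def φs (k : ℕ) : K.X (k : ℤ) ⟶ Is K k := βS K k ≫ js K k

/-- The differentials of the resolution. -/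
noncomputable def ds (k : ℕ) : Is K k ⟶ Is K (k + 1) := inlS K k ≫ js K (k + 1)

lemma ds_comp (k : ℕ) : ds K k ≫ ds K (k + 1) = 0 := by
  unfold ds
  rw [Category.assoc, ← Category.assoc (js K (k + 1)), rel, Category.assoc,
    ← Category.assoc (inlS K k), inlS_δS, zero_comp]

lemma φs_ds (k : ℕ) : φs K k ≫ ds K k = K.d (k : ℤ) ((k + 1 : ℕ) : ℤ) ≫ φs K (k + 1) := by
  unfold φs ds
  rw [Category.assoc, ← Category.assoc (js K k), rel, Category.assoc, ← Category.assoc (βS K k),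
    βS_δS, βS_succ]

lemma φs_gr (k : ℕ) (p : ℤ) : Mono ((FilD.grF A p).map (φs K k)) := by
  unfold φs
  rw [CategoryTheory.Functor.map_comp]
  have := βS_gr K k p
  have := js_gr K k p
  exact mono_comp _ _

lemma gr_φs_succ (k : ℕ) (p : ℤ) : (FilD.grF A p).map (φs K (k + 1)) =
    (FilD.grF A p).map (inrS K k) ≫ (FilD.grF A p).map (js K (k + 1)) := by
  unfold φs
  rw [CategoryTheory.Functor.map_comp, βS_succ]

lemma gr_ds (k : ℕ) (p : ℤ) : (FilD.grF A p).map (ds K k) =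
    (FilD.grF A p).map (inlS K k) ≫ (FilD.grF A p).map (js K (k + 1)) := by
  unfold ds
  rw [CategoryTheory.Functor.map_comp]

lemma mono_succ (k : ℕ) (p : ℤ) ⦃T : A⦄ (x₂ : T ⟶ (FilD.grF A p).obj (K.X ((k + 1 : ℕ) : ℤ)))
    (y₁ : T ⟶ (FilD.grF A p).obj (Is K k))
    (h : x₂ ≫ (FilD.grF A p).map (φs K (k + 1)) = y₁ ≫ (FilD.grF A p).map (ds K k)) :
    ∃ (T' : A) (π : T' ⟶ T) (_ : Epi π) (x₁ : T' ⟶ (FilD.grF A p).obj (K.X (k : ℤ))),
      π ≫ x₂ = x₁ ≫ (FilD.grF A p).map (K.d (k : ℤ) ((k + 1 : ℕ) : ℤ)) := by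
  have hm := js_gr K (k + 1) p
  have h0 : (-y₁) ≫ (FilD.grF A p).map (inlS K k) + x₂ ≫ (FilD.grF A p).map (inrS K k) = 0 := by
    rw [← cancel_mono ((FilD.grF A p).map (js K (k + 1))), zero_comp, Preadditive.add_comp,
      Preadditive.neg_comp, Preadditive.neg_comp, Category.assoc, Category.assoc, ← gr_φs_succ,
      ← gr_ds, h, neg_add_cancel]
  obtain ⟨T₁, π₁, hπ₁, b, _, hb2⟩ := gr_exact' K k p (-y₁) x₂ h0
  obtain ⟨T₂, π₂, hπ₂, x, hx⟩ := im_δS K k p (-b)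
  refine ⟨T₂, π₂ ≫ π₁, epi_comp _ _, x, ?_⟩
  rw [← hx, Category.assoc, hb2, Preadditive.neg_comp]

lemma epi_succ (k : ℕ) (p : ℤ) ⦃T : A⦄ (y₂ : T ⟶ (FilD.grF A p).obj (Is K (k + 1)))
    (h : y₂ ≫ (FilD.grF A p).map (ds K (k + 1)) = 0) :
    ∃ (T' : A) (π : T' ⟶ T) (_ : Epi π)
      (x₂ : T' ⟶ (FilD.grF A p).obj (K.X ((k + 1 : ℕ) : ℤ)))
      (_ : x₂ ≫ (FilD.grF A p).map (K.d ((k + 1 : ℕ) : ℤ) ((k + 1 + 1 : ℕ) : ℤ)) = 0)
      (y₁ : T' ⟶ (FilD.grF A p).obj (Is K k)),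
      π ≫ y₂ = x₂ ≫ (FilD.grF A p).map (φs K (k + 1)) + y₁ ≫ (FilD.grF A p).map (ds K k) := by
  have hm := js_gr K (k + 1 + 1) p
  have h1 : y₂ ≫ (FilD.grF A p).map (inlS K (k + 1)) = 0 := by
    rw [← cancel_mono ((FilD.grF A p).map (js K (k + 1 + 1))), Category.assoc, ← gr_ds, h,
      zero_comp]
  have h0 : y₂ ≫ (FilD.grF A p).map (inlS K (k + 1)) +
      (0 : T ⟶ (FilD.grF A p).obj (K.X ((k + 1 + 1 : ℕ) : ℤ))) ≫
        (FilD.grF A p).map (inrS K (k + 1)) = 0 := by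
    rw [h1, zero_comp, add_zero]
  obtain ⟨T₁, π₁, hπ₁, b, hb1, hb2⟩ := gr_exact' K (k + 1) p y₂ 0 h0
  have hbδ : b ≫ (FilD.grF A p).map (δS K (k + 1)) = 0 := by
    rw [comp_zero] at hb2
    exact neg_eq_zero.1 hb2.symm
  obtain ⟨T₂, π₂, hπ₂, y', x, hyx⟩ := gr_epi K k p b
  have hcyc : x ≫ (FilD.grF A p).map (K.d ((k + 1 : ℕ) : ℤ) ((k + 1 + 1 : ℕ) : ℤ)) = 0 := by
    have e := congrArg (fun t => t ≫ (FilD.grF A p).map (δS K (k + 1))) hyx
    simp only [Category.assoc, Preadditive.add_comp, hbδ, comp_zero,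
      ← CategoryTheory.Functor.map_comp, inlS_δS, inrS_δS, Functor.map_zero, zero_add] at e
    exact e.symm
  refine ⟨T₂, π₂ ≫ π₁, epi_comp _ _, x, hcyc, y', ?_⟩
  rw [Category.assoc, hb1, ← Category.assoc, hyx, Preadditive.add_comp, Category.assoc,
    Category.assoc, ← gr_ds, ← gr_φs_succ]
  exact add_comm _ _

lemma epi_zero (p : ℤ) ⦃T : A⦄ (y₂ : T ⟶ (FilD.grF A p).obj (Is K 0))
    (h : y₂ ≫ (FilD.grF A p).map (ds K 0) = 0) :
    ∃ (T' : A) (π : T' ⟶ T) (_ : Epi π)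
      (x₂ : T' ⟶ (FilD.grF A p).obj (K.X ((0 : ℕ) : ℤ)))
      (_ : x₂ ≫ (FilD.grF A p).map (K.d ((0 : ℕ) : ℤ) ((0 + 1 : ℕ) : ℤ)) = 0),
      π ≫ y₂ = x₂ ≫ (FilD.grF A p).map (φs K 0) := by
  have hm := js_gr K (0 + 1) p
  have h1 : y₂ ≫ (FilD.grF A p).map (inlS K 0) = 0 := by
    rw [← cancel_mono ((FilD.grF A p).map (js K (0 + 1))), Category.assoc, ← gr_ds, h,
      zero_comp]
  have h0 : y₂ ≫ (FilD.grF A p).map (inlS K 0) +
      (0 : T ⟶ (FilD.grF A p).obj (K.X ((0 + 1 : ℕ) : ℤ))) ≫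
        (FilD.grF A p).map (inrS K 0) = 0 := by
    rw [h1, zero_comp, add_zero]
  obtain ⟨T₁, π₁, hπ₁, b, hb1, hb2⟩ := gr_exact' K 0 p y₂ 0 h0
  have hbδ : b ≫ (FilD.grF A p).map (δS K 0) = 0 := by
    rw [comp_zero] at hb2
    exact neg_eq_zero.1 hb2.symm
  have he := βS_zero_epi K p
  obtain ⟨T₂, π₂, hπ₂, x, hx⟩ :=
    surjective_up_to_refinements_of_epi ((FilD.grF A p).map (βS K 0)) b
  have hcyc : x ≫ (FilD.grF A p).map (K.d ((0 : ℕ) : ℤ) ((0 + 1 : ℕ) : ℤ)) = 0 := by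
    rw [← βS_δS, CategoryTheory.Functor.map_comp, ← Category.assoc, ← hx, Category.assoc, hbδ,
      comp_zero]
  refine ⟨T₂, π₂ ≫ π₁, epi_comp _ _, x, hcyc, ?_⟩
  unfold φs
  rw [Category.assoc, hb1, ← Category.assoc, hx, CategoryTheory.Functor.map_comp, Category.assoc]

/-- The resolution complex (for `K` concentrated in non-negative degrees). -/
noncomputable def resCx : CochainComplex (FilD.FilF A) ℤ := ofSeq (Is K) (ds K) (ds_comp K)

instance : (resCx K).IsStrictlyGE 0 :=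
  inferInstanceAs ((ofSeq (Is K) (ds K) (ds_comp K)).IsStrictlyGE 0)

lemma resCx_isZero (i : ℤ) (hi : i < 0) : IsZero ((resCx K).X i) := ofSeq_isZero _ _ _ i hi

lemma resCx_d (k : ℕ) : (resCx K).d (k : ℤ) ((k + 1 : ℕ) : ℤ) = ds K k := ofSeq_d _ _ _ k

lemma resCx_inj (n : ℤ) : FilD.IsFilteredInjective ((resCx K).X n) := by
  cases n with
  | ofNat k => exact Iof_inj (Bs K k)
  | negSucc k =>
    intro q
    exact (Functor.map_isZero (FilD.grF A q) (isZero_zero (FilD.FilF A))).injective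

/-- The components of the resolution map. -/
noncomputable def fZ : ∀ n : ℤ, K.X n ⟶ (resCx K).X n
  | Int.ofNat k => φs K k
  | Int.negSucc _ => 0

variable [K.IsStrictlyGE 0]

/-- The resolution map. -/
noncomputable def resMap : K ⟶ resCx K where
  f := fZ K
  comm' i j hij := by
    cases i with
    | ofNat k =>
      have h1 : Int.ofNat k + 1 = j := hij
      subst h1
      show φs K k ≫ (resCx K).d (k : ℤ) ((k + 1 : ℕ) : ℤ) =
        K.d (k : ℤ) ((k + 1 : ℕ) : ℤ) ≫ φs K (k + 1)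
      rw [resCx_d]
      exact φs_ds K k
    | negSucc m =>
      exact (K.isZero_of_isStrictlyGE 0 (Int.negSucc m) (Int.negSucc_lt_zero m)).eq_of_src _ _

lemma resMap_f_gr (n : ℤ) (p : ℤ) : Mono ((FilD.grF A p).map ((resMap K).f n)) := by
  cases n with
  | ofNat k => exact φs_gr K k p
  | negSucc m =>
    have hz : IsZero ((FilD.grF A p).obj (K.X (Int.negSucc m))) :=
      Functor.map_isZero _ (K.isZero_of_isStrictlyGE 0 _ (Int.negSucc_lt_zero m))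
    exact ⟨fun g h _ => hz.eq_of_tgt _ _⟩

lemma resMap_strict_mono (n : ℤ) :
    Mono ((resMap K).f n) ∧ FilD.IsStrict ((resMap K).f n) := by
  obtain ⟨h1, h2⟩ := strict_of_grMono _ (resMap_f_gr K n)
  exact ⟨mono_of_levels _ h2, h1⟩

theorem resMap_qis : FilD.IsFilteredQuasiIso (resMap K) := by
  intro p
  rw [quasiIso_iff]
  intro n
  by_cases hn : n < 0
  · have hsrc : ((FilD.grCx p).obj K).ExactAt n := by
      rw [HomologicalComplex.exactAt_iff]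
      apply ShortComplex.exact_of_isZero_X₂
      exact Functor.map_isZero (FilD.grF A p) (K.isZero_of_isStrictlyGE 0 n hn)
    rw [quasiIsoAt_iff_exactAt _ _ hsrc, HomologicalComplex.exactAt_iff]
    apply ShortComplex.exact_of_isZero_X₂
    exact Functor.map_isZero (FilD.grF A p) (resCx_isZero K n hn)
  · obtain ⟨k, rfl⟩ : ∃ k : ℕ, n = (k : ℤ) := ⟨n.toNat, by omega⟩
    rw [quasiIsoAt_iff_isIso_homologyMap]
    cases k with
    | zero =>
      have hmono : Mono (HomologicalComplex.homologyMap ((FilD.grCx p).map (resMap K))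
          ((0 : ℕ) : ℤ)) := by
        rw [HomologicalComplex.mono_homologyMap_iff_up_to_refinements _ (-1) ((0 : ℕ) : ℤ)
          ((0 + 1 : ℕ) : ℤ) (by simp) (by simp)]
        intro T (x₂ : T ⟶ (FilD.grF A p).obj (K.X ((0 : ℕ) : ℤ))) hx₂
          (y₁ : T ⟶ (FilD.grF A p).obj ((resCx K).X (-1))) hy₁
        have hy₁' : x₂ ≫ (FilD.grF A p).map (φs K 0) =
            y₁ ≫ (FilD.grF A p).map ((resCx K).d (-1) ((0 : ℕ) : ℤ)) := hy₁
        have hz : y₁ = 0 :=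
          (Functor.map_isZero (FilD.grF A p) (resCx_isZero K (-1) (by omega))).eq_of_tgt _ _
        rw [hz, zero_comp] at hy₁'
        have := φs_gr K 0 p
        have hx0 : x₂ = 0 :=
          (cancel_mono ((FilD.grF A p).map (φs K 0))).1 (hy₁'.trans zero_comp.symm)
        exact ⟨T, 𝟙 T, inferInstance, 0,
          (Category.id_comp x₂).trans (hx0.trans zero_comp.symm)⟩
      have hepi : Epi (HomologicalComplex.homologyMap ((FilD.grCx p).map (resMap K))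
          ((0 : ℕ) : ℤ)) := by
        rw [HomologicalComplex.epi_homologyMap_iff_up_to_refinements _ (-1) ((0 : ℕ) : ℤ)
          ((0 + 1 : ℕ) : ℤ) (by simp) (by simp)]
        intro T (y₂ : T ⟶ (FilD.grF A p).obj (Is K 0)) hy₂
        have hy₂' : y₂ ≫ (FilD.grF A p).map (ds K 0) = 0 := by
          rw [← resCx_d K 0]
          exact hy₂
        obtain ⟨T', π, hπ, x₂, hx₂, hfin⟩ := epi_zero K p y₂ hy₂'
        refine ⟨T', π, hπ, x₂, hx₂, 0, ?_⟩
        rw [zero_comp, add_zero]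
        exact hfin
      exact isIso_of_mono_of_epi _
    | succ k =>
      have hmono : Mono (HomologicalComplex.homologyMap ((FilD.grCx p).map (resMap K))
          ((k + 1 : ℕ) : ℤ)) := by
        rw [HomologicalComplex.mono_homologyMap_iff_up_to_refinements _ ((k : ℕ) : ℤ)
          ((k + 1 : ℕ) : ℤ) ((k + 1 + 1 : ℕ) : ℤ) (by simp) (by simp)]
        intro T (x₂ : T ⟶ (FilD.grF A p).obj (K.X ((k + 1 : ℕ) : ℤ))) hx₂
          (y₁ : T ⟶ (FilD.grF A p).obj (Is K k)) hy₁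
        have hy₁' : x₂ ≫ (FilD.grF A p).map (φs K (k + 1)) =
            y₁ ≫ (FilD.grF A p).map (ds K k) := by
          rw [← resCx_d K k]
          exact hy₁
        exact mono_succ K k p x₂ y₁ hy₁'
      have hepi : Epi (HomologicalComplex.homologyMap ((FilD.grCx p).map (resMap K))
          ((k + 1 : ℕ) : ℤ)) := by
        rw [HomologicalComplex.epi_homologyMap_iff_up_to_refinements _ ((k : ℕ) : ℤ)
          ((k + 1 : ℕ) : ℤ) ((k + 1 + 1 : ℕ) : ℤ) (by simp) (by simp)]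
        intro T (y₂ : T ⟶ (FilD.grF A p).obj (Is K (k + 1))) hy₂
        have hy₂' : y₂ ≫ (FilD.grF A p).map (ds K (k + 1)) = 0 := by
          rw [← resCx_d K (k + 1)]
          exact hy₂
        obtain ⟨T', π, hπ, x₂, hx₂, y₁, hfin⟩ := epi_succ K k p y₂ hy₂'
        refine ⟨T', π, hπ, x₂, hx₂, y₁, ?_⟩
        have e : ((FilD.grCx p).obj (resCx K)).d (k : ℤ) ((k + 1 : ℕ) : ℤ) =
            (FilD.grF A p).map (ds K k) :=
          congrArg (fun t : (resCx K).X (k : ℤ) ⟶ (resCx K).X ((k + 1 : ℕ) : ℤ) =>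
            (FilD.grF A p).map t) (resCx_d K k)
        rw [e]
        exact hfin
      exact isIso_of_mono_of_epi _

omit [K.IsStrictlyGE 0] in
/-- Filtered injective resolutions of bounded below complexes. -/
theorem general (a : ℤ) [K.IsStrictlyGE a] :
    ∃ (I : CochainComplex (FilD.FilF A) ℤ) (a' : ℤ) (φ : K ⟶ I), I.IsStrictlyGE a' ∧
      (∀ n, FilD.IsFilteredInjective (I.X n)) ∧ FilD.IsFilteredQuasiIso φ ∧
      ∀ n, Mono (φ.f n) ∧ FilD.IsStrict (φ.f n) := by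
  haveI : (K⟦a⟧).IsStrictlyGE 0 := CochainComplex.isStrictlyGE_shift K a a 0 (by omega)
  let e : K ≅ (K⟦a⟧)⟦-a⟧ :=
    (shiftFunctorCompIsoId (CochainComplex (FilD.FilF A) ℤ) a (-a) (by omega)).symm.app K
  haveI : ((resCx (K⟦a⟧))⟦-a⟧).IsStrictlyGE a :=
    CochainComplex.isStrictlyGE_shift (resCx (K⟦a⟧)) 0 (-a) a (by omega)
  refine ⟨(resCx (K⟦a⟧))⟦-a⟧, a, e.hom ≫ (resMap (K⟦a⟧))⟦-a⟧', inferInstance,
    fun n => resCx_inj (K⟦a⟧) (n + -a), ?_, ?_⟩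
  · intro p
    have hq : QuasiIso ((FilD.grCx p).map (resMap (K⟦a⟧))) := resMap_qis (K⟦a⟧) p
    have h4 : QuasiIso (((FilD.grCx p).map (resMap (K⟦a⟧)))⟦-a⟧') := inferInstance
    have h5 : QuasiIso (((FilD.grF A p).mapCochainComplexShiftIso (-a)).hom.app (K⟦a⟧) ≫
        ((FilD.grCx p).map (resMap (K⟦a⟧)))⟦-a⟧') := inferInstance
    have nat : (FilD.grCx p).map ((resMap (K⟦a⟧))⟦-a⟧') ≫
        ((FilD.grF A p).mapCochainComplexShiftIso (-a)).hom.app (resCx (K⟦a⟧)) =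
        ((FilD.grF A p).mapCochainComplexShiftIso (-a)).hom.app (K⟦a⟧) ≫
          ((FilD.grCx p).map (resMap (K⟦a⟧)))⟦-a⟧' :=
      ((FilD.grF A p).mapCochainComplexShiftIso (-a)).hom.naturality (resMap (K⟦a⟧))
    have h3 : QuasiIso ((FilD.grCx p).map ((resMap (K⟦a⟧))⟦-a⟧') ≫
        ((FilD.grF A p).mapCochainComplexShiftIso (-a)).hom.app (resCx (K⟦a⟧))) := by
      rw [nat]
      exact h5
    have hq2 : QuasiIso ((FilD.grCx p).map ((resMap (K⟦a⟧))⟦-a⟧')) :=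
      quasiIso_of_comp_right _
        (((FilD.grF A p).mapCochainComplexShiftIso (-a)).hom.app (resCx (K⟦a⟧)))
    rw [CategoryTheory.Functor.map_comp]
    infer_instance
  · intro n
    have hgr : ∀ q : ℤ, Mono ((FilD.grF A q).map ((e.hom ≫ (resMap (K⟦a⟧))⟦-a⟧').f n)) := by
      intro q
      have e1 : (e.hom ≫ (resMap (K⟦a⟧))⟦-a⟧').f n =
          e.hom.f n ≫ (resMap (K⟦a⟧)).f (n + -a) := rfl
      have hc : (FilD.grF A q).map ((e.hom ≫ (resMap (K⟦a⟧))⟦-a⟧').f n) =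
          (FilD.grF A q).map (e.hom.f n) ≫ (FilD.grF A q).map ((resMap (K⟦a⟧)).f (n + -a)) :=
        (FilD.grF A q).map_comp (e.hom.f n) ((resMap (K⟦a⟧)).f (n + -a))
      rw [hc]
      have hi : IsIso (e.hom.f n) := inferInstance
      have hm2 := resMap_f_gr (K⟦a⟧) (n + -a) q
      have hm1 : Mono ((FilD.grF A q).map (e.hom.f n)) := inferInstance
      exact mono_comp' hm1 hm2
    obtain ⟨h1, h2⟩ := strict_of_grMono _ hgr
    exact ⟨mono_of_levels _ h2, h1⟩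

end Groth.Agent.Helper22.FilDResCx
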