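import Groth.Agent.Lib.Helper22.FilDBiprod
import Groth.Agent.Lib.Helper22.FilDCoker
import Mathlib.Algebra.Homology.Embedding.CochainComplex
import Mathlib.Algebra.Homology.Refinements

/-!
# The canonical truncation `τ≥a` of a complex of finite filtered objects

Helper library (helper22): if `K.d (a-1) a` is strict, the truncation `τ≥a K` exists as a complex of
finite filtered objects, and `K ⟶ τ≥a K` is a filtered quasi-isomorphism when the graded pieces of `K`
are acyclic in degrees `< a`.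
-/

set_option autoImplicit false
universe v u
open CategoryTheory CategoryTheory.Limits Opposite
open Groth.Agent.Helper22.FilDCore Groth.Agent.Helper22.FilDBiprod Groth.Agent.Helper22.FilDCoker

namespace Groth.Agent.Helper22.FilDTruncGE

variable {A : Type u} [Category.{v} A] [Abelian A]

section General

/-- Left inclusion into the sum. -/
noncomputable def sInl (X Y : FilD.FilF A) : X ⟶ sum X Y := (bicone X Y).inl
/-- Right inclusion into the sum. -/
noncomputable def sInr (X Y : FilD.FilF A) : Y ⟶ sum X Y := (bicone X Y).inr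
/-- First projection from the sum. -/
noncomputable def sFst (X Y : FilD.FilF A) : sum X Y ⟶ X := (bicone X Y).fst
/-- Second projection from the sum. -/
noncomputable def sSnd (X Y : FilD.FilF A) : sum X Y ⟶ Y := (bicone X Y).snd

/-- Levelwise `biprod.desc`. -/
noncomputable def sumDesc {X Y Z : FilD.FilF A} (f : X ⟶ Z) (g : Y ⟶ Z) : sum X Y ⟶ Z :=
  ObjectProperty.homMk
    { app := fun P => biprod.desc (f.hom.app P) (g.hom.app P)
      naturality := fun P Q h => by
        apply biprod.hom_ext'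
        · show biprod.inl ≫ biprod.map (X.obj.map h) (Y.obj.map h) ≫ biprod.desc _ _ =
            biprod.inl ≫ biprod.desc _ _ ≫ Z.obj.map h
          rw [biprod.inl_map_assoc, biprod.inl_desc, biprod.inl_desc_assoc]
          exact f.hom.naturality h
        · show biprod.inr ≫ biprod.map (X.obj.map h) (Y.obj.map h) ≫ biprod.desc _ _ =
            biprod.inr ≫ biprod.desc _ _ ≫ Z.obj.map h
          rw [biprod.inr_map_assoc, biprod.inr_desc, biprod.inr_desc_assoc]
          exact g.hom.naturality h }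

/-- Levelwise `biprod.lift`. -/
noncomputable def sumLift {X Y Z : FilD.FilF A} (f : Z ⟶ X) (g : Z ⟶ Y) : Z ⟶ sum X Y :=
  ObjectProperty.homMk
    { app := fun P => biprod.lift (f.hom.app P) (g.hom.app P)
      naturality := fun P Q h => by
        apply biprod.hom_ext
        · show (Z.obj.map h ≫ biprod.lift _ _) ≫ biprod.fst =
            (biprod.lift _ _ ≫ biprod.map (X.obj.map h) (Y.obj.map h)) ≫ biprod.fst
          rw [Category.assoc, Category.assoc, biprod.lift_fst, biprod.map_fst,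
            biprod.lift_fst_assoc]
          exact f.hom.naturality h
        · show (Z.obj.map h ≫ biprod.lift _ _) ≫ biprod.snd =
            (biprod.lift _ _ ≫ biprod.map (X.obj.map h) (Y.obj.map h)) ≫ biprod.snd
          rw [Category.assoc, Category.assoc, biprod.lift_snd, biprod.map_snd,
            biprod.lift_snd_assoc]
          exact g.hom.naturality h }

lemma inl_sumDesc {X Y Z : FilD.FilF A} (f : X ⟶ Z) (g : Y ⟶ Z) :
    sInl X Y ≫ sumDesc f g = f := by
  apply ObjectProperty.hom_ext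
  apply NatTrans.ext
  funext P
  exact biprod.inl_desc _ _

lemma inr_sumDesc {X Y Z : FilD.FilF A} (f : X ⟶ Z) (g : Y ⟶ Z) :
    sInr X Y ≫ sumDesc f g = g := by
  apply ObjectProperty.hom_ext
  apply NatTrans.ext
  funext P
  exact biprod.inr_desc _ _

lemma sumLift_fst {X Y Z : FilD.FilF A} (f : Z ⟶ X) (g : Z ⟶ Y) :
    sumLift f g ≫ sFst X Y = f := by
  apply ObjectProperty.hom_ext
  apply NatTrans.ext
  funext P
  exact biprod.lift_fst _ _

lemma sumLift_snd {X Y Z : FilD.FilF A} (f : Z ⟶ X) (g : Z ⟶ Y) :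
    sumLift f g ≫ sSnd X Y = g := by
  apply ObjectProperty.hom_ext
  apply NatTrans.ext
  funext P
  exact biprod.lift_snd _ _

lemma sumDesc_zero {X Z : FilD.FilF A} (Y : FilD.FilF A) (f : X ⟶ Z) :
    sumDesc f (0 : Y ⟶ Z) = sFst X Y ≫ f := by
  apply ObjectProperty.hom_ext
  apply NatTrans.ext
  funext P
  show biprod.desc (f.hom.app P) 0 = biprod.fst ≫ f.hom.app P
  apply biprod.hom_ext' <;> simp

lemma sumLift_zero {X Z : FilD.FilF A} (Y : FilD.FilF A) (f : Z ⟶ X) :
    sumLift f (0 : Z ⟶ Y) = f ≫ sInl X Y := by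
  apply ObjectProperty.hom_ext
  apply NatTrans.ext
  funext P
  show biprod.lift (f.hom.app P) 0 = f.hom.app P ≫ biprod.inl
  apply biprod.hom_ext <;> simp

lemma sum_hom_ext {X Y Z : FilD.FilF A} {f g : sum X Y ⟶ Z}
    (h1 : sInl X Y ≫ f = sInl X Y ≫ g) (h2 : sInr X Y ≫ f = sInr X Y ≫ g) : f = g := by
  apply ObjectProperty.hom_ext
  apply NatTrans.ext
  funext P
  apply biprod.hom_ext'
  · exact congrArg (fun t => t.hom.app P) h1
  · exact congrArg (fun t => t.hom.app P) h2

lemma sum_hom_ext' {X Y Z : FilD.FilF A} {f g : Z ⟶ sum X Y}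
    (h1 : f ≫ sFst X Y = g ≫ sFst X Y) (h2 : f ≫ sSnd X Y = g ≫ sSnd X Y) : f = g := by
  apply ObjectProperty.hom_ext
  apply NatTrans.ext
  funext P
  apply biprod.hom_ext
  · exact congrArg (fun t => t.hom.app P) h1
  · exact congrArg (fun t => t.hom.app P) h2

lemma strict_zero (X Z : FilD.FilF A) : FilD.IsStrict (0 : X ⟶ Z) := by
  rw [strict_iff]
  intro p q h T x y hxy
  have hm : Mono (Z.obj.map (homOfLE h).op) := Z.property.1 _
  have hy : y = 0 := by
    rw [← cancel_mono (Z.obj.map (homOfLE h).op), zero_comp, ← hxy]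
    exact comp_zero
  exact ⟨T, 𝟙 T, inferInstance, 0, by rw [hy, comp_zero, zero_comp]⟩

lemma strict_sumDesc_id {X Z : FilD.FilF A} (f : X ⟶ Z) :
    FilD.IsStrict (sumDesc f (𝟙 Z)) := by
  rw [strict_iff]
  intro p q h T x y hxy
  refine ⟨T, 𝟙 T, inferInstance, y ≫ biprod.inr, ?_⟩
  rw [Category.assoc, Category.id_comp]
  show y ≫ biprod.inr ≫ biprod.desc (f.hom.app (op q)) (𝟙 _) = y
  rw [biprod.inr_desc]
  exact Category.comp_id y

lemma strict_sumDesc_zero {X Z : FilD.FilF A} (Y : FilD.FilF A) (f : X ⟶ Z)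
    (hf : FilD.IsStrict f) : FilD.IsStrict (sumDesc f (0 : Y ⟶ Z)) := by
  rw [strict_iff]
  intro p q h T x y hxy
  have e : (biprod.fst : X.obj.obj (op p) ⊞ Y.obj.obj (op p) ⟶ _) ≫ f.hom.app (op p) =
      biprod.desc (f.hom.app (op p)) 0 := by
    apply biprod.hom_ext' <;> simp
  have hxy' : (x ≫ biprod.fst) ≫ f.hom.app (op p) = y ≫ Z.obj.map (homOfLE h).op := by
    rw [← hxy, Category.assoc, e]
    rfl
  obtain ⟨T', π, hπ, x', hx'⟩ := (strict_iff f).1 hf p q h (x ≫ biprod.fst) y hxy'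
  refine ⟨T', π, hπ, x' ≫ biprod.inl, ?_⟩
  rw [Category.assoc]
  show x' ≫ biprod.inl ≫ biprod.desc (f.hom.app (op q)) 0 = π ≫ y
  rw [biprod.inl_desc]
  exact hx'

lemma isZero_of_levels (X : FilD.FilF A) (h : ∀ P : ℤᵒᵖ, IsZero (X.obj.obj P)) : IsZero X := by
  rw [IsZero.iff_id_eq_zero]
  apply ObjectProperty.hom_ext
  apply NatTrans.ext
  funext P
  exact (h P).eq_of_src _ _

lemma cokerProj_epi {X Y : FilD.FilF A} (u : X ⟶ Y) (hu : FilD.IsStrict u) :
    Epi (cokerProj u hu) := by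
  constructor
  intro Z g h hgh
  apply ObjectProperty.hom_ext
  apply NatTrans.ext
  funext P
  have e : cokernel.π (u.hom.app P) ≫ g.hom.app P = cokernel.π (u.hom.app P) ≫ h.hom.app P :=
    congrArg (fun t => t.hom.app P) hgh
  exact (cancel_epi (cokernel.π (u.hom.app P))).1 e

end General

section Trunc

variable (K : CochainComplex (FilD.FilF A) ℤ) (a : ℤ)

/-- The first component of `θ`. -/
noncomputable def c₁ (n : ℤ) : K.X (n - 1) ⟶ K.X n := if n ≤ a then K.d (n - 1) n else 0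
/-- The second component of `θ`. -/
noncomputable def c₂ (n : ℤ) : K.X n ⟶ K.X n := if n < a then 𝟙 _ else 0

lemma c₁_of_le {n : ℤ} (h : n ≤ a) : c₁ K a n = K.d (n - 1) n := if_pos h
lemma c₁_of_not_le {n : ℤ} (h : ¬ n ≤ a) : c₁ K a n = 0 := if_neg h
lemma c₂_of_lt {n : ℤ} (h : n < a) : c₂ K a n = 𝟙 _ := if_pos h
lemma c₂_of_not_lt {n : ℤ} (h : ¬ n < a) : c₂ K a n = 0 := if_neg h

/-- The morphism whose cokernel is the truncation in degree `n`. -/
noncomputable def θ (n : ℤ) : sum (K.X (n - 1)) (K.X n) ⟶ K.X n := sumDesc (c₁ K a n) (c₂ K a n)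

lemma c₁_d (n m : ℤ) : c₁ K a n ≫ K.d n m = 0 := by
  unfold c₁
  split_ifs
  · exact K.d_comp_d _ _ _
  · exact zero_comp

variable (hd : FilD.IsStrict (K.d (a - 1) a))

include hd in
lemma θ_strict (n : ℤ) : FilD.IsStrict (θ K a n) := by
  unfold θ
  by_cases h : n < a
  · rw [c₂_of_lt K a h]
    exact strict_sumDesc_id _
  · rw [c₂_of_not_lt K a h]
    apply strict_sumDesc_zero
    by_cases h' : n ≤ a
    · have hna : n = a := by omega
      subst hna
      rw [c₁_of_le K _ h']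
      exact hd
    · rw [c₁_of_not_le K a h']
      exact strict_zero _ _

/-- The terms of the truncation. -/
@[reducible] noncomputable def LX (n : ℤ) : FilD.FilF A :=
  cokerObj (θ K a n) (θ_strict K a hd n)

/-- The projection onto the truncation. -/
noncomputable def Lπ (n : ℤ) : K.X n ⟶ LX K a hd n := cokerProj (θ K a n) (θ_strict K a hd n)

lemma Lπ_epi (n : ℤ) : Epi (Lπ K a hd n) := cokerProj_epi _ _

lemma θ_Lπ (n : ℤ) : θ K a n ≫ Lπ K a hd n = 0 := comp_cokerProj _ _

lemma c₁_Lπ (n : ℤ) : c₁ K a n ≫ Lπ K a hd n = 0 := by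
  have e : sInl (K.X (n - 1)) (K.X n) ≫ θ K a n = c₁ K a n := inl_sumDesc _ _
  rw [← e, Category.assoc, θ_Lπ, comp_zero]

lemma c₂_Lπ (n : ℤ) : c₂ K a n ≫ Lπ K a hd n = 0 := by
  have e : sInr (K.X (n - 1)) (K.X n) ≫ θ K a n = c₂ K a n := inr_sumDesc _ _
  rw [← e, Category.assoc, θ_Lπ, comp_zero]

lemma d_Lπ (n m : ℤ) (hn : n < a) : K.d n m ≫ Lπ K a hd m = 0 := by
  by_cases hnm : n + 1 = m
  · obtain rfl : n = m - 1 := by omega
    have h := c₁_Lπ K a hd m
    rwa [c₁_of_le K a (by omega)] at h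
  · rw [K.shape n m hnm, zero_comp]

lemma θ_d_Lπ (n m : ℤ) : θ K a n ≫ K.d n m ≫ Lπ K a hd m = 0 := by
  apply sum_hom_ext
  · have e : sInl (K.X (n - 1)) (K.X n) ≫ θ K a n = c₁ K a n := inl_sumDesc _ _
    rw [← Category.assoc, e, ← Category.assoc, c₁_d, zero_comp, comp_zero]
  · have e : sInr (K.X (n - 1)) (K.X n) ≫ θ K a n = c₂ K a n := inr_sumDesc _ _
    rw [← Category.assoc, e, comp_zero]
    by_cases h : n < a
    · rw [d_Lπ K a hd n m h, comp_zero]
    · rw [c₂_of_not_lt K a h, zero_comp]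

/-- The differential of the truncation. -/
noncomputable def Ld (n m : ℤ) : LX K a hd n ⟶ LX K a hd m :=
  cokerDesc (θ K a n) (θ_strict K a hd n) (K.d n m ≫ Lπ K a hd m) (θ_d_Lπ K a hd n m)

lemma Lπ_Ld (n m : ℤ) : Lπ K a hd n ≫ Ld K a hd n m = K.d n m ≫ Lπ K a hd m :=
  cokerProj_desc _ _ _ _

/-- The truncation `τ≥a K`. -/
noncomputable def truncCx : CochainComplex (FilD.FilF A) ℤ where
  X n := LX K a hd n
  d n m := Ld K a hd n m
  shape n m hnm := by
    have := Lπ_epi K a hd n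
    rw [← cancel_epi (Lπ K a hd n), Lπ_Ld, K.shape n m hnm, zero_comp, comp_zero]
  d_comp_d' n m k _ _ := by
    have := Lπ_epi K a hd n
    rw [← cancel_epi (Lπ K a hd n), ← Category.assoc, Lπ_Ld, Category.assoc, Lπ_Ld,
      ← Category.assoc, K.d_comp_d, zero_comp, comp_zero]

/-- The canonical map `K ⟶ τ≥a K`. -/
noncomputable def truncMap : K ⟶ truncCx K a hd where
  f n := Lπ K a hd n
  comm' n m _ := Lπ_Ld K a hd n m

lemma LX_isZero (n : ℤ) (hn : n < a) : IsZero (LX K a hd n) := by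
  apply isZero_of_levels
  intro P
  show IsZero (cokernel ((θ K a n).hom.app P))
  have hepi : Epi ((θ K a n).hom.app P) := by
    have e : biprod.inr ≫ (θ K a n).hom.app P = 𝟙 _ := by
      have h : biprod.inr ≫ (θ K a n).hom.app P = (c₂ K a n).hom.app P :=
        congrArg (fun t => t.hom.app P) (inr_sumDesc (c₁ K a n) (c₂ K a n))
      rw [c₂_of_lt K a hn] at h
      exact h
    exact epi_of_epi_fac e
  exact isZero_cokernel_of_epi _

instance truncCx_isStrictlyGE : (truncCx K a hd).IsStrictlyGE a := by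
  rw [CochainComplex.isStrictlyGE_iff]
  intro n hn
  exact LX_isZero K a hd n hn

section Qis

variable (p : ℤ)

lemma gr_Lπ_epi (n : ℤ) : Epi ((FilD.grF A p).map (Lπ K a hd n)) := gr_cokerProj_epi _ _ p

lemma ker_gr_Lπ (n : ℤ) (hn : ¬ n < a) ⦃T : A⦄ (w : T ⟶ (FilD.grF A p).obj (K.X n))
    (hw : w ≫ (FilD.grF A p).map (Lπ K a hd n) = 0) :
    ∃ (T' : A) (π : T' ⟶ T) (_ : Epi π) (z : T' ⟶ (FilD.grF A p).obj (K.X (n - 1))),
      π ≫ w = z ≫ (FilD.grF A p).map (c₁ K a n) := by
  obtain ⟨T', π, hπ, z, hz⟩ := gr_exact (θ K a n) (θ_strict K a hd n) p w hw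
  refine ⟨T', π, hπ, z ≫ (FilD.grF A p).map (sFst _ _), ?_⟩
  have e : θ K a n = sFst _ _ ≫ c₁ K a n := by
    unfold θ
    rw [c₂_of_not_lt K a hn]
    exact sumDesc_zero _ _
  rw [hz, e, CategoryTheory.Functor.map_comp, Category.assoc]

lemma gr_Lπ_mono (n : ℤ) (hn : a < n) : Mono ((FilD.grF A p).map (Lπ K a hd n)) := by
  apply Preadditive.mono_of_cancel_zero
  intro T w hw
  obtain ⟨T', π, hπ, z, hz⟩ := ker_gr_Lπ K a hd p n (by omega) w hw
  rw [c₁_of_not_le K a (by omega), Functor.map_zero, comp_zero] at hz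
  exact (cancel_epi π).1 (hz.trans comp_zero.symm)

end Qis

include hd in
lemma truncMap_qis (hK : ∀ (p n : ℤ), n < a → IsZero (((FilD.grCx p).obj K).homology n)) :
    FilD.IsFilteredQuasiIso (truncMap K a hd) := by
  intro p
  rw [quasiIso_iff]
  intro n
  by_cases hn : n < a
  · have hsrc : ((FilD.grCx p).obj K).ExactAt n :=
      (HomologicalComplex.exactAt_iff_isZero_homology _ _).2 (hK p n hn)
    rw [quasiIsoAt_iff_exactAt _ n hsrc, HomologicalComplex.exactAt_iff]
    apply ShortComplex.exact_of_isZero_X₂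
    exact Functor.map_isZero (FilD.grF A p) (LX_isZero K a hd n hn)
  · rw [quasiIsoAt_iff_isIso_homologyMap]
    have comm : ∀ i j : ℤ,
        (FilD.grF A p).map (Lπ K a hd i) ≫ (FilD.grF A p).map (Ld K a hd i j) =
          (FilD.grF A p).map (K.d i j) ≫ (FilD.grF A p).map (Lπ K a hd j) := by
      intro i j
      rw [← CategoryTheory.Functor.map_comp, ← CategoryTheory.Functor.map_comp, Lπ_Ld]
    have hmono : Mono (HomologicalComplex.homologyMap
        ((FilD.grCx p).map (truncMap K a hd)) n) := by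
      rw [HomologicalComplex.mono_homologyMap_iff_up_to_refinements _ (n - 1) n (n + 1)
        (by simp) (by simp)]
      intro T (x₂ : T ⟶ (FilD.grF A p).obj (K.X n)) hx₂
        (y₁ : T ⟶ (FilD.grF A p).obj (LX K a hd (n - 1))) hy₁
      have hy₁' : x₂ ≫ (FilD.grF A p).map (Lπ K a hd n) =
          y₁ ≫ (FilD.grF A p).map (Ld K a hd (n - 1) n) := hy₁
      have := gr_Lπ_epi K a hd p (n - 1)
      obtain ⟨T₁, π₁, hπ₁, x₁, hx₁⟩ := surjective_up_to_refinements_of_epi
        ((FilD.grF A p).map (Lπ K a hd (n - 1))) y₁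
      have hw : (π₁ ≫ x₂ - x₁ ≫ (FilD.grF A p).map (K.d (n - 1) n)) ≫
          (FilD.grF A p).map (Lπ K a hd n) = 0 := by
        rw [Preadditive.sub_comp]
        simp only [Category.assoc]
        rw [hy₁', ← comm (n - 1) n, ← Category.assoc π₁, hx₁, Category.assoc, sub_self]
      by_cases hna : n ≤ a
      · obtain ⟨T₂, π₂, hπ₂, z, hz⟩ := ker_gr_Lπ K a hd p n hn _ hw
        rw [c₁_of_le K a hna] at hz
        refine ⟨T₂, π₂ ≫ π₁, epi_comp _ _, π₂ ≫ x₁ + z, ?_⟩
        show (π₂ ≫ π₁) ≫ x₂ = (π₂ ≫ x₁ + z) ≫ (FilD.grF A p).map (K.d (n - 1) n)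
        rw [Preadditive.add_comp, ← hz, Preadditive.comp_sub]
        simp only [Category.assoc]
        exact (add_sub_cancel _ _).symm
      · have := gr_Lπ_mono K a hd p n (by omega)
        have h0 : π₁ ≫ x₂ - x₁ ≫ (FilD.grF A p).map (K.d (n - 1) n) = 0 := by
          rw [← cancel_mono ((FilD.grF A p).map (Lπ K a hd n)), hw, zero_comp]
        exact ⟨T₁, π₁, hπ₁, x₁, sub_eq_zero.1 h0⟩
    have hepi : Epi (HomologicalComplex.homologyMap
        ((FilD.grCx p).map (truncMap K a hd)) n) := by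
      rw [HomologicalComplex.epi_homologyMap_iff_up_to_refinements _ (n - 1) n (n + 1)
        (by simp) (by simp)]
      intro T (y₂ : T ⟶ (FilD.grF A p).obj (LX K a hd n)) hy₂
      have hy₂' : y₂ ≫ (FilD.grF A p).map (Ld K a hd n (n + 1)) = 0 := hy₂
      have := gr_Lπ_epi K a hd p n
      obtain ⟨T₁, π₁, hπ₁, x₂, hx₂⟩ := surjective_up_to_refinements_of_epi
        ((FilD.grF A p).map (Lπ K a hd n)) y₂
      have := gr_Lπ_mono K a hd p (n + 1) (by omega)
      have hx₂d : x₂ ≫ (FilD.grF A p).map (K.d n (n + 1)) = 0 := by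
        rw [← cancel_mono ((FilD.grF A p).map (Lπ K a hd (n + 1))), Category.assoc,
          ← comm n (n + 1), ← Category.assoc, ← hx₂, Category.assoc, hy₂', comp_zero, zero_comp]
      refine ⟨T₁, π₁, hπ₁, x₂, hx₂d, 0, ?_⟩
      rw [zero_comp, add_zero]
      exact hx₂
    exact isIso_of_mono_of_epi _

end Trunc

end Groth.Agent.Helper22.FilDTruncGE
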