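import Groth.Agent.Lib.Helper22.FilDTruncGE
import Groth.Agent.Lib.Helper22.FilDInj

/-!
# The canonical truncation `τ≤b` of a complex of finite filtered objects

Helper library (helper22): kernels of morphisms of finite filtered objects and their graded pieces;
if `K.d b (b+1)` is strict, `τ≤b K ⟶ K` is a filtered quasi-isomorphism when the graded pieces of
`K` are acyclic in degrees `> b`.
-/

set_option autoImplicit false
universe v u
open CategoryTheory CategoryTheory.Limits Opposite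
open Groth.Agent.Helper22.FilDCore Groth.Agent.Helper22.FilDBiprod Groth.Agent.Helper22.FilDCoker
open Groth.Agent.Helper22.FilDInj Groth.Agent.Helper22.FilDTruncGE

namespace Groth.Agent.Helper22.FilDTruncLE

variable {A : Type u} [Category.{v} A] [Abelian A]

section Ker

variable {X Y : FilD.FilF A} (u : X ⟶ Y)

/-- The kernel of a morphism of finite filtered objects. -/
@[reducible] noncomputable def kerObj : FilD.FilF A := ⟨kernel u.hom, isFinFil_kernel u⟩

/-- The inclusion of the kernel. -/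
noncomputable def kerInc : kerObj u ⟶ X := ObjectProperty.homMk (kernel.ι u.hom)

lemma kerInc_app (P : ℤᵒᵖ) : (kerInc u).hom.app P = (kernel.ι u.hom).app P := rfl

lemma kerInc_comp : kerInc u ≫ u = 0 := by
  apply ObjectProperty.hom_ext
  exact kernel.condition u.hom

/-- Morphisms into the kernel. -/
noncomputable def kerLift {Z : FilD.FilF A} (g : Z ⟶ X) (hg : g ≫ u = 0) : Z ⟶ kerObj u :=
  ObjectProperty.homMk (kernel.lift u.hom g.hom (congrArg (fun t => t.hom) hg))

lemma kerLift_inc {Z : FilD.FilF A} (g : Z ⟶ X) (hg : g ≫ u = 0) :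
    kerLift u g hg ≫ kerInc u = g := by
  apply ObjectProperty.hom_ext
  exact kernel.lift_ι _ _ _

lemma kerInc_mono : Mono (kerInc u) := by
  constructor
  intro Z g h hgh
  apply ObjectProperty.hom_ext
  have e : g.hom ≫ kernel.ι u.hom = h.hom ≫ kernel.ι u.hom := congrArg (fun t => t.hom) hgh
  exact (cancel_mono (kernel.ι u.hom)).1 e

lemma kerInc_strict : FilD.IsStrict (kerInc u) := by
  rw [strict_iff]
  intro p q h T x y hxy
  have hxy' : x ≫ (kernel.ι u.hom).app (op p) = y ≫ X.obj.map (homOfLE h).op := hxy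
  have hm : Mono (Y.obj.map (homOfLE h).op) := Y.property.1 _
  have hy : y ≫ u.hom.app (op q) = 0 := by
    rw [← cancel_mono (Y.obj.map (homOfLE h).op), Category.assoc, zero_comp,
      ← u.hom.naturality, ← Category.assoc, ← hxy', Category.assoc, kernel_ι_app_comp, comp_zero]
  obtain ⟨k, hk⟩ := exists_kernel_lift u.hom (op q) y hy
  refine ⟨T, 𝟙 T, inferInstance, k, ?_⟩
  rw [Category.id_comp]
  exact hk

lemma gr_kerInc_mono (p : ℤ) : Mono ((FilD.grF A p).map (kerInc u)) :=
  gr_mono (kerInc u) (kerInc_strict u) (fun q => kernel_ι_app_mono u.hom (op q)) p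

lemma gr_ker_exact (hu : FilD.IsStrict u) (p : ℤ) ⦃T : A⦄ (w : T ⟶ (FilD.grF A p).obj X)
    (hw : w ≫ (FilD.grF A p).map u = 0) :
    ∃ (T' : A) (π : T' ⟶ T) (_ : Epi π) (z : T' ⟶ (FilD.grF A p).obj (kerObj u)),
      π ≫ w = z ≫ (FilD.grF A p).map (kerInc u) := by
  have hw' : w ≫ (FilD.gr A p).map u.hom = 0 := hw
  obtain ⟨T₁, π₁, hπ₁, x, hx⟩ := surjective_up_to_refinements_of_epi (grπ X.obj p) w
  have e2 : grπ X.obj p ≫ (FilD.gr A p).map u.hom = u.hom.app (op p) ≫ grπ Y.obj p :=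
    grπ_map _ p
  have h1 : (x ≫ u.hom.app (op p)) ≫ grπ Y.obj p = 0 := by
    rw [Category.assoc, ← e2, ← Category.assoc, ← hx, Category.assoc, hw', comp_zero]
  have hm : Mono (Y.obj.map (FilD.stepHom p)) := Y.property.1 _
  obtain ⟨y', hy'⟩ := exists_lift_of_grπ_eq_zero Y.obj p _ h1
  obtain ⟨T₂, π₂, hπ₂, x', hx'⟩ := (strict_iff u).1 hu p (p + 1) (Int.le_add_one le_rfl) x y'
    hy'.symm
  have nat : X.obj.map (FilD.stepHom p) ≫ u.hom.app (op p) =
      u.hom.app (op (p + 1)) ≫ Y.obj.map (FilD.stepHom p) := u.hom.naturality _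
  have h2 : (π₂ ≫ x - x' ≫ X.obj.map (FilD.stepHom p)) ≫ u.hom.app (op p) = 0 := by
    rw [Preadditive.sub_comp, Category.assoc, Category.assoc, nat, ← Category.assoc x', hx',
      Category.assoc, hy', sub_self]
  obtain ⟨k, hk⟩ := exists_kernel_lift u.hom (op p) _ h2
  refine ⟨T₂, π₂ ≫ π₁, epi_comp _ _, k ≫ grπ (kerObj u).obj p, ?_⟩
  have e3 : grπ (kerObj u).obj p ≫ (FilD.gr A p).map (kerInc u).hom =
      (kernel.ι u.hom).app (op p) ≫ grπ X.obj p := grπ_map _ p
  show (π₂ ≫ π₁) ≫ w = (k ≫ grπ (kerObj u).obj p) ≫ (FilD.gr A p).map (kerInc u).hom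
  calc (π₂ ≫ π₁) ≫ w = π₂ ≫ (π₁ ≫ w) := Category.assoc _ _ _
    _ = π₂ ≫ x ≫ grπ X.obj p := by rw [hx]
    _ = (π₂ ≫ x - x' ≫ X.obj.map (FilD.stepHom p)) ≫ grπ X.obj p := by
        rw [Preadditive.sub_comp, Category.assoc, Category.assoc, step_grπ, comp_zero, sub_zero]
    _ = (k ≫ (kernel.ι u.hom).app (op p)) ≫ grπ X.obj p := by rw [hk]
    _ = (k ≫ grπ (kerObj u).obj p) ≫ (FilD.gr A p).map (kerInc u).hom := by
        rw [Category.assoc, ← e3, Category.assoc]

end Ker

section General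

lemma strict_sumLift_zero {X Z : FilD.FilF A} (Y : FilD.FilF A) (f : Z ⟶ X)
    (hf : FilD.IsStrict f) : FilD.IsStrict (sumLift f (0 : Z ⟶ Y)) := by
  rw [strict_iff]
  intro p q h T x y hxy
  have hxy' : x ≫ biprod.lift (f.hom.app (op p)) 0 =
      y ≫ biprod.map (X.obj.map (homOfLE h).op) (Y.obj.map (homOfLE h).op) := hxy
  have h1 : x ≫ f.hom.app (op p) = (y ≫ biprod.fst) ≫ X.obj.map (homOfLE h).op := by
    have := congrArg (fun t => t ≫ biprod.fst) hxy'
    simpa using this
  have hm : Mono (Y.obj.map (homOfLE h).op) := Y.property.1 _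
  have h2 : y ≫ biprod.snd = 0 := by
    rw [← cancel_mono (Y.obj.map (homOfLE h).op), zero_comp]
    have := congrArg (fun t => t ≫ biprod.snd) hxy'
    simpa using this.symm
  obtain ⟨T', π, hπ, x', hx'⟩ := (strict_iff f).1 hf p q h x (y ≫ biprod.fst) h1
  refine ⟨T', π, hπ, x', ?_⟩
  show x' ≫ biprod.lift (f.hom.app (op q)) 0 = π ≫ y
  apply biprod.hom_ext
  · rw [Category.assoc, biprod.lift_fst, hx', Category.assoc]
  · rw [Category.assoc, biprod.lift_snd, comp_zero, Category.assoc, h2, comp_zero]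

end General

section Trunc

variable (K : CochainComplex (FilD.FilF A) ℤ) (b : ℤ)

/-- The first component of `θ'`. -/
noncomputable def c₁ (n : ℤ) : K.X n ⟶ K.X (n + 1) := if b ≤ n then K.d n (n + 1) else 0
/-- The second component of `θ'`. -/
noncomputable def c₂ (n : ℤ) : K.X n ⟶ K.X n := if b < n then 𝟙 _ else 0

lemma c₁_of_le {n : ℤ} (h : b ≤ n) : c₁ K b n = K.d n (n + 1) := if_pos h
lemma c₁_of_not_le {n : ℤ} (h : ¬ b ≤ n) : c₁ K b n = 0 := if_neg h
lemma c₂_of_lt {n : ℤ} (h : b < n) : c₂ K b n = 𝟙 _ := if_pos h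
lemma c₂_of_not_lt {n : ℤ} (h : ¬ b < n) : c₂ K b n = 0 := if_neg h

/-- The morphism whose kernel is the truncation in degree `n`. -/
noncomputable def θ (n : ℤ) : K.X n ⟶ sum (K.X (n + 1)) (K.X n) := sumLift (c₁ K b n) (c₂ K b n)

lemma d_c₁ (n m : ℤ) : K.d n m ≫ c₁ K b m = 0 := by
  unfold c₁
  split_ifs
  · exact K.d_comp_d _ _ _
  · exact comp_zero

/-- The terms of the truncation. -/
@[reducible] noncomputable def MX (n : ℤ) : FilD.FilF A := kerObj (θ K b n)

/-- The inclusion of the truncation. -/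
noncomputable def Mι (n : ℤ) : MX K b n ⟶ K.X n := kerInc (θ K b n)

lemma Mι_mono (n : ℤ) : Mono (Mι K b n) := kerInc_mono _

lemma Mι_θ (n : ℤ) : Mι K b n ≫ θ K b n = 0 := kerInc_comp _

lemma Mι_c₁ (n : ℤ) : Mι K b n ≫ c₁ K b n = 0 := by
  have e : θ K b n ≫ sFst (K.X (n + 1)) (K.X n) = c₁ K b n := sumLift_fst _ _
  rw [← e, ← Category.assoc, Mι_θ, zero_comp]

lemma Mι_c₂ (n : ℤ) : Mι K b n ≫ c₂ K b n = 0 := by
  have e : θ K b n ≫ sSnd (K.X (n + 1)) (K.X n) = c₂ K b n := sumLift_snd _ _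
  rw [← e, ← Category.assoc, Mι_θ, zero_comp]

lemma Mι_d (n m : ℤ) (hm : b < m) : Mι K b n ≫ K.d n m = 0 := by
  by_cases hnm : n + 1 = m
  · obtain rfl : m = n + 1 := by omega
    have h := Mι_c₁ K b n
    rwa [c₁_of_le K b (by omega)] at h
  · rw [K.shape n m hnm, comp_zero]

lemma Mι_d_θ (n m : ℤ) : (Mι K b n ≫ K.d n m) ≫ θ K b m = 0 := by
  apply sum_hom_ext'
  · have e : θ K b m ≫ sFst (K.X (m + 1)) (K.X m) = c₁ K b m := sumLift_fst _ _
    rw [Category.assoc, Category.assoc, e, d_c₁, comp_zero, zero_comp]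
  · have e : θ K b m ≫ sSnd (K.X (m + 1)) (K.X m) = c₂ K b m := sumLift_snd _ _
    rw [Category.assoc, Category.assoc, e, zero_comp]
    by_cases h : b < m
    · rw [c₂_of_lt K b h, Category.comp_id, Mι_d K b n m h]
    · rw [c₂_of_not_lt K b h, comp_zero, comp_zero]

/-- The differential of the truncation. -/
noncomputable def Md (n m : ℤ) : MX K b n ⟶ MX K b m :=
  kerLift (θ K b m) (Mι K b n ≫ K.d n m) (Mι_d_θ K b n m)

lemma Md_Mι (n m : ℤ) : Md K b n m ≫ Mι K b m = Mι K b n ≫ K.d n m := kerLift_inc _ _ _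

/-- The truncation `τ≤b K`. -/
noncomputable def truncCx : CochainComplex (FilD.FilF A) ℤ where
  X n := MX K b n
  d n m := Md K b n m
  shape n m hnm := by
    have := Mι_mono K b m
    rw [← cancel_mono (Mι K b m), Md_Mι, K.shape n m hnm, zero_comp, comp_zero]
  d_comp_d' n m k _ _ := by
    have := Mι_mono K b k
    rw [← cancel_mono (Mι K b k), Category.assoc, Md_Mι, ← Category.assoc, Md_Mι,
      Category.assoc, K.d_comp_d, zero_comp, comp_zero]

/-- The canonical map `τ≤b K ⟶ K`. -/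
noncomputable def truncMap : truncCx K b ⟶ K where
  f n := Mι K b n
  comm' n m _ := (Md_Mι K b n m).symm

lemma MX_isZero (n : ℤ) (hn : b < n) : IsZero (MX K b n) := by
  apply isZero_of_levels
  intro P
  show IsZero ((kernel (θ K b n).hom).obj P)
  have hmono : Mono ((θ K b n).hom.app P) := by
    have e : (θ K b n).hom.app P ≫ biprod.snd = 𝟙 _ := by
      have h : (θ K b n).hom.app P ≫ biprod.snd = (c₂ K b n).hom.app P :=
        congrArg (fun t => t.hom.app P) (sumLift_snd (c₁ K b n) (c₂ K b n))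
      rw [c₂_of_lt K b hn] at h
      exact h
    exact mono_of_mono_fac e
  have h0 : (kernel.ι (θ K b n).hom).app P = 0 := by
    rw [← cancel_mono ((θ K b n).hom.app P), kernel_ι_app_comp, zero_comp]
  exact IsZero.of_mono_eq_zero _ h0

instance truncCx_isStrictlyLE : (truncCx K b).IsStrictlyLE b := by
  rw [CochainComplex.isStrictlyLE_iff]
  intro n hn
  exact MX_isZero K b n hn

variable (hd : FilD.IsStrict (K.d b (b + 1)))

include hd in
lemma θ_strict (n : ℤ) (hn : ¬ b < n) : FilD.IsStrict (θ K b n) := by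
  unfold θ
  rw [c₂_of_not_lt K b hn]
  apply strict_sumLift_zero
  by_cases h' : b ≤ n
  · have hna : n = b := by omega
    subst hna
    rw [c₁_of_le K _ h']
    exact hd
  · rw [c₁_of_not_le K b h']
    exact strict_zero _ _

section Qis

variable (p : ℤ)

lemma gr_Mι_mono (n : ℤ) : Mono ((FilD.grF A p).map (Mι K b n)) := gr_kerInc_mono _ p

include hd in
lemma im_gr_Mι (n : ℤ) (hn : ¬ b < n) ⦃T : A⦄ (w : T ⟶ (FilD.grF A p).obj (K.X n))
    (hw : w ≫ (FilD.grF A p).map (c₁ K b n) = 0) :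
    ∃ (T' : A) (π : T' ⟶ T) (_ : Epi π) (z : T' ⟶ (FilD.grF A p).obj (MX K b n)),
      π ≫ w = z ≫ (FilD.grF A p).map (Mι K b n) := by
  have e : θ K b n = c₁ K b n ≫ sInl _ _ := by
    unfold θ
    rw [c₂_of_not_lt K b hn]
    exact sumLift_zero _ _
  have hw' : w ≫ (FilD.grF A p).map (θ K b n) = 0 := by
    rw [e, CategoryTheory.Functor.map_comp, ← Category.assoc, hw, zero_comp]
  exact gr_ker_exact (θ K b n) (θ_strict K b hd n hn) p w hw'

include hd in
lemma gr_Mι_epi (n : ℤ) (hn : n < b) : Epi ((FilD.grF A p).map (Mι K b n)) := by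
  rw [epi_iff_surjective_up_to_refinements]
  intro T w
  have hw : w ≫ (FilD.grF A p).map (c₁ K b n) = 0 := by
    rw [c₁_of_not_le K b (by omega), Functor.map_zero, comp_zero]
  obtain ⟨T', π, hπ, z, hz⟩ := im_gr_Mι K b hd p n (by omega) w hw
  exact ⟨T', π, hπ, z, hz⟩

end Qis

include hd in
lemma truncMap_qis (hK : ∀ (p n : ℤ), b < n → IsZero (((FilD.grCx p).obj K).homology n)) :
    FilD.IsFilteredQuasiIso (truncMap K b) := by
  intro p
  rw [quasiIso_iff]
  intro n
  by_cases hn : b < n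
  · have hsrc : ((FilD.grCx p).obj (truncCx K b)).ExactAt n := by
      rw [HomologicalComplex.exactAt_iff]
      apply ShortComplex.exact_of_isZero_X₂
      exact Functor.map_isZero (FilD.grF A p) (MX_isZero K b n hn)
    rw [quasiIsoAt_iff_exactAt _ n hsrc]
    exact (HomologicalComplex.exactAt_iff_isZero_homology _ _).2 (hK p n hn)
  · rw [quasiIsoAt_iff_isIso_homologyMap]
    have comm : ∀ i j : ℤ,
        (FilD.grF A p).map (Md K b i j) ≫ (FilD.grF A p).map (Mι K b j) =
          (FilD.grF A p).map (Mι K b i) ≫ (FilD.grF A p).map (K.d i j) := by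
      intro i j
      rw [← CategoryTheory.Functor.map_comp, ← CategoryTheory.Functor.map_comp, Md_Mι]
    have hmono : Mono (HomologicalComplex.homologyMap
        ((FilD.grCx p).map (truncMap K b)) n) := by
      rw [HomologicalComplex.mono_homologyMap_iff_up_to_refinements _ (n - 1) n (n + 1)
        (by simp) (by simp)]
      intro T (x₂ : T ⟶ (FilD.grF A p).obj (MX K b n)) hx₂
        (y₁ : T ⟶ (FilD.grF A p).obj (K.X (n - 1))) hy₁
      have hy₁' : x₂ ≫ (FilD.grF A p).map (Mι K b n) =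
          y₁ ≫ (FilD.grF A p).map (K.d (n - 1) n) := hy₁
      have := gr_Mι_epi K b hd p (n - 1) (by omega)
      obtain ⟨T₁, π₁, hπ₁, x₁, hx₁⟩ := surjective_up_to_refinements_of_epi
        ((FilD.grF A p).map (Mι K b (n - 1))) y₁
      have := gr_Mι_mono K b p n
      refine ⟨T₁, π₁, hπ₁, x₁, ?_⟩
      show π₁ ≫ x₂ = x₁ ≫ (FilD.grF A p).map (Md K b (n - 1) n)
      rw [← cancel_mono ((FilD.grF A p).map (Mι K b n)), Category.assoc, hy₁',
        ← Category.assoc, hx₁, Category.assoc, Category.assoc, comm]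
    have hepi : Epi (HomologicalComplex.homologyMap
        ((FilD.grCx p).map (truncMap K b)) n) := by
      rw [HomologicalComplex.epi_homologyMap_iff_up_to_refinements _ (n - 1) n (n + 1)
        (by simp) (by simp)]
      intro T (y₂ : T ⟶ (FilD.grF A p).obj (K.X n)) hy₂
      have hy₂' : y₂ ≫ (FilD.grF A p).map (K.d n (n + 1)) = 0 := hy₂
      have hw : y₂ ≫ (FilD.grF A p).map (c₁ K b n) = 0 := by
        by_cases hbn : b ≤ n
        · rw [c₁_of_le K b hbn]
          exact hy₂'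
        · rw [c₁_of_not_le K b hbn, Functor.map_zero, comp_zero]
      obtain ⟨T₁, π₁, hπ₁, x₂, hx₂⟩ := im_gr_Mι K b hd p n hn y₂ hw
      have := gr_Mι_mono K b p (n + 1)
      have hx₂d : x₂ ≫ (FilD.grF A p).map (Md K b n (n + 1)) = 0 := by
        rw [← cancel_mono ((FilD.grF A p).map (Mι K b (n + 1))), Category.assoc, comm,
          ← Category.assoc, ← hx₂, Category.assoc, hy₂', comp_zero, zero_comp]
      refine ⟨T₁, π₁, hπ₁, x₂, hx₂d, 0, ?_⟩
      rw [zero_comp, add_zero]
      exact hx₂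
    exact isIso_of_mono_of_epi _

end Trunc

end Groth.Agent.Helper22.FilDTruncLE
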