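import Groth.Agent.Lib.Helper22.Fitting
import Groth.Agent.Lib.Helper22.FitSpan
import Mathlib.LinearAlgebra.TensorProduct.Pi
import Mathlib.LinearAlgebra.TensorProduct.RightExactness
import Mathlib.LinearAlgebra.TensorProduct.Submodule
import Mathlib.RingTheory.TensorProduct.Basic

/-!
# Fitting ideals commute with base change
-/

set_option autoImplicit false

universe u v

open TensorProduct Matrix

namespace Groth.Agent.Helper22.FitBase

open Groth.Agent.Helper22.FitCore

variable {R : Type u} {R' : Type u} [CommRing R] [CommRing R'] [Algebra R R']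
  {M : Type v} [AddCommGroup M] [Module R M]

theorem span_tmul {n : ℕ} (x : Fin n → M) (hx : Submodule.span R (Set.range x) = ⊤) :
    Submodule.span R' (Set.range fun i => (1 : R') ⊗ₜ[R] x i) = ⊤ := by
  have h1 := Submodule.baseChange_span (R := R) (A := R') (Set.range x)
  rw [hx, Submodule.baseChange_top] at h1
  rw [h1, ← Set.range_comp]
  rfl

/-- coefficientwise base change of a vector -/
def bc (n : ℕ) (r : Fin n → R) : Fin n → R' := fun i => algebraMap R R' (r i)

theorem Rel_baseChange {n : ℕ} (x : Fin n → M) (hx : Submodule.span R (Set.range x) = ⊤) :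
    Rel (R := R') (fun i => (1 : R') ⊗ₜ[R] x i) =
      Submodule.span R' (bc (R' := R') n '' (Rel (R := R) x : Set (Fin n → R))) := by
  classical
  apply le_antisymm
  · intro r' hr'
    rw [mem_Rel] at hr'
    set π : (Fin n → R) →ₗ[R] M := Fintype.linearCombination R x with hπ
    have hsurj : Function.Surjective π := by
      rw [← LinearMap.range_eq_top, hπ, Fintype.range_linearCombination, hx]
    have hex : Function.Exact (Rel (R := R) x).subtype π := LinearMap.exact_subtype_ker_map π
    set τ : R' ⊗[R] (Fin n → R) := ∑ i, r' i ⊗ₜ[R] (Pi.single i (1 : R)) with hτ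
    have h1 : LinearMap.lTensor R' π τ = 0 := by
      rw [hτ, map_sum, ← hr']
      apply Finset.sum_congr rfl
      intro i _
      rw [LinearMap.lTensor_tmul, hπ, Fintype.linearCombination_apply_single, one_smul,
        TensorProduct.smul_tmul', smul_eq_mul, mul_one]
    have hex' := lTensor_exact R' hex hsurj
    obtain ⟨σ, hσ⟩ := (hex' τ).1 h1
    set Φ := TensorProduct.piScalarRightHom R R' R' (Fin n) with hΦ
    have hΦτ : Φ τ = r' := by
      rw [hτ, map_sum]
      funext j
      simp [hΦ, Pi.single_apply]
    have key : ∀ σ : R' ⊗[R] (Rel (R := R) x),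
        Φ (LinearMap.lTensor R' (Rel (R := R) x).subtype σ) ∈
          Submodule.span R' (bc (R' := R') n '' (Rel (R := R) x : Set (Fin n → R))) := by
      intro σ
      induction σ using TensorProduct.induction_on with
      | zero => simp
      | tmul s ρ =>
        rw [LinearMap.lTensor_tmul, hΦ, piScalarRightHom_tmul]
        have : (fun j => ((Rel (R := R) x).subtype ρ) j • s) =
            s • bc (R' := R') n (ρ : Fin n → R) := by
          funext j
          simp [bc, Algebra.smul_def, mul_comm]
        rw [this]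
        exact Submodule.smul_mem _ _ (Submodule.subset_span ⟨ρ, ρ.2, rfl⟩)
      | add a b ha hb => rw [map_add, map_add]; exact Submodule.add_mem _ ha hb
    rw [← hΦτ, ← hσ]
    exact key σ
  · rw [Submodule.span_le]
    rintro _ ⟨r, hr, rfl⟩
    rw [SetLike.mem_coe, mem_Rel] at hr ⊢
    have : ∑ i, bc (R' := R') n r i • ((1 : R') ⊗ₜ[R] x i) = (1 : R') ⊗ₜ[R] (∑ i, r i • x i) := by
      rw [TensorProduct.tmul_sum]
      apply Finset.sum_congr rfl
      intro i _
      rw [bc, TensorProduct.smul_tmul', smul_eq_mul, mul_one, TensorProduct.tmul_smul,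
        TensorProduct.smul_tmul', Algebra.smul_def, mul_one]
    rw [this, hr, TensorProduct.tmul_zero]

theorem minor_bc {n p : ℕ} (z : Fin p → (Fin n → R)) (e : Fin p → Fin n) :
    minor (fun j => bc (R' := R') n (z j)) e = algebraMap R R' (minor z e) := by
  unfold minor
  rw [RingHom.map_det]
  congr 1

theorem Imin_baseChange {n : ℕ} (N : Submodule R (Fin n → R)) (k : ℕ) :
    Imin (Submodule.span R' (bc (R' := R') n '' (N : Set (Fin n → R)))) k =
      (Imin N k).map (algebraMap R R') := by
  rw [Imin_span]
  unfold Imin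
  rw [Ideal.map_span]
  congr 1
  ext d
  constructor
  · rintro ⟨z', e, hz', rfl⟩
    choose z hz hzz using hz'
    refine ⟨minor z e, ⟨z, e, hz, rfl⟩, ?_⟩
    rw [← minor_bc]
    congr 1
    funext j
    exact hzz j
  · rintro ⟨d0, ⟨z, e, hz, rfl⟩, rfl⟩
    exact ⟨fun j => bc n (z j), e, fun j => ⟨z j, hz j, rfl⟩, (minor_bc z e).symm⟩

/-- Fitting ideals commute with base change. -/
theorem ideal_baseChange [Module.Finite R M] (k : ℕ) :
    Fitt.ideal R' (R' ⊗[R] M) k = (Fitt.ideal R M k).map (algebraMap R R') := by
  obtain ⟨n, x, hx⟩ := Module.Finite.exists_fin (R := R) (M := M)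
  rw [Groth.Agent.Helper22.Fitting.ideal_eq_Imin x hx k,
    Groth.Agent.Helper22.Fitting.ideal_eq_Imin (fun i => (1 : R') ⊗ₜ[R] x i) (span_tmul x hx) k,
    Rel_baseChange x hx, Imin_baseChange]

end Groth.Agent.Helper22.FitBase
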