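import Groth.Agent.Lib.Helper22.FitPrincipal
import Groth.Agent.Lib.Helper22.FitBase
import Groth.Prelude.Def_BlowUp2
import Groth.Prelude.Def_FlatCA

/-!
# Fitting ideals of strict transforms in affine blow-up algebras
-/

set_option autoImplicit false

universe u v

open Matrix TensorProduct

namespace Groth.Agent.Helper22.FitBlow

open Groth.Agent.Helper22.FitCore Groth.Agent.Helper22.FitLocal Groth.Agent.Helper22.FitPrincipal

section General

variable {B : Type u} [CommRing B] {N : Type v} [AddCommGroup N] [Module B N]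

/-- If `Fit_k(N) = (f)` with `f` a nonzerodivisor, then the quotient of `N` by any submodule
containing the `f`-torsion has `Fit_k = ⊤`. -/
theorem ideal_quot_torsion_eq_top [Module.Finite B N] (k : ℕ) (f : B)
    (hnzd : ∀ y : B, f * y = 0 → y = 0)
    (hle : Fitt.ideal B N k ≤ Ideal.span {f}) (hmem : f ∈ Fitt.ideal B N k)
    (T : Submodule B N) (hT : ∀ y : N, f • y = 0 → y ∈ T) :
    Fitt.ideal B (N ⧸ T) k = ⊤ := by
  classical
  have hcancel : ∀ y y' : B, f * y = f * y' → y = y' := by
    intro y y' h
    have : f * (y - y') = 0 := by rw [mul_sub, h, sub_self]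
    exact sub_eq_zero.1 (hnzd _ this)
  obtain ⟨n, x, hx⟩ := Module.Finite.exists_fin (R := B) (M := N)
  set q := T.mkQ with hq
  have hqx : Submodule.span B (Set.range (fun i => q (x i))) = ⊤ := by
    rw [show (fun i => q (x i)) = q ∘ x from rfl, Set.range_comp, ← Submodule.map_span, hx,
      Submodule.map_top, hq, Submodule.range_mkQ]
  rw [Groth.Agent.Helper22.Fitting.ideal_eq_Imin (fun i => q (x i)) hqx k]
  rw [Groth.Agent.Helper22.Fitting.ideal_eq_Imin x hx k] at hle hmem
  have hmin : ∀ (z : Fin (n - k) → (Fin n → B)) (e : Fin (n - k) → Fin n),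
      (∀ b, z b ∈ Rel (R := B) x) → ∃ c, minor z e = f * c := by
    intro z e hz
    have h1 : minor z e ∈ Ideal.span {f} := hle (Ideal.subset_span ⟨z, e, hz, rfl⟩)
    obtain ⟨c, hc⟩ := Ideal.mem_span_singleton'.1 h1
    exact ⟨c, by rw [← hc, mul_comm]⟩
  -- key: the cofactor of a minor, raised to the power `n - k`, lies in the Fitting ideal
  have hkey : ∀ (z : Fin (n - k) → (Fin n → B)) (e : Fin (n - k) → Fin n),
      (∀ b, z b ∈ Rel (R := B) x) → ∀ bμ, minor z e = f * bμ →
      bμ ^ (n - k) ∈ Imin (Rel (R := B) (fun i => q (x i))) k := by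
    intro z e hz bμ hbμ
    choose c hc using fun (a₀ : Fin (n - k)) (i : Fin n) =>
      hmin z (Function.update e a₀ i) hz
    have hr : ∀ a₀, (fun i => c a₀ i) ∈ Rel (R := B) (fun i => q (x i)) := by
      intro a₀
      rw [mem_Rel]
      have h1 : f • ∑ i, c a₀ i • x i = 0 := by
        rw [Finset.smul_sum, ← minor_update_rel x z hz e a₀]
        apply Finset.sum_congr rfl
        intro i _
        rw [smul_smul, ← hc a₀ i]
      have h2 : ∑ i, c a₀ i • x i ∈ T := hT _ h1
      have h3 : q (∑ i, c a₀ i • x i) = 0 := by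
        rw [hq, Submodule.mkQ_apply, Submodule.Quotient.mk_eq_zero]; exact h2
      rw [map_sum] at h3
      rw [← h3]
      apply Finset.sum_congr rfl
      intro i _
      rw [map_smul]
    have hent : ∀ a b, c b (e a) = if a = b then bμ else 0 := by
      intro a b
      apply hcancel
      rw [← hc b (e a)]
      by_cases hab : a = b
      · subst hab
        rw [if_pos rfl, Function.update_eq_self, hbμ]
      · rw [if_neg hab, mul_zero]
        apply det_eq_zero_of_not_injective
        intro hinj
        have : Function.update e b (e a) a = Function.update e b (e a) b := by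
          rw [Function.update_self, Function.update_of_ne hab]
        exact hab (hinj this)
    have hdet : minor (fun a₀ i => c a₀ i) e = bμ ^ (n - k) := by
      unfold minor
      have hm : (Matrix.of fun a b => c b (e a)) = Matrix.diagonal (fun _ : Fin (n - k) => bμ) := by
        ext a b
        rw [Matrix.of_apply, hent a b, Matrix.diagonal_apply]
      rw [hm, Matrix.det_diagonal, Finset.prod_const, Finset.card_univ, Fintype.card_fin]
    exact Ideal.subset_span ⟨fun a₀ i => c a₀ i, e, hr, hdet.symm⟩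
  set S' : Set B := {bμ | ∃ (z : Fin (n - k) → (Fin n → B)) (e : Fin (n - k) → Fin n),
    (∀ b, z b ∈ Rel (R := B) x) ∧ minor z e = f * bμ} with hS'
  have hS'top : Ideal.span S' = ⊤ := by
    have h1 : Imin (Rel (R := B) x) k ≤ Ideal.span {f} * Ideal.span S' := by
      unfold Imin
      rw [Ideal.span_le]
      rintro _ ⟨z, e, hz, rfl⟩
      obtain ⟨bμ, hb⟩ := hmin z e hz
      change minor z e ∈ _
      rw [hb]
      exact Ideal.mul_mem_mul (Ideal.mem_span_singleton_self f)
        (Ideal.subset_span ⟨z, e, hz, hb⟩)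
    have h2 := h1 hmem
    rw [Ideal.mem_span_singleton_mul] at h2
    obtain ⟨t, ht, hft⟩ := h2
    have ht1 : t = 1 := hcancel _ _ (by rw [hft, mul_one])
    rw [Ideal.eq_top_iff_one, ← ht1]
    exact ht
  have hpow := Ideal.span_pow_eq_top S' hS'top (n - k)
  rw [eq_top_iff, ← hpow, Ideal.span_le]
  rintro _ ⟨bμ, ⟨z, e, hz, hb⟩, rfl⟩
  exact hkey z e hz bμ hb

end General

section Blow

variable {R : Type u} [CommRing R] (I : Ideal R) (a : R)
  {R₁ : Type u} [CommRing R₁] [Algebra R R₁] (e : R₁ ≃ₐ[R] ↥(BlowUp.affineAlgebra R I a))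

include e in
theorem nzd (y : R₁) (h : algebraMap R R₁ a * y = 0) : y = 0 := by
  have h1 : e (algebraMap R R₁ a * y) = 0 := by rw [h, map_zero]
  rw [map_mul, AlgEquiv.commutes] at h1
  have h2 : algebraMap R (Localization.Away a) a * ((e y : ↥(BlowUp.affineAlgebra R I a)) :
      Localization.Away a) = 0 := by
    have := congrArg (Subtype.val) h1
    simpa using this
  have hu : IsUnit (algebraMap R (Localization.Away a) a) :=
    IsLocalization.Away.algebraMap_isUnit a
  have h3 : ((e y : ↥(BlowUp.affineAlgebra R I a)) : Localization.Away a) = 0 :=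
    (hu.mul_right_eq_zero).1 h2
  have h4 : e y = 0 := Subtype.ext h3
  exact (map_eq_zero_iff e e.injective).1 h4

include e in
theorem exists_mul_eq {x : R} (hx : x ∈ I) : ∃ y : R₁, algebraMap R R₁ x = algebraMap R R₁ a * y := by
  set y' : ↥(BlowUp.affineAlgebra R I a) :=
    ⟨IsLocalization.mk' (Localization.Away a) x ⟨a, Submonoid.mem_powers a⟩,
      Algebra.subset_adjoin ⟨x, hx, rfl⟩⟩ with hy'
  refine ⟨e.symm y', ?_⟩
  apply e.injective
  rw [map_mul, AlgEquiv.commutes, AlgEquiv.commutes, AlgEquiv.apply_symm_apply]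
  apply Subtype.ext
  simp only [hy', Subalgebra.coe_algebraMap, Subalgebra.coe_mul]
  exact (IsLocalization.mk'_spec' (Localization.Away a) x ⟨a, Submonoid.mem_powers a⟩).symm

end Blow

section Main

variable {R : Type u} [CommRing R] (M : Type u) [AddCommGroup M] [Module R M] [Module.Finite R M]

theorem strictTransform_top (k : ℕ) (a : R) (ha : a ∈ Fitt.ideal R M k)
    (R₁ : Type u) [CommRing R₁] [Algebra R R₁]
    (e : R₁ ≃ₐ[R] ↥(BlowUp.affineAlgebra R (Fitt.ideal R M k) a)) :
    Fitt.ideal R₁ ((R₁ ⊗[R] M) ⧸ FlatCA.powTorsion R₁ (algebraMap R R₁ a) (R₁ ⊗[R] M)) k = ⊤ := by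
  apply ideal_quot_torsion_eq_top k (algebraMap R R₁ a) (nzd _ a e)
  · rw [Groth.Agent.Helper22.FitBase.ideal_baseChange, Ideal.map_le_iff_le_comap]
    intro x hx
    obtain ⟨y, hy⟩ := exists_mul_eq _ a e hx
    rw [Ideal.mem_comap, hy]
    exact Ideal.mul_mem_right _ _ (Ideal.mem_span_singleton_self _)
  · rw [Groth.Agent.Helper22.FitBase.ideal_baseChange]
    exact Ideal.mem_map_of_mem _ ha
  · intro y hy
    unfold FlatCA.powTorsion
    apply Submodule.mem_iSup_of_mem 1
    rw [Submodule.mem_torsionBy_iff, pow_one]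
    exact hy

end Main

end Groth.Agent.Helper22.FitBlow
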