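import Groth.Agent.Lib.Helper22.FitSplit2

/-!
# Fitting ideals of `M / M[f]` and the hypotheses of the splitting lemma
-/

set_option autoImplicit false

universe u v

open Matrix

namespace Groth.Agent.Helper22.FitSplit

open Groth.Agent.Helper22.FitCore Groth.Agent.Helper22.FitLocal Groth.Agent.Helper22.FitPrincipal

variable {R : Type u} [CommRing R] {n : ℕ}

section Mono

variable {M : Type v} [AddCommGroup M] [Module R M]

theorem Jdet_mono {ι : Type*} [Fintype ι] [DecidableEq ι] (N : Submodule R (ι → R)) {j j' : ℕ}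
    (h : j ≤ j') : Jdet N j ≤ Jdet N j' := by
  unfold Jdet
  apply Ideal.span_mono
  rintro d ⟨a, s, hs, ha, rfl⟩
  exact ⟨a, s, hs.trans h, ha, rfl⟩

theorem ideal_mono [Module.Finite R M] {j j' : ℕ} (h : j ≤ j') :
    Fitt.ideal R M j ≤ Fitt.ideal R M j' := by
  obtain ⟨n, x, hx⟩ := Module.Finite.exists_fin (R := R) (M := M)
  rw [Groth.Agent.Helper22.Fitting.ideal_eq_Jdet x hx, Groth.Agent.Helper22.Fitting.ideal_eq_Jdet x hx]
  exact Jdet_mono _ h

end Mono

section Hyp

variable {M : Type v} [AddCommGroup M] [Module R M] {f : R} {k : ℕ}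

theorem div_of_fit (x : Fin n → M) (hx : Submodule.span R (Set.range x) = ⊤)
    (hfit : Fitt.ideal R M k = Ideal.span {f}) : Div (Rel (R := R) x) f (n - k) := by
  intro z e hz
  have h1 : minor z e ∈ Imin (Rel (R := R) x) k := Ideal.subset_span ⟨z, e, hz, rfl⟩
  rw [← Groth.Agent.Helper22.Fitting.ideal_eq_Imin x hx k, hfit] at h1
  obtain ⟨t, ht⟩ := Ideal.mem_span_singleton'.1 h1
  exact ⟨t, ht.symm⟩

theorem vanish_of_fit (x : Fin n → M) (hx : Submodule.span R (Set.range x) = ⊤) (hkn : k ≤ n)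
    (hk : k = 0 ∨ Fitt.ideal R M (k - 1) = ⊥) : Vanish (Rel (R := R) x) (n - k) := by
  intro z' e' hz'
  rcases Nat.eq_zero_or_pos k with h0 | hpos
  · subst h0
    apply det_eq_zero_of_not_injective
    intro hinj
    have := Fintype.card_le_of_injective e' hinj
    simp at this
  · have hfit : Fitt.ideal R M (k - 1) = ⊥ := by
      rcases hk with h | h
      · omega
      · exact h
    have h1 : minor z' e' ∈ G (Rel (R := R) x) (n - k + 1) 0 :=
      det_mem_G _ _ _ z' e' ∅ (by simp) (fun b _ => hz' b)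
    have h2 : n - k + 1 = n - (k - 1) := by omega
    have h3 : G (Rel (R := R) x) (n - k + 1) 0 = ⊥ := by
      rw [h2, G_zero_eq_Imin, ← Groth.Agent.Helper22.Fitting.ideal_eq_Imin x hx (k - 1), hfit]
    rw [h3] at h1
    exact h1

/-- partition of unity by the cofactors `τ`. -/
theorem exists_partition (x : Fin n → M) (hx : Submodule.span R (Set.range x) = ⊤)
    (hf : f ∈ nonZeroDivisors R) (hfit : Fitt.ideal R M k = Ideal.span {f}) (m : ℕ) :
    ∃ (N : ℕ) (d : Fin N → Datum (Rel (R := R) x) f (n - k)) (c : Fin N → R),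
      ∑ i, c i * (d i).τ ^ m = 1 := by
  set S : Set R := {t | ∃ d : Datum (Rel (R := R) x) f (n - k), d.τ = t} with hS
  have hD := div_of_fit x hx hfit
  have hU : Ideal.span S = ⊤ := by
    have h1 : Imin (Rel (R := R) x) k ≤ Ideal.span S • Ideal.span {f} := by
      unfold Imin
      rw [Ideal.span_le]
      rintro _ ⟨z, e, hz, rfl⟩
      obtain ⟨t, ht⟩ := hD z e hz
      have hmem : minor z e ∈ Ideal.span S • Ideal.span {f} := by
        rw [ht]
        exact Submodule.smul_mem_smul (Ideal.subset_span ⟨⟨z, e, t, hz, ht⟩, rfl⟩)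
          (Ideal.mem_span_singleton_self f)
      exact hmem
    rw [← Groth.Agent.Helper22.Fitting.ideal_eq_Imin x hx k, hfit] at h1
    have h2 : f ∈ Ideal.span S • Ideal.span {f} := h1 (Ideal.mem_span_singleton_self f)
    rw [Submodule.mem_smul_span_singleton] at h2
    obtain ⟨t, ht, htf⟩ := h2
    have h3 : f * (t - 1) = 0 := by
      rw [mul_sub, mul_one, mul_comm]
      rw [smul_eq_mul] at htf
      rw [htf, sub_self]
    have h4 : t = 1 := sub_eq_zero.1 (nzd_cancel hf h3)
    rw [Ideal.eq_top_iff_one, ← h4]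
    exact ht
  have hU' := Ideal.span_pow_eq_top S hU m
  have h1 : (1 : R) ∈ Ideal.span ((fun x => x ^ m) '' S) := by rw [hU']; trivial
  rw [Ideal.span, Submodule.mem_span_set'] at h1
  obtain ⟨N, c, g, hg⟩ := h1
  have hg' : ∀ i, ∃ d : Datum (Rel (R := R) x) f (n - k), d.τ ^ m = (g i : R) := by
    intro i
    obtain ⟨t, ⟨d, hd⟩, ht⟩ := (g i).2
    exact ⟨d, by rw [hd]; exact ht⟩
  choose d hd using hg'
  refine ⟨N, d, c, ?_⟩
  rw [← hg]
  apply Finset.sum_congr rfl
  intro i _
  rw [hd i, smul_eq_mul]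

end Hyp

section Quot

variable {M : Type v} [AddCommGroup M] [Module R M] {f : R} {k : ℕ}

theorem mem_tors (m : M) :
    m ∈ LinearMap.ker (f • (LinearMap.id : M →ₗ[R] M)) ↔ f • m = 0 := by simp

theorem Rel_quot (x : Fin n → M) (r : Fin n → R) :
    r ∈ Rel (R := R) (fun i => (LinearMap.ker (f • (LinearMap.id : M →ₗ[R] M))).mkQ (x i)) ↔
      f • r ∈ Rel (R := R) x := by
  rw [mem_Rel, mem_Rel]
  have : ∑ i, r i • (LinearMap.ker (f • (LinearMap.id : M →ₗ[R] M))).mkQ (x i) =
      (LinearMap.ker (f • (LinearMap.id : M →ₗ[R] M))).mkQ (∑ i, r i • x i) := by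
    simp [map_sum]
  rw [this, Submodule.mkQ_apply, Submodule.Quotient.mk_eq_zero, mem_tors, Finset.smul_sum]
  simp [smul_smul]

theorem span_quot (x : Fin n → M) (hx : Submodule.span R (Set.range x) = ⊤) :
    Submodule.span R (Set.range
      (fun i => (LinearMap.ker (f • (LinearMap.id : M →ₗ[R] M))).mkQ (x i))) = ⊤ := by
  rw [show (fun i => (LinearMap.ker (f • (LinearMap.id : M →ₗ[R] M))).mkQ (x i)) =
    (LinearMap.ker (f • (LinearMap.id : M →ₗ[R] M))).mkQ ∘ x from rfl, Set.range_comp,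
    ← Submodule.map_span, hx, Submodule.map_top, Submodule.range_mkQ]

theorem tvec_minor {K : Submodule R (Fin n → R)} {p : ℕ} (hf : f ∈ nonZeroDivisors R)
    (hD : Div K f p) (d : Datum K f p) :
    minor (fun a => d.tvec hD a) d.e = d.τ ^ p := by
  classical
  have hent : ∀ a b, d.tvec hD b (d.e a) = if a = b then d.τ else 0 := by
    intro a b
    have h1 := congrFun (d.tvec_spec hD b) (d.e a)
    simp only [Pi.smul_apply, smul_eq_mul, Datum.rho] at h1
    by_cases hab : a = b
    · subst hab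
      rw [if_pos rfl]
      rw [Function.update_eq_self, d.hτ, mul_comm d.τ f] at h1
      have h2 : f * (d.tvec hD a (d.e a) - d.τ) = 0 := by rw [mul_sub, h1, sub_self]
      exact sub_eq_zero.1 (nzd_cancel hf h2)
    · rw [if_neg hab]
      have h0 : minor d.z (Function.update d.e b (d.e a)) = 0 := by
        apply det_eq_zero_of_not_injective
        intro hinj
        have : Function.update d.e b (d.e a) a = Function.update d.e b (d.e a) b := by
          rw [Function.update_self, Function.update_of_ne hab]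
        exact hab (hinj this)
      rw [h0] at h1
      exact nzd_cancel hf h1
  unfold minor
  have : (Matrix.of fun a b => d.tvec hD b (d.e a)) = d.τ • (1 : Matrix (Fin p) (Fin p) R) := by
    ext a b
    simp [hent, Matrix.one_apply]
  rw [this, det_smul, det_one, mul_one, Fintype.card_fin]

theorem fit_quot_top [Module.Finite R M] (x : Fin n → M)
    (hx : Submodule.span R (Set.range x) = ⊤) (hf : f ∈ nonZeroDivisors R)
    (hfit : Fitt.ideal R M k = Ideal.span {f}) (j : ℕ) (hj : k ≤ j) :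
    Fitt.ideal R (M ⧸ LinearMap.ker (f • (LinearMap.id : M →ₗ[R] M))) j = ⊤ := by
  apply top_le_iff.1
  refine le_trans ?_ (ideal_mono hj)
  rw [Groth.Agent.Helper22.Fitting.ideal_eq_Imin _ (span_quot x hx) k]
  have hD := div_of_fit x hx hfit
  obtain ⟨N, d, c, hc⟩ := exists_partition x hx hf hfit (n - k)
  rw [top_le_iff, Ideal.eq_top_iff_one, ← hc]
  refine Ideal.sum_mem _ fun i _ => Ideal.mul_mem_left _ _ ?_
  rw [← tvec_minor hf hD (d i)]
  refine Ideal.subset_span ⟨fun a => (d i).tvec hD a, (d i).e, fun a => ?_, rfl⟩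
  rw [Rel_quot, (d i).tvec_spec]
  exact (d i).rho_mem a

theorem fit_quot_bot [Module.Finite R M] (x : Fin n → M)
    (hx : Submodule.span R (Set.range x) = ⊤) (hkn : k ≤ n) (hf : f ∈ nonZeroDivisors R)
    (hk : k = 0 ∨ Fitt.ideal R M (k - 1) = ⊥) (j : ℕ) (hj : j < k) :
    Fitt.ideal R (M ⧸ LinearMap.ker (f • (LinearMap.id : M →ₗ[R] M))) j = ⊥ := by
  have hV := vanish_of_fit x hx hkn hk
  apply le_bot_iff.1
  refine le_trans (ideal_mono (show j ≤ k - 1 by omega)) ?_
  rw [Groth.Agent.Helper22.Fitting.ideal_eq_Imin _ (span_quot x hx) (k - 1), ← G_zero_eq_Imin]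
  have h2 : n - (k - 1) = n - k + 1 := by omega
  rw [h2]
  unfold G
  rw [Ideal.span_le]
  rintro _ ⟨z', e', s, hs, hz', rfl⟩
  have hs0 : s = ∅ := Finset.card_eq_zero.1 (Nat.le_zero.1 hs)
  subst hs0
  have hz'' : ∀ b, f • z' b ∈ Rel (R := R) x :=
    fun b => (Rel_quot x _).1 (hz' b (Finset.notMem_empty b))
  have h3 := hV (fun b => f • z' b) e' hz''
  have h4 : minor (fun b => f • z' b) e' = f ^ (n - k + 1) * minor z' e' := by
    unfold minor
    have : (Matrix.of fun a b => (f • z' b) (e' a)) = f • Matrix.of fun a b => z' b (e' a) := by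
      ext a b; simp
    rw [this, det_smul, Fintype.card_fin]
  rw [h4] at h3
  have h5 : minor z' e' = 0 := nzd_cancel (pow_mem hf _) h3
  have h6 : (Matrix.of fun a b => z' b (e' a)).det = 0 := h5
  rw [h6]
  exact Ideal.zero_mem _

end Quot

end Groth.Agent.Helper22.FitSplit
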