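import Groth.Agent.Lib.Helper22.FitBlow
import Groth.Agent.Lib.Helper22.FitSplit3
import Mathlib.RingTheory.Ideal.Colon
import Mathlib.RingTheory.Localization.AtPrime.Basic

/-!
# Strict transforms in affine blow-up algebras are locally free (Fitting ideal criterion)
-/

set_option autoImplicit false

universe u v

open Matrix TensorProduct

namespace Groth.Agent.Helper22.FitBlow2

open Groth.Agent.Helper22.FitCore Groth.Agent.Helper22.FitLocal Groth.Agent.Helper22.FitPrincipal

section General

variable {B : Type u} [CommRing B] {N : Type v} [AddCommGroup N] [Module B N]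

theorem nzd_pow {f : B} (hnzd : ∀ y : B, f * y = 0 → y = 0) (m : ℕ) :
    ∀ y : B, f ^ m * y = 0 → y = 0 := by
  induction m with
  | zero => intro y hy; simpa using hy
  | succ m ih =>
    intro y hy
    apply ih
    apply hnzd
    rw [← mul_assoc, ← pow_succ']
    exact hy

/-- If `Fit_j(N) = 0`, `f` is a nonzerodivisor and `T` consists of `f`-power torsion, then
`Fit_j(N/T) = 0`. -/
theorem ideal_quot_powTorsion_eq_bot [Module.Finite B N] (j : ℕ) (f : B)
    (hnzd : ∀ y : B, f * y = 0 → y = 0) (hbot : Fitt.ideal B N j = ⊥)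
    (T : Submodule B N) (hT : ∀ t ∈ T, ∃ m : ℕ, f ^ m • t = 0) :
    Fitt.ideal B (N ⧸ T) j = ⊥ := by
  classical
  obtain ⟨n, x, hx⟩ := Module.Finite.exists_fin (R := B) (M := N)
  set q := T.mkQ with hq
  have hqx : Submodule.span B (Set.range (fun i => q (x i))) = ⊤ := by
    rw [show (fun i => q (x i)) = q ∘ x from rfl, Set.range_comp, ← Submodule.map_span, hx,
      Submodule.map_top, hq, Submodule.range_mkQ]
  rw [Groth.Agent.Helper22.Fitting.ideal_eq_Imin (fun i => q (x i)) hqx j, eq_bot_iff]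
  rw [Groth.Agent.Helper22.Fitting.ideal_eq_Imin x hx j] at hbot
  unfold Imin
  rw [Ideal.span_le]
  rintro _ ⟨z, e, hz, rfl⟩
  have hex : ∀ b, ∃ m : ℕ, f ^ m • ∑ i, z b i • x i = 0 := by
    intro b
    apply hT
    have h1 := (mem_Rel _ _).1 (hz b)
    have h2 : q (∑ i, z b i • x i) = 0 := by
      rw [map_sum, ← h1]
      apply Finset.sum_congr rfl
      intro i _
      rw [map_smul]
    rwa [hq, Submodule.mkQ_apply, Submodule.Quotient.mk_eq_zero] at h2
  choose m hm using hex
  have hz' : ∀ b, (f ^ m b • z b) ∈ Rel (R := B) x := by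
    intro b
    rw [mem_Rel, ← hm b, Finset.smul_sum]
    apply Finset.sum_congr rfl
    intro i _
    rw [Pi.smul_apply, smul_eq_mul, mul_smul]
  have hmem : minor (fun b => f ^ m b • z b) e ∈ Imin (Rel (R := B) x) j :=
    Ideal.subset_span ⟨_, e, hz', rfl⟩
  rw [hbot, Ideal.mem_bot] at hmem
  have hscale : minor (fun b => f ^ m b • z b) e = (∏ b, f ^ m b) * minor z e := by
    unfold minor
    rw [← Matrix.det_mul_row]
    congr 1
  rw [hscale, Finset.prod_pow_eq_pow_sum] at hmem
  change minor z e ∈ (⊥ : Ideal B)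
  rw [Ideal.mem_bot]
  exact nzd_pow hnzd _ _ hmem

end General

section Rad

variable {R : Type u} [CommRing R] (M : Type u) [AddCommGroup M] [Module R M] [Module.Finite R M]

theorem exists_pow_mul_eq_zero (k j : ℕ) (hj : j < k)
    (hfree : ∀ (p : Ideal R) [p.IsPrime], ¬ Fitt.ideal R M k ≤ p →
      Module.Free (Localization.AtPrime p) (LocalizedModule p.primeCompl M) ∧
        Module.finrank (Localization.AtPrime p) (LocalizedModule p.primeCompl M) = k)
    (a : R) (ha : a ∈ Fitt.ideal R M k) (x : R) (hx : x ∈ Fitt.ideal R M j) :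
    ∃ m : ℕ, a ^ m * x = 0 := by
  set J : Ideal R := Submodule.colon (⊥ : Ideal R) {x} with hJ
  have hrad : a ∈ J.radical := by
    rw [Ideal.radical_eq_sInf, Ideal.mem_sInf]
    rintro p ⟨hJp, hp⟩
    by_contra hap
    have hIp : ¬ Fitt.ideal R M k ≤ p := fun h => hap (h ha)
    obtain ⟨hfr, hrk⟩ := hfree p hIp
    have b := Module.finBasisOfFinrankEq (Localization.AtPrime p)
      (LocalizedModule p.primeCompl M) hrk
    have h0 : Fitt.ideal (Localization.AtPrime p) (LocalizedModule p.primeCompl M) j = ⊥ :=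
      ideal_of_basis_lt b j hj
    rw [Groth.Agent.Helper22.FitLocal.ideal_localized] at h0
    have hx0 : algebraMap R (Localization.AtPrime p) x = 0 := by
      have : algebraMap R (Localization.AtPrime p) x ∈
          (Fitt.ideal R M j).map (algebraMap R (Localization.AtPrime p)) :=
        Ideal.mem_map_of_mem _ hx
      rw [h0] at this
      simpa using this
    rw [IsLocalization.map_eq_zero_iff p.primeCompl] at hx0
    obtain ⟨s, hs⟩ := hx0
    apply s.2
    apply hJp
    rw [hJ, Submodule.mem_colon_singleton]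
    simpa using hs
  obtain ⟨m, hm⟩ := hrad
  refine ⟨m, ?_⟩
  rw [hJ, Submodule.mem_colon_singleton] at hm
  simpa using hm

end Rad

section Main

variable {R : Type u} [CommRing R] (M : Type u) [AddCommGroup M] [Module R M] [Module.Finite R M]

theorem mem_powTorsion {S : Type u} [CommRing S] (f : S) {N : Type u} [AddCommGroup N] [Module S N]
    {t : N} (ht : t ∈ FlatCA.powTorsion S f N) : ∃ m : ℕ, f ^ m • t = 0 := by
  unfold FlatCA.powTorsion at ht
  rw [Submodule.mem_iSup_of_directed] at ht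
  · obtain ⟨m, hm⟩ := ht
    exact ⟨m, (Submodule.mem_torsionBy_iff _ _).1 hm⟩
  · apply Monotone.directed_le
    intro m m' hmm' t ht
    rw [Submodule.mem_torsionBy_iff] at ht ⊢
    obtain ⟨l, rfl⟩ := Nat.exists_eq_add_of_le hmm'
    rw [pow_add, mul_comm, mul_smul, ht, smul_zero]

theorem strictTransform_fitting (k : ℕ)
    (hfree : ∀ (p : Ideal R) [p.IsPrime], ¬ Fitt.ideal R M k ≤ p →
      Module.Free (Localization.AtPrime p) (LocalizedModule p.primeCompl M) ∧
        Module.finrank (Localization.AtPrime p) (LocalizedModule p.primeCompl M) = k)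
    (a : R) (ha : a ∈ Fitt.ideal R M k)
    (R₁ : Type u) [CommRing R₁] [Algebra R R₁]
    (e : R₁ ≃ₐ[R] ↥(BlowUp.affineAlgebra R (Fitt.ideal R M k) a)) :
    (∀ j, j < k → Fitt.ideal R₁
      ((R₁ ⊗[R] M) ⧸ FlatCA.powTorsion R₁ (algebraMap R R₁ a) (R₁ ⊗[R] M)) j = ⊥) ∧
    (∀ j, k ≤ j → Fitt.ideal R₁
      ((R₁ ⊗[R] M) ⧸ FlatCA.powTorsion R₁ (algebraMap R R₁ a) (R₁ ⊗[R] M)) j = ⊤) := by
  have hnzd := Groth.Agent.Helper22.FitBlow.nzd _ a e
  constructor
  · intro j hj
    apply ideal_quot_powTorsion_eq_bot j (algebraMap R R₁ a) hnzd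
    · rw [Groth.Agent.Helper22.FitBase.ideal_baseChange, eq_bot_iff, Ideal.map_le_iff_le_comap]
      intro x hx
      obtain ⟨m, hm⟩ := exists_pow_mul_eq_zero M k j hj hfree a ha x hx
      rw [Ideal.mem_comap, Ideal.mem_bot]
      apply nzd_pow hnzd m
      rw [← map_pow, ← map_mul, hm, map_zero]
    · intro t ht
      exact mem_powTorsion _ ht
  · intro j hj
    rw [eq_top_iff, ← Groth.Agent.Helper22.FitBlow.strictTransform_top M k a ha R₁ e]
    exact Groth.Agent.Helper22.FitSplit.ideal_mono hj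

end Main

end Groth.Agent.Helper22.FitBlow2
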