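import Groth.Agent.Lib.Helper22.FitBlow2
import Mathlib.RingTheory.Localization.Away.Basic
import Mathlib.RingTheory.Localization.Ideal

/-!
# Flattening by blowing up: locally free away from `V(f)`
-/

set_option autoImplicit false

universe u v

open Matrix TensorProduct

namespace Groth.Agent.Helper22.FitBlow3

open Groth.Agent.Helper22.FitCore Groth.Agent.Helper22.FitLocal Groth.Agent.Helper22.FitPrincipal
  Groth.Agent.Helper22.FitBlow Groth.Agent.Helper22.FitBlow2

variable {R : Type u} [CommRing R] (M : Type u) [AddCommGroup M] [Module R M] [Module.Finite R M]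

section Rad

variable (f : R) (r : ℕ)
  (hf : ∀ (p : Ideal R) [p.IsPrime], f ∉ p → ∃ g : R, g ∉ p ∧ g ∈ (Ideal.span {f}).radical ∧
      Module.Free (Localization.Away g) (LocalizedModule (Submonoid.powers g) M) ∧
        Module.finrank (Localization.Away g) (LocalizedModule (Submonoid.powers g) M) = r)
include hf

theorem exists_pow_mul_eq_zero' (j : ℕ) (hj : j < r) (x : R) (hx : x ∈ Fitt.ideal R M j) :
    ∃ m : ℕ, f ^ m * x = 0 := by
  set J : Ideal R := Submodule.colon (⊥ : Ideal R) {x} with hJ
  have hrad : f ∈ J.radical := by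
    rw [Ideal.radical_eq_sInf, Ideal.mem_sInf]
    rintro p ⟨hJp, hp⟩
    by_contra hfp
    obtain ⟨g, hgp, -, hfr, hrk⟩ := hf p hfp
    have hnt : Nontrivial (Localization.Away g) := by
      by_contra hcon
      rw [not_nontrivial_iff_subsingleton] at hcon
      have h10 : algebraMap R (Localization.Away g) 1 = 0 := Subsingleton.elim _ _
      rw [IsLocalization.map_eq_zero_iff (Submonoid.powers g)] at h10
      obtain ⟨⟨s, l, rfl⟩, hs⟩ := h10
      apply hgp
      apply hp.mem_of_pow_mem l
      have hgl : g ^ l = 0 := by simpa using hs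
      rw [hgl]; exact Ideal.zero_mem _
    have b := Module.finBasisOfFinrankEq (Localization.Away g)
      (LocalizedModule (Submonoid.powers g) M) hrk
    have h0 : Fitt.ideal (Localization.Away g) (LocalizedModule (Submonoid.powers g) M) j = ⊥ :=
      ideal_of_basis_lt b j hj
    rw [Groth.Agent.Helper22.FitLocal.ideal_localized] at h0
    have hx0 : algebraMap R (Localization.Away g) x = 0 := by
      have : algebraMap R (Localization.Away g) x ∈
          (Fitt.ideal R M j).map (algebraMap R (Localization.Away g)) :=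
        Ideal.mem_map_of_mem _ hx
      rw [h0] at this
      simpa using this
    rw [IsLocalization.map_eq_zero_iff (Submonoid.powers g)] at hx0
    obtain ⟨⟨s, l, rfl⟩, hs⟩ := hx0
    apply hgp
    apply hp.mem_of_pow_mem l
    apply hJp
    rw [hJ, Submodule.mem_colon_singleton]
    simpa using hs
  obtain ⟨m, hm⟩ := hrad
  refine ⟨m, ?_⟩
  rw [hJ, Submodule.mem_colon_singleton] at hm
  simpa using hm

theorem exists_pow_mem : ∃ m : ℕ, f ^ m ∈ Fitt.ideal R M r := by
  have hrad : f ∈ (Fitt.ideal R M r).radical := by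
    rw [Ideal.radical_eq_sInf, Ideal.mem_sInf]
    rintro p ⟨hJp, hp⟩
    by_contra hfp
    obtain ⟨g, hgp, -, hfr, hrk⟩ := hf p hfp
    have hnt : Nontrivial (Localization.Away g) := by
      by_contra hcon
      rw [not_nontrivial_iff_subsingleton] at hcon
      have h10 : algebraMap R (Localization.Away g) 1 = 0 := Subsingleton.elim _ _
      rw [IsLocalization.map_eq_zero_iff (Submonoid.powers g)] at h10
      obtain ⟨⟨s, l, rfl⟩, hs⟩ := h10
      apply hgp
      apply hp.mem_of_pow_mem l
      have hgl : g ^ l = 0 := by simpa using hs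
      rw [hgl]; exact Ideal.zero_mem _
    have b := Module.finBasisOfFinrankEq (Localization.Away g)
      (LocalizedModule (Submonoid.powers g) M) hrk
    have h0 : Fitt.ideal (Localization.Away g) (LocalizedModule (Submonoid.powers g) M) r = ⊤ :=
      ideal_of_basis_le b r le_rfl
    rw [Groth.Agent.Helper22.FitLocal.ideal_localized] at h0
    have hdisj : Disjoint (Submonoid.powers g : Set R) (p : Set R) := by
      rw [Set.disjoint_left]
      rintro _ ⟨l, rfl⟩ h
      exact hgp (hp.mem_of_pow_mem l h)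
    have hprime := IsLocalization.isPrime_of_isPrime_disjoint (Submonoid.powers g)
      (Localization.Away g) p hp hdisj
    apply hprime.ne_top
    rw [eq_top_iff, ← h0]
    exact Ideal.map_mono hJp
  exact hrad

end Rad

section Main

theorem exists_ideal (f : R) (r : ℕ)
    (hf : ∀ (p : Ideal R) [p.IsPrime], f ∉ p → ∃ g : R, g ∉ p ∧ g ∈ (Ideal.span {f}).radical ∧
      Module.Free (Localization.Away g) (LocalizedModule (Submonoid.powers g) M) ∧
        Module.finrank (Localization.Away g) (LocalizedModule (Submonoid.powers g) M) = r) :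
    ∃ I : Ideal R, I.FG ∧ I.radical = (Ideal.span {f}).radical ∧ ∀ a ∈ I,
      ∀ (R₁ : Type u) [CommRing R₁] [Algebra R R₁] (_ : R₁ ≃ₐ[R] ↥(BlowUp.affineAlgebra R I a)),
      (∀ j, j < r → Fitt.ideal R₁
        ((R₁ ⊗[R] M) ⧸ FlatCA.powTorsion R₁ (algebraMap R R₁ a) (R₁ ⊗[R] M)) j = ⊥) ∧
      (∀ j, r ≤ j → Fitt.ideal R₁
        ((R₁ ⊗[R] M) ⧸ FlatCA.powTorsion R₁ (algebraMap R R₁ a) (R₁ ⊗[R] M)) j = ⊤) := by
  classical
  obtain ⟨n, x, hx⟩ := Module.Finite.exists_fin (R := R) (M := M)
  obtain ⟨Npow, hNpow⟩ := exists_pow_mem M f r hf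
  rw [Groth.Agent.Helper22.Fitting.ideal_eq_Imin x hx r] at hNpow
  unfold Imin at hNpow
  obtain ⟨S₀, hS₀sub, hS₀mem⟩ := Submodule.mem_span_finite_of_mem_span hNpow
  have hch : ∀ d : S₀, ∃ (z : Fin (n - r) → (Fin n → R)) (e : Fin (n - r) → Fin n),
      (∀ j, z j ∈ Rel (R := R) x) ∧ d.1 = (Matrix.of fun a b => z b (e a)).det :=
    fun d => hS₀sub d.2
  choose z e' hz hd using hch
  set K : Submodule R (Fin n → R) :=
    Submodule.span R (Set.range (fun p : S₀ × Fin (n - r) => z p.1 p.2)) with hK
  have hKfg : K.FG := Submodule.fg_span (Set.finite_range _)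
  have hKle : K ≤ Rel (R := R) x := by
    rw [hK, Submodule.span_le]
    rintro _ ⟨p, rfl⟩
    exact hz p.1 p.2
  set J : Ideal R := Imin K r with hJ
  have hJfg : J.FG := Imin_fg K hKfg r
  have hfJ : f ^ Npow ∈ J := by
    have hle : Ideal.span (S₀ : Set R) ≤ J := by
      rw [Ideal.span_le]
      intro d hd'
      exact Ideal.subset_span ⟨z ⟨d, hd'⟩, e' ⟨d, hd'⟩,
        fun j => Submodule.subset_span ⟨(⟨d, hd'⟩, j), rfl⟩, hd ⟨d, hd'⟩⟩
    exact hle hS₀mem
  -- the finitely presented approximation
  set x₁ : Fin n → (Fin n → R) ⧸ K := fun i => K.mkQ (Pi.single i 1) with hx₁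
  have hx₁span : Submodule.span R (Set.range x₁) = ⊤ := by
    rw [show x₁ = K.mkQ ∘ (fun i => Pi.single i (1 : R)) from rfl, Set.range_comp,
      ← Submodule.map_span]
    have : Submodule.span R (Set.range fun i : Fin n => (Pi.single i (1 : R) : Fin n → R)) = ⊤ := by
      have := (Pi.basisFun R (Fin n)).span_eq
      rw [← this]
      congr 1
      ext v
      simp [Pi.basisFun_apply]
    rw [this, Submodule.map_top, Submodule.range_mkQ]
  have hRel₁ : Rel (R := R) x₁ = K := by
    ext v
    rw [mem_Rel]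
    have : ∑ i, v i • x₁ i = K.mkQ v := by
      conv_rhs => rw [pi_eq_sum_univ' v]
      rw [map_sum]
      apply Finset.sum_congr rfl
      intro i _
      rw [map_smul]
    rw [this, Submodule.mkQ_apply, Submodule.Quotient.mk_eq_zero]
  have hFit₁ : Fitt.ideal R ((Fin n → R) ⧸ K) r = J := by
    rw [Groth.Agent.Helper22.Fitting.ideal_eq_Imin x₁ hx₁span r, hRel₁]
  set φ : ((Fin n → R) ⧸ K) →ₗ[R] M := K.liftQ (Fintype.linearCombination R x) hKle with hφdef
  have hφ : Function.Surjective φ := by
    rw [← LinearMap.range_eq_top, hφdef, Submodule.range_liftQ, Fintype.range_linearCombination,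
      hx]
  refine ⟨Ideal.span {f} * J, (Submodule.fg_span_singleton f).mul hJfg, ?_, ?_⟩
  · apply le_antisymm
    · exact Ideal.radical_mono Ideal.mul_le_left
    · rw [Ideal.radical_le_radical_iff, Ideal.span_le, Set.singleton_subset_iff]
      refine ⟨Npow + 1, ?_⟩
      rw [pow_succ']
      exact Ideal.mul_mem_mul (Ideal.mem_span_singleton_self f) hfJ
  · intro a ha R₁ _ _ e
    obtain ⟨b, hbJ, rfl⟩ := Ideal.mem_span_singleton_mul.1 ha
    have hnzda := Groth.Agent.Helper22.FitBlow.nzd (Ideal.span {f} * J) (f * b) e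
    have hnzdf : ∀ y : R₁, algebraMap R R₁ f * y = 0 → y = 0 := by
      intro y hy
      apply hnzda
      rw [map_mul, mul_comm (algebraMap R R₁ f), mul_assoc, hy, mul_zero]
    have hnzdb : ∀ y : R₁, algebraMap R R₁ b * y = 0 → y = 0 := by
      intro y hy
      apply hnzda
      rw [map_mul, mul_assoc, hy, mul_zero]
    have hdiv : ∀ y ∈ J, ∃ t : R₁, algebraMap R R₁ y = algebraMap R R₁ b * t := by
      intro y hy
      have hfy : f * y ∈ Ideal.span {f} * J :=
        Ideal.mul_mem_mul (Ideal.mem_span_singleton_self f) hy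
      obtain ⟨t, ht⟩ := Groth.Agent.Helper22.FitBlow.exists_mul_eq (Ideal.span {f} * J) (f * b) e hfy
      refine ⟨t, ?_⟩
      have h0 : algebraMap R R₁ f * (algebraMap R R₁ y - algebraMap R R₁ b * t) = 0 := by
        rw [mul_sub, ← map_mul, ht, map_mul]
        ring
      exact sub_eq_zero.1 (hnzdf _ h0)
    constructor
    · intro j hj
      apply ideal_quot_powTorsion_eq_bot j (algebraMap R R₁ (f * b)) hnzda
      · rw [Groth.Agent.Helper22.FitBase.ideal_baseChange, eq_bot_iff,
          Ideal.map_le_iff_le_comap]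
        intro y hy
        obtain ⟨m, hm⟩ := exists_pow_mul_eq_zero' M f r hf j hj y hy
        rw [Ideal.mem_comap, Ideal.mem_bot]
        apply nzd_pow hnzdf m
        rw [← map_pow, ← map_mul, hm, map_zero]
      · intro t ht
        exact mem_powTorsion _ ht
    · intro j hj
      set T := FlatCA.powTorsion R₁ (algebraMap R R₁ (f * b)) (R₁ ⊗[R] M) with hT
      have hbc : Function.Surjective (LinearMap.baseChange R₁ φ) := by
        rw [LinearMap.baseChange_eq_ltensor]
        exact LinearMap.lTensor_surjective _ hφ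
      set ψ : (R₁ ⊗[R] ((Fin n → R) ⧸ K)) →ₗ[R₁] (R₁ ⊗[R] M) ⧸ T :=
        T.mkQ ∘ₗ (LinearMap.baseChange R₁ φ) with hψ
      have hψsurj : Function.Surjective ψ := by
        rw [hψ, LinearMap.coe_comp]
        exact (Submodule.mkQ_surjective T).comp hbc
      have h1 : Fitt.ideal R₁ ((R₁ ⊗[R] ((Fin n → R) ⧸ K)) ⧸ LinearMap.ker ψ) r = ⊤ := by
        apply ideal_quot_torsion_eq_top r (algebraMap R R₁ b) hnzdb
        · rw [Groth.Agent.Helper22.FitBase.ideal_baseChange, hFit₁, Ideal.map_le_iff_le_comap]
          intro y hy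
          obtain ⟨t, ht⟩ := hdiv y hy
          rw [Ideal.mem_comap, ht]
          exact Ideal.mul_mem_right _ _ (Ideal.mem_span_singleton_self _)
        · rw [Groth.Agent.Helper22.FitBase.ideal_baseChange, hFit₁]
          exact Ideal.mem_map_of_mem _ hbJ
        · intro y hy
          rw [LinearMap.mem_ker, hψ, LinearMap.comp_apply, Submodule.mkQ_apply,
            Submodule.Quotient.mk_eq_zero, hT]
          unfold FlatCA.powTorsion
          apply Submodule.mem_iSup_of_mem 1
          rw [Submodule.mem_torsionBy_iff, pow_one, map_mul, mul_smul, ← map_smul, hy, map_zero,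
            smul_zero]
      have h2 := ideal_congr (LinearMap.quotKerEquivOfSurjective ψ hψsurj) r
      rw [h1] at h2
      rw [eq_top_iff, h2]
      exact Groth.Agent.Helper22.FitSplit.ideal_mono hj

end Main

end Groth.Agent.Helper22.FitBlow3
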