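import Groth.Agent.Lib.Helper22.FitLocal
import Mathlib.RingTheory.Localization.Finiteness
import Mathlib.RingTheory.Localization.AtPrime.Basic
import Mathlib.RingTheory.Localization.Away.Basic
import Mathlib.LinearAlgebra.Dimension.Free

/-!
# Fitting ideals and local freeness
-/

set_option autoImplicit false

universe u v

open TensorProduct Matrix

namespace Groth.Agent.Helper22.FitFree

open Groth.Agent.Helper22.FitCore Groth.Agent.Helper22.FitLocal

section General

variable {R : Type u} [CommRing R] {M : Type v} [AddCommGroup M] [Module R M]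

/-- A spanning `r`-tuple of a module whose lower Fitting ideals vanish is linearly independent. -/
theorem linearIndependent_of_fit_bot {r : ℕ} (g : Fin r → M)
    (hg : Submodule.span R (Set.range g) = ⊤) (hfit : ∀ k, k < r → Fitt.ideal R M k = ⊥) :
    LinearIndependent R g := by
  rw [Fintype.linearIndependent_iff]
  intro v hv i
  have hr : 0 < r := lt_of_le_of_lt (Nat.zero_le _) i.2
  have h1 := hfit (r - 1) (by omega)
  rw [Groth.Agent.Helper22.Fitting.ideal_eq_Imin g hg (r - 1)] at h1
  have hmem : v i ∈ Imin (Rel (R := R) g) (r - 1) := by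
    unfold Imin
    apply Ideal.subset_span
    refine ⟨fun _ => v, fun _ => i, fun _ => (mem_Rel g v).2 hv, ?_⟩
    have : Subsingleton (Fin (r - (r - 1))) := Fin.subsingleton_iff_le_one.2 (by omega)
    rw [det_eq_elem_of_subsingleton _ (⟨0, by omega⟩ : Fin (r - (r - 1)))]
    rfl
  rw [h1] at hmem
  exact hmem

end General

section Loc

variable {R : Type u} [CommRing R] {M : Type u} [AddCommGroup M] [Module R M] (S : Submonoid R)

theorem not_le_of_localized_top [Module.Finite R M] (k : ℕ) (p : Ideal R) [hp : p.IsPrime]
    (hS : Disjoint (S : Set R) (p : Set R))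
    (h1 : Fitt.ideal (Localization S) (LocalizedModule S M) k = ⊤) : ¬ Fitt.ideal R M k ≤ p := by
  intro hle
  rw [ideal_localized] at h1
  have h2 : (p.map (algebraMap R (Localization S))).IsPrime :=
    IsLocalization.isPrime_of_isPrime_disjoint S _ p hp hS
  exact h2.ne_top (top_le_iff.1 (h1 ▸ Ideal.map_mono hle))

theorem nontrivial_localization (p : Ideal R) [hp : p.IsPrime]
    (hS : Disjoint (S : Set R) (p : Set R)) : Nontrivial (Localization S) := by
  have h2 : (p.map (algebraMap R (Localization S))).IsPrime :=
    IsLocalization.isPrime_of_isPrime_disjoint S _ p hp hS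
  exact ⟨⟨0, 1, fun h => h2.ne_top ((Ideal.eq_top_iff_one _).2 (h ▸ Ideal.zero_mem _))⟩⟩

theorem disjoint_powers (p : Ideal R) [hp : p.IsPrime] (f : R) (hf : f ∉ p) :
    Disjoint (Submonoid.powers f : Set R) (p : Set R) := by
  rw [Set.disjoint_left]
  rintro _ ⟨m, rfl⟩ hm
  exact hf (hp.mem_of_pow_mem m hm)

end Loc

end Groth.Agent.Helper22.FitFree
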