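import Groth.Agent.Lib.Helper22.FitLocal
import Mathlib.RingTheory.Nakayama
import Mathlib.RingTheory.LocalRing.MaximalIdeal.Basic
import Mathlib.RingTheory.LocalRing.Module

/-!
# Principal Fitting ideal over a local ring
-/

set_option autoImplicit false

universe u v

open Matrix

namespace Groth.Agent.Helper22.FitPrincipal

open Groth.Agent.Helper22.FitCore Groth.Agent.Helper22.FitLocal

variable {R : Type u} [CommRing R] {M : Type v} [AddCommGroup M] [Module R M]

/-- Cramer's rule for the minors obtained by changing one selected column. -/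
theorem minor_update_eq {n p : ℕ} (z : Fin p → (Fin n → R)) (e : Fin p → Fin n) (a₀ : Fin p)
    (i : Fin n) :
    minor z (Function.update e a₀ i) =
      ∑ b, (Matrix.of fun a b => z b (e a)).adjugate b a₀ * z b i := by
  classical
  set A1 : Matrix (Fin p) (Fin p) R := Matrix.of fun a b => z b (e a) with hA1
  have h1 : minor z (Function.update e a₀ i) = (A1.updateRow a₀ (fun b => z b i)).det := by
    unfold minor
    congr 1
    ext a b
    by_cases ha : a = a₀
    · subst ha; simp
    · simp [ha, hA1]
  rw [h1, ← cramer_transpose_apply, cramer_eq_adjugate_mulVec, ← adjugate_transpose]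
  simp [mulVec, dotProduct]

/-- The combination of relations given by a column of the adjugate is a relation. -/
theorem minor_update_rel {n p : ℕ} (x : Fin n → M) (z : Fin p → (Fin n → R))
    (hz : ∀ b, z b ∈ Rel (R := R) x) (e : Fin p → Fin n) (a₀ : Fin p) :
    ∑ i, minor z (Function.update e a₀ i) • x i = 0 := by
  simp only [minor_update_eq, Finset.sum_smul, mul_smul]
  rw [Finset.sum_comm]
  apply Finset.sum_eq_zero
  intro b _
  rw [← Finset.smul_sum, (mem_Rel x _).1 (hz b), smul_zero]

/-- Over a local ring, if `Fit_k(M) = (f)` then `M / M[f]` is generated by `k` elements. -/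
theorem gen_quot_of_principal [IsLocalRing R] [Module.Finite R M] (k : ℕ) (f : R)
    (hf : Fitt.ideal R M k = Ideal.span {f}) :
    ∃ g : Fin k → M ⧸ LinearMap.ker (f • (LinearMap.id : M →ₗ[R] M)),
      Submodule.span R (Set.range g) = ⊤ := by
  classical
  set K : Submodule R M := LinearMap.ker (f • (LinearMap.id : M →ₗ[R] M)) with hK
  by_cases hf0 : f = 0
  · have hKtop : K = ⊤ := by rw [hK, hf0, zero_smul, LinearMap.ker_zero]
    have hsub : Subsingleton (M ⧸ K) := Submodule.Quotient.subsingleton_iff.2 hKtop
    exact ⟨fun _ => 0, Subsingleton.elim _ _⟩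
  obtain ⟨n, x, hx⟩ := Module.Finite.exists_fin (R := R) (M := M)
  rw [Groth.Agent.Helper22.Fitting.ideal_eq_Imin x hx k] at hf
  have hminor_mem : ∀ (z : Fin (n - k) → (Fin n → R)) (e : Fin (n - k) → Fin n),
      (∀ b, z b ∈ Rel (R := R) x) → minor z e ∈ Ideal.span {f} := by
    intro z e hz
    rw [← hf]
    exact Ideal.subset_span ⟨z, e, hz, rfl⟩
  obtain ⟨z, e, hz, u, hu, hd⟩ : ∃ (z : Fin (n - k) → (Fin n → R)) (e : Fin (n - k) → Fin n),
      (∀ b, z b ∈ Rel (R := R) x) ∧ ∃ u : R, IsUnit u ∧ minor z e = u * f := by
    by_contra hcon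
    push Not at hcon
    have h1 : Imin (Rel (R := R) x) k ≤ IsLocalRing.maximalIdeal R • Ideal.span {f} := by
      unfold Imin
      rw [Ideal.span_le]
      rintro _ ⟨z, e, hz, rfl⟩
      obtain ⟨t, ht⟩ := Ideal.mem_span_singleton'.1 (hminor_mem z e hz)
      have htn : ¬ IsUnit t := fun htu => hcon z e hz t htu ht.symm
      have htm : t ∈ IsLocalRing.maximalIdeal R := (IsLocalRing.mem_maximalIdeal t).2 htn
      have h3 : minor z e ∈ IsLocalRing.maximalIdeal R • Ideal.span {f} := by
        rw [← ht]
        exact Submodule.smul_mem_smul htm (Ideal.mem_span_singleton_self f)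
      exact h3
    rw [hf] at h1
    have h2 := Submodule.eq_bot_of_le_smul_of_le_jacobson_bot (IsLocalRing.maximalIdeal R)
      (Ideal.span {f}) (Submodule.fg_span_singleton f) h1 (IsLocalRing.maximalIdeal_le_jacobson ⊥)
    apply hf0
    have : f ∈ (⊥ : Ideal R) := h2 ▸ Ideal.mem_span_singleton_self f
    simpa using this
  by_cases he : Function.Injective e
  swap
  · have h0 : minor z e = 0 := det_eq_zero_of_not_injective z e he
    rw [h0] at hd
    exact absurd (hu.mul_right_eq_zero.1 hd.symm) hf0
  set T : Finset (Fin n) := (Finset.univ.image e)ᶜ with hT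
  have hTcard : T.card ≤ k := by
    rw [hT, Finset.card_compl, Finset.card_image_of_injective _ he]
    simp only [Fintype.card_fin, Finset.card_univ]
    omega
  set q := K.mkQ with hq
  set N' : Submodule R (M ⧸ K) :=
    Submodule.span R ((fun i => q (x i)) '' (T : Set (Fin n))) with hN'
  have hxT : ∀ i ∈ T, q (x i) ∈ N' := fun i hi => Submodule.subset_span ⟨i, hi, rfl⟩
  have hxe : ∀ a₀, q (x (e a₀)) ∈ N' := by
    intro a₀
    set ρ : Fin n → R := fun i => minor z (Function.update e a₀ i) with hρ
    have hrel : ∑ i, ρ i • x i = 0 := minor_update_rel x z hz e a₀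
    have hρmem : ∀ i, ρ i ∈ Ideal.span {f} := fun i => hminor_mem z _ hz
    choose c hc using fun i => Ideal.mem_span_singleton'.1 (hρmem i)
    have hρ0 : ρ (e a₀) = u * f := by
      simp only [hρ]
      rw [Function.update_eq_self]
      exact hd
    have hρa : ∀ a, a ≠ a₀ → ρ (e a) = 0 := by
      intro a ha
      apply det_eq_zero_of_not_injective
      intro hinj
      have : Function.update e a₀ (e a) a = Function.update e a₀ (e a) a₀ := by
        rw [Function.update_self, Function.update_of_ne ha]
      exact ha (hinj this)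
    rw [← Finset.sum_add_sum_compl (Finset.univ.image e),
      Finset.sum_image (fun a _ a' _ h => he h)] at hrel
    rw [Finset.sum_eq_single a₀ (fun a _ ha => by rw [hρa a ha, zero_smul])
      (fun h => absurd (Finset.mem_univ _) h), hρ0] at hrel
    have hy : f • (u • x (e a₀) + ∑ i ∈ T, c i • x i) = 0 := by
      rw [smul_add, Finset.smul_sum, ← hrel]
      congr 1
      · rw [smul_smul, mul_comm]
      · apply Finset.sum_congr rfl
        intro i _
        rw [smul_smul, mul_comm, hc i]
    have hyK : u • x (e a₀) + ∑ i ∈ T, c i • x i ∈ K := by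
      rw [hK, LinearMap.mem_ker]
      simpa using hy
    have hq0 : q (u • x (e a₀) + ∑ i ∈ T, c i • x i) = 0 := by
      rw [hq, Submodule.mkQ_apply, Submodule.Quotient.mk_eq_zero]
      exact hyK
    rw [map_add, map_smul, map_sum] at hq0
    have hmem : u • q (x (e a₀)) ∈ N' := by
      rw [eq_neg_of_add_eq_zero_left hq0]
      apply Submodule.neg_mem
      apply Submodule.sum_mem
      intro i hi
      rw [map_smul]
      exact Submodule.smul_mem _ _ (hxT i hi)
    obtain ⟨u', rfl⟩ := hu
    have := Submodule.smul_mem N' (↑u'⁻¹ : R) hmem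
    rwa [smul_smul, Units.inv_mul, one_smul] at this
  have hqx : Submodule.span R (Set.range (fun i => q (x i))) = ⊤ := by
    rw [show (fun i => q (x i)) = q ∘ x from rfl, Set.range_comp, ← Submodule.map_span, hx,
      Submodule.map_top, hq, Submodule.range_mkQ]
  have htop : N' = ⊤ := by
    rw [eq_top_iff, ← hqx, Submodule.span_le]
    rintro _ ⟨i, rfl⟩
    by_cases hi : i ∈ T
    · exact hxT i hi
    · rw [hT, Finset.mem_compl, not_not, Finset.mem_image] at hi
      obtain ⟨a, _, rfl⟩ := hi
      exact hxe a
  apply exists_fin_of_finset k (T.image (fun i => q (x i)))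
    ((Finset.card_image_le).trans hTcard)
  rw [← htop, hN', Finset.coe_image]

end Groth.Agent.Helper22.FitPrincipal
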