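import Groth.Agent.Lib.Helper22.FitPrincipal

/-!
# Linear algebra for the splitting lemma (principal Fitting ideal generated by a nonzerodivisor)
-/

set_option autoImplicit false

universe u v

open Matrix

namespace Groth.Agent.Helper22.FitSplit

open Groth.Agent.Helper22.FitCore Groth.Agent.Helper22.FitLocal Groth.Agent.Helper22.FitPrincipal

variable {R : Type u} [CommRing R] {n p : ℕ}

/-- Cramer's rule for the minor obtained by replacing one relation row. -/
theorem minor_update_row_eq (z : Fin p → (Fin n → R)) (e : Fin p → Fin n) (b : Fin p)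
    (r : Fin n → R) :
    minor (Function.update z b r) e =
      ∑ a, (Matrix.of fun a b => z b (e a)).adjugate b a * r (e a) := by
  rw [minor_update, ← cramer_apply, cramer_eq_adjugate_mulVec]
  simp [mulVec, dotProduct]

/-- The vector `D r - ∑ β_b z_b` vanishes on the selected columns. -/
theorem core_vanish (z : Fin p → (Fin n → R)) (e : Fin p → Fin n) (r : Fin n → R) (a : Fin p) :
    (minor z e • r - ∑ b, minor (Function.update z b r) e • z b) (e a) = 0 := by
  set A1 : Matrix (Fin p) (Fin p) R := Matrix.of fun a b => z b (e a) with hA1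
  have h1 : ∑ b, minor (Function.update z b r) e * z b (e a) =
      ((A1 * A1.adjugate) *ᵥ (fun a => r (e a))) a := by
    rw [← mulVec_mulVec]
    simp only [mulVec, dotProduct]
    apply Finset.sum_congr rfl
    intro b _
    rw [minor_update_row_eq, mul_comm]
    rfl
  simp only [Pi.sub_apply, Pi.smul_apply, Finset.sum_apply, smul_eq_mul]
  rw [h1, mul_adjugate]
  simp [mulVec, dotProduct, Matrix.smul_apply, Matrix.one_apply, minor, hA1]

/-- Expansion of a `(p+1)`-minor whose last relation vanishes on the first `p` selected columns. -/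
theorem minor_snoc (z : Fin p → (Fin n → R)) (e : Fin p → Fin n) (v : Fin n → R) (j : Fin n)
    (hv : ∀ a, v (e a) = 0) :
    minor (Fin.snoc (α := fun _ => Fin n → R) z v) (Fin.snoc (α := fun _ => Fin n) e j) =
      v j * minor z e := by
  unfold minor
  rw [det_succ_column _ (Fin.last p), Fin.sum_univ_castSucc]
  have h1 : ∀ a : Fin p, (Matrix.of fun a b => (Fin.snoc (α := fun _ => Fin n → R) z v) b
      ((Fin.snoc (α := fun _ => Fin n) e j) a)) (Fin.castSucc a) (Fin.last p) = 0 := by
    intro a; simp [hv a]
  have h2 : (Matrix.of fun a b => (Fin.snoc (α := fun _ => Fin n → R) z v) b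
      ((Fin.snoc (α := fun _ => Fin n) e j) a)) (Fin.last p) (Fin.last p) = v j := by simp
  have h3 : (Matrix.of fun a b => (Fin.snoc (α := fun _ => Fin n → R) z v) b
      ((Fin.snoc (α := fun _ => Fin n) e j) a)).submatrix (Fin.last p).succAbove
        (Fin.last p).succAbove = Matrix.of fun a b => z b (e a) := by
    ext a b
    simp [Fin.succAbove_last]
  simp only [h1, h2, h3, mul_zero, zero_mul, Finset.sum_const_zero, zero_add]
  have : ((-1 : R)) ^ ((Fin.last p : ℕ) + (Fin.last p : ℕ)) = 1 := Even.neg_one_pow ⟨_, rfl⟩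
  rw [this, one_mul]

section Core

variable (K : Submodule R (Fin n → R)) (f : R)

/-- All `(p+1)`-minors of matrices with rows in `K` vanish. -/
def Vanish (K : Submodule R (Fin n → R)) (p : ℕ) : Prop :=
  ∀ (z' : Fin (p + 1) → (Fin n → R)) (e' : Fin (p + 1) → Fin n), (∀ b, z' b ∈ K) →
    minor z' e' = 0

variable {K f}

theorem core1 (hV : Vanish K p) (z : Fin p → (Fin n → R)) (hz : ∀ b, z b ∈ K)
    (e : Fin p → Fin n) (r : Fin n → R) (hr : r ∈ K) :
    minor z e • (minor z e • r - ∑ b, minor (Function.update z b r) e • z b) = 0 := by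
  set v := minor z e • r - ∑ b, minor (Function.update z b r) e • z b with hv
  have hvK : v ∈ K :=
    K.sub_mem (K.smul_mem _ hr) (K.sum_mem fun b _ => K.smul_mem _ (hz b))
  funext j
  have h1 := minor_snoc z e v j (core_vanish z e r)
  have h2 := hV (Fin.snoc (α := fun _ => Fin n → R) z v) (Fin.snoc (α := fun _ => Fin n) e j)
    (by
      intro b
      induction b using Fin.lastCases with
      | last => simpa using hvK
      | cast b => simpa using hz b)
  rw [h2] at h1
  simp only [Pi.smul_apply, smul_eq_mul, Pi.zero_apply]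
  rw [mul_comm]
  exact h1.symm

theorem nzd_cancel (hf : f ∈ nonZeroDivisors R) {x : R} (h : f * x = 0) : x = 0 :=
  (mem_nonZeroDivisors_iff.1 hf).2 x (by rwa [mul_comm] at h) |> fun h' => h'

theorem nzd_cancel_vec (hf : f ∈ nonZeroDivisors R) {x : Fin n → R} (h : f • x = 0) : x = 0 := by
  funext j
  have := congrFun h j
  simp only [Pi.smul_apply, smul_eq_mul, Pi.zero_apply] at this
  exact nzd_cancel hf this

theorem core2 (hf : f ∈ nonZeroDivisors R) (hV : Vanish K p) (z : Fin p → (Fin n → R))
    (hz : ∀ b, z b ∈ K) (e : Fin p → Fin n) (τ : R) (hτ : minor z e = τ * f)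
    (r : Fin n → R) (hr : f • r ∈ K) :
    τ • (τ • (f • r) - ∑ b, minor (Function.update z b r) e • z b) = 0 := by
  have h1 := core1 hV z hz e (f • r) hr
  simp only [minor_update_smul] at h1
  have h2 : minor z e • (minor z e • f • r - ∑ b, (f * minor (Function.update z b r) e) • z b) =
      f • f • (τ • (τ • (f • r) - ∑ b, minor (Function.update z b r) e • z b)) := by
    rw [hτ]
    simp only [smul_sub, Finset.smul_sum, smul_smul]
    congr 1
    · congr 1; ring
    · apply Finset.sum_congr rfl
      intro b _
      congr 1; ring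
  rw [h2] at h1
  exact nzd_cancel_vec hf (nzd_cancel_vec hf h1)

end Core

section DatumSec

variable (K : Submodule R (Fin n → R)) (f : R) (p : ℕ)

/-- A choice of `p` relations and `p` columns whose minor is `τ * f`. -/
structure Datum where
  z : Fin p → (Fin n → R)
  e : Fin p → Fin n
  τ : R
  hz : ∀ b, z b ∈ K
  hτ : minor z e = τ * f

/-- All `p`-minors of matrices with rows in `K` are divisible by `f`. -/
def Div (K : Submodule R (Fin n → R)) (f : R) (p : ℕ) : Prop :=
  ∀ (z : Fin p → (Fin n → R)) (e : Fin p → Fin n), (∀ b, z b ∈ K) → ∃ t, minor z e = t * f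

variable {K f p}

namespace Datum

variable (d : Datum K f p)

/-- the relation obtained from the `a`-th column of the adjugate -/
def rho (a : Fin p) : Fin n → R := fun j => minor d.z (Function.update d.e a j)

theorem rho_eq (a : Fin p) :
    d.rho a = ∑ b, (Matrix.of fun a b => d.z b (d.e a)).adjugate b a • d.z b := by
  funext j
  simp [rho, minor_update_eq]

theorem rho_mem (a : Fin p) : d.rho a ∈ K := by
  rw [rho_eq]
  exact K.sum_mem fun b _ => K.smul_mem _ (d.hz b)

/-- `rho a` divided by `f` -/
noncomputable def tvec (hD : Div K f p) (a : Fin p) : Fin n → R :=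
  fun j => (hD d.z (Function.update d.e a j) d.hz).choose

theorem tvec_spec (hD : Div K f p) (a : Fin p) : f • d.tvec hD a = d.rho a := by
  funext j
  simp only [tvec, rho, Pi.smul_apply, smul_eq_mul]
  rw [mul_comm]
  exact ((hD d.z (Function.update d.e a j) d.hz).choose_spec).symm

/-- The endomorphism of `R^n` inducing the local retraction. -/
noncomputable def w (hD : Div K f p) : (Fin n → R) →ₗ[R] (Fin n → R) :=
  ∑ a, (LinearMap.proj (d.e a)).smulRight (d.tvec hD a)

theorem w_apply (hD : Div K f p) (r : Fin n → R) :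
    d.w hD r = ∑ a, r (d.e a) • d.tvec hD a := by
  simp [w]

theorem f_smul_w (hD : Div K f p) (r : Fin n → R) :
    f • d.w hD r = ∑ b, minor (Function.update d.z b r) d.e • d.z b := by
  rw [w_apply, Finset.smul_sum]
  have : ∀ a, f • r (d.e a) • d.tvec hD a = r (d.e a) • d.rho a := by
    intro a
    rw [smul_comm, tvec_spec]
  simp only [this, rho_eq, minor_update_row_eq, Finset.smul_sum, Finset.sum_smul, smul_smul]
  rw [Finset.sum_comm]
  apply Finset.sum_congr rfl
  intro b _
  apply Finset.sum_congr rfl
  intro a _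
  rw [mul_comm]

theorem f_smul_w_mem (hD : Div K f p) (r : Fin n → R) : f • d.w hD r ∈ K := by
  rw [f_smul_w]
  exact K.sum_mem fun b _ => K.smul_mem _ (d.hz b)

theorem w_mem (hf : f ∈ nonZeroDivisors R) (hD : Div K f p) (r : Fin n → R) (hr : r ∈ K) :
    d.w hD r ∈ K := by
  classical
  have hrows : ∀ b, ∀ b', Function.update d.z b r b' ∈ K := by
    intro b b'
    by_cases h : b' = b
    · subst h; rw [Function.update_self]; exact hr
    · rw [Function.update_of_ne h]; exact d.hz b'
  choose t ht using fun b => hD (Function.update d.z b r) d.e (hrows b)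
  have h1 : f • (d.w hD r - ∑ b, t b • d.z b) = 0 := by
    rw [smul_sub, f_smul_w, Finset.smul_sum, sub_eq_zero]
    apply Finset.sum_congr rfl
    intro b _
    rw [ht b, smul_smul, mul_comm]
  have h2 := nzd_cancel_vec hf h1
  rw [sub_eq_zero] at h2
  rw [h2]
  exact K.sum_mem fun b _ => K.smul_mem _ (d.hz b)

theorem w_key (hf : f ∈ nonZeroDivisors R) (hV : Vanish K p) (hD : Div K f p) (r : Fin n → R)
    (hr : f • r ∈ K) : d.τ • (d.τ • r - d.w hD r) = 0 := by
  have h1 := core2 hf hV d.z d.hz d.e d.τ d.hτ r hr
  rw [← f_smul_w d hD r] at h1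
  apply nzd_cancel_vec hf
  rw [← h1]
  simp only [smul_sub, smul_smul]
  congr 1
  · congr 1; ring
  · congr 1; ring

end Datum

end DatumSec

end Groth.Agent.Helper22.FitSplit
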