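import Groth.Agent.Lib.Helper22.FitSplit
import Groth.Agent.Lib.Helper22.FitFree
import Mathlib.Algebra.Module.Projective
import Mathlib.LinearAlgebra.Isomorphisms

/-!
# Global retraction and projectivity of the relation module
-/

set_option autoImplicit false

universe u v

open Matrix

namespace Groth.Agent.Helper22.FitSplit

open Groth.Agent.Helper22.FitCore Groth.Agent.Helper22.FitLocal Groth.Agent.Helper22.FitPrincipal

variable {R : Type u} [CommRing R] {n p : ℕ}

section Helpers

theorem exists_desc {F M N : Type*} [AddCommGroup F] [Module R F] [AddCommGroup M] [Module R M]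
    [AddCommGroup N] [Module R N] (π : F →ₗ[R] M) (hπ : Function.Surjective π) (g : F →ₗ[R] N)
    (h : LinearMap.ker π ≤ LinearMap.ker g) : ∃ E : M →ₗ[R] N, ∀ r, E (π r) = g r := by
  refine ⟨(Submodule.liftQ _ g h) ∘ₗ (π.quotKerEquivOfSurjective hπ).symm.toLinearMap, fun r => ?_⟩
  have : (π.quotKerEquivOfSurjective hπ).symm (π r) = Submodule.Quotient.mk r := by
    rw [LinearEquiv.symm_apply_eq]; rfl
  simp [this]

theorem exists_div_linear {N : Type*} [AddCommGroup N] [Module R N] {f : R}
    (hf : f ∈ nonZeroDivisors R) (g : N →ₗ[R] R) (hg : ∀ v, ∃ t, g v = t * f) :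
    ∃ g' : N →ₗ[R] R, ∀ v, g v = g' v * f := by
  choose t ht using hg
  have hcancel : ∀ a b : R, a * f = b * f → a = b := by
    intro a b hab
    have : f * (a - b) = 0 := by rw [mul_sub, mul_comm f a, mul_comm f b, hab, sub_self]
    exact sub_eq_zero.1 (nzd_cancel hf this)
  refine ⟨{ toFun := t, map_add' := ?_, map_smul' := ?_ }, ht⟩
  · intro u v
    apply hcancel
    rw [← ht, map_add, ht u, ht v, add_mul]
  · intro c v
    apply hcancel
    rw [← ht, map_smul, ht v, RingHom.id_apply, smul_eq_mul, smul_eq_mul, mul_assoc]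

end Helpers

section Global

variable {K : Submodule R (Fin n → R)} {f : R}

/-- The glued endomorphism of `R^n`. -/
noncomputable def W (hD : Div K f p) {N : ℕ} (d : Fin N → Datum K f p) (c : Fin N → R) :
    (Fin n → R) →ₗ[R] (Fin n → R) :=
  ∑ i, (c i * (d i).τ) • (d i).w hD

theorem W_apply (hD : Div K f p) {N : ℕ} (d : Fin N → Datum K f p) (c : Fin N → R)
    (r : Fin n → R) : W hD d c r = ∑ i, (c i * (d i).τ) • (d i).w hD r := by
  simp [W]

theorem W_mem (hf : f ∈ nonZeroDivisors R) (hD : Div K f p) {N : ℕ} (d : Fin N → Datum K f p)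
    (c : Fin N → R) (r : Fin n → R) (hr : r ∈ K) : W hD d c r ∈ K := by
  rw [W_apply]
  exact K.sum_mem fun i _ => K.smul_mem _ ((d i).w_mem hf hD r hr)

theorem f_smul_W_mem (hD : Div K f p) {N : ℕ} (d : Fin N → Datum K f p)
    (c : Fin N → R) (r : Fin n → R) : f • W hD d c r ∈ K := by
  rw [W_apply, Finset.smul_sum]
  refine K.sum_mem fun i _ => ?_
  rw [smul_comm]
  exact K.smul_mem _ ((d i).f_smul_w_mem hD r)

theorem W_eq (hf : f ∈ nonZeroDivisors R) (hV : Vanish K p) (hD : Div K f p) {N : ℕ}
    (d : Fin N → Datum K f p) (c : Fin N → R) (hc : ∑ i, c i * (d i).τ ^ 2 = 1)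
    (r : Fin n → R) (hr : f • r ∈ K) : W hD d c r = r := by
  have h1 : r = ∑ i, (c i * (d i).τ ^ 2) • r := by
    rw [← Finset.sum_smul, hc, one_smul]
  rw [W_apply]
  conv_rhs => rw [h1]
  apply Finset.sum_congr rfl
  intro i _
  have h2 := (d i).w_key hf hV hD r hr
  rw [smul_sub, sub_eq_zero] at h2
  rw [mul_smul, ← h2, smul_smul, smul_smul]
  congr 1
  ring

end Global

section Proj

variable {K : Submodule R (Fin n → R)} {f : R}

/-- `v ↦ minor (update z b v) e` as a linear map. -/
noncomputable def betaLin (d : Datum K f p) (b : Fin p) : (Fin n → R) →ₗ[R] R :=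
  ∑ a, ((Matrix.of fun a b => d.z b (d.e a)).adjugate b a) • LinearMap.proj (d.e a)

theorem betaLin_apply (d : Datum K f p) (b : Fin p) (v : Fin n → R) :
    betaLin d b v = minor (Function.update d.z b v) d.e := by
  rw [minor_update_row_eq]
  simp [betaLin]

theorem update_rows_mem (d : Datum K f p) (b : Fin p) (v : Fin n → R) (hv : v ∈ K) :
    ∀ b', Function.update d.z b v b' ∈ K := by
  intro b'
  by_cases h : b' = b
  · subst h; rw [Function.update_self]; exact hv
  · rw [Function.update_of_ne h]; exact d.hz b'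

theorem w_eq_of_coef (hf : f ∈ nonZeroDivisors R) (hD : Div K f p) (d : Datum K f p)
    (co : Fin p → R) (v : Fin n → R)
    (hco : ∀ b, minor (Function.update d.z b v) d.e = co b * f) :
    d.w hD v = ∑ b, co b • d.z b := by
  have h1 : f • (d.w hD v - ∑ b, co b • d.z b) = 0 := by
    rw [smul_sub, d.f_smul_w, Finset.smul_sum, sub_eq_zero]
    apply Finset.sum_congr rfl
    intro b _
    rw [hco b, smul_smul, mul_comm]
  exact sub_eq_zero.1 (nzd_cancel_vec hf h1)

theorem projective_K (hf : f ∈ nonZeroDivisors R) (hV : Vanish K p) (hD : Div K f p) {N : ℕ}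
    (d : Fin N → Datum K f p) (c : Fin N → R) (hc : ∑ i, c i * (d i).τ ^ 2 = 1) :
    Module.Projective R K := by
  classical
  have hco : ∀ (i : Fin N) (b : Fin p), ∃ g' : K →ₗ[R] R, ∀ v : K,
      (betaLin (d i) b ∘ₗ K.subtype) v = g' v * f := by
    intro i b
    apply exists_div_linear hf
    intro v
    rw [LinearMap.comp_apply, betaLin_apply]
    exact hD _ _ (update_rows_mem (d i) b _ v.2)
  choose co hco using hco
  let ι : K →ₗ[R] (Fin N × Fin p → R) :=
    LinearMap.pi (fun ib => (c ib.1 * (d ib.1).τ) • co ib.1 ib.2)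
  let s : (Fin N × Fin p → R) →ₗ[R] K :=
    ∑ ib : Fin N × Fin p, (LinearMap.proj ib).smulRight
      (⟨(d ib.1).z ib.2, (d ib.1).hz ib.2⟩ : K)
  apply Module.Projective.of_split ι s
  ext v : 2
  have hW := W_eq hf hV hD d c hc (v : Fin n → R) (K.smul_mem f v.2)
  rw [W_apply] at hW
  simp only [LinearMap.comp_apply, LinearMap.id_apply]
  conv_rhs => rw [← hW]
  simp only [s, ι, LinearMap.sum_apply, LinearMap.smulRight_apply, LinearMap.proj_apply,
    LinearMap.pi_apply, LinearMap.smul_apply, Submodule.coe_sum, Submodule.coe_smul,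
    smul_eq_mul]
  rw [Fintype.sum_prod_type]
  apply Finset.sum_congr rfl
  intro i _
  rw [w_eq_of_coef hf hD (d i) (fun b => co i b (v : K)) (v : Fin n → R)
    (fun b => by
      have := hco i b v
      rw [LinearMap.comp_apply, betaLin_apply] at this
      exact this), Finset.smul_sum]
  apply Finset.sum_congr rfl
  intro b _
  rw [smul_smul]

end Proj

section Mod

variable {M : Type v} [AddCommGroup M] [Module R M] {f : R}

theorem exists_retraction (x : Fin n → M) (hx : Submodule.span R (Set.range x) = ⊤)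
    (hf : f ∈ nonZeroDivisors R) (hV : Vanish (Rel (R := R) x) p) (hD : Div (Rel (R := R) x) f p)
    {N : ℕ} (d : Fin N → Datum (Rel (R := R) x) f p) (c : Fin N → R)
    (hc : ∑ i, c i * (d i).τ ^ 2 = 1) :
    ∃ ε : M →ₗ[R] M, (∀ m, f • ε m = 0) ∧ (∀ m, f • m = 0 → ε m = m) := by
  set π := Fintype.linearCombination R x with hπdef
  have hπ : Function.Surjective π := by
    rw [← LinearMap.range_eq_top, hπdef, Fintype.range_linearCombination, hx]
  obtain ⟨ε, hε⟩ := exists_desc π hπ (π ∘ₗ W hD d c) (by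
    intro r hr
    rw [LinearMap.mem_ker, LinearMap.comp_apply]
    exact W_mem hf hD d c r hr)
  refine ⟨ε, ?_, ?_⟩
  · intro m
    obtain ⟨r, rfl⟩ := hπ m
    rw [hε, LinearMap.comp_apply, ← map_smul]
    exact f_smul_W_mem hD d c r
  · intro m hm
    obtain ⟨r, rfl⟩ := hπ m
    rw [hε, LinearMap.comp_apply]
    rw [W_eq hf hV hD d c hc r ?_]
    rw [← map_smul] at hm
    exact hm

theorem torsion_stable (x : Fin n → M) (hx : Submodule.span R (Set.range x) = ⊤)
    (hf : f ∈ nonZeroDivisors R) (hV : Vanish (Rel (R := R) x) p) (hD : Div (Rel (R := R) x) f p)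
    {N : ℕ} (d : Fin N → Datum (Rel (R := R) x) f p) (c : Fin N → R)
    (hc : ∑ i, c i * (d i).τ ^ 2 = 1) (m : M) (hm : f • f • m = 0) : f • m = 0 := by
  set π := Fintype.linearCombination R x with hπdef
  have hπ : Function.Surjective π := by
    rw [← LinearMap.range_eq_top, hπdef, Fintype.range_linearCombination, hx]
  obtain ⟨r, rfl⟩ := hπ m
  rw [← map_smul, ← map_smul] at hm
  have h : f • f • r ∈ Rel (R := R) x := hm
  have h1 := W_eq hf hV hD d c hc (f • r) h
  have h2 : f • r ∈ Rel (R := R) x := by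
    rw [← h1, map_smul]
    exact f_smul_W_mem hD d c r
  rw [← map_smul]
  exact h2

end Mod

end Groth.Agent.Helper22.FitSplit
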