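import Mathlib

set_option autoImplicit false

universe w u₁ u₂

namespace Groth.Agent.Helper22.GrothDesc

open CategoryTheory CategoryTheory.Limits

noncomputable section

section Basic

variable {A : Type u₁} [Category.{w} A] [Abelian A]
  {B : Type u₂} [Category.{w} B] [Abelian B]
  (F : A ⥤ B) (G : B ⥤ A) (adj : F ⊣ G)

include adj in
theorem ab5 [HasColimitsOfSize.{w, w} A] [HasFilteredColimitsOfSize.{w, w} B]
    [AB5OfSize.{w, w} B] [F.Faithful] [PreservesFiniteLimits F] : AB5OfSize.{w, w} A := by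
  haveI : F.ReflectsIsomorphisms := inferInstance
  haveI : PreservesColimitsOfSize.{w, w} F := adj.leftAdjoint_preservesColimits
  haveI : ReflectsFiniteLimits F :=
    ⟨fun J _ _ => reflectsLimitsOfShape_of_reflectsIsomorphisms⟩
  constructor
  intro J _ _
  exact HasExactColimitsOfShape.domain_of_functor J F

theorem sub_le_of_map_le [F.Faithful] [F.Additive] [PreservesFiniteLimits F] {X : A}
    (S T : Subobject X)
    (hST : Subobject.mk (F.map S.arrow) ≤ Subobject.mk (F.map T.arrow)) : S ≤ T := by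
  have h1 : F.map S.arrow ≫ F.map (cokernel.π T.arrow) = 0 := by
    have e : F.map S.arrow = (Subobject.underlyingIso (F.map S.arrow)).inv ≫
        Subobject.ofLE _ _ hST ≫ (Subobject.underlyingIso (F.map T.arrow)).hom ≫
          F.map T.arrow := by
      simp
    rw [e]
    simp only [Category.assoc]
    rw [← F.map_comp, cokernel.condition, F.map_zero]
    simp
  have h2 : S.arrow ≫ cokernel.π T.arrow = 0 :=
    F.map_injective (by rw [F.map_comp, h1, F.map_zero])
  exact Subobject.le_of_comm (Abelian.monoLift T.arrow S.arrow h2)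
    (Abelian.monoLift_comp _ _ _)

theorem wellPowered [WellPowered.{w} B] [F.Faithful] [F.Additive] [PreservesFiniteLimits F] :
    WellPowered.{w} A := by
  refine ⟨fun X => ?_⟩
  let Φ : Subobject X → Subobject (F.obj X) := fun S => Subobject.mk (F.map S.arrow)
  haveI : Small.{w} (Subobject (F.obj X)) := WellPowered.subobject_small _
  have hΦ : Function.Injective Φ := fun S T h =>
    le_antisymm (sub_le_of_map_le F S T h.le) (sub_le_of_map_le F T S h.ge)
  exact small_of_injective hΦ

end Basic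

section K

variable {A : Type u₁} [Category.{w} A] [Abelian A]
  {B : Type u₂} [Category.{w} B] [Abelian B]
  {F : A ⥤ B} {G : B ⥤ A} (adj : F ⊣ G)
  {J : Type w} [SmallCategory J]

/-- the transposed transformation -/
def phi (X : A) (Q : J ⥤ B) (q : (Functor.const J).obj (F.obj X) ⟶ Q) :
    (Functor.const J).obj X ⟶ Q ⋙ G where
  app j := adj.homEquiv _ _ (q.app j)
  naturality j j' m := by
    have := q.naturality m
    simp only [Functor.const_obj_obj, Functor.const_obj_map, Category.id_comp] at this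
    simp only [Functor.const_obj_obj, Functor.const_obj_map, Category.id_comp,
      Functor.comp_map]
    rw [this, adj.homEquiv_naturality_right]

variable [IsFiltered J] [HasColimitsOfShape J A] [HasExactColimitsOfShape J A]
  [HasColimitsOfShape J B] [PreservesColimitsOfShape J G] [F.Additive]

theorem key (X : A) (Q : J ⥤ B) (q : (Functor.const J).obj (F.obj X) ⟶ Q)
    (hQ : IsZero (colimit Q)) {Y : A} (f : X ⟶ Y)
    (hf : ∀ (j : J) (W : A) (k : W ⟶ X), k ≫ adj.homEquiv _ _ (q.app j) = 0 → k ≫ f = 0) :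
    f = 0 := by
  haveI : G.Additive := adj.right_adjoint_additive
  let cX : J ⥤ A := (Functor.const J).obj X
  let φ : cX ⟶ Q ⋙ G := phi adj X Q q
  have hz : IsZero (colimit (Q ⋙ G)) :=
    IsZero.of_iso (G.map_isZero hQ) (preservesColimitIso G Q).symm
  haveI : (colim : (J ⥤ A) ⥤ A).PreservesZeroMorphisms := inferInstance
  have hlim : IsLimit ((KernelFork.ofι (kernel.ι φ) (kernel.condition φ)).map colim) :=
    KernelFork.mapIsLimit _ (kernelIsKernel φ) colim
  have hzero : colim.map φ = 0 := hz.eq_of_tgt _ _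
  haveI : IsIso (colim.map (kernel.ι φ)) := KernelFork.IsLimit.isIso_ι _ hlim hzero
  let cc : Cocone cX :=
    { pt := Y
      ι := { app := fun _ => f
             naturality := by intros; simp [cX] } }
  let g : colimit cX ⟶ Y := colimit.desc cX cc
  have hg : ∀ j, colimit.ι cX j ≫ g = f := fun j => colimit.ι_desc cc j
  have h0 : colim.map (kernel.ι φ) ≫ g = 0 := by
    apply colimit.hom_ext
    intro j
    rw [comp_zero]
    show colimit.ι _ j ≫ colimMap (kernel.ι φ) ≫ g = 0
    rw [ι_colimMap_assoc, hg]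
    apply hf j
    have := NatTrans.congr_app (kernel.condition φ) j
    rw [NatTrans.comp_app] at this
    exact this
  have hg0 : g = 0 := by
    rw [← cancel_epi (colim.map (kernel.ι φ)), h0, comp_zero]
  obtain ⟨j⟩ := IsFiltered.nonempty (C := J)
  rw [← hg j, hg0, comp_zero]

end K

section Q

/-- lists with the inclusion preorder -/
structure LJ (α : Type w) where
  l : List α

instance (α : Type w) : Preorder (LJ α) where
  le a b := ∀ x, x ∈ a.l → x ∈ b.l
  le_refl _ _ hx := hx
  le_trans _ _ _ h h' x hx := h' x (h x hx)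

instance (α : Type w) : IsDirected (LJ α) (· ≤ ·) :=
  ⟨fun a b => ⟨⟨a.l ++ b.l⟩, fun _ hx => List.mem_append_left _ hx,
    fun _ hx => List.mem_append_right _ hx⟩⟩

instance (α : Type w) : Nonempty (LJ α) := ⟨⟨[]⟩⟩

instance (α : Type w) : IsFiltered (LJ α) := inferInstance

variable {B : Type u₂} [Category.{w} B] [Abelian B]
  {ι : Type w} (s : ι → B) (Z : B)

abbrev Idx : Type w := Σ i : ι, (s i ⟶ Z)

abbrev src (l : LJ (Idx s Z)) : B := ∐ (fun k : Fin l.l.length => s (l.l.get k).1)

def sig (l : LJ (Idx s Z)) : src s Z l ⟶ Z := Sigma.desc (fun k => (l.l.get k).2)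

lemma mem_comp_π (l : LJ (Idx s Z)) (x : Idx s Z) (hx : x ∈ l.l) :
    x.2 ≫ cokernel.π (sig s Z l) = 0 := by
  obtain ⟨k, rfl⟩ := List.mem_iff_get.1 hx
  have h1 : (l.l.get k).2 = Sigma.ι (fun k : Fin l.l.length => s (l.l.get k).1) k ≫ sig s Z l := by
    unfold sig
    rw [Sigma.ι_desc]
  rw [h1, Category.assoc, cokernel.condition, comp_zero]

lemma sig_comp_π {l l' : LJ (Idx s Z)} (h : l ≤ l') :
    sig s Z l ≫ cokernel.π (sig s Z l') = 0 := by
  apply Sigma.hom_ext
  intro k
  rw [comp_zero]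
  unfold sig
  rw [Sigma.ι_desc_assoc]
  exact mem_comp_π s Z l' _ (h _ (List.get_mem l.l k))

def Qf : LJ (Idx s Z) ⥤ B where
  obj l := cokernel (sig s Z l)
  map {l l'} m := cokernel.desc _ (cokernel.π (sig s Z l')) (sig_comp_π s Z (leOfHom m))
  map_id l := by
    apply coequalizer.hom_ext
    simp
  map_comp m m' := by
    apply coequalizer.hom_ext
    simp

def qtr : (Functor.const (LJ (Idx s Z))).obj Z ⟶ Qf s Z where
  app l := cokernel.π (sig s Z l)
  naturality l l' m := by
    simp [Qf]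

lemma isZero_colimit_Qf [HasColimitsOfShape (LJ (Idx s Z)) B]
    (hs : ∀ ⦃X Y : B⦄ (f g : X ⟶ Y), (∀ (i : ι) (h : s i ⟶ X), h ≫ f = h ≫ g) → f = g) :
    IsZero (colimit (Qf s Z)) := by
  rw [IsZero.iff_id_eq_zero]
  apply colimit.hom_ext
  intro l
  rw [Category.comp_id, comp_zero]
  have hπ : cokernel.π (sig s Z l) ≫ colimit.ι (Qf s Z) l = 0 := by
    apply hs
    intro i h
    rw [comp_zero]
    let l' : LJ (Idx s Z) := ⟨⟨i, h⟩ :: l.l⟩
    have hle : l ≤ l' := fun x hx => List.mem_cons_of_mem _ hx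
    have e1 : cokernel.π (sig s Z l) ≫ colimit.ι (Qf s Z) l =
        cokernel.π (sig s Z l') ≫ colimit.ι (Qf s Z) l' := by
      rw [← colimit.w (Qf s Z) (homOfLE hle)]
      show cokernel.π _ ≫ cokernel.desc _ _ _ ≫ _ = _
      rw [cokernel.π_desc_assoc]
      rfl
    rw [e1, ← Category.assoc]
    have : h ≫ cokernel.π (sig s Z l') = 0 :=
      mem_comp_π s Z l' ⟨i, h⟩ (List.mem_cons_self ..)
    rw [this, zero_comp]
  have h2 : cokernel.π (sig s Z l) ≫ colimit.ι (Qf s Z) l = cokernel.π (sig s Z l) ≫ 0 := by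
    rw [hπ, comp_zero]
  exact (cancel_epi (cokernel.π (sig s Z l))).1 h2

end Q

section Coim

variable {B : Type u₂} [Category.{w} B] [Abelian B] {S Z : B} (σ : S ⟶ Z)

def cm : cokernel (kernelSubobject σ).arrow ⟶ Z :=
  cokernel.desc _ σ (kernelSubobject_arrow_comp σ)

lemma π_cm : cokernel.π (kernelSubobject σ).arrow ≫ cm σ = σ := cokernel.π_desc _ _ _

def theta : cokernel (kernelSubobject σ).arrow ≅ Abelian.coimage σ :=
  cokernel.mapIso _ _ (kernelSubobjectIso σ) (Iso.refl _) (by simp)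

lemma cm_eq : cm σ = (theta σ).hom ≫ Abelian.factorThruCoimage σ := by
  rw [← cancel_epi (cokernel.π (kernelSubobject σ).arrow), π_cm]
  simp [theta]

instance : Mono (cm σ) := by
  rw [cm_eq]
  infer_instance

lemma exists_lift_cm {W : B} (g : W ⟶ Z) (hg : g ≫ cokernel.π σ = 0) :
    ∃ r : W ⟶ cokernel (kernelSubobject σ).arrow, r ≫ cm σ = g := by
  refine ⟨kernel.lift (cokernel.π σ) g hg ≫ (Abelian.coimageIsoImage σ).inv ≫ (theta σ).inv, ?_⟩
  have h1 : (Abelian.coimageIsoImage σ).inv ≫ Abelian.factorThruCoimage σ =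
      Abelian.image.ι σ := by
    rw [Iso.inv_comp_eq, ← cancel_epi (Abelian.coimage.π σ)]
    simp
  rw [cm_eq]
  simp only [Category.assoc, Iso.inv_hom_id_assoc]
  rw [h1]
  exact kernel.lift_ι _ _ _

end Coim

section Sep

variable {A : Type u₁} [Category.{w} A] [Abelian A]
  {B : Type u₂} [Category.{w} B] [Abelian B]
  (F : A ⥤ B) (G : B ⥤ A) (adj : F ⊣ G)
  {ι : Type w} (s : ι → B)

/-- the transposed quotient map -/
def phiL (X : A) (l : LJ (Idx s (F.obj X))) : X ⟶ G.obj (cokernel (sig s (F.obj X) l)) :=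
  adj.homEquiv _ _ (cokernel.π (sig s (F.obj X) l))

variable [F.Additive]

lemma map_ker_comp_π (X : A) (l : LJ (Idx s (F.obj X))) :
    F.map (kernel.ι (phiL F G adj s X l)) ≫ cokernel.π (sig s (F.obj X) l) = 0 := by
  have h1 : cokernel.π (sig s (F.obj X) l) =
      F.map (phiL F G adj s X l) ≫ adj.counit.app _ :=
    ((adj.homEquiv _ _).symm_apply_apply _).symm.trans (Adjunction.homEquiv_counit ..)
  rw [h1, ← Category.assoc, ← F.map_comp, kernel.condition, F.map_zero, zero_comp]

/-- the mono `F P_l ⟶ c_l` -/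
def rho (X : A) (l : LJ (Idx s (F.obj X))) :
    F.obj (kernel (phiL F G adj s X l)) ⟶
      cokernel (kernelSubobject (sig s (F.obj X) l)).arrow :=
  (exists_lift_cm (sig s (F.obj X) l) _ (map_ker_comp_π F G adj s X l)).choose

lemma rho_cm (X : A) (l : LJ (Idx s (F.obj X))) :
    rho F G adj s X l ≫ cm (sig s (F.obj X) l) = F.map (kernel.ι (phiL F G adj s X l)) :=
  (exists_lift_cm (sig s (F.obj X) l) _ (map_ker_comp_π F G adj s X l)).choose_spec

instance mono_rho [PreservesFiniteLimits F] (X : A) (l : LJ (Idx s (F.obj X))) :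
    Mono (rho F G adj s X l) := by
  haveI : Mono (rho F G adj s X l ≫ cm (sig s (F.obj X) l)) := by
    rw [rho_cm]
    infer_instance
  exact mono_of_mono _ (cm (sig s (F.obj X) l))

def rr (X : A) (l : LJ (Idx s (F.obj X))) :
    kernel (phiL F G adj s X l) ⟶
      G.obj (cokernel (kernelSubobject (sig s (F.obj X) l)).arrow) :=
  adj.homEquiv _ _ (rho F G adj s X l)

lemma rr_comp (X : A) (l : LJ (Idx s (F.obj X))) :
    rr F G adj s X l ≫ G.map (cm (sig s (F.obj X) l)) =
      kernel.ι (phiL F G adj s X l) ≫ adj.unit.app X := by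
  unfold rr
  rw [← adj.homEquiv_naturality_right, rho_cm, adj.homEquiv_unit]
  exact adj.unit_naturality _

instance mono_rr [F.Faithful] (X : A) (l : LJ (Idx s (F.obj X))) :
    Mono (rr F G adj s X l) := by
  haveI : Mono (rr F G adj s X l ≫ G.map (cm (sig s (F.obj X) l))) := by
    rw [rr_comp]
    infer_instance
  exact mono_of_mono _ (G.map (cm (sig s (F.obj X) l)))

/-- big index type of the separating family -/
def Fam0 : Type (max u₁ u₂ w) :=
  Σ (n : ℕ) (a : Fin n → ι) (K : Subobject (∐ fun k => s (a k))),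
    Subobject (G.obj (cokernel K.arrow))

def fam0 : Fam0 G s → A := fun x => (x.2.2.2 : A)

lemma small_fam0 [IsGrothendieckAbelian.{w} B] [WellPowered.{w} A] :
    Small.{w} (Fam0 G s) := by
  unfold Fam0
  infer_instance

theorem separating_core [IsGrothendieckAbelian.{w} B] [HasColimitsOfSize.{w, w} A]
    [AB5OfSize.{w, w} A]
    [F.Faithful] [PreservesFiniteLimits F] [PreservesFilteredColimitsOfSize.{w, w} G]
    (hs : ∀ ⦃X Y : B⦄ (f g : X ⟶ Y), (∀ (i : ι) (h : s i ⟶ X), h ≫ f = h ≫ g) → f = g)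
    (P : A → Prop) (hPiso : ∀ {X Y : A}, (X ≅ Y) → P X → P Y)
    (hP : ∀ (X : A) (l : LJ (Idx s (F.obj X))), P (kernel (phiL F G adj s X l))) :
    ∃ (κ : Type w) (t : κ → A), (∀ k, P (t k)) ∧
      ∀ ⦃X Y : A⦄ (f : X ⟶ Y), (∀ (k : κ) (h : t k ⟶ X), h ≫ f = 0) → f = 0 := by
  haveI : WellPowered.{w} A := wellPowered F
  haveI := small_fam0 (A := A) G s
  let κ₀ := {x : Fam0 G s // P (fam0 G s x)}
  haveI : Small.{w} κ₀ := inferInstance
  refine ⟨Shrink.{w} κ₀, fun k => fam0 G s ((equivShrink κ₀).symm k).1,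
    fun k => ((equivShrink κ₀).symm k).2, ?_⟩
  intro X Y f hf
  haveI := PreservesFilteredColimitsOfSize.preserves_filtered_colimits (F := G)
    (LJ (Idx s (F.obj X)))
  refine key adj X (Qf s (F.obj X)) (qtr s (F.obj X)) (isZero_colimit_Qf s (F.obj X) hs) f ?_
  intro l W k hk
  have hk' : k ≫ phiL F G adj s X l = 0 := hk
  suffices h : kernel.ι (phiL F G adj s X l) ≫ f = 0 by
    rw [← kernel.lift_ι _ k hk', Category.assoc, h, comp_zero]
  let r := rr F G adj s X l
  let x₀ : Fam0 G s := ⟨l.l.length, fun k => (l.l.get k).1,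
    kernelSubobject (sig s (F.obj X) l), Subobject.mk r⟩
  have hx₀ : P (fam0 G s x₀) := hPiso (Subobject.underlyingIso r).symm (hP X l)
  let k₀ : Shrink.{w} κ₀ := equivShrink κ₀ ⟨x₀, hx₀⟩
  have e : ((equivShrink κ₀).symm k₀) = ⟨x₀, hx₀⟩ := Equiv.symm_apply_apply _ _
  have h1 : ∀ (h : fam0 G s ((equivShrink κ₀).symm k₀).1 ⟶ X), h ≫ f = 0 := hf k₀
  rw [e] at h1
  have h2 := h1 ((Subobject.underlyingIso r).hom ≫ kernel.ι _)
  rw [Category.assoc] at h2
  exact (cancel_epi (Subobject.underlyingIso r).hom).1 (h2.trans comp_zero.symm)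

end Sep

end

end Groth.Agent.Helper22.GrothDesc
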