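import Mathlib
import Groth.Agent.Lib.Helper22.GrothDesc

set_option autoImplicit false

universe w v u u₁ u₂

namespace Groth.Agent.Helper22.GrothNoeth

open CategoryTheory CategoryTheory.Limits Groth.Agent.Helper22.GrothDesc

noncomputable section

section Noeth

variable {C : Type u} [Category.{v} C] [Abelian C]

lemma factors_iff_comp_cokernel {E : C} (S : Subobject E) {W : C} (a : W ⟶ E) :
    S.Factors a ↔ a ≫ cokernel.π S.arrow = 0 := by
  constructor
  · intro h
    rw [← S.factorThru_arrow a h, Category.assoc, cokernel.condition, comp_zero]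
  · intro h
    rw [← Abelian.monoLift_comp S.arrow a h]
    exact Subobject.factors_comp_arrow _

lemma le_of_comp_cokernel {E : C} (S T : Subobject E) (h : T.arrow ≫ cokernel.π S.arrow = 0) :
    T ≤ S := by
  have h5 := (factors_iff_comp_cokernel S _).2 h
  exact Subobject.le_of_comm (S.factorThru T.arrow h5) (S.factorThru_arrow _ h5)

variable {X Y : C}

def gS (S : Subobject (X ⊞ Y)) : Subobject X :=
  kernelSubobject (biprod.inl ≫ cokernel.π S.arrow)

def hS (S : Subobject (X ⊞ Y)) : Subobject Y :=
  kernelSubobject (cokernel.π (S.arrow ≫ biprod.snd))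

lemma gS_mono {S T : Subobject (X ⊞ Y)} (h : S ≤ T) : gS S ≤ gS T := by
  unfold gS
  have h0 : S.arrow ≫ cokernel.π T.arrow = 0 := by
    rw [← Subobject.ofLE_arrow h, Category.assoc, cokernel.condition, comp_zero]
  refine (kernelSubobject_comp_le (biprod.inl ≫ cokernel.π S.arrow)
    (cokernel.desc S.arrow (cokernel.π T.arrow) h0)).trans (le_of_eq ?_)
  congr 1
  rw [Category.assoc, cokernel.π_desc]

lemma hS_mono {S T : Subobject (X ⊞ Y)} (h : S ≤ T) : hS S ≤ hS T := by
  unfold hS
  have h0 : (S.arrow ≫ biprod.snd) ≫ cokernel.π (T.arrow ≫ biprod.snd) = 0 := by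
    rw [← Subobject.ofLE_arrow h, Category.assoc, Category.assoc,
      ← Category.assoc T.arrow, cokernel.condition, comp_zero]
  refine (kernelSubobject_comp_le (cokernel.π (S.arrow ≫ biprod.snd))
    (cokernel.desc _ (cokernel.π (T.arrow ≫ biprod.snd)) h0)).trans (le_of_eq ?_)
  congr 1
  rw [cokernel.π_desc]

lemma le_of_gS_hS {S T : Subobject (X ⊞ Y)} (hST : S ≤ T) (hg : gS T ≤ gS S)
    (hh : hS T ≤ hS S) : T ≤ S := by
  have hb : (hS T).Factors (T.arrow ≫ biprod.snd) := by
    unfold hS
    rw [kernelSubobject_factors_iff]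
    exact cokernel.condition _
  have hb' : (T.arrow ≫ biprod.snd) ≫ cokernel.π (S.arrow ≫ biprod.snd) = 0 := by
    have := Subobject.factors_of_le _ hh hb
    unfold hS at this
    rwa [kernelSubobject_factors_iff] at this
  obtain ⟨W, π, hπ, c, hc⟩ := (ShortComplex.exact_cokernel
    (S.arrow ≫ biprod.snd)).exact_up_to_refinements (T.arrow ≫ biprod.snd) hb'
  have hc' : π ≫ T.arrow ≫ biprod.snd = c ≫ S.arrow ≫ biprod.snd := hc
  obtain ⟨d, hd0⟩ : ∃ d, d = π ≫ T.arrow - c ≫ S.arrow := ⟨_, rfl⟩
  have hd : d ≫ biprod.snd = 0 := by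
    rw [hd0, Preadditive.sub_comp, Category.assoc, Category.assoc, hc', sub_self]
  have hd' : d = (d ≫ biprod.fst) ≫ biprod.inl := by
    calc d = d ≫ 𝟙 _ := (Category.comp_id d).symm
      _ = d ≫ (biprod.fst ≫ biprod.inl + biprod.snd ≫ biprod.inr) := by rw [biprod.total]
      _ = _ := by
        rw [Preadditive.comp_add, ← Category.assoc d biprod.snd, hd, zero_comp, add_zero,
          Category.assoc]
  have hTd : d ≫ cokernel.π T.arrow = 0 := by
    have h2 : (c ≫ S.arrow) ≫ cokernel.π T.arrow = 0 :=
      (factors_iff_comp_cokernel T _).1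
        (Subobject.factors_of_le _ hST (Subobject.factors_comp_arrow c))
    rw [hd0, Preadditive.sub_comp, h2, Category.assoc, cokernel.condition, comp_zero, sub_zero]
  have hgT : (gS T).Factors (d ≫ biprod.fst) := by
    unfold gS
    rw [kernelSubobject_factors_iff, ← Category.assoc, ← hd']
    exact hTd
  have hgS := Subobject.factors_of_le _ hg hgT
  have hSd : d ≫ cokernel.π S.arrow = 0 := by
    unfold gS at hgS
    rw [kernelSubobject_factors_iff, ← Category.assoc, ← hd'] at hgS
    exact hgS
  have h3 : π ≫ T.arrow ≫ cokernel.π S.arrow = 0 := by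
    have e : π ≫ T.arrow = d + c ≫ S.arrow := by rw [hd0]; abel
    rw [← Category.assoc, e, Preadditive.add_comp, hSd, Category.assoc, cokernel.condition,
      comp_zero, add_zero]
  have h4 : T.arrow ≫ cokernel.π S.arrow = 0 := (cancel_epi π).1 (h3.trans comp_zero.symm)
  exact le_of_comp_cokernel S T h4

theorem isNoetherianObject_biprod (X Y : C) [IsNoetherianObject X] [IsNoetherianObject Y] :
    IsNoetherianObject (X ⊞ Y) := by
  let Φ : Subobject (X ⊞ Y) → Subobject X × Subobject Y := fun S => (gS S, hS S)
  have hΦ : StrictMono Φ := by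
    intro S T hlt
    have hle : Φ S ≤ Φ T := ⟨gS_mono hlt.le, hS_mono hlt.le⟩
    refine lt_of_le_of_ne hle ?_
    intro heq
    have h1 : gS T ≤ gS S := (congrArg Prod.fst heq).ge
    have h2 : hS T ≤ hS S := (congrArg Prod.snd heq).ge
    exact absurd (le_of_gS_hS hlt.le h1 h2) (not_le_of_gt hlt)
  exact ⟨hΦ.wellFoundedGT⟩

theorem isNoetherianObject_of_epi {X Y : C} (p : X ⟶ Y) [Epi p] [IsNoetherianObject X] :
    IsNoetherianObject Y := by
  let Φ : Subobject Y → Subobject X := fun S => kernelSubobject (p ≫ cokernel.π S.arrow)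
  have hmono : Monotone Φ := by
    intro S T h
    have h0 : S.arrow ≫ cokernel.π T.arrow = 0 := by
      rw [← Subobject.ofLE_arrow h, Category.assoc, cokernel.condition, comp_zero]
    refine (kernelSubobject_comp_le (p ≫ cokernel.π S.arrow)
      (cokernel.desc S.arrow (cokernel.π T.arrow) h0)).trans (le_of_eq ?_)
    show kernelSubobject _ = kernelSubobject _
    congr 1
    rw [Category.assoc, cokernel.π_desc]
  have key : ∀ S T : Subobject Y, Φ T ≤ Φ S → T ≤ S := by
    intro S T h
    obtain ⟨W, π, hπ, x, hx⟩ := surjective_up_to_refinements_of_epi p T.arrow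
    have h1 : (Φ T).Factors x := by
      show (kernelSubobject _).Factors x
      rw [kernelSubobject_factors_iff, ← Category.assoc, ← hx, Category.assoc,
        cokernel.condition, comp_zero]
    have h2 : (Φ S).Factors x := Subobject.factors_of_le _ h h1
    have h2' : x ≫ p ≫ cokernel.π S.arrow = 0 := (kernelSubobject_factors_iff _ _).1 h2
    rw [← Category.assoc, ← hx, Category.assoc] at h2'
    exact le_of_comp_cokernel S T ((cancel_epi π).1 (h2'.trans comp_zero.symm))
  have hΦ : StrictMono Φ := fun S T hlt =>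
    lt_of_le_of_ne (hmono hlt.le) (fun heq => absurd (key S T heq.ge) (not_le_of_gt hlt))
  exact ⟨hΦ.wellFoundedGT⟩

theorem isNoetherianObject_sigma : ∀ (n : ℕ) (f : Fin n → C),
    (∀ k, IsNoetherianObject (f k)) → IsNoetherianObject (∐ f)
  | 0, f, _ => isNoetherianObject_of_isZero (by
      rw [IsZero.iff_id_eq_zero]
      apply Sigma.hom_ext
      intro k
      exact k.elim0)
  | n + 1, f, hf => by
      haveI := hf 0
      haveI := isNoetherianObject_sigma n (fun k => f k.succ) (fun k => hf k.succ)
      haveI := isNoetherianObject_biprod (f 0) (∐ fun k : Fin n => f k.succ)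
      let e : f 0 ⊞ (∐ fun k : Fin n => f k.succ) ⟶ ∐ f :=
        biprod.desc (Sigma.ι f 0) (Sigma.desc (fun k => Sigma.ι f k.succ))
      haveI : Epi e := by
        apply Preadditive.epi_of_cancel_zero
        intro Z g hg
        apply Sigma.hom_ext
        intro k
        rw [comp_zero]
        refine Fin.cases ?_ (fun k' => ?_) k
        · have h1 : biprod.inl ≫ e ≫ g = 0 := by rw [hg, comp_zero]
          rw [← Category.assoc, biprod.inl_desc] at h1
          exact h1
        · have h1 : Sigma.ι (fun k : Fin n => f k.succ) k' ≫ biprod.inr ≫ e ≫ g = 0 := by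
            rw [hg, comp_zero, comp_zero]
          rw [← Category.assoc biprod.inr, biprod.inr_desc, ← Category.assoc, Sigma.ι_desc] at h1
          exact h1
      exact isNoetherianObject_of_epi e

end Noeth

section Desc

variable {A : Type u₁} [Category.{w} A] [Abelian A]
  {B : Type u₂} [Category.{w} B] [Abelian B]
  (F : A ⥤ B) (G : B ⥤ A) (adj : F ⊣ G)

theorem isNoetherianObject_of_map [F.Faithful] [F.Additive] [PreservesFiniteLimits F] (a : A)
    [IsNoetherianObject (F.obj a)] : IsNoetherianObject a := by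
  let Φ : Subobject a → Subobject (F.obj a) := fun S => Subobject.mk (F.map S.arrow)
  have hmono : Monotone Φ := fun S T h =>
    Subobject.mk_le_mk_of_comm (F.map (Subobject.ofLE S T h))
      (by rw [← F.map_comp, Subobject.ofLE_arrow])
  have hΦ : StrictMono Φ := fun S T hlt =>
    lt_of_le_of_ne (hmono hlt.le)
      (fun heq => absurd (sub_le_of_map_le F T S heq.ge) (not_le_of_gt hlt))
  exact ⟨hΦ.wellFoundedGT⟩

variable {ι : Type w} (s : ι → B) [F.Additive]

theorem isNoetherianObject_src (hsN : ∀ i, IsNoetherianObject (s i)) (Z : B)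
    (l : LJ (Idx s Z)) : IsNoetherianObject (src s Z l) :=
  isNoetherianObject_sigma _ _ (fun _ => hsN _)

theorem isNoetherianObject_kernel_phiL [F.Faithful] [PreservesFiniteLimits F]
    (hsN : ∀ i, IsNoetherianObject (s i)) (X : A) (l : LJ (Idx s (F.obj X))) :
    IsNoetherianObject (kernel (phiL F G adj s X l)) := by
  haveI := isNoetherianObject_src s hsN (F.obj X) l
  haveI : IsNoetherianObject (cokernel (kernelSubobject (sig s (F.obj X) l)).arrow) :=
    isNoetherianObject_of_epi (cokernel.π _)
  haveI : IsNoetherianObject (F.obj (kernel (phiL F G adj s X l))) :=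
    isNoetherianObject_of_mono (rho F G adj s X l)
  exact isNoetherianObject_of_map F _

end Desc

end

end Groth.Agent.Helper22.GrothNoeth
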