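import Groth.Prelude.Def_QuadGrp
import Mathlib.GroupTheory.Perm.Cycle.Type
import Mathlib.Algebra.CharP.Two
import Mathlib.Algebra.MvPolynomial.Expand
import Mathlib.LinearAlgebra.Matrix.BilinearForm
import Mathlib.Tactic

/-!
The universal half-discriminant: `2 * halfDiscUniv n = discUniv n` for odd `n`, and its behaviour
under congruence `T ↦ Gᵀ T G`.
-/

namespace Groth.Agent.Helper22.HalfDisc

open QuadGrp MvPolynomial Matrix

/-- A symmetric matrix with zero diagonal of odd size over a ring of characteristic two has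
determinant zero. -/
lemma det_eq_zero_of_symm_zero_diag {K : Type*} [CommRing K] [CharP K 2] {n : ℕ} (hn : Odd n)
    (N : Matrix (Fin n) (Fin n) K) (hsymm : ∀ i j, N i j = N j i) (hdiag : ∀ i, N i i = 0) :
    N.det = 0 := by
  rw [Matrix.det_apply]
  apply Finset.sum_ninvolution (fun σ => σ⁻¹)
  · intro σ
    have h1 : Equiv.Perm.sign σ⁻¹ • ∏ i, N (σ⁻¹ i) i = Equiv.Perm.sign σ • ∏ i, N (σ i) i := by
      rw [Equiv.Perm.sign_inv]
      congr 1
      rw [← Equiv.prod_comp σ]
      apply Finset.prod_congr rfl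
      intro j _
      rw [show σ⁻¹ (σ j) = j from σ.symm_apply_apply j, hsymm]
    rw [h1]
    exact CharTwo.add_self_eq_zero _
  · intro σ hne hσ
    apply hne
    have hσ2 : σ ^ 2 ^ 1 = 1 := by
      rw [pow_one, sq]
      exact inv_mul_cancel σ ▸ congrArg (· * σ) hσ.symm
    have : Fact (Nat.Prime 2) := ⟨Nat.prime_two⟩
    obtain ⟨a, ha⟩ := Equiv.Perm.exists_fixed_point_of_prime (p := 2) (n := 1)
      (by rw [Fintype.card_fin]; exact hn.not_two_dvd_nat) hσ2
    have : ∏ i, N (σ i) i = 0 := Finset.prod_eq_zero (Finset.mem_univ a) (by rw [ha, hdiag])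
    rw [this, smul_zero]
  · intro σ; exact Finset.mem_univ _
  · intro σ; exact inv_inv σ

theorem two_mul_halfDiscUniv {n : ℕ} (hn : Odd n) : 2 * halfDiscUniv n = discUniv n := by
  have hzero : MvPolynomial.map (Int.castRingHom (ZMod 2)) (discUniv n) = 0 := by
    unfold discUniv
    rw [RingHom.map_det]
    apply det_eq_zero_of_symm_zero_diag hn
    · intro i j
      simp only [RingHom.mapMatrix_apply, Matrix.map_apply, univPolarMat, Matrix.of_apply]
      by_cases h : i = j
      · subst h; rfl
      · rw [if_neg h, if_neg (Ne.symm h), Sym2.eq_swap]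
    · intro i
      simp only [RingHom.mapMatrix_apply, Matrix.map_apply, univPolarMat, Matrix.of_apply,
        if_true, map_mul]
      have : (MvPolynomial.map (Int.castRingHom (ZMod 2))) (2 : MvPolynomial (Sym2 (Fin n)) ℤ) = 0 := by
        rw [map_ofNat]
        exact CharTwo.two_eq_zero
      rw [this, zero_mul]
  ext m
  have h2 : (2 : MvPolynomial (Sym2 (Fin n)) ℤ) = C 2 := by simp
  rw [h2, coeff_C_mul, coeff_halfDiscUniv]
  have h3 : (Int.castRingHom (ZMod 2)) (coeff m (discUniv n)) = 0 := by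
    rw [← coeff_map, hzero, coeff_zero]
  have hdvd : (2 : ℤ) ∣ coeff m (discUniv n) := by
    have := (ZMod.intCast_zmod_eq_zero_iff_dvd (coeff m (discUniv n)) 2).mp (by simpa using h3)
    exact_mod_cast this
  exact Int.mul_ediv_cancel' hdvd

section CoefOf

variable {V : Type*} [CommRing V] {n : ℕ}

/-- The coefficient function of the quadratic form `x ↦ xᵀ T x`. -/
def coefOf (T : Matrix (Fin n) (Fin n) V) : Sym2 (Fin n) → V :=
  Sym2.lift ⟨fun i j => if i = j then T i i else T i j + T j i, by
    intro i j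
    by_cases h : i = j
    · subst h; rfl
    · dsimp only
      rw [if_neg h, if_neg (Ne.symm h), add_comm]⟩

lemma coefOf_mk (T : Matrix (Fin n) (Fin n) V) (i j : Fin n) :
    coefOf T (Sym2.mk i j) = if i = j then T i i else T i j + T j i := rfl

lemma univPolarMat_map_aeval (T : Matrix (Fin n) (Fin n) V) :
    (univPolarMat n).map (MvPolynomial.aeval (coefOf T)) = T + Tᵀ := by
  ext i j
  simp only [univPolarMat, Matrix.map_apply, Matrix.of_apply, Matrix.add_apply,
    Matrix.transpose_apply]
  by_cases h : i = j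
  · subst h
    simp [coefOf_mk, two_mul]
  · simp [h, coefOf_mk]

lemma aeval_discUniv (T : Matrix (Fin n) (Fin n) V) :
    MvPolynomial.aeval (coefOf T) (discUniv n) = (T + Tᵀ).det := by
  unfold discUniv
  rw [AlgHom.map_det]
  congr 1
  exact univPolarMat_map_aeval T

lemma two_mul_aeval_halfDiscUniv (hn : Odd n) (T : Matrix (Fin n) (Fin n) V) :
    2 * MvPolynomial.aeval (coefOf T) (halfDiscUniv n) = (T + Tᵀ).det := by
  rw [← aeval_discUniv, ← two_mul_halfDiscUniv hn, map_mul, map_ofNat]

lemma map_coefOf {W : Type*} [CommRing W] {F : Type*} [FunLike F V W] [RingHomClass F V W]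
    (f : F) (T : Matrix (Fin n) (Fin n) V) :
    (fun s => f (coefOf T s)) = coefOf (T.map f) := by
  ext s
  induction s using Sym2.ind with
  | _ i j =>
    rw [coefOf_mk, coefOf_mk]
    by_cases h : i = j
    · subst h; simp
    · simp [h]

/-- The key identity over a domain of characteristic zero. -/
lemma aeval_halfDiscUniv_conj_domain [IsDomain V] [CharZero V] (hn : Odd n)
    (T G : Matrix (Fin n) (Fin n) V) :
    MvPolynomial.aeval (coefOf (Gᵀ * T * G)) (halfDiscUniv n) =
      G.det ^ 2 * MvPolynomial.aeval (coefOf T) (halfDiscUniv n) := by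
  have h2 : (2 : V) ≠ 0 := two_ne_zero
  apply mul_left_cancel₀ h2
  have hconj : Gᵀ * T * G + (Gᵀ * T * G)ᵀ = Gᵀ * (T + Tᵀ) * G := by
    simp only [Matrix.transpose_mul, Matrix.transpose_transpose, Matrix.mul_add, Matrix.add_mul,
      Matrix.mul_assoc]
  rw [two_mul_aeval_halfDiscUniv hn, hconj, Matrix.det_mul, Matrix.det_mul, Matrix.det_transpose,
    ← two_mul_aeval_halfDiscUniv hn T]
  ring

end CoefOf

/-- The key identity over any commutative ring. -/
theorem aeval_halfDiscUniv_conj {R : Type*} [CommRing R] {n : ℕ} (hn : Odd n)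
    (T G : Matrix (Fin n) (Fin n) R) :
    MvPolynomial.aeval (coefOf (Gᵀ * T * G)) (halfDiscUniv n) =
      G.det ^ 2 * MvPolynomial.aeval (coefOf T) (halfDiscUniv n) := by
  let U := MvPolynomial ((Fin n × Fin n) ⊕ (Fin n × Fin n)) ℤ
  let TU : Matrix (Fin n) (Fin n) U := Matrix.of fun i j => X (Sum.inl (i, j))
  let GU : Matrix (Fin n) (Fin n) U := Matrix.of fun i j => X (Sum.inr (i, j))
  let ev : U →ₐ[ℤ] R := MvPolynomial.aeval (Sum.elim (fun p => T p.1 p.2) (fun p => G p.1 p.2))
  have hT : TU.map ev = T := by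
    ext i j
    show MvPolynomial.aeval (Sum.elim (fun p : Fin n × Fin n => T p.1 p.2)
      (fun p : Fin n × Fin n => G p.1 p.2)) (X (Sum.inl (i, j))) = T i j
    rw [MvPolynomial.aeval_X]; rfl
  have hG : GU.map ev = G := by
    ext i j
    show MvPolynomial.aeval (Sum.elim (fun p : Fin n × Fin n => T p.1 p.2)
      (fun p : Fin n × Fin n => G p.1 p.2)) (X (Sum.inr (i, j))) = G i j
    rw [MvPolynomial.aeval_X]; rfl
  have key := aeval_halfDiscUniv_conj_domain hn TU GU
  have hcomp : ∀ (X' : Matrix (Fin n) (Fin n) U) (p : MvPolynomial (Sym2 (Fin n)) ℤ),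
      ev (MvPolynomial.aeval (coefOf X') p) = MvPolynomial.aeval (coefOf (X'.map ev)) p := by
    intro X' p
    rw [← map_coefOf ev X']
    exact (MvPolynomial.comp_aeval_apply (coefOf X') ev p)
  have hmul : (GUᵀ * TU * GU).map ev = Gᵀ * T * G := by
    rw [← hT, ← hG]
    simp only [Matrix.map_mul, Matrix.transpose_map]
  have hdet : ev GU.det = G.det := by
    rw [AlgHom.map_det]
    congr 1
  have e1 := hcomp (GUᵀ * TU * GU) (halfDiscUniv n)
  have e2 := hcomp TU (halfDiscUniv n)
  rw [hmul] at e1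
  rw [hT] at e2
  rw [← e1, ← e2, ← hdet, ← map_pow, ← map_mul]
  exact congrArg ev key

section Link

variable {R : Type*} [CommRing R] {M : Type*} [AddCommGroup M] [Module R M] {n : ℕ}

lemma coeffs_eq_coefOf (b : Module.Basis (Fin n) R M) (Q : QuadraticForm R M)
    (B : LinearMap.BilinForm R M) (hB : LinearMap.BilinMap.toQuadraticMap B = Q) :
    coeffs b (LinearEquiv.refl R R) Q = coefOf (LinearMap.BilinForm.toMatrix b B) := by
  ext s
  induction s using Sym2.ind with
  | _ i j =>
    rw [coeffs_mk, coefOf_mk]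
    subst hB
    by_cases h : i = j
    · subst h
      simp [LinearMap.BilinForm.toMatrix_apply]
    · rw [if_neg h, if_neg h]
      simp [LinearMap.BilinMap.polar_toQuadraticMap, LinearMap.BilinForm.toMatrix_apply]

lemma halfDisc_eq_aeval (b : Module.Basis (Fin n) R M) (Q : QuadraticForm R M)
    (B : LinearMap.BilinForm R M) (hB : LinearMap.BilinMap.toQuadraticMap B = Q) :
    halfDisc b (LinearEquiv.refl R R) Q =
      MvPolynomial.aeval (coefOf (LinearMap.BilinForm.toMatrix b B)) (halfDiscUniv n) := by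
  unfold halfDisc
  rw [coeffs_eq_coefOf b Q B hB, MvPolynomial.aeval_def]
  rfl

theorem halfDisc_comp (hn : Odd n) (b : Module.Basis (Fin n) R M) (Q : QuadraticForm R M)
    (g : M →ₗ[R] M) :
    halfDisc b (LinearEquiv.refl R R) (Q.comp g) =
      LinearMap.det g ^ 2 * halfDisc b (LinearEquiv.refl R R) Q := by
  have : Module.Free R M := Module.Free.of_basis b
  obtain ⟨B, hB⟩ := LinearMap.BilinMap.toQuadraticMap_surjective Q
  have hB' : LinearMap.BilinMap.toQuadraticMap (LinearMap.BilinForm.comp B g g) = Q.comp g := by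
    ext x
    simp [← hB]
  rw [halfDisc_eq_aeval b Q B hB, halfDisc_eq_aeval b (Q.comp g) (LinearMap.BilinForm.comp B g g) hB',
    LinearMap.BilinForm.toMatrix_comp b b, aeval_halfDiscUniv_conj hn, LinearMap.det_toMatrix]

end Link

end Groth.Agent.Helper22.HalfDisc
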