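import Groth.Agent.Lib.Helper22.OddCentre
import Mathlib.LinearAlgebra.QuadraticForm.Radical
import Mathlib.LinearAlgebra.Dimension.FreeAndStrongRankCondition
import Mathlib.RingTheory.LocalRing.ResidueField.Ideal

open QuadGrp Matrix

namespace Groth.Agent.Helper22.HalfDiscField

open QuadraticMap Groth.Agent.Helper22.OddCentre

section Coord
variable {K : Type*} [CommRing K] {V : Type*} [AddCommGroup V] [Module K V] {n : ℕ}

theorem polar_equivFun_symm (c : Module.Basis (Fin n) K V) (q : QuadraticForm K V)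
    (ξ : Fin n → K) (j : Fin n) :
    polar q (c.equivFun.symm ξ) (c j) = ((gram c q) *ᵥ ξ) j := by
  rw [Module.Basis.equivFun_symm_apply, polar_sum_smul_left, Matrix.mulVec, dotProduct]
  refine Finset.sum_congr rfl (fun a _ => ?_)
  rw [gram, Matrix.of_apply, polar_comm, mul_comm]

theorem mem_ker_iff (c : Module.Basis (Fin n) K V) (q : QuadraticForm K V) (ξ : Fin n → K) :
    c.equivFun.symm ξ ∈ LinearMap.ker (polarBilin q) ↔ (gram c q) *ᵥ ξ = 0 := by
  rw [LinearMap.mem_ker]
  constructor
  · intro h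
    funext j
    rw [← polar_equivFun_symm, ← polarBilin_apply_apply, h]
    rfl
  · intro h
    apply c.ext
    intro j
    rw [polarBilin_apply_apply, polar_equivFun_symm, h]
    rfl

theorem gram_transpose (c : Module.Basis (Fin n) K V) (q : QuadraticForm K V) :
    (gram c q)ᵀ = gram c q := by
  ext i j
  simp only [gram, Matrix.transpose_apply, Matrix.of_apply]
  exact polar_comm _ _ _

end Coord

section Minor
variable {K : Type*} [Field K] {k : ℕ}

/-- If the `(i,i)` cofactor is non-zero, a kernel vector with vanishing `i`-th coordinate is zero. -/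
theorem eq_zero_of_adj (Γ : Matrix (Fin (k + 1)) (Fin (k + 1)) K) (i : Fin (k + 1))
    (hi : Γ.adjugate i i ≠ 0) (ξ : Fin (k + 1) → K) (hξ : Γ *ᵥ ξ = 0) (hξi : ξ i = 0) : ξ = 0 := by
  classical
  have hdet : (Γ.submatrix i.succAbove i.succAbove).det ≠ 0 := by
    have := Matrix.adjugate_fin_succ_eq_det_submatrix Γ i i
    rw [Even.neg_one_pow ⟨(i : ℕ), rfl⟩, one_mul] at this
    rw [← this]; exact hi
  have hN : (Γ.submatrix i.succAbove i.succAbove) *ᵥ (ξ ∘ i.succAbove) = 0 := by
    funext a
    have h1 := congrFun hξ (i.succAbove a)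
    rw [Matrix.mulVec, dotProduct, Fin.sum_univ_succAbove _ i] at h1
    simp only [hξi, mul_zero, zero_add, Pi.zero_apply] at h1
    simpa [Matrix.mulVec, dotProduct] using h1
  have h0 := Matrix.eq_zero_of_mulVec_eq_zero hdet hN
  funext l
  by_cases hl : l = i
  · rw [hl, hξi]; rfl
  · obtain ⟨b, hb⟩ := Fin.exists_succAbove_eq hl
    have := congrFun h0 b
    simpa [hb] using this

/-- Converse: if the kernel of a symmetric matrix is a line spanned by `ξ` with `ξ i ≠ 0`, the
`(i,i)` cofactor is non-zero. -/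
theorem adj_ne_zero_of_line (Γ : Matrix (Fin (k + 1)) (Fin (k + 1)) K) (hs : Γᵀ = Γ)
    (ξ : Fin (k + 1) → K) (hξ : Γ *ᵥ ξ = 0) (i : Fin (k + 1)) (hξi : ξ i ≠ 0)
    (hline : ∀ η : Fin (k + 1) → K, Γ *ᵥ η = 0 → ∃ s : K, η = s • ξ) :
    Γ.adjugate i i ≠ 0 := by
  classical
  have := Matrix.adjugate_fin_succ_eq_det_submatrix Γ i i
  rw [Even.neg_one_pow ⟨(i : ℕ), rfl⟩, one_mul] at this
  rw [this]
  intro hdet
  obtain ⟨η', hη'0, hη'⟩ := Matrix.exists_mulVec_eq_zero_iff.2 hdet
  set η : Fin (k + 1) → K := Fin.insertNth (α := fun _ => K) i (0 : K) η' with hη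
  have hηi : η i = 0 := Fin.insertNth_apply_same (α := fun _ => K) i 0 η'
  have hηs : ∀ a, η (i.succAbove a) = η' a := fun a =>
    Fin.insertNth_apply_succAbove (α := fun _ => K) i 0 η' a
  have hrow : ∀ a, (Γ *ᵥ η) (i.succAbove a) = 0 := by
    intro a
    rw [Matrix.mulVec, dotProduct, Fin.sum_univ_succAbove _ i, hηi, mul_zero, zero_add]
    have h1 := congrFun hη' a
    simp only [Matrix.mulVec, dotProduct, Matrix.submatrix_apply, Pi.zero_apply] at h1
    rw [← h1]
    exact Finset.sum_congr rfl (fun b _ => by rw [hηs])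
  have hsym : ξ ⬝ᵥ (Γ *ᵥ η) = 0 := by
    rw [Matrix.dotProduct_mulVec, ← Matrix.mulVec_transpose, hs, hξ, zero_dotProduct]
  have hrowi : (Γ *ᵥ η) i = 0 := by
    rw [dotProduct, Fin.sum_univ_succAbove _ i] at hsym
    simp only [hrow, mul_zero, Finset.sum_const_zero, add_zero] at hsym
    exact (mul_eq_zero.1 hsym).resolve_left hξi
  have hΓη : Γ *ᵥ η = 0 := by
    funext l
    by_cases hl : l = i
    · rw [hl, hrowi]; rfl
    · obtain ⟨b, hb⟩ := Fin.exists_succAbove_eq hl
      rw [← hb, hrow]; rfl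
  obtain ⟨s, hs'⟩ := hline η hΓη
  have hs0 : s = 0 := by
    have := congrFun hs' i
    rw [hηi, Pi.smul_apply, smul_eq_mul] at this
    exact (mul_eq_zero.1 this.symm).resolve_right hξi
  apply hη'0
  funext a
  rw [← hηs a, hs', hs0, zero_smul]
  rfl

end Minor

section Main
variable {K : Type*} [Field K] {V : Type*} [AddCommGroup V] [Module K V] {k : ℕ}

/-- The cofactor column of a singular Gram matrix lies in the kernel and its value is
`halfDisc * cofactor`. -/
theorem adjcol (hn : Odd (k + 1)) (c : Module.Basis (Fin (k + 1)) K V) (q : QuadraticForm K V)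
    (hdet : (gram c q).det = 0) (i : Fin (k + 1)) :
    (gram c q) *ᵥ (fun a => (gram c q).adjugate a i) = 0 ∧
      q (c.equivFun.symm (fun a => (gram c q).adjugate a i)) =
        halfDisc c (LinearEquiv.refl K K) q * (gram c q).adjugate i i := by
  classical
  have : Module.Free K V := Module.Free.of_basis c
  obtain ⟨B0, hB0⟩ := LinearMap.BilinMap.toQuadraticMap_surjective q
  subst hB0
  have hΓ := gram_eq c _ B0 rfl
  have hhdT := HalfDisc.halfDisc_eq_aeval c _ B0 rfl
  constructor
  · funext a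
    have h1 : ((gram c (LinearMap.BilinMap.toQuadraticMap B0)) *
        (gram c (LinearMap.BilinMap.toQuadraticMap B0)).adjugate) a i =
        ((gram c (LinearMap.BilinMap.toQuadraticMap B0)).det •
          (1 : Matrix (Fin (k + 1)) (Fin (k + 1)) K)) a i := by
      rw [Matrix.mul_adjugate]
    rw [Matrix.mul_apply] at h1
    rw [Matrix.mulVec, dotProduct, h1, hdet, zero_smul]
    rfl
  · have hU := HalfDisc.U2 hn (LinearMap.BilinForm.toMatrix c B0) i
    rw [← hΓ, LinearMap.BilinForm.dotProduct_toMatrix_mulVec] at hU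
    rw [hhdT, LinearMap.BilinMap.toQuadraticMap_apply]
    exact hU

theorem two_mul_halfDisc (hn : Odd (k + 1)) (c : Module.Basis (Fin (k + 1)) K V)
    (q : QuadraticForm K V) :
    2 * halfDisc c (LinearEquiv.refl K K) q = (gram c q).det := by
  have : Module.Free K V := Module.Free.of_basis c
  obtain ⟨B0, hB0⟩ := LinearMap.BilinMap.toQuadraticMap_surjective q
  rw [HalfDisc.halfDisc_eq_aeval c q B0 hB0, gram_eq c q B0 hB0]
  exact HalfDisc.two_mul_hd hn _

theorem exists_adj_ne_zero (h2 : (2 : K) = 0) (hn : Odd (k + 1))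
    (c : Module.Basis (Fin (k + 1)) K V) (q : QuadraticForm K V)
    (hhd : halfDisc c (LinearEquiv.refl K K) q ≠ 0) : ∃ i, (gram c q).adjugate i i ≠ 0 := by
  have : Module.Free K V := Module.Free.of_basis c
  obtain ⟨B0, hB0⟩ := LinearMap.BilinMap.toQuadraticMap_surjective q
  rw [gram_eq c q B0 hB0]
  rw [HalfDisc.halfDisc_eq_aeval c q B0 hB0] at hhd
  exact HalfDisc.F2 h2 hn _ hhd

theorem field_nondeg_iff (hn : Odd (k + 1)) (c : Module.Basis (Fin (k + 1)) K V)
    (q : QuadraticForm K V) :
    halfDisc c (LinearEquiv.refl K K) q ≠ 0 ↔ q.Nondegenerate := by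
  classical
  have hdet2 := two_mul_halfDisc hn c q
  have hΓs : (gram c q)ᵀ = gram c q := gram_transpose c q
  have hx : ∀ x : V, c.equivFun.symm (c.equivFun x) = x := fun x => c.equivFun.symm_apply_apply x
  have hker : ∀ x : V, x ∈ LinearMap.ker (polarBilin q) ↔ (gram c q) *ᵥ (c.equivFun x) = 0 := by
    intro x
    rw [← mem_ker_iff, hx]
  constructor
  · intro hhd
    by_cases h2 : (2 : K) = 0
    · -- characteristic two
      have hdet : (gram c q).det = 0 := by rw [← hdet2, h2, zero_mul]
      obtain ⟨i, hi⟩ := exists_adj_ne_zero h2 hn c q hhd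
      obtain ⟨hΓw, hqy⟩ := adjcol hn c q hdet i
      obtain ⟨w, hw⟩ : ∃ w : Fin (k + 1) → K, w = fun a => (gram c q).adjugate a i := ⟨_, rfl⟩
      rw [← hw] at hΓw hqy
      have hwi : w i ≠ 0 := by rw [hw]; exact hi
      have hline : ∀ ξ : Fin (k + 1) → K, (gram c q) *ᵥ ξ = 0 → ξ = (ξ i / w i) • w := by
        intro ξ hξ
        have h0 := eq_zero_of_adj (gram c q) i hi (ξ - (ξ i / w i) • w)
          (by rw [Matrix.mulVec_sub, Matrix.mulVec_smul, hξ, hΓw, smul_zero, sub_zero])
          (by rw [Pi.sub_apply, Pi.smul_apply, smul_eq_mul, div_mul_cancel₀ _ hwi, sub_self])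
        exact sub_eq_zero.1 h0
      have hxy : ∀ x ∈ LinearMap.ker (polarBilin q),
          x = (c.equivFun x i / w i) • c.equivFun.symm w := by
        intro x hxk
        have := hline _ ((hker x).1 hxk)
        rw [← map_smul, ← this, hx]
      refine ⟨?_, ?_⟩
      · rw [eq_bot_iff]
        intro x hxr
        have hxk : x ∈ LinearMap.ker (polarBilin q) := radical_le_ker_polarBilin hxr
        have hqx : q x = 0 := hxr.1
        have h1 := hxy x hxk
        obtain ⟨t, ht⟩ : ∃ t : K, t = c.equivFun x i / w i := ⟨_, rfl⟩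
        rw [← ht] at h1
        rw [h1, QuadraticMap.map_smul, hqy, smul_eq_mul] at hqx
        have ht0 : t = 0 := by
          rcases mul_eq_zero.1 hqx with h | h
          · exact mul_self_eq_zero.1 h
          · exact absurd h (mul_ne_zero hhd hi)
        rw [Submodule.mem_bot, h1, ht0, zero_smul]
      · rw [rank_submodule_le_one_iff']
        refine ⟨c.equivFun.symm w, fun x hxk => ?_⟩
        rw [Submodule.mem_span_singleton]
        exact ⟨_, (hxy x hxk).symm⟩
    · -- 2 invertible
      have hdet : (gram c q).det ≠ 0 := by rw [← hdet2]; exact mul_ne_zero h2 hhd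
      have hkb : LinearMap.ker (polarBilin q) = ⊥ := by
        rw [eq_bot_iff]
        intro x hxk
        have h0 := Matrix.eq_zero_of_mulVec_eq_zero hdet ((hker x).1 hxk)
        rw [Submodule.mem_bot, ← hx x, h0, map_zero]
      refine ⟨?_, ?_⟩
      · rw [eq_bot_iff, ← hkb]; exact radical_le_ker_polarBilin
      · rw [hkb]; simp
  · intro hnd
    obtain ⟨hrad, hrank⟩ := hnd
    have hrad' : ∀ x : V, q x = 0 → x ∈ LinearMap.ker (polarBilin q) → x = 0 := by
      intro x h1 h2
      have : x ∈ q.radical := ⟨h1, LinearMap.mem_ker.1 h2⟩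
      rw [hrad] at this
      exact (Submodule.mem_bot K).1 this
    by_cases h2 : (2 : K) = 0
    · have hdet : (gram c q).det = 0 := by rw [← hdet2, h2, zero_mul]
      obtain ⟨ξ, hξ0, hξ⟩ := Matrix.exists_mulVec_eq_zero_iff.2 hdet
      obtain ⟨i, hξi⟩ : ∃ i, ξ i ≠ 0 := by
        by_contra hcon
        push Not at hcon
        exact hξ0 (funext hcon)
      obtain ⟨v₀, hv₀⟩ := (rank_submodule_le_one_iff' _).1 hrank
      have hxk : c.equivFun.symm ξ ∈ LinearMap.ker (polarBilin q) := (mem_ker_iff c q ξ).2 hξ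
      obtain ⟨r, hr⟩ := Submodule.mem_span_singleton.1 (hv₀ hxk)
      have hr0 : r ≠ 0 := by
        rintro rfl
        rw [zero_smul] at hr
        apply hξ0
        have := congrArg c.equivFun hr
        rw [LinearEquiv.apply_symm_apply, map_zero] at this
        exact this.symm
      have hline : ∀ η : Fin (k + 1) → K, (gram c q) *ᵥ η = 0 → ∃ s : K, η = s • ξ := by
        intro η hη
        have hzk : c.equivFun.symm η ∈ LinearMap.ker (polarBilin q) := (mem_ker_iff c q η).2 hη
        obtain ⟨s, hs⟩ := Submodule.mem_span_singleton.1 (hv₀ hzk)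
        refine ⟨s * r⁻¹, ?_⟩
        have h1 : v₀ = r⁻¹ • c.equivFun.symm ξ := by
          rw [← hr, smul_smul, inv_mul_cancel₀ hr0, one_smul]
        have h3 : c.equivFun.symm η = c.equivFun.symm ((s * r⁻¹) • ξ) := by
          rw [← hs, h1, smul_smul, map_smul]
        exact c.equivFun.symm.injective h3
      have hi := adj_ne_zero_of_line (gram c q) hΓs ξ hξ i hξi hline
      obtain ⟨hΓw, hqy⟩ := adjcol hn c q hdet i
      intro hhd0
      rw [hhd0, zero_mul] at hqy
      have hy0 := hrad' _ hqy ((mem_ker_iff c q _).2 hΓw)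
      have := congrArg (fun z => c.equivFun z i) hy0
      simp only [LinearEquiv.apply_symm_apply, map_zero, Pi.zero_apply] at this
      exact hi this
    · intro hhd0
      have hdet : (gram c q).det = 0 := by rw [← hdet2, hhd0, mul_zero]
      obtain ⟨ξ, hξ0, hξ⟩ := Matrix.exists_mulVec_eq_zero_iff.2 hdet
      have hxk : c.equivFun.symm ξ ∈ LinearMap.ker (polarBilin q) := (mem_ker_iff c q ξ).2 hξ
      have hq0 : q (c.equivFun.symm ξ) = 0 := by
        have h1 : polar q (c.equivFun.symm ξ) (c.equivFun.symm ξ) = 0 := by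
          rw [← polarBilin_apply_apply, LinearMap.mem_ker.1 hxk]; rfl
        rw [QuadraticMap.polar_self, two_nsmul, ← two_mul] at h1
        exact (mul_eq_zero.1 h1).resolve_left h2
      have := hrad' _ hq0 hxk
      apply hξ0
      have h3 := congrArg c.equivFun this
      rw [LinearEquiv.apply_symm_apply, map_zero] at h3
      exact h3

end Main

end Groth.Agent.Helper22.HalfDiscField
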