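import Groth.Agent.Lib.Helper22.HalfDisc
import Mathlib.LinearAlgebra.Matrix.Adjugate
import Mathlib.LinearAlgebra.Matrix.ToLinearEquiv
import Mathlib.RingTheory.Ideal.Quotient.Basic
import Mathlib.RingTheory.Ideal.Maximal

open QuadGrp MvPolynomial Matrix

namespace Groth.Agent.Helper22.HalfDisc

/-- The half-discriminant of the form `x ↦ xᵀ T x`. -/
noncomputable def hd {V : Type*} [CommRing V] {n : ℕ} (T : Matrix (Fin n) (Fin n) V) : V :=
  MvPolynomial.aeval (coefOf T) (halfDiscUniv n)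

section Nat
variable {V W : Type*} [CommRing V] [CommRing W] {n : ℕ}

theorem hd_map (f : V →+* W) (T : Matrix (Fin n) (Fin n) V) : f (hd T) = hd (T.map f) := by
  unfold hd
  rw [← map_coefOf f T, MvPolynomial.aeval_def, MvPolynomial.aeval_def,
    MvPolynomial.eval₂_comp_left f]
  congr 1
  exact RingHom.ext_int _ _

theorem two_mul_hd (hn : Odd n) (T : Matrix (Fin n) (Fin n) V) : 2 * hd T = (T + Tᵀ).det :=
  two_mul_aeval_halfDiscUniv hn T

theorem exists_univ (T : Matrix (Fin n) (Fin n) V) :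
    ∃ (U : Type) (_ : CommRing U) (_ : IsDomain U) (_ : CharZero U)
      (TU : Matrix (Fin n) (Fin n) U) (ev : U →+* V), TU.map ev = T := by
  refine ⟨MvPolynomial (Fin n × Fin n) ℤ, inferInstance, inferInstance, inferInstance,
    Matrix.of fun i j => X (i, j),
    (MvPolynomial.aeval (fun p : Fin n × Fin n => T p.1 p.2) : _ →ₐ[ℤ] V).toRingHom, ?_⟩
  ext i j
  simp

end Nat

section Dom
variable {V : Type*} [CommRing V] [IsDomain V] [CharZero V] {n : ℕ}

theorem U1_dom (hn : Odd n) (T : Matrix (Fin n) (Fin n) V) :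
    (n : V) * hd T = ∑ i, ∑ j, T i j * (T + Tᵀ).adjugate i j := by
  have h2 : (2 : V) ≠ 0 := two_ne_zero
  apply mul_left_cancel₀ h2
  set B := T + Tᵀ with hB
  set C := B.adjugate with hC
  have hBs : Bᵀ = B := by rw [hB, Matrix.transpose_add, Matrix.transpose_transpose, add_comm]
  have hCs : ∀ i j, C j i = C i j := by
    intro i j
    have : Cᵀ = C := by rw [hC, Matrix.adjugate_transpose, hBs]
    exact congrFun (congrFun this i) j
  have h1 : ∑ i, ∑ j, B i j * C i j = (n : V) * B.det := by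
    have : Matrix.trace (B * C) = (n : V) * B.det := by
      rw [hC, Matrix.mul_adjugate, Matrix.trace_smul, Matrix.trace_one, Fintype.card_fin,
        smul_eq_mul, mul_comm]
    rw [← this, Matrix.trace]
    refine Finset.sum_congr rfl (fun i _ => ?_)
    rw [Matrix.diag_apply, Matrix.mul_apply]
    exact Finset.sum_congr rfl (fun j _ => by rw [hCs])
  have h3 : ∑ i, ∑ j, B i j * C i j = 2 * ∑ i, ∑ j, T i j * C i j := by
    have e1 : ∑ i, ∑ j, B i j * C i j = ∑ i, ∑ j, T i j * C i j + ∑ i, ∑ j, T j i * C i j := by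
      rw [← Finset.sum_add_distrib]
      refine Finset.sum_congr rfl (fun i _ => ?_)
      rw [← Finset.sum_add_distrib]
      refine Finset.sum_congr rfl (fun j _ => ?_)
      rw [hB, Matrix.add_apply, Matrix.transpose_apply, add_mul]
    have e2 : ∑ i, ∑ j, T j i * C i j = ∑ i, ∑ j, T i j * C i j := by
      rw [Finset.sum_comm]
      refine Finset.sum_congr rfl (fun i _ => ?_)
      exact Finset.sum_congr rfl (fun j _ => by rw [hCs])
    rw [e1, e2, two_mul]
  rw [← h3, h1, ← two_mul_hd hn T]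
  ring

theorem U2_dom (hn : Odd n) (T : Matrix (Fin n) (Fin n) V) (i0 : Fin n) :
    (fun a => (T + Tᵀ).adjugate a i0) ⬝ᵥ (T *ᵥ (fun a => (T + Tᵀ).adjugate a i0)) =
      hd T * (T + Tᵀ).adjugate i0 i0 := by
  classical
  have h2 : (2 : V) ≠ 0 := two_ne_zero
  apply mul_left_cancel₀ h2
  set B := T + Tᵀ with hB
  set C := B.adjugate with hC
  set x : Fin n → V := fun a => C a i0 with hx
  have e1 : x ⬝ᵥ (Tᵀ *ᵥ x) = x ⬝ᵥ (T *ᵥ x) := by
    rw [Matrix.mulVec_transpose, dotProduct_comm, ← Matrix.dotProduct_mulVec]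
  have e2 : x ⬝ᵥ (B *ᵥ x) = 2 * (x ⬝ᵥ (T *ᵥ x)) := by
    rw [hB, Matrix.add_mulVec, dotProduct_add, e1, two_mul]
  have e3 : B *ᵥ x = fun a => B.det * (if a = i0 then 1 else 0) := by
    funext a
    have : (B * C) a i0 = (B.det • (1 : Matrix (Fin n) (Fin n) V)) a i0 := by
      rw [hC, Matrix.mul_adjugate]
    rw [Matrix.mul_apply] at this
    rw [Matrix.mulVec, dotProduct]
    rw [this, Matrix.smul_apply, Matrix.one_apply, smul_eq_mul]
  rw [← e2, e3, dotProduct]
  simp only [mul_ite, mul_one, mul_zero, Finset.sum_ite_eq', Finset.mem_univ, if_true]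
  rw [hx, ← two_mul_hd hn T]
  ring

end Dom

section Gen
variable {V : Type*} [CommRing V] {n : ℕ}

theorem U1 (hn : Odd n) (T : Matrix (Fin n) (Fin n) V) :
    (n : V) * hd T = ∑ i, ∑ j, T i j * (T + Tᵀ).adjugate i j := by
  obtain ⟨U, _, _, _, TU, ev, rfl⟩ := exists_univ T
  have key := congrArg ev (U1_dom hn TU)
  rw [map_mul, map_natCast, hd_map, map_sum] at key
  rw [key]
  refine Finset.sum_congr rfl (fun i _ => ?_)
  rw [map_sum]
  refine Finset.sum_congr rfl (fun j _ => ?_)
  rw [map_mul]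
  have : ev ((TU + TUᵀ).adjugate i j) = ((TU.map ev) + (TU.map ev)ᵀ).adjugate i j := by
    have h := RingHom.map_adjugate ev (TU + TUᵀ)
    have h' := congrFun (congrFun h i) j
    simp only [RingHom.mapMatrix_apply, Matrix.map_apply] at h'
    rw [h']
    congr 2
    ext a b
    simp
  rw [this]
  rfl

theorem U2 (hn : Odd n) (T : Matrix (Fin n) (Fin n) V) (i0 : Fin n) :
    (fun a => (T + Tᵀ).adjugate a i0) ⬝ᵥ (T *ᵥ (fun a => (T + Tᵀ).adjugate a i0)) =
      hd T * (T + Tᵀ).adjugate i0 i0 := by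
  obtain ⟨U, _, _, _, TU, ev, rfl⟩ := exists_univ T
  have key := congrArg ev (U2_dom hn TU i0)
  have hadj : ∀ a b, ev ((TU + TUᵀ).adjugate a b) = ((TU.map ev) + (TU.map ev)ᵀ).adjugate a b := by
    intro a b
    have h := RingHom.map_adjugate ev (TU + TUᵀ)
    have h' := congrFun (congrFun h a) b
    simp only [RingHom.mapMatrix_apply, Matrix.map_apply] at h'
    rw [h']
    congr 2
    ext a b
    simp
  have hmv : ∀ x : Fin n → U, ⇑ev ∘ (TU *ᵥ x) = (TU.map ev) *ᵥ (⇑ev ∘ x) := by
    intro x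
    funext a
    exact RingHom.map_mulVec ev TU x a
  rw [map_mul, hd_map, hadj, RingHom.map_dotProduct, hmv] at key
  rw [← key]
  congr 1
  · funext a; exact (hadj a i0).symm
  · congr 1
    funext a; exact (hadj a i0).symm

end Gen

section Field
variable {K : Type*} [Field K] {k : ℕ}

/-- For a singular symmetric matrix, a vanishing diagonal cofactor kills its row of cofactors. -/
theorem F1 (B : Matrix (Fin (k + 1)) (Fin (k + 1)) K) (hBs : Bᵀ = B) (hdet : B.det = 0)
    (j : Fin (k + 1)) (hjj : B.adjugate j j = 0) (i : Fin (k + 1)) (hij : i ≠ j) :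
    B.adjugate i j = 0 := by
  classical
  set C := B.adjugate with hC
  have hCs : C j i = C i j := by
    have : Cᵀ = C := by rw [hC, Matrix.adjugate_transpose, hBs]
    exact congrFun (congrFun this i) j
  by_contra hne
  set w : Fin (k + 1) → K := fun a => C a j with hw
  have hBw : B *ᵥ w = 0 := by
    funext a
    have : (B * C) a j = (B.det • (1 : Matrix (Fin (k + 1)) (Fin (k + 1)) K)) a j := by
      rw [hC, Matrix.mul_adjugate]
    rw [Matrix.mul_apply] at this
    rw [Matrix.mulVec, dotProduct, this, hdet, zero_smul]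
    rfl
  have hN : (B.submatrix i.succAbove j.succAbove) *ᵥ (w ∘ j.succAbove) = 0 := by
    funext a
    have h1 := congrFun hBw (i.succAbove a)
    rw [Matrix.mulVec, dotProduct, Fin.sum_univ_succAbove _ j] at h1
    simp only [hw, hjj, mul_zero, zero_add, Pi.zero_apply] at h1
    simpa [Matrix.mulVec, dotProduct, hw] using h1
  have hw' : w ∘ j.succAbove ≠ 0 := by
    obtain ⟨b, hb⟩ := Fin.exists_succAbove_eq hij
    intro h0
    have := congrFun h0 b
    simp only [Function.comp_apply, hb, Pi.zero_apply, hw] at this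
    exact hne this
  have hdetN : (B.submatrix i.succAbove j.succAbove).det = 0 :=
    Matrix.exists_mulVec_eq_zero_iff.1 ⟨_, hw', hN⟩
  have : C j i = 0 := by
    rw [hC, Matrix.adjugate_fin_succ_eq_det_submatrix, hdetN, mul_zero]
  exact hne (hCs ▸ this)

theorem F2 (h2 : (2 : K) = 0) (hn : Odd (k + 1)) (T : Matrix (Fin (k + 1)) (Fin (k + 1)) K)
    (hT : hd T ≠ 0) : ∃ i, (T + Tᵀ).adjugate i i ≠ 0 := by
  by_contra hcon
  push Not at hcon
  set B := T + Tᵀ with hB
  have hBs : Bᵀ = B := by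
    rw [hB, Matrix.transpose_add, Matrix.transpose_transpose]; exact add_comm _ _
  have hdet : B.det = 0 := by rw [hB, ← two_mul_hd hn T, h2, zero_mul]
  have hC : ∀ i j, B.adjugate i j = 0 := by
    intro i j
    by_cases hij : i = j
    · rw [hij]; exact hcon j
    · exact F1 B hBs hdet j (hcon j) i hij
  have hU := U1 hn T
  rw [← hB] at hU
  simp only [hC, mul_zero, Finset.sum_const_zero] at hU
  obtain ⟨m, hm⟩ := hn
  have hcast : ((k + 1 : ℕ) : K) = 1 := by
    rw [hm]; push_cast; rw [h2, zero_mul, zero_add]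
  rw [hcast, one_mul] at hU
  exact hT hU

end Field

section Cover
variable {R : Type*} [CommRing R] {k : ℕ}

theorem span_two_adjugate_eq_top (hn : Odd (k + 1)) (T : Matrix (Fin (k + 1)) (Fin (k + 1)) R)
    (hT : IsUnit (hd T)) :
    Ideal.span ({2} ∪ Set.range fun i => (T + Tᵀ).adjugate i i) = (⊤ : Ideal R) := by
  by_contra hne
  obtain ⟨m, hm, hle⟩ := Ideal.exists_le_maximal _ hne
  let _ : Field (R ⧸ m) := Ideal.Quotient.field m
  set f : R →+* R ⧸ m := Ideal.Quotient.mk m with hf
  have h2 : (2 : R ⧸ m) = 0 := by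
    have : f 2 = 0 := Ideal.Quotient.eq_zero_iff_mem.2 (hle (Ideal.subset_span (Or.inl rfl)))
    rwa [map_ofNat] at this
  have hT' : hd (T.map f) ≠ 0 := by
    rw [← hd_map]
    exact (hT.map f).ne_zero
  obtain ⟨i, hi⟩ := F2 h2 hn (T.map f) hT'
  apply hi
  have h := RingHom.map_adjugate f (T + Tᵀ)
  have h' := congrFun (congrFun h i) i
  simp only [RingHom.mapMatrix_apply, Matrix.map_apply] at h'
  have e : (T + Tᵀ).map f = T.map f + (T.map f)ᵀ := by
    ext a b; simp
  rw [← e, ← h']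
  exact Ideal.Quotient.eq_zero_iff_mem.2 (hle (Ideal.subset_span (Or.inr ⟨i, rfl⟩)))

end Cover

end Groth.Agent.Helper22.HalfDisc
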