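import Mathlib.RingTheory.HopfAlgebra.Basic
import Mathlib.RingTheory.Bialgebra.Equiv
import Mathlib.LinearAlgebra.TensorProduct.Basic
import Mathlib.Tactic.Ring
import Mathlib.Tactic.Abel
import Mathlib.Tactic.LinearCombination
import Mathlib.Tactic.Module

/-!
Bialgebras whose augmentation ideal is free of rank one on a generator `x`.
-/

namespace Groth.Agent.Helper22.HopfTwo

open scoped TensorProduct
open Coalgebra

variable {R : Type*} [CommRing R] {A : Type*} [CommRing A] [Bialgebra R A]

/-- The setting: `x` generates the augmentation ideal freely. -/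
structure Gen (R : Type*) [CommRing R] {A : Type*} [CommRing A] [Bialgebra R A] (x : A) :
    Prop where
  counit_x : counit (R := R) x = 0
  gen : ∀ f : A, counit (R := R) f = 0 → ∃ r : R, f = r • x
  free : ∀ r : R, r • x = 0 → r = 0

/-- `(s, r) ↦ s • 1 + r • x`. -/
def φ (R : Type*) [CommRing R] {A : Type*} [CommRing A] [Bialgebra R A] (x : A) :
    R × R →ₗ[R] A :=
  (LinearMap.toSpanSingleton R A 1).coprod (LinearMap.toSpanSingleton R A x)

@[simp] lemma φ_apply (x : A) (p : R × R) : φ R x p = p.1 • (1 : A) + p.2 • x := by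
  simp [φ]

lemma counit_φ {x : A} (h : Gen R x) (p : R × R) : counit (R := R) (φ R x p) = p.1 := by
  rw [φ_apply, map_add, map_smul, map_smul, h.counit_x, Bialgebra.counit_one]
  simp

lemma φ_bijective {x : A} (h : Gen R x) : Function.Bijective (φ R x) := by
  constructor
  · rw [← LinearMap.ker_eq_bot, LinearMap.ker_eq_bot']
    intro p hp
    have h1 : p.1 = 0 := by
      have := counit_φ h p
      rw [hp, map_zero] at this
      exact this.symm
    have h2 : p.2 • x = 0 := by
      rw [φ_apply, h1, zero_smul, zero_add] at hp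
      exact hp
    exact Prod.ext h1 (h.free _ h2)
  · intro f
    have h0 : counit (R := R) (f - counit (R := R) f • (1 : A)) = 0 := by
      rw [map_sub, map_smul, Bialgebra.counit_one]
      simp
    obtain ⟨r, hr⟩ := h.gen _ h0
    refine ⟨(counit (R := R) f, r), ?_⟩
    rw [φ_apply]
    show counit (R := R) f • (1 : A) + r • x = f
    rw [← hr]
    abel

/-- The linear equivalence `R × R ≃ A`. -/
noncomputable def e {x : A} (h : Gen R x) : (R × R) ≃ₗ[R] A :=
  LinearEquiv.ofBijective (φ R x) (φ_bijective h)

lemma e_apply {x : A} (h : Gen R x) (p : R × R) : e h p = p.1 • (1 : A) + p.2 • x :=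
  φ_apply x p

/-- The `x`-coordinate. -/
noncomputable def coord {x : A} (h : Gen R x) : A →ₗ[R] R :=
  LinearMap.snd R R R ∘ₗ (e h).symm.toLinearMap

lemma symm_fst {x : A} (h : Gen R x) (f : A) : ((e h).symm f).1 = counit (R := R) f := by
  have h1 := counit_φ h ((e h).symm f)
  have h2 : φ R x ((e h).symm f) = f := (e h).apply_symm_apply f
  rw [h2] at h1
  exact h1.symm

lemma decomp {x : A} (h : Gen R x) (f : A) :
    f = counit (R := R) f • (1 : A) + coord h f • x := by
  have h2 : e h ((e h).symm f) = f := (e h).apply_symm_apply f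
  rw [e_apply, symm_fst] at h2
  exact h2.symm

lemma coord_eq {x : A} (h : Gen R x) (f : A) (s r : R) (hf : f = s • (1 : A) + r • x) :
    counit (R := R) f = s ∧ coord h f = r := by
  have h1 : (e h).symm f = (s, r) := by
    rw [LinearEquiv.symm_apply_eq, e_apply]
    exact hf
  constructor
  · rw [← symm_fst h, h1]
  · show ((e h).symm f).2 = r
    rw [h1]

lemma coord_one {x : A} (h : Gen R x) : coord h (1 : A) = 0 :=
  (coord_eq h 1 1 0 (by simp)).2

lemma coord_x {x : A} (h : Gen R x) : coord h x = 1 :=
  (coord_eq h x 0 1 (by simp)).2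

/-- Pairing of two functionals on `A ⊗ A`. -/
noncomputable def pair (u v : A →ₗ[R] R) : A ⊗[R] A →ₗ[R] R :=
  (TensorProduct.lid R R).toLinearMap ∘ₗ TensorProduct.map u v

@[simp] lemma pair_tmul (u v : A →ₗ[R] R) (a b : A) : pair u v (a ⊗ₜ[R] b) = u a * v b := by
  simp [pair]

lemma expand {x : A} (h : Gen R x) (t : A ⊗[R] A) :
    t = pair counit counit t • ((1 : A) ⊗ₜ[R] (1 : A)) + pair (coord h) counit t • (x ⊗ₜ[R] (1 : A))
      + pair counit (coord h) t • ((1 : A) ⊗ₜ[R] x) + pair (coord h) (coord h) t • (x ⊗ₜ[R] x) := by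
  induction t using TensorProduct.induction_on with
  | zero => simp
  | tmul a b =>
    simp only [pair_tmul]
    conv_lhs => rw [decomp h a, decomp h b]
    simp only [TensorProduct.add_tmul, TensorProduct.tmul_add, TensorProduct.smul_tmul_smul]
    abel
  | add t₁ t₂ h₁ h₂ =>
    conv_lhs => rw [h₁, h₂]
    simp only [map_add, add_smul]
    abel

lemma pair_counit_right (u : A →ₗ[R] R) (a : A) : pair u counit (comul (R := R) a) = u a := by
  have h1 : pair u (counit (R := R) (A := A)) =
      u ∘ₗ (TensorProduct.rid R A).toLinearMap ∘ₗ (counit (R := R) (A := A)).lTensor A := by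
    apply TensorProduct.ext'
    intro a b
    simp [mul_comm]
  rw [h1, LinearMap.comp_apply, LinearMap.comp_apply, lTensor_counit_comul]
  simp

lemma pair_counit_left (v : A →ₗ[R] R) (a : A) : pair counit v (comul (R := R) a) = v a := by
  have h1 : pair (counit (R := R) (A := A)) v =
      v ∘ₗ (TensorProduct.lid R A).toLinearMap ∘ₗ (counit (R := R) (A := A)).rTensor A := by
    apply TensorProduct.ext'
    intro a b
    simp
  rw [h1, LinearMap.comp_apply, LinearMap.comp_apply, rTensor_counit_comul]
  simp

/-- The comultiplication of `x`. -/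
lemma comul_x {x : A} (h : Gen R x) :
    comul (R := R) x = x ⊗ₜ[R] (1 : A) + (1 : A) ⊗ₜ[R] x
      + pair (coord h) (coord h) (comul (R := R) x) • (x ⊗ₜ[R] x) := by
  conv_lhs => rw [expand h (comul (R := R) x)]
  rw [pair_counit_right, pair_counit_left, pair_counit_right, h.counit_x, coord_x]
  simp

/-- `x * x = a • x`. -/
lemma x_mul_x {x : A} (h : Gen R x) : x * x = coord h (x * x) • x := by
  conv_lhs => rw [decomp h (x * x)]
  rw [Bialgebra.counit_mul, h.counit_x]
  simp


/-- Two linear maps out of `A` agreeing on `1` and `x` are equal. -/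
lemma linearMap_ext {x : A} (h : Gen R x) {M : Type*} [AddCommGroup M] [Module R M]
    (u v : A →ₗ[R] M) (h1 : u 1 = v 1) (hx : u x = v x) : u = v := by
  apply LinearMap.ext
  intro f
  rw [decomp h f, map_add, map_add, map_smul, map_smul, map_smul, map_smul, h1, hx]

lemma coord_mul {x : A} (h : Gen R x) (f g : A) :
    coord h (f * g) = counit (R := R) f * coord h g + coord h f * counit (R := R) g
      + coord h f * coord h g * coord h (x * x) := by
  obtain ⟨a, ha, hxx⟩ : ∃ a, a = coord h (x * x) ∧ x * x = a • x := ⟨_, rfl, x_mul_x h⟩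
  rw [← ha]
  refine (coord_eq h (f * g) (counit (R := R) f * counit (R := R) g) _ ?_).2
  conv_lhs => rw [decomp h f, decomp h g]
  simp only [add_mul, mul_add, smul_mul_smul_comm, one_mul, mul_one]
  rw [hxx]
  module

section Scale

variable {A' : Type*} [CommRing A'] [Bialgebra R A']

/-- The linear map `f ↦ ε f • 1 + (s * π f) • y`. -/
noncomputable def scaleMap {x : A} (h : Gen R x) (y : A') (s : R) : A →ₗ[R] A' :=
  (LinearMap.toSpanSingleton R A' 1) ∘ₗ (counit (R := R) (A := A)) +
    (LinearMap.toSpanSingleton R A' y) ∘ₗ (s • coord h)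

lemma scaleMap_apply {x : A} (h : Gen R x) (y : A') (s : R) (f : A) :
    scaleMap h y s f = counit (R := R) f • (1 : A') + (s * coord h f) • y := by
  simp [scaleMap]

lemma scaleMap_one {x : A} (h : Gen R x) (y : A') (s : R) : scaleMap h y s 1 = 1 := by
  rw [scaleMap_apply, coord_one, Bialgebra.counit_one]
  simp

lemma scaleMap_x {x : A} (h : Gen R x) (y : A') (s : R) : scaleMap h y s x = s • y := by
  rw [scaleMap_apply, coord_x, h.counit_x]
  simp

lemma scaleMap_mul {x : A} (h : Gen R x) (y : A') (s a' : R) (hyy : y * y = a' • y)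
    (ha : coord h (x * x) = a' * s) (f g : A) :
    scaleMap h y s (f * g) = scaleMap h y s f * scaleMap h y s g := by
  simp only [scaleMap_apply, coord_mul h f g, Bialgebra.counit_mul, ha]
  simp only [add_mul, mul_add, smul_mul_smul_comm, one_mul, mul_one, hyy]
  module

/-- The algebra map `A → A'` sending `x` to `s • y`. -/
noncomputable def scaleAlgHom {x : A} (h : Gen R x) (y : A') (s a' : R) (hyy : y * y = a' • y)
    (ha : coord h (x * x) = a' * s) : A →ₐ[R] A' :=
  AlgHom.ofLinearMap (scaleMap h y s) (scaleMap_one h y s) (scaleMap_mul h y s a' hyy ha)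

lemma scaleAlgHom_x {x : A} (h : Gen R x) (y : A') (s a' : R) (hyy : y * y = a' • y)
    (ha : coord h (x * x) = a' * s) : scaleAlgHom h y s a' hyy ha x = s • y :=
  scaleMap_x h y s

end Scale

end Groth.Agent.Helper22.HopfTwo
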