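import Groth.Prelude.Def_QuadGrp
import Mathlib.Tactic
import Mathlib.Algebra.DualNumber
import Mathlib.LinearAlgebra.Dimension.Constructions

open CliffordAlgebra

namespace Groth.Agent.Helper22.InfIso

section General
variable {A : Type*} [CommRing A] {M : Type*} [AddCommGroup M] [Module A M] (Q : QuadraticForm A M)

/-- `X x = B(x,v) w - B(x,w) v`. -/
noncomputable def X (v w : M) : M →ₗ[A] M :=
  ((QuadraticMap.polarBilin Q).flip v).smulRight w - ((QuadraticMap.polarBilin Q).flip w).smulRight v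

theorem X_apply (v w x : M) :
    X Q v w x = QuadraticMap.polar Q x v • w - QuadraticMap.polar Q x w • v := by
  simp [X]

variable (ε : A) (hε : ε * ε = 0)

include hε in
theorem fwd_bwd (v w : M) :
    (LinearMap.id + ε • X Q v w) ∘ₗ (LinearMap.id - ε • X Q v w) = LinearMap.id := by
  ext x
  simp only [LinearMap.comp_apply, LinearMap.add_apply, LinearMap.sub_apply, LinearMap.id_apply,
    LinearMap.smul_apply, map_sub, map_smul]
  simp only [smul_sub, smul_add, smul_smul, hε, zero_smul]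
  abel

include hε in
theorem bwd_fwd (v w : M) :
    (LinearMap.id - ε • X Q v w) ∘ₗ (LinearMap.id + ε • X Q v w) = LinearMap.id := by
  ext x
  simp only [LinearMap.comp_apply, LinearMap.add_apply, LinearMap.sub_apply, LinearMap.id_apply,
    LinearMap.smul_apply, map_add, map_smul]
  simp only [smul_sub, smul_add, smul_smul, hε, zero_smul]
  abel

/-- The infinitesimal isometry `1 + ε X`. -/
noncomputable def iso (v w : M) : M ≃ₗ[A] M :=
  LinearEquiv.ofLinearMap (LinearMap.id + ε • X Q v w) (LinearMap.id - ε • X Q v w)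
    (fwd_bwd Q ε hε v w) (bwd_fwd Q ε hε v w)

theorem iso_apply (v w x : M) :
    iso Q ε hε v w x = x + ε • (QuadraticMap.polar Q x v • w - QuadraticMap.polar Q x w • v) := by
  simp [iso, X_apply]

theorem iso_mem_O (v w : M) : iso Q ε hε v w ∈ QuadGrp.O Q := by
  rw [QuadGrp.mem_O]
  intro y
  rw [iso_apply, QuadraticMap.map_add (⇑Q), QuadraticMap.map_smul, hε, zero_smul, add_zero,
    QuadraticMap.polar_smul_right, QuadraticMap.polar_sub_right, QuadraticMap.polar_smul_right,
    QuadraticMap.polar_smul_right]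
  simp only [smul_eq_mul]
  rw [mul_comm (QuadraticMap.polar Q y v), sub_self, mul_zero, add_zero]

/-- The even Clifford element `1 + ε w v`. -/
noncomputable def u (v w : M) : CliffordAlgebra Q := 1 + ε • (ι Q w * ι Q v)

theorem u_mem_even (v w : M) : u Q ε v w ∈ CliffordAlgebra.even Q := by
  refine Subalgebra.add_mem _ (Subalgebra.one_mem _) (Subalgebra.smul_mem _ ?_ _)
  exact ι_mul_ι_mem_evenOdd_zero Q w v

include hε in
theorem u_mul_inv (v w : M) : u Q ε v w * (1 - ε • (ι Q w * ι Q v)) = 1 := by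
  simp only [u, add_mul, mul_sub, mul_one, one_mul, smul_mul_smul_comm, hε, zero_smul]
  abel

include hε in
theorem inv_mul_u (v w : M) : (1 - ε • (ι Q w * ι Q v)) * u Q ε v w = 1 := by
  simp only [u, mul_add, sub_mul, mul_one, one_mul, smul_mul_smul_comm, hε, zero_smul]
  abel

include hε in
theorem ι_iso_mul_u (v w y : M) :
    ι Q (iso Q ε hε v w y) * u Q ε v w = u Q ε v w * ι Q y := by
  have h1 := ι_mul_ι_comm (Q := Q) y w
  have h2 := ι_mul_ι_comm (Q := Q) y v
  have key : ι Q y * (ι Q w * ι Q v) =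
      QuadraticMap.polar Q y w • ι Q v - QuadraticMap.polar Q y v • ι Q w + ι Q w * ι Q v * ι Q y := by
    simp only [Algebra.smul_def]
    rw [← mul_assoc, h1, sub_mul, mul_assoc (ι Q w), h2, mul_sub, ← mul_assoc (ι Q w),
      ← Algebra.commutes]
    abel
  rw [iso_apply, u, map_add, map_smul, map_sub, map_smul, map_smul]
  have key' : ι Q y * (ι Q w * ι Q v) +
      (QuadraticMap.polar Q y v • ι Q w - QuadraticMap.polar Q y w • ι Q v) = ι Q w * ι Q v * ι Q y := by
    rw [key]; abel
  generalize QuadraticMap.polar Q y v • ι Q w - QuadraticMap.polar Q y w • ι Q v = b at key' ⊢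
  generalize ι Q w * ι Q v = c' at key' ⊢
  calc (ι Q y + ε • b) * (1 + ε • c')
      = ι Q y + ι Q y * (ε • c') + (ε • b + (ε • b) * (ε • c')) := by
        rw [add_mul, mul_add, mul_add, mul_one, mul_one]
    _ = ι Q y + ε • (ι Q y * c') + (ε • b + 0) := by
        rw [mul_smul_comm ε (ι Q y) c', smul_mul_smul_comm, hε, zero_smul]
    _ = ι Q y + ε • (ι Q y * c' + b) := by rw [add_zero, smul_add, add_assoc]
    _ = (1 + ε • c') * ι Q y := by rw [key', add_mul, one_mul, smul_mul_assoc]

include hε in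
theorem map_mul_u (v w : M) (z : CliffordAlgebra Q) :
    CliffordAlgebra.map (QuadGrp.isometryOfMem Q (iso Q ε hε v w) (iso_mem_O Q ε hε v w)) z * u Q ε v w =
      u Q ε v w * z := by
  induction z using CliffordAlgebra.induction with
  | algebraMap r => rw [AlgHom.commutes, Algebra.commutes]
  | ι y =>
    rw [CliffordAlgebra.map_apply_ι, QuadGrp.isometryOfMem_apply]
    exact ι_iso_mul_u Q ε hε v w y
  | mul a b ha hb => rw [map_mul, mul_assoc, hb, ← mul_assoc, ha, mul_assoc]
  | add a b ha hb => rw [map_add, add_mul, mul_add, ha, hb]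

theorem iso_dickson (v w : M) :
    QuadGrp.IsDicksonTrivial Q (iso Q ε hε v w) (iso_mem_O Q ε hε v w) := by
  intro z hz
  have h1 := map_mul_u Q ε hε v w (z : CliffordAlgebra Q)
  have h2 : u Q ε v w * (z : CliffordAlgebra Q) = (z : CliffordAlgebra Q) * u Q ε v w := by
    have := (Subalgebra.mem_center_iff.1 hz) ⟨u Q ε v w, u_mem_even Q ε v w⟩
    exact congrArg Subtype.val this
  rw [h2] at h1
  have := congrArg (fun t => t * (1 - ε • (ι Q w * ι Q v))) h1
  simpa only [mul_assoc, u_mul_inv Q ε hε v w, mul_one] using this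

theorem iso_mem_SOeven (v w : M) : iso Q ε hε v w ∈ QuadGrp.SOeven Q :=
  ⟨iso_mem_O Q ε hε v w, iso_dickson Q ε hε v w⟩

end General

section Scalar
variable {R : Type*} [CommRing R] {n : ℕ}

theorem exists_third (hn : 3 ≤ n) (k l : Fin n) : ∃ j : Fin n, j ≠ k ∧ j ≠ l := by
  by_cases h0 : (⟨0, by omega⟩ : Fin n) ≠ k ∧ (⟨0, by omega⟩ : Fin n) ≠ l
  · exact ⟨_, h0⟩
  by_cases h1 : (⟨1, by omega⟩ : Fin n) ≠ k ∧ (⟨1, by omega⟩ : Fin n) ≠ l
  · exact ⟨_, h1⟩
  refine ⟨⟨2, by omega⟩, ?_, ?_⟩ <;>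
    (simp only [ne_eq, Fin.ext_iff, not_and_or, not_not] at *; omega)

theorem scalar_of_commute (hn : 3 ≤ n) (Q : QuadraticForm R (Fin n → R))
    (hQ : Function.Bijective (QuadraticMap.polarBilin Q))
    (g : (Fin n → R) ≃ₗ[R] (Fin n → R)) (hg : ∀ v, Q (g v) = Q v)
    (hcomm : ∀ v w x : Fin n → R,
      g (QuadraticMap.polar Q x v • w - QuadraticMap.polar Q x w • v) =
        QuadraticMap.polar Q (g x) v • w - QuadraticMap.polar Q (g x) w • v) :
    ∃ c : R, c * c = 1 ∧ ∀ v, g v = c • v := by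
  classical
  have hpol : ∀ a b, QuadraticMap.polar Q (g a) (g b) = QuadraticMap.polar Q a b := by
    intro a b
    simp only [QuadraticMap.polar, ← map_add, hg]
  have hdual : ∀ j : Fin n, ∃ d : Fin n → R, ∀ x, QuadraticMap.polar Q d x = x j := by
    intro j
    obtain ⟨d, hd⟩ := hQ.2 (LinearMap.proj j)
    exact ⟨d, fun x => by
      have := LinearMap.congr_fun hd x
      simpa using this⟩
  choose d hd using hdual
  set e : Fin n → (Fin n → R) := fun k => Pi.single k 1 with he
  have hejk : ∀ j k : Fin n, e k j = if j = k then 1 else 0 := by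
    intro j k; simp [he, Pi.single_apply]
  -- (1)
  have h1 : ∀ j k : Fin n, j ≠ k →
      g (e k) = QuadraticMap.polar Q (g (d j)) (e j) • e k - QuadraticMap.polar Q (g (d j)) (e k) • e j := by
    intro j k hjk
    have := hcomm (e j) (e k) (d j)
    rw [hd, hd, hejk j j, hejk j k, if_pos rfl, if_neg hjk, one_smul, zero_smul, sub_zero] at this
    exact this
  have hoff : ∀ k l : Fin n, l ≠ k → g (e k) l = 0 := by
    intro k l hlk
    obtain ⟨j, hjk, hjl⟩ := exists_third hn k l
    rw [h1 j k hjk]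
    simp only [Pi.sub_apply, Pi.smul_apply, smul_eq_mul, hejk, if_neg hlk, if_neg (Ne.symm hjl),
      mul_zero, sub_zero]
  set lam : Fin n → R := fun k => g (e k) k with hlam
  have hdiag : ∀ k, g (e k) = lam k • e k := by
    intro k
    funext l
    by_cases hlk : l = k
    · subst hlk; simp [hlam, hejk]
    · rw [hoff k l hlk]; simp [hejk, hlk]
  have h2 : ∀ j k : Fin n, j ≠ k → lam k = QuadraticMap.polar Q (g (d j)) (e j) := by
    intro j k hjk
    have := congrFun (h1 j k hjk) k
    simp only [Pi.sub_apply, Pi.smul_apply, smul_eq_mul, hejk, if_true, if_neg (Ne.symm hjk),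
      mul_one, mul_zero, sub_zero] at this
    exact this
  have h3 : ∀ j k : Fin n, j ≠ k → lam j * lam k = 1 := by
    intro j k hjk
    rw [h2 j k hjk, ← smul_eq_mul, ← QuadraticMap.polar_smul_right, ← hdiag j, hpol, hd, hejk,
      if_pos rfl]
  have heq : ∀ k l : Fin n, lam k = lam l := by
    intro k l
    by_cases hkl : k = l
    · rw [hkl]
    obtain ⟨j, hjk, hjl⟩ := exists_third hn k l
    calc lam k = lam k * (lam j * lam l) := by rw [h3 j l hjl, mul_one]
      _ = (lam j * lam k) * lam l := by ring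
      _ = lam l := by rw [h3 j k hjk, one_mul]
  refine ⟨lam ⟨0, by omega⟩, ?_, ?_⟩
  · have := h3 ⟨0, by omega⟩ ⟨1, by omega⟩ (by simp [Fin.ext_iff])
    rwa [heq ⟨1, by omega⟩ ⟨0, by omega⟩] at this
  · intro v
    have hv : v = ∑ k, v k • e k := by
      funext l
      simp [hejk, Finset.sum_apply]
    conv_lhs => rw [hv]
    rw [map_sum]
    conv_rhs => rw [hv]
    rw [Finset.smul_sum]
    refine Finset.sum_congr rfl (fun k _ => ?_)
    rw [map_smul, hdiag, heq k ⟨0, by omega⟩, smul_comm]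

end Scalar

section BaseChange
open TensorProduct
variable {R : Type*} [CommRing R] {M : Type*} [AddCommGroup M] [Module R M] [Module.Free R M]
  (Q : QuadraticForm R M) (A : Type*) [CommRing A] [Algebra R A]

theorem baseChangeForm_tmul (a : A) (m : M) :
    QuadGrp.baseChangeForm A Q (a ⊗ₜ[R] m) = Q m • (a * a) := by
  simp [QuadGrp.baseChangeForm, QuadGrp.baseChange_tmul]

theorem polar_baseChangeForm (x v : M) :
    QuadraticMap.polar (QuadGrp.baseChangeForm A Q) ((1 : A) ⊗ₜ[R] x) ((1 : A) ⊗ₜ[R] v) =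
      algebraMap R A (QuadraticMap.polar Q x v) := by
  simp only [QuadraticMap.polar, ← TensorProduct.tmul_add, baseChangeForm_tmul, mul_one,
    Algebra.algebraMap_eq_smul_one, sub_smul]

theorem algebraMap_smul_one_tmul (b : R) (w : M) :
    algebraMap R A b • ((1 : A) ⊗ₜ[R] w) = (1 : A) ⊗ₜ[R] (b • w) := by
  rw [TensorProduct.smul_tmul', smul_eq_mul, mul_one, Algebra.algebraMap_eq_smul_one,
    TensorProduct.smul_tmul]

theorem smul_one_tmul (a : A) (w : M) : a • ((1 : A) ⊗ₜ[R] w) = a ⊗ₜ[R] w := by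
  rw [TensorProduct.smul_tmul', smul_eq_mul, mul_one]

variable (ε : A) (hε : ε * ε = 0)

theorem iso_one_tmul (v w x : M) :
    iso (QuadGrp.baseChangeForm A Q) ε hε ((1 : A) ⊗ₜ[R] v) ((1 : A) ⊗ₜ[R] w) ((1 : A) ⊗ₜ[R] x) =
      (1 : A) ⊗ₜ[R] x + ε ⊗ₜ[R] (QuadraticMap.polar Q x v • w - QuadraticMap.polar Q x w • v) := by
  rw [iso_apply, polar_baseChangeForm, polar_baseChangeForm, algebraMap_smul_one_tmul,
    algebraMap_smul_one_tmul, ← TensorProduct.tmul_sub, smul_one_tmul]

end BaseChange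

section Dual
open TensorProduct
variable {R : Type*} [CommRing R] {M : Type*} [AddCommGroup M] [Module R M]

/-- The `ε`-coefficient `R[ε] ⊗ M → M`. -/
noncomputable def epsCoeff : (DualNumber R ⊗[R] M) →ₗ[R] M :=
  (TensorProduct.lid R M).toLinearMap ∘ₗ LinearMap.rTensor M (TrivSqZeroExt.sndHom R R)

theorem epsCoeff_eps_tmul (m : M) : epsCoeff ((DualNumber.eps : DualNumber R) ⊗ₜ[R] m) = m := by
  simp [epsCoeff]

theorem epsCoeff_one_tmul (m : M) : epsCoeff ((1 : DualNumber R) ⊗ₜ[R] m) = 0 := by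
  simp [epsCoeff]

end Dual

section Main
open TensorProduct

theorem scalar_imp_centralizes {R : Type*} [CommRing R] {M : Type*} [AddCommGroup M] [Module R M]
    (A : Type*) [CommRing A] [Algebra R A] (g : M ≃ₗ[R] M) (c : R) (hc : ∀ v, g v = c • v)
    (h : (A ⊗[R] M) ≃ₗ[A] (A ⊗[R] M)) :
    g.baseChange R A M M * h = h * g.baseChange R A M M := by
  have key : ∀ y : A ⊗[R] M, g.baseChange R A M M y = c • y := by
    intro y
    induction y using TensorProduct.induction_on with
    | zero => simp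
    | tmul a m => rw [LinearEquiv.baseChange_tmul, hc, TensorProduct.tmul_smul]
    | add y z hy hz => rw [map_add, hy, hz, smul_add]
  refine LinearEquiv.ext (fun y => ?_)
  rw [LinearEquiv.mul_apply, LinearEquiv.mul_apply, key, key, ← algebraMap_smul A c y, map_smul,
    algebraMap_smul]

theorem centralizes_imp_scalar {R : Type*} [CommRing R] (n : ℕ) (hn : 3 ≤ n) (hev : Even n)
    (Q : QuadraticForm R (Fin n → R)) (hQ : QuadGrp.IsRegular Q)
    (g : (Fin n → R) ≃ₗ[R] (Fin n → R)) (hgO : g ∈ QuadGrp.O Q)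
    (hc : ∀ h ∈ QuadGrp.sorth Q (DualNumber R),
      g.baseChange R (DualNumber R) (Fin n → R) (Fin n → R) * h =
        h * g.baseChange R (DualNumber R) (Fin n → R) (Fin n → R)) :
    ∃ c : R, c * c = 1 ∧ ∀ v, g v = c • v := by
  rcases subsingleton_or_nontrivial R with hR | hR
  · exact ⟨1, by simp, fun v => Subsingleton.elim _ _⟩
  have hfr : Module.finrank (DualNumber R) (DualNumber R ⊗[R] (Fin n → R)) = n := by
    rw [Module.finrank_baseChange, Module.finrank_fin_fun]
  apply scalar_of_commute hn Q hQ g hgO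
  intro v w x
  have hε : (DualNumber.eps : DualNumber R) * DualNumber.eps = 0 := DualNumber.eps_mul_eps
  have hmem : iso (QuadGrp.baseChangeForm (DualNumber R) Q) DualNumber.eps hε
      ((1 : DualNumber R) ⊗ₜ[R] v) ((1 : DualNumber R) ⊗ₜ[R] w) ∈ QuadGrp.sorth Q (DualNumber R) := by
    rw [QuadGrp.sorth, QuadGrp.SO, if_pos (by rw [hfr]; exact hev)]
    exact iso_mem_SOeven _ _ hε _ _
  have h1 := congrArg (fun f => f ((1 : DualNumber R) ⊗ₜ[R] x)) (hc _ hmem)
  simp only [LinearEquiv.mul_apply] at h1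
  rw [iso_one_tmul, LinearEquiv.baseChange_tmul, iso_one_tmul, map_add, LinearEquiv.baseChange_tmul,
    LinearEquiv.baseChange_tmul] at h1
  have h2 := congrArg epsCoeff h1
  simpa [epsCoeff_eps_tmul, epsCoeff_one_tmul] using h2

end Main

end Groth.Agent.Helper22.InfIso
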