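import Groth.Prelude.Def_FibCat2
import Groth.Agent.Lib.Helper22.RepDiag
import Groth.Agent.H13.FibGrpd
import Mathlib

set_option autoImplicit false
set_option backward.isDefEq.respectTransparency false
set_option backward.isDefEq.respectTransparency.types false

namespace Groth.Agent.Helper22.InhTop

open CategoryTheory FibCat

universe w v₃ u₃ v₂ u₂ v u

section plain
variable {C : Type u} [Category.{v} C] {𝒳 : Type u₂} [Category.{v₂} 𝒳] (p : 𝒳 ⥤ C)

lemma pullback_pushforward_le (hp : FibCat.IsFibGrpd p) {x y : 𝒳} (S : Sieve x) (f : y ⟶ x) :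
    (S.functorPushforward p).pullback (p.map f) ≤ (S.pullback f).functorPushforward p := by
  intro V g hg
  obtain ⟨z, k, l, hk, hgl⟩ := hg
  obtain ⟨z', k', hk'⟩ := hp.exists_lift g
  haveI := hk'
  have hz' : p.obj z' = V := IsHomLift.domain_eq p g k'
  haveI h1 : p.IsHomLift (g ≫ p.map f) (k' ≫ f) := inferInstance
  haveI hsc : p.IsStronglyCartesian (p.map k) k := hp.isStronglyCartesian k
  haveI h2 : p.IsHomLift (l ≫ p.map k) (k' ≫ f) := by
    rw [← hgl]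
    exact h1
  obtain ⟨χ, ⟨hχl, hχ⟩, -⟩ := Functor.IsStronglyCartesian.universal_property p (p.map k) k l
    (l ≫ p.map k) rfl (k' ≫ f)
  refine ⟨z', k', eqToHom hz'.symm, ?_, ?_⟩
  · show S (k' ≫ f)
    rw [← hχ]
    exact S.downward_closed hk χ
  · have hm : p.map k' = eqToHom hz' ≫ g :=
      Groth.Agent.Helper22.RepDiag.map_eq_of_lift_dom p k' g hz' hk'
    rw [hm, eqToHom_trans_assoc, eqToHom_refl, Category.id_comp]

lemma pushforward_pullback_le {x z : 𝒳} (R : Sieve x) (k : z ⟶ x) {V : C} (l : V ⟶ p.obj z) :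
    ((R.pullback k).functorPushforward p).pullback l ≤
      (R.functorPushforward p).pullback (l ≫ p.map k) := by
  intro V' h hh
  obtain ⟨z'', k'', l'', hk'', hl''⟩ := hh
  refine ⟨z'', k'' ≫ k, l'', hk'', ?_⟩
  rw [p.map_comp, ← Category.assoc, hl'', Category.assoc]

/-- the sieves whose image generates a covering sieve form a topology. -/
def inhTop (J : GrothendieckTopology C) (hp : FibCat.IsFibGrpd p) : GrothendieckTopology 𝒳 where
  sieves x := {S | S.functorPushforward p ∈ J (p.obj x)}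
  top_mem' x := by
    show (⊤ : Sieve x).functorPushforward p ∈ J (p.obj x)
    rw [Sieve.functorPushforward_top]
    exact J.top_mem _
  pullback_stable' := by
    intro x y S f hS
    show (S.pullback f).functorPushforward p ∈ J (p.obj y)
    exact J.superset_covering (pullback_pushforward_le p hp S f) (J.pullback_stable (p.map f) hS)
  transitive' := by
    intro x S hS R hR
    show R.functorPushforward p ∈ J (p.obj x)
    apply J.transitive hS
    intro V g hg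
    obtain ⟨z, k, l, hk, rfl⟩ := hg
    have h1 : (R.pullback k).functorPushforward p ∈ J (p.obj z) := hR hk
    exact J.superset_covering (pushforward_pullback_le p R k l) (J.pullback_stable l h1)

theorem mem_restricted_iff (J : GrothendieckTopology C) (hp : FibCat.IsFibGrpd p) {x : 𝒳}
    (S : Sieve x) :
    S ∈ p.restrictedTopology J x ↔ S.functorPushforward p ∈ J (p.obj x) := by
  constructor
  · intro hS
    have hle : p.restrictedTopology J ≤ inhTop p J hp := by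
      rw [Functor.restrictedTopology, Precoverage.toGrothendieck_le_iff_le_toPrecoverage]
      intro y R hR
      show (Sieve.generate R).functorPushforward p ∈ J (p.obj y)
      rw [← Sieve.generate_map_eq_functorPushforward]
      exact hR
    exact hle x hS
  · exact Functor.mem_restrictedTopology_of_functorPushforward_mem

lemma post_faithful (hp : FibCat.IsFibGrpd p) (x : 𝒳) :
    (Over.post p : Over x ⥤ Over (p.obj x)).Faithful := by
  constructor
  intro a b k k' hkk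
  have h1 : p.map k.left = p.map k'.left :=
    congrArg (fun m : (Over.post p).obj a ⟶ (Over.post p).obj b => m.left) hkk
  apply Over.OverMorphism.ext
  haveI := hp.isStronglyCartesian b.hom
  haveI : p.IsHomLift (p.map k.left) k'.left := by
    rw [h1]
    infer_instance
  apply Functor.IsStronglyCartesian.ext p (p.map b.hom) b.hom (p.map k.left)
  rw [Over.w k, Over.w k']

lemma post_full (hp : FibCat.IsFibGrpd p) (x : 𝒳) :
    (Over.post p : Over x ⥤ Over (p.obj x)).Full := by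
  constructor
  intro a b g
  have hw : g.left ≫ p.map b.hom = p.map a.hom := Over.w g
  haveI := hp.isStronglyCartesian b.hom
  haveI : p.IsHomLift (g.left ≫ p.map b.hom) a.hom := by
    rw [hw]
    infer_instance
  obtain ⟨χ, ⟨hχl, hχ⟩, -⟩ := Functor.IsStronglyCartesian.universal_property p (p.map b.hom)
    b.hom g.left (g.left ≫ p.map b.hom) rfl a.hom
  refine ⟨Over.homMk χ hχ, ?_⟩
  apply Over.OverMorphism.ext
  exact (@IsHomLift.eq_of_isHomLift _ _ _ _ p a.left b.left g.left χ hχl).symm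

lemma post_essSurj (hp : FibCat.IsFibGrpd p) (x : 𝒳) :
    (Over.post p : Over x ⥤ Over (p.obj x)).EssSurj := by
  constructor
  intro c
  obtain ⟨y, φ, hφ⟩ := hp.exists_lift (x := x) c.hom
  haveI := hφ
  have hd : p.obj y = c.left := IsHomLift.domain_eq p c.hom φ
  have hm : p.map φ = eqToHom hd ≫ c.hom :=
    Groth.Agent.Helper22.RepDiag.map_eq_of_lift_dom p φ c.hom hd hφ
  exact ⟨Over.mk φ, ⟨Over.isoMk (eqToIso hd) (by
    show eqToHom hd ≫ c.hom = p.map φ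
    exact hm.symm)⟩⟩

lemma post_isEquivalence (hp : FibCat.IsFibGrpd p) (x : 𝒳) :
    (Over.post p : Over x ⥤ Over (p.obj x)).IsEquivalence := by
  haveI := post_faithful p hp x
  haveI := post_full p hp x
  haveI := post_essSurj p hp x
  exact ⟨inferInstance, inferInstance, inferInstance⟩

lemma pushforward_congr (J : GrothendieckTopology C) {q q' : 𝒳 ⥤ C} (h : q = q') {x : 𝒳}
    (S : Sieve x) (hS : S.functorPushforward q' ∈ J (q'.obj x)) :
    S.functorPushforward q ∈ J (q.obj x) := by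
  subst h
  exact hS

end plain

section based
variable {C : Type u} [Category.{v} C] (J : GrothendieckTopology C)
  {𝒳 : BasedCategory.{v₂, u₂} C} {𝒴 : BasedCategory.{v₃, u₃} C}

lemma coverPreserving (h𝒳 : FibCat.IsFibGrpd 𝒳.p) (h𝒴 : FibCat.IsFibGrpd 𝒴.p) (F : 𝒳 ⥤ᵇ 𝒴) :
    CoverPreserving (𝒳.p.restrictedTopology J) (𝒴.p.restrictedTopology J) F.toFunctor := by
  constructor
  intro x S hS
  rw [mem_restricted_iff 𝒴.p J h𝒴, ← Sieve.functorPushforward_comp]
  exact pushforward_congr J F.w S ((mem_restricted_iff 𝒳.p J h𝒳 S).1 hS)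

lemma isCocontinuous (h𝒳 : FibCat.IsFibGrpd 𝒳.p) (h𝒴 : FibCat.IsFibGrpd 𝒴.p) (F : 𝒳 ⥤ᵇ 𝒴) :
    F.toFunctor.IsCocontinuous (𝒳.p.restrictedTopology J) (𝒴.p.restrictedTopology J) := by
  constructor
  intro x S hS
  rw [mem_restricted_iff 𝒴.p J h𝒴] at hS
  rw [mem_restricted_iff 𝒳.p J h𝒳]
  apply pushforward_congr J F.w.symm
  refine J.superset_covering ?_ hS
  intro V g hg
  obtain ⟨z, k, l, hk, rfl⟩ := hg
  let u : 𝒴.p.obj z ⟶ 𝒳.p.obj x := 𝒴.p.map k ≫ eqToHom (F.w_obj x)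
  obtain ⟨z', k', hk'⟩ := h𝒳.exists_lift u
  haveI := hk'
  haveI hFk'u : 𝒴.p.IsHomLift u (F.map k') := inferInstance
  haveI hFk' : 𝒴.p.IsHomLift (𝒴.p.map k) (F.map k') :=
    (IsHomLift.lift_comp_eqToHom_iff 𝒴.p (𝒴.p.map k) (F.map k') (F.w_obj x)).1 hFk'u
  haveI hsc : 𝒴.p.IsStronglyCartesian (𝒴.p.map k) k := h𝒴.isStronglyCartesian k
  obtain ⟨χ, ⟨hχl, hχ⟩, -⟩ := Functor.IsStronglyCartesian.universal_property 𝒴.p (𝒴.p.map k) k
    (𝟙 (𝒴.p.obj z)) (𝒴.p.map k) (Category.id_comp _).symm (F.map k')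
  have hd : 𝒴.p.obj (F.obj z') = 𝒴.p.obj z := IsHomLift.domain_eq 𝒴.p (𝒴.p.map k) (F.map k')
  have hm : 𝒴.p.map (F.map k') = eqToHom hd ≫ 𝒴.p.map k :=
    Groth.Agent.Helper22.RepDiag.map_eq_of_lift_dom 𝒴.p (F.map k') (𝒴.p.map k) hd hFk'
  refine ⟨z', k', l ≫ eqToHom hd.symm, ?_, ?_⟩
  · show S (F.map k')
    rw [← hχ]
    exact S.downward_closed hk χ
  · show l ≫ 𝒴.p.map k = (l ≫ eqToHom hd.symm) ≫ 𝒴.p.map (F.map k')
    rw [hm, Category.assoc, eqToHom_trans_assoc, eqToHom_refl, Category.id_comp]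

lemma compatiblePreserving (h𝒳 : FibCat.IsFibGrpd 𝒳.p) (h𝒴 : FibCat.IsFibGrpd 𝒴.p) (F : 𝒳 ⥤ᵇ 𝒴)
    (K : GrothendieckTopology 𝒴.obj) : CompatiblePreserving.{w} K F.toFunctor := by
  constructor
  intro ℱ Z T x hx Y₁ Y₂ X f₁ f₂ g₁ g₂ hg₁ hg₂ e
  let m : X ⟶ F.obj Z := f₁ ≫ F.map g₁
  let a : 𝒴.p.obj X ⟶ 𝒳.p.obj Z := 𝒴.p.map m ≫ eqToHom (F.w_obj Z)
  obtain ⟨W', h, hh⟩ := h𝒳.exists_lift a
  haveI := hh
  haveI hFh0 : 𝒴.p.IsHomLift a (F.map h) := inferInstance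
  haveI hFh : 𝒴.p.IsHomLift (𝒴.p.map m) (F.map h) :=
    (IsHomLift.lift_comp_eqToHom_iff 𝒴.p (𝒴.p.map m) (F.map h) (F.w_obj Z)).1 hFh0
  haveI hscm : 𝒴.p.IsStronglyCartesian (𝒴.p.map m) m := h𝒴.isStronglyCartesian m
  obtain ⟨χ, ⟨hχl, hχ⟩, -⟩ := Functor.IsStronglyCartesian.universal_property 𝒴.p (𝒴.p.map m) m
    (𝟙 (𝒴.p.obj X)) (𝒴.p.map m) (Category.id_comp _).symm (F.map h)
  haveI := hχl
  haveI : IsIso χ := Groth.Agent.H13.FibGrpd.isIso_of_lift_id h𝒴 (S := 𝒴.p.obj X) χ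
  have key : ∀ {Y : 𝒳.obj} (f : X ⟶ F.obj Y) (g : Y ⟶ Z), f ≫ F.map g = m →
      ∃ g' : W' ⟶ Y, g' ≫ g = h ∧ F.map g' = χ ≫ f := by
    intro Y f g hfg
    let b : 𝒴.p.obj X ⟶ 𝒳.p.obj Y := 𝒴.p.map f ≫ eqToHom (F.w_obj Y)
    have hba : b ≫ 𝒳.p.map g = a := by
      have hnat : 𝒴.p.map (F.map g) =
          eqToHom (F.w_obj Y) ≫ 𝒳.p.map g ≫ eqToHom (F.w_obj Z).symm :=
        Functor.congr_hom F.w g
      show (𝒴.p.map f ≫ eqToHom (F.w_obj Y)) ≫ 𝒳.p.map g = 𝒴.p.map m ≫ eqToHom (F.w_obj Z)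
      rw [← hfg, 𝒴.p.map_comp, hnat]
      simp
    haveI hscg : 𝒳.p.IsStronglyCartesian (𝒳.p.map g) g := h𝒳.isStronglyCartesian g
    haveI hh' : 𝒳.p.IsHomLift (b ≫ 𝒳.p.map g) h := by
      rw [hba]
      exact hh
    obtain ⟨g', ⟨hg'l, hg'⟩, -⟩ := Functor.IsStronglyCartesian.universal_property 𝒳.p
      (𝒳.p.map g) g b (b ≫ 𝒳.p.map g) rfl h
    refine ⟨g', hg', ?_⟩
    haveI := hg'l
    haveI hFg'0 : 𝒴.p.IsHomLift b (F.map g') := inferInstance
    haveI hFg' : 𝒴.p.IsHomLift (𝒴.p.map f) (F.map g') :=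
      (IsHomLift.lift_comp_eqToHom_iff 𝒴.p (𝒴.p.map f) (F.map g') (F.w_obj Y)).1 hFg'0
    haveI hχf : 𝒴.p.IsHomLift (𝒴.p.map f) (χ ≫ f) := inferInstance
    haveI hscFg : 𝒴.p.IsStronglyCartesian (𝒴.p.map (F.map g)) (F.map g) :=
      h𝒴.isStronglyCartesian (F.map g)
    apply Functor.IsStronglyCartesian.ext 𝒴.p (𝒴.p.map (F.map g)) (F.map g) (𝒴.p.map f)
    rw [← F.toFunctor.map_comp, hg', Category.assoc, hfg]
    exact hχ.symm
  obtain ⟨g₁', hg₁', hFg₁'⟩ := key f₁ g₁ rfl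
  obtain ⟨g₂', hg₂', hFg₂'⟩ := key f₂ g₂ e.symm
  have hc := hx g₁' g₂' hg₁ hg₂ (hg₁'.trans hg₂'.symm)
  have hc' : ℱ.obj.map (χ ≫ f₁).op (x g₁ hg₁) = ℱ.obj.map (χ ≫ f₂).op (x g₂ hg₂) := by
    rw [← hFg₁', ← hFg₂']
    exact hc
  have hbij := (isIso_iff_bijective (ℱ.obj.map χ.op)).1 inferInstance
  apply hbij.1
  rw [← Functor.map_comp_apply, ← Functor.map_comp_apply, ← op_comp, ← op_comp]
  exact hc'

lemma isContinuous (h𝒳 : FibCat.IsFibGrpd 𝒳.p) (h𝒴 : FibCat.IsFibGrpd 𝒴.p) (F : 𝒳 ⥤ᵇ 𝒴) :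
    F.toFunctor.IsContinuous (𝒳.p.restrictedTopology J) (𝒴.p.restrictedTopology J) :=
  Functor.isContinuous_of_coverPreserving (compatiblePreserving h𝒳 h𝒴 F _)
    (coverPreserving J h𝒳 h𝒴 F)

end based

end Groth.Agent.Helper22.InhTop
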