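import Mathlib.RingTheory.Nakayama
import Mathlib.LinearAlgebra.TensorProduct.Quotient
import Mathlib.Algebra.Module.Projective
import Mathlib.RingTheory.TensorProduct.Basic
import Mathlib.RingTheory.Finiteness.Basic

/-!
Helper lemmas: lifting properties of maps of finite (projective) modules modulo an ideal
contained in the Jacobson radical.
-/

namespace Groth.Agent.Helper22

open TensorProduct

variable {R : Type*} [CommRing R] (I : Ideal R)

theorem mem_smul_top_of_one_tmul_eq_zero {P : Type*} [AddCommGroup P] [Module R P] (z : P)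
    (h : (1 : R ⧸ I) ⊗ₜ[R] z = 0) : z ∈ I • (⊤ : Submodule R P) := by
  have := congrArg (TensorProduct.quotTensorEquivQuotSMul P I) h
  rw [TensorProduct.quotTensorEquivQuotSMul_mk_one_tmul, map_zero,
    Submodule.Quotient.mk_eq_zero] at this
  exact this

theorem exists_one_tmul_eq {P : Type*} [AddCommGroup P] [Module R P] (w : (R ⧸ I) ⊗[R] P) :
    ∃ x : P, w = (1 : R ⧸ I) ⊗ₜ[R] x := by
  induction w using TensorProduct.induction_on with
  | zero => exact ⟨0, by simp⟩
  | tmul r x =>
    obtain ⟨r, rfl⟩ := Ideal.Quotient.mk_surjective r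
    refine ⟨r • x, ?_⟩
    rw [TensorProduct.tmul_smul, TensorProduct.smul_tmul']
    congr 1
    rw [Algebra.smul_def]
    simp
  | add a b ha hb =>
    obtain ⟨x, rfl⟩ := ha
    obtain ⟨y, rfl⟩ := hb
    exact ⟨x + y, by rw [TensorProduct.tmul_add]⟩

theorem surjective_of_baseChange_surjective (hI : I ≤ Ideal.jacobson (⊥ : Ideal R))
    {P P' : Type*} [AddCommGroup P] [Module R P] [AddCommGroup P'] [Module R P']
    [Module.Finite R P'] (φ : P →ₗ[R] P')
    (h : Function.Surjective (φ.baseChange (R ⧸ I))) : Function.Surjective φ := by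
  rw [← LinearMap.range_eq_top, ← top_le_iff]
  apply Submodule.le_of_le_smul_of_le_jacobson_bot (Module.finite_def.mp ‹_›) hI
  intro y _
  obtain ⟨w, hw⟩ := h ((1 : R ⧸ I) ⊗ₜ[R] y)
  obtain ⟨x, rfl⟩ := exists_one_tmul_eq I w
  rw [LinearMap.baseChange_tmul] at hw
  have h0 : (1 : R ⧸ I) ⊗ₜ[R] (y - φ x) = 0 := by
    rw [TensorProduct.tmul_sub, hw, sub_self]
  have := mem_smul_top_of_one_tmul_eq_zero I _ h0
  have hy : y = φ x + (y - φ x) := by abel
  rw [hy]
  exact Submodule.add_mem_sup (LinearMap.mem_range_self φ x) this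

theorem bijective_of_baseChange_bijective (hI : I ≤ Ideal.jacobson (⊥ : Ideal R))
    {P P' : Type*} [AddCommGroup P] [Module R P] [Module.Finite R P]
    [AddCommGroup P'] [Module R P'] [Module.Finite R P'] [Module.Projective R P']
    (φ : P →ₗ[R] P')
    (h : Function.Bijective (φ.baseChange (R ⧸ I))) : Function.Bijective φ := by
  have hsurj := surjective_of_baseChange_surjective I hI φ h.2
  refine ⟨?_, hsurj⟩
  obtain ⟨s, hs⟩ := Module.projective_lifting_property φ LinearMap.id hsurj
  -- projection onto the kernel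
  let π : P →ₗ[R] P := LinearMap.id - s ∘ₗ φ
  have hπker : ∀ p, π p ∈ LinearMap.ker φ := by
    intro p
    have : φ (s (φ p)) = φ p := LinearMap.congr_fun hs (φ p)
    simp [π, this]
  have hπfix : ∀ k ∈ LinearMap.ker φ, π k = k := by
    intro k hk
    simp [π, LinearMap.mem_ker.mp hk]
  have hKfg : (LinearMap.ker φ).FG := by
    have : LinearMap.ker φ = LinearMap.range π := by
      apply le_antisymm
      · intro k hk; exact ⟨k, hπfix k hk⟩
      · rintro _ ⟨p, rfl⟩; exact hπker p
    rw [this]
    rw [LinearMap.range_eq_map]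
    exact (Module.finite_def.mp (inferInstance : Module.Finite R P)).map π
  have hK : LinearMap.ker φ = ⊥ := by
    apply Submodule.eq_bot_of_le_smul_of_le_jacobson_bot I _ hKfg _ hI
    intro k hk
    have h0 : (φ.baseChange (R ⧸ I)) ((1 : R ⧸ I) ⊗ₜ[R] k) = 0 := by
      rw [LinearMap.baseChange_tmul, LinearMap.mem_ker.mp hk, TensorProduct.tmul_zero]
    have h1 : (1 : R ⧸ I) ⊗ₜ[R] k = 0 := h.1 (by rw [h0, map_zero])
    have h2 := mem_smul_top_of_one_tmul_eq_zero I k h1
    rw [← hπfix k hk]
    -- π maps I • ⊤ into I • ker φ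
    have : Submodule.map π (I • (⊤ : Submodule R P)) ≤ I • LinearMap.ker φ := by
      rw [Submodule.map_smul'']
      refine Submodule.smul_mono le_rfl ?_
      rintro _ ⟨p, -, rfl⟩
      exact hπker p
    exact this ⟨k, h2, rfl⟩
  exact LinearMap.ker_eq_bot.mp hK

end Groth.Agent.Helper22
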