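import Mathlib

set_option autoImplicit false

/-! helper22: sequential limits of K-injective complexes with degreewise split epi transitions. -/

universe v u

open CategoryTheory CategoryTheory.Limits Opposite CochainComplex HomComplex

namespace Groth.Agent.Helper22.KInjLim

variable {A : Type u} [Category.{v} A] [Abelian A]

/-- lifting a cochain along a degreewise split epi -/
lemma exists_lift_cochain {K L M : CochainComplex A ℤ} (p : L ⟶ M)
    (hp : ∀ m, IsSplitEpi (p.f m)) (k : ℤ) (g : Cochain K M k) :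
    ∃ g' : Cochain K L k, g'.comp (Cochain.ofHom p) (add_zero k) = g := by
  refine ⟨Cochain.mk (fun a b hab => g.v a b hab ≫ @section_ _ _ _ _ (p.f b) (hp b)), ?_⟩
  ext a b hab
  have := hp b
  simp

theorem exists_compatible_homotopies (I : ℕᵒᵖ ⥤ CochainComplex A ℤ)
    (h1 : ∀ n : ℕ, (I.obj (op n)).IsKInjective)
    (h2 : ∀ (n : ℕ) (m : ℤ), IsSplitEpi ((I.map (homOfLE (Nat.le_succ n)).op).f m))
    {K : CochainComplex A ℤ} (hK : K.Acyclic) (φ : ∀ n : ℕ, K ⟶ I.obj (op n))
    (hφ : ∀ n : ℕ, φ (n + 1) ≫ I.map (homOfLE (Nat.le_succ n)).op = φ n) :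
    ∃ h : ∀ n : ℕ, Cochain K (I.obj (op n)) (-1),
      (∀ n, δ (-1) 0 (h n) = Cochain.ofHom (φ n)) ∧
      ∀ n, (h (n + 1)).comp (Cochain.ofHom (I.map (homOfLE (Nat.le_succ n)).op))
        (add_zero (-1)) = h n := by
  classical
  have base : ∃ h0 : Cochain K (I.obj (op 0)) (-1), δ (-1) 0 h0 = Cochain.ofHom (φ 0) := by
    have := h1 0
    obtain ⟨h0, hh0⟩ := IsKInjective.eq_δ_of_cocycle (Cocycle.ofHom (φ 0)) hK (-1) (by simp)
    exact ⟨h0, by rw [hh0, Cocycle.ofHom_coe]⟩
  have step : ∀ (n : ℕ) (hn : Cochain K (I.obj (op n)) (-1)),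
      δ (-1) 0 hn = Cochain.ofHom (φ n) →
      ∃ hn' : Cochain K (I.obj (op (n + 1))) (-1),
        δ (-1) 0 hn' = Cochain.ofHom (φ (n + 1)) ∧
        hn'.comp (Cochain.ofHom (I.map (homOfLE (Nat.le_succ n)).op)) (add_zero (-1)) = hn := by
    intro n hn hhn
    have := h1 n
    have := h1 (n + 1)
    obtain ⟨h', hh'⟩ :=
      IsKInjective.eq_δ_of_cocycle (Cocycle.ofHom (φ (n + 1))) hK (-1) (by simp)
    rw [Cocycle.ofHom_coe] at hh'
    obtain ⟨c, hc⟩ : ∃ c : Cochain K (I.obj (op n)) (-1),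
        c = h'.comp (Cochain.ofHom (I.map (homOfLE (Nat.le_succ n)).op)) (add_zero (-1)) - hn :=
      ⟨_, rfl⟩
    have hcδ : δ (-1) 0 c = 0 := by
      rw [hc, δ_sub, δ_comp_ofHom, hh', hhn, ← Cochain.ofHom_comp, hφ n, sub_self]
    obtain ⟨g, hg⟩ :=
      IsKInjective.eq_δ_of_cocycle (Cocycle.mk c 0 (by simp) hcδ) hK (-2) (by simp)
    obtain ⟨g', hg'⟩ := exists_lift_cochain (I.map (homOfLE (Nat.le_succ n)).op) (h2 n) (-2) g
    refine ⟨h' - δ (-2) (-1) g', ?_, ?_⟩
    · rw [δ_sub, δ_δ, sub_zero, hh']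
    · rw [Cochain.sub_comp, ← δ_comp_ofHom, hg', hg]
      show _ - c = hn
      rw [hc]
      abel
  let seq : ∀ n : ℕ, {h : Cochain K (I.obj (op n)) (-1) // δ (-1) 0 h = Cochain.ofHom (φ n)} :=
    fun n => Nat.rec
      (motive := fun n => {h : Cochain K (I.obj (op n)) (-1) // δ (-1) 0 h = Cochain.ofHom (φ n)})
      ⟨base.choose, base.choose_spec⟩
      (fun n ih => ⟨(step n ih.1 ih.2).choose, (step n ih.1 ih.2).choose_spec.1⟩) n
  exact ⟨fun n => (seq n).1, fun n => (seq n).2,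
    fun n => (step n (seq n).1 (seq n).2).choose_spec.2⟩

theorem isKInjective_limit [HasLimitsOfShape ℕᵒᵖ A] (I : ℕᵒᵖ ⥤ CochainComplex A ℤ)
    (h1 : ∀ n : ℕ, (I.obj (op n)).IsKInjective)
    (h2 : ∀ (n : ℕ) (m : ℤ), IsSplitEpi ((I.map (homOfLE (Nat.le_succ n)).op).f m)) :
    (limit I).IsKInjective := by
  refine ⟨fun {K} f hK => ?_⟩
  obtain ⟨h, hh1, hh2⟩ := exists_compatible_homotopies I h1 h2 hK
    (fun n => f ≫ limit.π I (op n)) (fun n => by rw [Category.assoc, limit.w])
  have hlim : ∀ b : ℤ, IsLimit ((HomologicalComplex.eval A (ComplexShape.up ℤ) b).mapCone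
      (limit.cone I)) := fun b => isLimitOfPreserves _ (limit.isLimit I)
  let cone : ∀ (a b : ℤ) (_ : a + (-1) = b),
      Cone (I ⋙ HomologicalComplex.eval A (ComplexShape.up ℤ) b) := fun a b hab =>
    { pt := K.X a
      π := NatTrans.ofOpSequence (F := (Functor.const ℕᵒᵖ).obj (K.X a))
        (G := I ⋙ HomologicalComplex.eval A (ComplexShape.up ℤ) b)
        (fun n => (h n).v a b hab) (fun n => by
          have := Cochain.congr_v (hh2 n) a b hab
          simp only [Cochain.comp_zero_cochain_v, Cochain.ofHom_v] at this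
          simp only [Functor.const_obj_obj, Functor.const_obj_map, Category.id_comp,
            Functor.comp_map, HomologicalComplex.eval_map]
          exact this.symm) }
  let H : Cochain K (limit I) (-1) := Cochain.mk (fun a b hab => (hlim b).lift (cone a b hab))
  have hH : ∀ n : ℕ, H.comp (Cochain.ofHom (limit.π I (op n))) (add_zero (-1)) = h n := by
    intro n
    ext a b hab
    simp only [Cochain.comp_zero_cochain_v, Cochain.ofHom_v, H, Cochain.mk_v]
    exact (hlim b).fac (cone a b hab) (op n)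
  have hext : ∀ (k : ℤ) (z₁ z₂ : Cochain K (limit I) k),
      (∀ n : ℕ, z₁.comp (Cochain.ofHom (limit.π I (op n))) (add_zero k) =
        z₂.comp (Cochain.ofHom (limit.π I (op n))) (add_zero k)) → z₁ = z₂ := by
    intro k z₁ z₂ hz
    ext a b hab
    apply (hlim b).hom_ext
    intro j
    have := Cochain.congr_v (hz j.unop) a b hab
    simp only [Cochain.comp_zero_cochain_v, Cochain.ofHom_v] at this
    exact this
  have key : δ (-1) 0 H = Cochain.ofHom f := by
    apply hext
    intro n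
    rw [← δ_comp_ofHom, hH, hh1, Cochain.ofHom_comp]
  exact ⟨(Cochain.equivHomotopy f 0).symm ⟨H, by rw [key, Cochain.ofHom_zero, add_zero]⟩⟩

end Groth.Agent.Helper22.KInjLim
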