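import Groth.Prelude.Def_W4c2quivmodsheafKron
import Mathlib.LinearAlgebra.Dual.Lemmas
import Mathlib.LinearAlgebra.FiniteDimensional.Lemmas
import Mathlib.LinearAlgebra.Dimension.Constructions
import Mathlib.LinearAlgebra.Pi

/-!
Helper lemmas on Kronecker modules.
-/

namespace Groth.Agent.Helper22.Kron

open KronMod Module

variable {K : Type*} [Field K] {V W : Type*} [AddCommGroup V] [Module K V]
  [AddCommGroup W] [Module K W] {n : ℕ}

/-- The sum map `Vⁿ → W`. -/
noncomputable def sumMap (f : Fin n → (V →ₗ[K] W)) : (Fin n → V) →ₗ[K] W :=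
  ∑ j, (f j) ∘ₗ (LinearMap.proj j)

@[simp] lemma sumMap_apply (f : Fin n → (V →ₗ[K] W)) (v : Fin n → V) :
    sumMap f v = ∑ j, f j (v j) := by
  simp [sumMap]

lemma sumMap_single (f : Fin n → (V →ₗ[K] W)) (j : Fin n) (v : V) :
    sumMap f (Pi.single j v) = f j v := by
  rw [sumMap_apply, Finset.sum_eq_single j]
  · simp
  · intro i _ hij; simp [Pi.single_eq_of_ne hij]
  · simp

/-- The product map `V → Wⁿ`. -/
def prodMap (f : Fin n → (V →ₗ[K] W)) : V →ₗ[K] (Fin n → W) := LinearMap.pi f

@[simp] lemma prodMap_apply (f : Fin n → (V →ₗ[K] W)) (v : V) (j : Fin n) :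
    prodMap f v j = f j v := rfl

lemma isSubrep_top_range (f : Fin n → (V →ₗ[K] W)) :
    IsSubrep f ⊤ (LinearMap.range (sumMap f)) := by
  intro j
  rintro _ ⟨v, -, rfl⟩
  exact ⟨Pi.single j v, sumMap_single f j v⟩

lemma isSubrep_ker_bot (f : Fin n → (V →ₗ[K] W)) :
    IsSubrep f (LinearMap.ker (prodMap f)) ⊥ := by
  intro j
  rintro _ ⟨v, hv, rfl⟩
  have h1 : prodMap f v = 0 := hv
  have h2 : f j v = 0 := congrFun h1 j
  rw [Submodule.mem_bot]
  exact h2

lemma finrank_pi_eq [FiniteDimensional K V] : finrank K (Fin n → V) = n * finrank K V := by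
  rw [Module.finrank_pi_fintype, Finset.sum_const, Finset.card_fin, smul_eq_mul]

lemma mul_finrank_le_of_isSubrep [FiniteDimensional K V] [FiniteDimensional K W]
    (f : Fin n → (V →ₗ[K] W)) (hinj : Function.Injective (sumMap f))
    {V' : Submodule K V} {W' : Submodule K W} (h : IsSubrep f V' W') :
    n * finrank K V' ≤ finrank K W' := by
  have hmem : ∀ v : Fin n → V', sumMap f (fun j => (v j : V)) ∈ W' := by
    intro v
    rw [sumMap_apply]
    exact Submodule.sum_mem _ (fun j _ => h j ⟨v j, (v j).2, rfl⟩)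
  let φ : (Fin n → V') →ₗ[K] W' :=
    LinearMap.codRestrict W'
      (sumMap f ∘ₗ (LinearMap.pi (fun j => V'.subtype ∘ₗ LinearMap.proj j))) (fun v => hmem v)
  have hφ : Function.Injective φ := by
    intro v w hvw
    have h1 : sumMap f (fun j => (v j : V)) = sumMap f (fun j => (w j : V)) :=
      congrArg Subtype.val hvw
    have h2 := hinj h1
    funext j
    exact Subtype.ext (congrFun h2 j)
  have h3 := LinearMap.finrank_le_finrank_of_injective hφ
  rwa [finrank_pi_eq] at h3

lemma finrank_le_mul_of_isSubrep [FiniteDimensional K V] [FiniteDimensional K W]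
    (f : Fin n → (V →ₗ[K] W)) (hinj : Function.Injective (prodMap f))
    {V' : Submodule K V} {W' : Submodule K W} (h : IsSubrep f V' W') :
    finrank K V' ≤ n * finrank K W' := by
  let ψ : V' →ₗ[K] (Fin n → W') :=
    LinearMap.pi (fun j => LinearMap.codRestrict W' (f j ∘ₗ V'.subtype)
      (fun v => h j ⟨v, v.2, rfl⟩))
  have hψ : Function.Injective ψ := by
    intro v w hvw
    apply Subtype.ext
    apply hinj
    funext j
    have h1 := congrFun hvw j
    exact congrArg Subtype.val h1
  have h3 := LinearMap.finrank_le_finrank_of_injective hψ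
  rwa [finrank_pi_eq] at h3

lemma top_ne_bot_of_finrank_pos (hV : 0 < finrank K V) : (⊤ : Submodule K V) ≠ ⊥ := by
  intro h0
  have h1 : finrank K (⊤ : Submodule K V) = finrank K (⊥ : Submodule K V) := by rw [h0]
  rw [finrank_top, finrank_bot] at h1
  omega

/-- If `f` is semistable and `V ≠ 0`, then the sum map is surjective provided `dim W ≤ ...`. -/
lemma range_sumMap_eq_top_of_isSemistable [FiniteDimensional K V] [FiniteDimensional K W]
    (f : Fin n → (V →ₗ[K] W)) (hV : 0 < finrank K V) (hss : IsSemistable f) :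
    LinearMap.range (sumMap f) = ⊤ := by
  by_contra hne
  have h1 := hss.2 ⊤ _ (isSubrep_top_range f)
    (fun h0 => top_ne_bot_of_finrank_pos hV h0.1) (fun h0 => hne h0.2)
  rw [finrank_top] at h1
  have h2 : finrank K W ≤ finrank K (LinearMap.range (sumMap f)) := by
    rw [mul_comm] at h1
    exact Nat.le_of_mul_le_mul_left h1 hV
  exact hne (Submodule.eq_top_of_finrank_eq
    (le_antisymm (Submodule.finrank_le _) h2))

lemma ker_prodMap_eq_bot_of_isSemistable [FiniteDimensional K V] [FiniteDimensional K W]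
    (f : Fin n → (V →ₗ[K] W)) (hW : 0 < finrank K W) (hss : IsSemistable f) :
    LinearMap.ker (prodMap f) = ⊥ := by
  by_contra hne
  have h1 := hss.2 _ ⊥ (isSubrep_ker_bot f)
    (fun h0 => hne h0.1) (fun h0 => top_ne_bot_of_finrank_pos hW h0.2.symm)
  rw [finrank_bot, mul_zero] at h1
  have h2 : finrank K (LinearMap.ker (prodMap f)) = 0 := by
    rcases Nat.eq_zero_or_pos (finrank K (LinearMap.ker (prodMap f))) with h | h
    · exact h
    · have := Nat.mul_pos hW h
      omega
  exact hne (Submodule.finrank_eq_zero.mp h2)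


section Duality

variable [FiniteDimensional K V] [FiniteDimensional K W]

lemma isSubrep_dual_of_isSubrep (f : Fin n → (V →ₗ[K] W)) {V' : Submodule K V}
    {W' : Submodule K W} (h : IsSubrep f V' W') :
    IsSubrep (fun j => (f j).dualMap) W'.dualAnnihilator V'.dualAnnihilator := by
  intro j
  rintro _ ⟨ψ, hψ, rfl⟩
  rw [Submodule.mem_dualAnnihilator]
  intro v hv
  rw [LinearMap.dualMap_apply]
  exact (Submodule.mem_dualAnnihilator ψ).mp hψ (f j v) (h j ⟨v, hv, rfl⟩)

lemma isSubrep_of_isSubrep_dual (f : Fin n → (V →ₗ[K] W)) {W'' : Submodule K (Dual K W)}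
    {V'' : Submodule K (Dual K V)} (h : IsSubrep (fun j => (f j).dualMap) W'' V'') :
    IsSubrep f V''.dualCoannihilator W''.dualCoannihilator := by
  intro j
  rintro _ ⟨v, hv, rfl⟩
  rw [Submodule.mem_dualCoannihilator]
  intro ψ hψ
  have h1 : (f j).dualMap ψ ∈ V'' := h j ⟨ψ, hψ, rfl⟩
  exact (Submodule.mem_dualCoannihilator v).mp hv _ h1

theorem dual_transfer (R : ℕ → ℕ → Prop)
    (hR : ∀ a c v' w' v'' w'' : ℕ, v' + v'' = a → w' + w'' = c →
      R (c * v') (a * w') → R (a * w'') (c * v''))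
    (f : Fin n → (V →ₗ[K] W)) :
    (∀ (V' : Submodule K V) (W' : Submodule K W), IsSubrep f V' W' →
      ¬ (V' = ⊥ ∧ W' = ⊥) → ¬ (V' = ⊤ ∧ W' = ⊤) →
      R (finrank K W * finrank K V') (finrank K V * finrank K W')) ↔
    (∀ (W'' : Submodule K (Dual K W)) (V'' : Submodule K (Dual K V)),
      IsSubrep (fun j => (f j).dualMap) W'' V'' →
      ¬ (W'' = ⊥ ∧ V'' = ⊥) → ¬ (W'' = ⊤ ∧ V'' = ⊤) →
      R (finrank K (Dual K V) * finrank K W'') (finrank K (Dual K W) * finrank K V'')) := by
  constructor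
  · intro H W'' V'' hsub hb ht
    have e1 := Subspace.finrank_add_finrank_dualCoannihilator_eq V''
    have e2 := Subspace.finrank_add_finrank_dualCoannihilator_eq W''
    have hb' : ¬ (V''.dualCoannihilator = ⊥ ∧ W''.dualCoannihilator = ⊥) := by
      rintro ⟨h1, h2⟩
      rw [h1, finrank_bot, add_zero] at e1
      rw [h2, finrank_bot, add_zero] at e2
      apply ht
      exact ⟨Submodule.eq_top_of_finrank_eq (e2.trans Subspace.dual_finrank_eq.symm),
        Submodule.eq_top_of_finrank_eq (e1.trans Subspace.dual_finrank_eq.symm)⟩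
    have ht' : ¬ (V''.dualCoannihilator = ⊤ ∧ W''.dualCoannihilator = ⊤) := by
      rintro ⟨h1, h2⟩
      rw [h1, finrank_top] at e1
      rw [h2, finrank_top] at e2
      apply hb
      exact ⟨Submodule.finrank_eq_zero.mp (by omega), Submodule.finrank_eq_zero.mp (by omega)⟩
    have h3 := H _ _ (isSubrep_of_isSubrep_dual f hsub) hb' ht'
    rw [Subspace.dual_finrank_eq, Subspace.dual_finrank_eq]
    exact hR _ _ _ _ _ _ (by rw [add_comm]; exact e1) (by rw [add_comm]; exact e2) h3
  · intro H V' W' hsub hb ht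
    have e1 := Subspace.finrank_add_finrank_dualAnnihilator_eq V'
    have e2 := Subspace.finrank_add_finrank_dualAnnihilator_eq W'
    have hb' : ¬ (W'.dualAnnihilator = ⊥ ∧ V'.dualAnnihilator = ⊥) := by
      rintro ⟨h1, h2⟩
      rw [h1, finrank_bot, add_zero] at e2
      rw [h2, finrank_bot, add_zero] at e1
      apply ht
      exact ⟨Submodule.eq_top_of_finrank_eq e1, Submodule.eq_top_of_finrank_eq e2⟩
    have ht' : ¬ (W'.dualAnnihilator = ⊤ ∧ V'.dualAnnihilator = ⊤) := by
      rintro ⟨h1, h2⟩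
      rw [h1, finrank_top, Subspace.dual_finrank_eq] at e2
      rw [h2, finrank_top, Subspace.dual_finrank_eq] at e1
      apply hb
      exact ⟨Submodule.finrank_eq_zero.mp (by omega), Submodule.finrank_eq_zero.mp (by omega)⟩
    have h3 := H _ _ (isSubrep_dual_of_isSubrep f hsub) hb' ht'
    rw [Subspace.dual_finrank_eq, Subspace.dual_finrank_eq] at h3
    exact hR _ _ _ _ _ _ (by rw [add_comm]; exact e2) (by rw [add_comm]; exact e1) h3

lemma hR_le : ∀ a c v' w' v'' w'' : ℕ, v' + v'' = a → w' + w'' = c →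
    (c * v') ≤ (a * w') → (a * w'') ≤ (c * v'') := by
  intro a c v' w' v'' w'' h1 h2 h
  subst h1 h2
  nlinarith

lemma hR_lt : ∀ a c v' w' v'' w'' : ℕ, v' + v'' = a → w' + w'' = c →
    (c * v') < (a * w') → (a * w'') < (c * v'') := by
  intro a c v' w' v'' w'' h1 h2 h
  subst h1 h2
  nlinarith

theorem isSemistable_dual_iff (f : Fin n → (V →ₗ[K] W)) :
    IsSemistable f ↔ IsSemistable (fun j => (f j).dualMap) := by
  unfold IsSemistable
  rw [dual_transfer (fun x y => x ≤ y) hR_le f, Subspace.dual_finrank_eq,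
    Subspace.dual_finrank_eq, add_comm]

theorem isStable_dual_iff (f : Fin n → (V →ₗ[K] W)) :
    IsStable f ↔ IsStable (fun j => (f j).dualMap) := by
  unfold IsStable
  rw [dual_transfer (fun x y => x < y) hR_lt f, Subspace.dual_finrank_eq,
    Subspace.dual_finrank_eq, add_comm]

end Duality

end Groth.Agent.Helper22.Kron
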