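import Mathlib.CategoryTheory.Abelian.Basic
import Mathlib.CategoryTheory.Abelian.Transfer
import Mathlib.CategoryTheory.Localization.CalculusOfFractions
import Mathlib.CategoryTheory.Localization.CalculusOfFractions.Preadditive
import Mathlib.CategoryTheory.Limits.Preserves.Finite
import Mathlib.CategoryTheory.Limits.Preserves.Shapes.AbelianImages
import Mathlib.CategoryTheory.Preadditive.LeftExact

/-!
# Localization functors with calculus of fractions preserve kernels and cokernels
-/

set_option autoImplicit false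

universe v v' u u'

open CategoryTheory CategoryTheory.Limits

namespace Groth.Agent.Helper22.LocAb

variable {A : Type u} [Category.{v} A] [Preadditive A] (W : MorphismProperty A)
  {D : Type u'} [Category.{v'} D] [Preadditive D] (L : A ⥤ D) [L.IsLocalization W] [L.Additive]

section Right

variable [W.HasRightCalculusOfFractions]

include W

lemma mono_map {K X : A} (m : K ⟶ X) [Mono m] : Mono (L.map m) := by
  have := Localization.essSurj L W
  apply Preadditive.mono_of_cancel_zero
  intro T χ hχ
  let e := L.objObjPreimageIso T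
  obtain ⟨φ, hφ⟩ := Localization.exists_rightFraction L W (e.hom ≫ χ)
  have hf : L.map φ.f = L.map φ.s ≫ e.hom ≫ χ := by
    rw [hφ, φ.map_s_comp_map]
  have h1 : L.map (φ.f ≫ m) = L.map 0 := by
    rw [L.map_comp, hf, L.map_zero]
    simp only [Category.assoc, hχ, comp_zero]
  obtain ⟨Z, t, ht, hteq⟩ := (MorphismProperty.map_eq_iff_precomp L W _ _).1 h1
  have h2 : t ≫ φ.f = 0 := by
    apply zero_of_comp_mono m
    simpa using hteq
  have : IsIso (L.map t) := Localization.inverts L W t ht
  have : IsIso (L.map φ.s) := Localization.inverts L W _ φ.hs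
  have h3 : L.map φ.f = 0 := by
    rw [← cancel_epi (L.map t), ← L.map_comp, h2, L.map_zero, comp_zero]
  have h4 : e.hom ≫ χ = 0 := by
    rw [← cancel_epi (L.map φ.s), ← hf, h3, comp_zero]
  rw [← cancel_epi e.hom, h4, comp_zero]

lemma exists_lift {X Y : A} (f : X ⟶ Y) [HasKernel f] {T : D} (k : T ⟶ L.obj X)
    (hk : k ≫ L.map f = 0) :
    ∃ l : T ⟶ L.obj (kernel f), l ≫ L.map (kernel.ι f) = k := by
  have := Localization.essSurj L W
  let e := L.objObjPreimageIso T
  obtain ⟨φ, hφ⟩ := Localization.exists_rightFraction L W (e.hom ≫ k)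
  have hf : L.map φ.f = L.map φ.s ≫ e.hom ≫ k := by
    rw [hφ, φ.map_s_comp_map]
  have h1 : L.map (φ.f ≫ f) = L.map 0 := by
    rw [L.map_comp, hf, L.map_zero]
    simp only [Category.assoc, hk, comp_zero]
  obtain ⟨Z, t, ht, hteq⟩ := (MorphismProperty.map_eq_iff_precomp L W _ _).1 h1
  have h2 : (t ≫ φ.f) ≫ f = 0 := by simpa using hteq
  have : IsIso (L.map t) := Localization.inverts L W t ht
  have : IsIso (L.map φ.s) := Localization.inverts L W _ φ.hs
  refine ⟨e.inv ≫ inv (L.map φ.s) ≫ inv (L.map t) ≫ L.map (kernel.lift f (t ≫ φ.f) h2), ?_⟩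
  simp only [Category.assoc, ← L.map_comp, kernel.lift_ι]
  rw [L.map_comp, hf]
  simp

lemma preservesKernel {X Y : A} (f : X ⟶ Y) [HasKernel f] :
    PreservesLimit (parallelPair f 0) L := by
  apply preservesLimit_of_preserves_limit_cone (kernelIsKernel f)
  apply (isLimitMapConeForkEquiv' L (kernel.condition f)).symm ?_
  have := mono_map W L (kernel.ι f)
  exact KernelFork.IsLimit.ofι' _ _ (fun k hk =>
    ⟨(exists_lift W L f k hk).choose, (exists_lift W L f k hk).choose_spec⟩)

end Right

section Left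

variable [W.HasLeftCalculusOfFractions]

include W

lemma epi_map {X Q : A} (p : X ⟶ Q) [Epi p] : Epi (L.map p) := by
  have := Localization.essSurj L W
  apply Preadditive.epi_of_cancel_zero
  intro T χ hχ
  let e := L.objObjPreimageIso T
  obtain ⟨φ, hφ⟩ := Localization.exists_leftFraction L W (χ ≫ e.inv)
  have hf : L.map φ.f = χ ≫ e.inv ≫ L.map φ.s := by
    rw [← Category.assoc, hφ, φ.map_comp_map_s]
  have h1 : L.map (p ≫ φ.f) = L.map 0 := by
    rw [L.map_comp, hf, L.map_zero, reassoc_of% hχ, zero_comp]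
  obtain ⟨Z, t, ht, hteq⟩ := (MorphismProperty.map_eq_iff_postcomp L W _ _).1 h1
  have h2 : φ.f ≫ t = 0 := by
    apply zero_of_epi_comp p
    simpa using hteq
  have : IsIso (L.map t) := Localization.inverts L W t ht
  have : IsIso (L.map φ.s) := Localization.inverts L W _ φ.hs
  have h3 : L.map φ.f = 0 := by
    rw [← cancel_mono (L.map t), ← L.map_comp, h2, L.map_zero, zero_comp]
  have h4 : χ ≫ e.inv = 0 := by
    rw [← cancel_mono (L.map φ.s), Category.assoc, ← hf, h3, zero_comp]
  rw [← cancel_mono e.inv, h4, zero_comp]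

lemma exists_desc {X Y : A} (f : X ⟶ Y) [HasCokernel f] {T : D} (k : L.obj Y ⟶ T)
    (hk : L.map f ≫ k = 0) :
    ∃ l : L.obj (cokernel f) ⟶ T, L.map (cokernel.π f) ≫ l = k := by
  have := Localization.essSurj L W
  let e := L.objObjPreimageIso T
  obtain ⟨φ, hφ⟩ := Localization.exists_leftFraction L W (k ≫ e.inv)
  have hf : L.map φ.f = k ≫ e.inv ≫ L.map φ.s := by
    rw [← Category.assoc, hφ, φ.map_comp_map_s]
  have h1 : L.map (f ≫ φ.f) = L.map 0 := by
    rw [L.map_comp, hf, L.map_zero, reassoc_of% hk, zero_comp]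
  obtain ⟨Z, t, ht, hteq⟩ := (MorphismProperty.map_eq_iff_postcomp L W _ _).1 h1
  have h2 : f ≫ (φ.f ≫ t) = 0 := by simpa using hteq
  have : IsIso (L.map t) := Localization.inverts L W t ht
  have : IsIso (L.map φ.s) := Localization.inverts L W _ φ.hs
  refine ⟨L.map (cokernel.desc f (φ.f ≫ t) h2) ≫ inv (L.map t) ≫ inv (L.map φ.s) ≫ e.hom, ?_⟩
  rw [← Category.assoc, ← L.map_comp, cokernel.π_desc, L.map_comp, hf]
  simp

lemma preservesCokernel {X Y : A} (f : X ⟶ Y) [HasCokernel f] :
    PreservesColimit (parallelPair f 0) L := by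
  apply preservesColimit_of_preserves_colimit_cocone (cokernelIsCokernel f)
  apply (isColimitMapCoconeCoforkEquiv' L (cokernel.condition f)).symm ?_
  have := epi_map W L (cokernel.π f)
  exact CokernelCofork.IsColimit.ofπ' _ _ (fun k hk =>
    ⟨(exists_desc W L f k hk).choose, (exists_desc W L f k hk).choose_spec⟩)

end Left

end Groth.Agent.Helper22.LocAb
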