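import Mathlib.Topology.NoetherianSpace
import Mathlib.Topology.Sober

/-!
Helper lemmas on Noetherian topological spaces.
-/

namespace Groth.Agent.Helper22

open TopologicalSpace

/-- In a Noetherian space, for every infinite set `T` there is an irreducible closed set `Z` which is
minimal among the closed sets containing infinitely many points of `T`. -/
theorem exists_irreducible_closed_minimal_infinite {X : Type*} [TopologicalSpace X]
    [NoetherianSpace X] (T : Set X) (hT : T.Infinite) :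
    ∃ Z : Set X, IsClosed Z ∧ IsIrreducible Z ∧ (Z ∩ T).Infinite ∧
      ∀ Z' : Set X, IsClosed Z' → Z' ⊆ Z → (Z' ∩ T).Infinite → Z' = Z := by
  classical
  let P : Set (Closeds X) := {Z | ((Z : Set X) ∩ T).Infinite}
  have hP : P.Nonempty := ⟨⊤, by simpa [P] using hT⟩
  have wf : WellFounded ((· < ·) : Closeds X → Closeds X → Prop) := wellFounded_lt
  obtain ⟨Z₀, hZ₀, hmin⟩ := wf.has_min P hP
  have hmin' : ∀ Z' : Set X, IsClosed Z' → Z' ⊆ Z₀ → (Z' ∩ T).Infinite → Z' = Z₀ := by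
    intro Z' hcl hle hinf
    by_contra hne
    let Z'' : Closeds X := ⟨Z', hcl⟩
    have hlt : Z'' < Z₀ :=
      lt_of_le_of_ne hle (fun h => hne (congrArg (fun Z : Closeds X => (Z : Set X)) h))
    exact hmin Z'' hinf hlt
  refine ⟨Z₀, Z₀.isClosed, ⟨?_, ?_⟩, hZ₀, hmin'⟩
  · obtain ⟨x, hx⟩ := hZ₀.nonempty
    exact ⟨x, hx.1⟩
  · rw [isPreirreducible_iff_isClosed_union_isClosed]
    intro z₁ z₂ h₁ h₂ hsub
    have hun : (Z₀ : Set X) ∩ T = (((Z₀ : Set X) ∩ z₁) ∩ T) ∪ (((Z₀ : Set X) ∩ z₂) ∩ T) := by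
      ext x
      constructor
      · rintro ⟨hx, hxT⟩
        rcases hsub hx with h | h
        · exact Or.inl ⟨⟨hx, h⟩, hxT⟩
        · exact Or.inr ⟨⟨hx, h⟩, hxT⟩
      · rintro (⟨⟨hx, -⟩, hxT⟩ | ⟨⟨hx, -⟩, hxT⟩) <;> exact ⟨hx, hxT⟩
    have hinf : ((((Z₀ : Set X) ∩ z₁) ∩ T) ∪ (((Z₀ : Set X) ∩ z₂) ∩ T)).Infinite := hun ▸ hZ₀
    rcases Set.infinite_union.mp hinf with h | h
    · left
      have := hmin' _ (Z₀.isClosed.inter h₁) Set.inter_subset_left h
      intro x hx
      have hx' : x ∈ (Z₀ : Set X) ∩ z₁ := by rw [this]; exact hx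
      exact hx'.2
    · right
      have := hmin' _ (Z₀.isClosed.inter h₂) Set.inter_subset_left h
      intro x hx
      have hx' : x ∈ (Z₀ : Set X) ∩ z₂ := by rw [this]; exact hx
      exact hx'.2

end Groth.Agent.Helper22
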