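import Groth.Prelude.Def_W4c5ffgsreadingcourseOT
import Mathlib.Tactic

/-!
# Power maps on a commutative Hopf algebra killed by `p`
-/

set_option autoImplicit false

universe u

open WithConv

namespace Groth.Agent.Helper22.OTLib

variable (R : Type u) [CommRing R] (A : Type u) [CommRing A] [HopfAlgebra R A]

theorem comp_convPow {B : Type u} [CommRing B] [Algebra R B] (h : A →ₐ[R] B)
    (f : WithConv (A →ₐ[R] A)) (n : ℕ) :
    h.comp (f ^ n).ofConv = ofConv ((toConv (h.comp f.ofConv)) ^ n) := by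
  induction n with
  | zero =>
    rw [pow_zero, pow_zero]
    apply AlgHom.ext
    intro a
    simp [AlgHom.convOne_def]
  | succ n ih =>
    rw [pow_succ, pow_succ, AlgHom.comp_convMul_distrib, ih]

theorem powConv_comp (a b : ℕ) :
    (SGA3b.powConv R A a).comp (SGA3b.powConv R A b) = SGA3b.powConv R A (a * b) := by
  unfold SGA3b.powConv
  rw [comp_convPow]
  simp only [AlgHom.comp_id, toConv_ofConv]
  rw [← pow_mul]

theorem powConv_one : SGA3b.powConv R A 1 = AlgHom.id R A := by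
  unfold SGA3b.powConv
  rw [pow_one]

theorem counit_comp_powConv (a : ℕ) :
    (Bialgebra.counitAlgHom R A).comp (SGA3b.powConv R A a) = Bialgebra.counitAlgHom R A := by
  unfold SGA3b.powConv
  rw [comp_convPow]
  have : toConv ((Bialgebra.counitAlgHom R A).comp (toConv (AlgHom.id R A)).ofConv) =
      (1 : WithConv (A →ₐ[R] R)) := by
    rw [AlgHom.convOne_def]
    congr 1
  rw [this, one_pow]
  rw [AlgHom.convOne_def]
  apply AlgHom.ext
  intro a
  simp

section Killed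

variable {R A} (p : ℕ) [Fact p.Prime] (hp : (WithConv.toConv (AlgHom.id R A)) ^ p = 1)

omit [Fact (Nat.Prime p)] in
include hp in
theorem powConv_mod (a : ℕ) : SGA3b.powConv R A (a % p) = SGA3b.powConv R A a := by
  unfold SGA3b.powConv
  congr 1
  conv_rhs => rw [← Nat.mod_add_div a p, pow_add, pow_mul, hp, one_pow, mul_one]

/-- The operator `[m]` for a unit `m` of `ZMod p`. -/
noncomputable def T (m : (ZMod p)ˣ) : A →ₗ[R] A :=
  (SGA3b.powConv R A (m : ZMod p).val).toLinearMap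

include hp in
theorem T_mul (m m' : (ZMod p)ˣ) : T (R := R) (A := A) p (m * m') = T p m ∘ₗ T p m' := by
  unfold T
  rw [← AlgHom.comp_toLinearMap, powConv_comp, Units.val_mul, ZMod.val_mul, powConv_mod p hp]

theorem T_one : T (R := R) (A := A) p 1 = LinearMap.id := by
  unfold T
  rw [Units.val_one, ZMod.val_one, powConv_one]
  rfl

theorem counit_T (m : (ZMod p)ˣ) (f : A) :
    Coalgebra.counit (R := R) (T (R := R) (A := A) p m f) = Coalgebra.counit (R := R) f := by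
  have := congrArg (fun φ : A →ₐ[R] R => φ f) (counit_comp_powConv R A (m : ZMod p).val)
  simpa [T] using this

end Killed

section CharSum

variable {R : Type u} [CommRing R] (p : ℕ) [Fact p.Prime]

theorem sum_char (ψ : (ZMod p)ˣ →* Rˣ) (m₀ : (ZMod p)ˣ) (h : IsUnit (((ψ m₀ : Rˣ) : R) - 1)) :
    ∑ m : (ZMod p)ˣ, ((ψ m : Rˣ) : R) = 0 := by
  have h1 : ((ψ m₀ : Rˣ) : R) * ∑ m : (ZMod p)ˣ, ((ψ m : Rˣ) : R) =
      ∑ m : (ZMod p)ˣ, ((ψ m : Rˣ) : R) := by
    rw [Finset.mul_sum]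
    apply Fintype.sum_equiv (Equiv.mulLeft m₀)
    intro m
    simp [map_mul]
  have h2 : (((ψ m₀ : Rˣ) : R) - 1) * ∑ m : (ZMod p)ˣ, ((ψ m : Rˣ) : R) = 0 := by
    rw [sub_mul, h1, one_mul, sub_self]
  exact h.mul_right_eq_zero.1 h2

variable (χ : (ZMod p)ˣ →* Rˣ) (hχ : ∀ m : (ZMod p)ˣ, m ≠ 1 → IsUnit (((χ m : Rˣ) : R) - 1))

include hχ in
theorem sum_orth (i j : ℕ) (hi : i < p - 1) (hj : j < p - 1) :
    ∑ m : (ZMod p)ˣ, ((χ m : Rˣ) : R) ^ i * ((χ m⁻¹ : Rˣ) : R) ^ j =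
      if i = j then ((p - 1 : ℕ) : R) else 0 := by
  set ψ : (ZMod p)ˣ →* Rˣ := χ ^ i * (χ ^ j)⁻¹ with hψ
  have hψm : ∀ m, ((ψ m : Rˣ) : R) = ((χ m : Rˣ) : R) ^ i * ((χ m⁻¹ : Rˣ) : R) ^ j := by
    intro m
    simp [hψ, map_inv]
  simp only [← hψm]
  split_ifs with hij
  · subst hij
    have : ∀ m, ((ψ m : Rˣ) : R) = 1 := by
      intro m
      simp [hψ]
    simp only [this, Finset.sum_const, Finset.card_univ, ZMod.card_units, nsmul_eq_mul, mul_one]
  · obtain ⟨g, hg⟩ := IsCyclic.exists_generator (α := (ZMod p)ˣ)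
    have hord : orderOf g = p - 1 := by
      rw [orderOf_eq_card_of_forall_mem_zpowers hg, Nat.card_eq_fintype_card, ZMod.card_units]
    apply sum_char p ψ g
    have hne : g ^ i * (g ^ j)⁻¹ ≠ 1 := by
      intro h
      have h' : g ^ i = g ^ j := by
        rw [mul_inv_eq_one] at h
        exact h
      have := pow_injOn_Iio_orderOf (x := g) (by rw [hord]; exact hi) (by rw [hord]; exact hj) h'
      exact hij this
    have := hχ _ hne
    have e : ψ g = χ (g ^ i * (g ^ j)⁻¹) := by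
      simp [hψ, map_mul, map_pow, map_inv]
    rw [e]
    exact this

include hχ in
theorem sum_geom (m : (ZMod p)ˣ) :
    ∑ i ∈ Finset.range (p - 1), ((χ m⁻¹ : Rˣ) : R) ^ i = if m = 1 then ((p - 1 : ℕ) : R) else 0 := by
  split_ifs with hm
  · subst hm
    simp
  · have hm' : m⁻¹ ≠ 1 := by simpa using hm
    have hunit := hχ _ hm'
    have hpow : ((χ m⁻¹ : Rˣ) : R) ^ (p - 1) = 1 := by
      rw [← Units.val_pow_eq_pow_val, ← map_pow, ZMod.units_pow_card_sub_one_eq_one, map_one,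
        Units.val_one]
    have h2 : (∑ i ∈ Finset.range (p - 1), ((χ m⁻¹ : Rˣ) : R) ^ i) * (((χ m⁻¹ : Rˣ) : R) - 1) = 0 := by
      rw [geom_sum_mul, hpow, sub_self]
    exact hunit.mul_left_eq_zero.1 h2

end CharSum

section Decomp

variable {R A} (p : ℕ) [Fact p.Prime] (u : R) (hu : u * ((p - 1 : ℕ) : R) = 1)
  (χ : (ZMod p)ˣ →* Rˣ) (hχ : ∀ m : (ZMod p)ˣ, m ≠ 1 → IsUnit (((χ m : Rˣ) : R) - 1))
  (hp : (WithConv.toConv (AlgHom.id R A)) ^ p = 1)

theorem proj_apply (i : ℕ) (f : A) :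
    OortTate.proj R A p u χ i f =
      u • ∑ m : (ZMod p)ˣ, (((χ m⁻¹ : Rˣ) : R) ^ i) • T (R := R) (A := A) p m f := by
  simp [OortTate.proj, T]

theorem mem_eigenAug (i : ℕ) (f : A) :
    f ∈ OortTate.eigenAug R A p χ i ↔
      Coalgebra.counit (R := R) f = 0 ∧
        ∀ m : (ZMod p)ˣ, T (R := R) (A := A) p m f = (((χ m : Rˣ) : R) ^ i) • f := by
  unfold OortTate.eigenAug
  rw [Submodule.mem_inf, Submodule.mem_iInf, LinearMap.mem_ker]
  simp only [Module.End.mem_eigenspace_iff]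
  rfl

include hp in
theorem T_proj (i : ℕ) (m' : (ZMod p)ˣ) (f : A) :
    T (R := R) (A := A) p m' (OortTate.proj R A p u χ i f) =
      (((χ m' : Rˣ) : R) ^ i) • OortTate.proj R A p u χ i f := by
  rw [proj_apply]
  simp only [map_smul, map_sum, Finset.smul_sum]
  apply Fintype.sum_equiv (Equiv.mulLeft m')
  intro m
  rw [Equiv.coe_mulLeft, T_mul p hp, LinearMap.comp_apply, smul_smul, smul_smul, smul_smul]
  congr 1
  have h1 : ((χ (m' * m)⁻¹ : Rˣ) : R) = ((χ m⁻¹ : Rˣ) : R) * ((χ m'⁻¹ : Rˣ) : R) := by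
    rw [mul_inv_rev, map_mul, Units.val_mul]
  have h2 : ((χ m' : Rˣ) : R) * ((χ m'⁻¹ : Rˣ) : R) = 1 := by
    rw [← Units.val_mul, ← map_mul, mul_inv_cancel, map_one, Units.val_one]
  rw [h1, mul_pow]
  calc u * ((χ m⁻¹ : Rˣ) : R) ^ i
      = u * ((χ m⁻¹ : Rˣ) : R) ^ i * (((χ m' : Rˣ) : R) * ((χ m'⁻¹ : Rˣ) : R)) ^ i := by
        rw [h2, one_pow, mul_one]
    _ = _ := by rw [mul_pow]; ring

theorem proj_eigen (i j : ℕ) (f : A)
    (hf : ∀ m : (ZMod p)ˣ, T (R := R) (A := A) p m f = (((χ m : Rˣ) : R) ^ i) • f) :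
    OortTate.proj R A p u χ j f =
      (u * ∑ m : (ZMod p)ˣ, ((χ m : Rˣ) : R) ^ i * ((χ m⁻¹ : Rˣ) : R) ^ j) • f := by
  rw [proj_apply, mul_smul, Finset.sum_smul]
  congr 1
  apply Finset.sum_congr rfl
  intro m _
  rw [hf m, smul_smul, mul_comm]

include hu hχ in
theorem proj_eigen' (i j : ℕ) (hi : i < p - 1) (hj : j < p - 1) (f : A)
    (hf : ∀ m : (ZMod p)ˣ, T (R := R) (A := A) p m f = (((χ m : Rˣ) : R) ^ i) • f) :
    OortTate.proj R A p u χ j f = if i = j then f else 0 := by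
  rw [proj_eigen p u χ i j f hf, sum_orth p χ hχ i j hi hj]
  split_ifs with h
  · rw [hu, one_smul]
  · rw [mul_zero, zero_smul]

include hu hχ in
theorem sum_proj (f : A) :
    ∑ i ∈ Finset.range (p - 1), OortTate.proj R A p u χ i f = f := by
  simp only [proj_apply]
  rw [← Finset.smul_sum, Finset.sum_comm]
  simp only [← Finset.sum_smul, sum_geom p χ hχ]
  rw [Finset.sum_eq_single (1 : (ZMod p)ˣ)]
  · rw [if_pos rfl, T_one, LinearMap.id_apply, smul_smul, hu, one_smul]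
  · intro m _ hm
    rw [if_neg hm, zero_smul]
  · intro h
    exact absurd (Finset.mem_univ _) h

theorem counit_proj (i : ℕ) (f : A) (hf : Coalgebra.counit (R := R) f = 0) :
    Coalgebra.counit (R := R) (OortTate.proj R A p u χ i f) = 0 := by
  rw [proj_apply, map_smul, map_sum]
  simp only [map_smul, counit_T, hf, smul_zero, Finset.sum_const_zero]

end Decomp

end Groth.Agent.Helper22.OTLib
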