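import Groth.Agent.Lib.Helper22.HalfDiscU
import Groth.Agent.Lib.Helper22.InfIso
import Mathlib.RingTheory.Localization.Away.Basic
import Mathlib.RingTheory.TensorProduct.Free

open QuadGrp Matrix

namespace Groth.Agent.Helper22.OddCentre

open QuadraticMap

section P6
variable {S : Type*} [CommRing S] {M : Type*} [AddCommGroup M] [Module S M]

/-- The abstract argument: an isometry commuting with all `X_{v,w}` is a scalar, given an
orthogonal decomposition `M = S r ⊥ N` with `N` carrying dual bases. -/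
theorem P6 (Q : QuadraticForm S M) (g : M →ₗ[S] M) (hiso : ∀ x, Q (g x) = Q x)
    (hcomm : ∀ v w x : M, g (polar Q x v • w - polar Q x w • v) =
      polar Q (g x) v • w - polar Q (g x) w • v)
    {J : Type*} [Fintype J] [DecidableEq J] [Nonempty J] (hJ : ∀ k : J, ∃ j, j ≠ k)
    (r : M) (c d : J → M) (ψ : M →ₗ[S] S)
    (h1 : ∀ x : M, ∃ (a : S) (t : J → S), x = a • r + ∑ j, t j • c j)
    (h2 : ∀ j, polar Q r (c j) = 0)
    (h3 : ∀ k j, polar Q (d k) (c j) = if k = j then 1 else 0)
    (h4 : ∀ k, d k ∈ Submodule.span S (Set.range c))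
    (h5 : IsUnit (Q r)) (h6 : IsUnit (ψ r)) (h6' : ∀ j, ψ (c j) = 0) :
    ∃ ρ : S, ρ * ρ = 1 ∧ ∀ x, g x = ρ • x := by
  set N := Submodule.span S (Set.range c) with hN
  have hcN : ∀ j, c j ∈ N := fun j => Submodule.subset_span ⟨j, rfl⟩
  have hrN : ∀ z ∈ N, polar Q r z = 0 := by
    intro z hz
    induction hz using Submodule.span_induction with
    | mem z hz => obtain ⟨j, rfl⟩ := hz; exact h2 j
    | zero => simp
    | add x y _ _ hx hy => rw [polar_add_right, hx, hy, add_zero]
    | smul a x _ hx => rw [polar_smul_right, hx, smul_zero]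
  have hNr : ∀ z ∈ N, polar Q z r = 0 := fun z hz => by rw [polar_comm]; exact hrN z hz
  have hψN : ∀ z ∈ N, ψ z = 0 := by
    intro z hz
    induction hz using Submodule.span_induction with
    | mem z hz => obtain ⟨j, rfl⟩ := hz; exact h6' j
    | zero => simp
    | add x y _ _ hx hy => rw [map_add, hx, hy, add_zero]
    | smul a x _ hx => rw [map_smul, hx, smul_zero]
  have hgc : ∀ k, g (c k) ∈ N := by
    intro k
    obtain ⟨j, hj⟩ := hJ k
    have := hcomm (c j) (c k) (d j)
    rw [h3 j j, h3 j k, if_pos rfl, if_neg hj, one_smul, zero_smul, sub_zero] at this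
    rw [this]
    exact N.sub_mem (N.smul_mem _ (hcN k)) (N.smul_mem _ (hcN j))
  have hgN : ∀ z ∈ N, g z ∈ N := by
    intro z hz
    induction hz using Submodule.span_induction with
    | mem z hz => obtain ⟨j, rfl⟩ := hz; exact hgc j
    | zero => rw [map_zero]; exact N.zero_mem
    | add x y _ _ hx hy => rw [map_add]; exact N.add_mem hx hy
    | smul a x _ hx => rw [map_smul]; exact N.smul_mem _ hx
  set k0 : J := Classical.arbitrary J
  set ρ : S := polar Q (g (d k0)) (c k0) with hρ
  have hgr : g r = ρ • r := by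
    have := hcomm r (c k0) (d k0)
    rw [hNr (d k0) (h4 k0), h3 k0 k0, if_pos rfl, hNr _ (hgN _ (h4 k0)), zero_smul,
      one_smul, zero_sub, zero_sub, map_neg, neg_inj] at this
    exact this
  have hρN : ∀ x ∈ N, ∀ w ∈ N, ρ * polar Q x w = polar Q (g x) w := by
    intro x hx w hw
    have := hcomm r w x
    rw [hNr x hx, hNr _ (hgN x hx), zero_smul, zero_sub, zero_sub, map_neg, neg_inj,
      map_smul, hgr] at this
    have h := congrArg ψ this
    rw [map_smul, map_smul, map_smul, smul_eq_mul, smul_eq_mul, smul_eq_mul, ← mul_assoc] at h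
    have := h6.mul_left_injective h
    rw [mul_comm]; exact this
  have hgx : ∀ x ∈ N, g x = ρ • x := by
    intro x hx
    have hz : g x - ρ • x ∈ N := N.sub_mem (hgN x hx) (N.smul_mem _ hx)
    have hzw : ∀ w ∈ N, polar Q (g x - ρ • x) w = 0 := by
      intro w hw
      rw [polar_sub_left, polar_smul_left, smul_eq_mul, hρN x hx w hw, sub_self]
    obtain ⟨t, ht⟩ := (Submodule.mem_span_range_iff_exists_fun S).1 hz
    have ht0 : ∀ k, t k = 0 := by
      intro k
      have e1 := hzw (d k) (h4 k)
      rw [polar_comm, ← ht, ← polarBilin_apply_apply, map_sum] at e1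
      simp only [map_smul, polarBilin_apply_apply, h3, smul_eq_mul, mul_ite, mul_one, mul_zero,
        Finset.sum_ite_eq, Finset.mem_univ, if_true] at e1
      exact e1
    have : g x - ρ • x = 0 := by
      rw [← ht]
      exact Finset.sum_eq_zero (fun j _ => by rw [ht0 j, zero_smul])
    exact sub_eq_zero.1 this
  refine ⟨ρ, ?_, ?_⟩
  · have := hiso r
    rw [hgr, QuadraticMap.map_smul, smul_eq_mul] at this
    have h' : ρ * ρ * Q r = 1 * Q r := by rw [this, one_mul]
    exact h5.mul_left_injective h'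
  · intro x
    obtain ⟨a, t, rfl⟩ := h1 x
    have hs : ∑ j, t j • c j ∈ N := N.sum_mem (fun j _ => N.smul_mem _ (hcN j))
    rw [map_add, map_smul, hgr, hgx _ hs, smul_add, smul_comm]

end P6

section Basis
variable {S : Type*} [CommRing S] {M : Type*} [AddCommGroup M] [Module S M]

theorem polar_sum_smul_left {ι : Type*} [Fintype ι] (Q : QuadraticForm S M) (x : ι → S)
    (v : ι → M) (y : M) :
    polar Q (∑ a, x a • v a) y = ∑ a, x a * polar Q (v a) y := by
  rw [← polarBilin_apply_apply, map_sum, LinearMap.sum_apply]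
  simp only [map_smul, LinearMap.smul_apply, polarBilin_apply_apply, smul_eq_mul]

theorem polar_sum_smul_right {ι : Type*} [Fintype ι] (Q : QuadraticForm S M) (x : ι → S)
    (v : ι → M) (y : M) :
    polar Q y (∑ a, x a • v a) = ∑ a, x a * polar Q y (v a) := by
  rw [polar_comm, polar_sum_smul_left]
  exact Finset.sum_congr rfl (fun a _ => by rw [polar_comm])

/-- The Gram matrix of the polar form. -/
noncomputable def gram {n : ℕ} (b : Module.Basis (Fin n) S M) (Q : QuadraticForm S M) :
    Matrix (Fin n) (Fin n) S := Matrix.of fun i j => polar Q (b i) (b j)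

theorem gram_eq {n : ℕ} (b : Module.Basis (Fin n) S M) (Q : QuadraticForm S M)
    (B0 : LinearMap.BilinForm S M) (hB0 : LinearMap.BilinMap.toQuadraticMap B0 = Q) :
    gram b Q = LinearMap.BilinForm.toMatrix b B0 + (LinearMap.BilinForm.toMatrix b B0)ᵀ := by
  ext i j
  subst hB0
  simp [gram, LinearMap.BilinMap.polar_toQuadraticMap, LinearMap.BilinForm.toMatrix_apply]

theorem A2 {k : ℕ} (hk : 2 ≤ k) (hn : Odd (k + 1)) (b : Module.Basis (Fin (k + 1)) S M)
    (Q : QuadraticForm S M) (g : M →ₗ[S] M) (hiso : ∀ x, Q (g x) = Q x)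
    (hcomm : ∀ v w x : M, g (polar Q x v • w - polar Q x w • v) =
      polar Q (g x) v • w - polar Q (g x) w • v)
    (hhd : IsUnit (halfDisc b (LinearEquiv.refl S S) Q))
    (i0 : Fin (k + 1)) (hC : IsUnit ((gram b Q).adjugate i0 i0)) :
    ∃ ρ : S, ρ * ρ = 1 ∧ ∀ x, g x = ρ • x := by
  classical
  have : Module.Free S M := Module.Free.of_basis b
  obtain ⟨B0, hB0⟩ := LinearMap.BilinMap.toQuadraticMap_surjective Q
  set T := LinearMap.BilinForm.toMatrix b B0 with hT
  have hΓ : gram b Q = T + Tᵀ := gram_eq b Q B0 hB0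
  have hhdT : halfDisc b (LinearEquiv.refl S S) Q = HalfDisc.hd T := HalfDisc.halfDisc_eq_aeval b Q B0 hB0
  set Γ := gram b Q with hΓdef
  set C := Γ.adjugate with hCdef
  obtain ⟨u, hu⟩ := hC
  have hΓapp : ∀ i j, Γ i j = polar Q (b i) (b j) := fun i j => rfl
  -- the vectors
  obtain ⟨r, hr⟩ : ∃ r : M, r = b.equivFun.symm (fun a => C a i0) := ⟨_, rfl⟩
  have hr' : r = ∑ a, C a i0 • b a := by rw [hr, Module.Basis.equivFun_symm_apply]
  set c : Fin k → M := fun j => b (i0.succAbove j) with hc
  set Γm := Γ.submatrix i0.succAbove i0.succAbove with hΓm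
  have hdetΓm : Γm.det = u := by
    have := Matrix.adjugate_fin_succ_eq_det_submatrix Γ i0 i0
    rw [Even.neg_one_pow ⟨(i0 : ℕ), rfl⟩, one_mul] at this
    rw [hΓm, ← this]
    exact hu.symm
  have hΓminv : Γm⁻¹ * Γm = 1 := Matrix.nonsing_inv_mul Γm (by rw [hdetΓm]; exact u.isUnit)
  set d : Fin k → M := fun k' => ∑ j, Γm⁻¹ k' j • c j with hd
  have hne : ∀ j, i0.succAbove j ≠ i0 := fun j => Fin.succAbove_ne i0 j
  have hJ : ∀ k' : Fin k, ∃ j, j ≠ k' := by
    intro k'
    by_cases h0 : (k' : ℕ) = 0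
    · exact ⟨⟨1, by omega⟩, fun h => by have := congrArg Fin.val h; simp at this; omega⟩
    · exact ⟨⟨0, by omega⟩, fun h => by have := congrArg Fin.val h; simp at this; omega⟩
  have : Nonempty (Fin k) := ⟨⟨0, by omega⟩⟩
  refine P6 Q g hiso hcomm hJ r c d (b.coord i0) ?_ ?_ ?_ ?_ ?_ ?_ ?_
  · -- spanning
    intro x
    set ξ := b.equivFun x with hξ
    refine ⟨ξ i0 * ↑u⁻¹, fun j => ξ (i0.succAbove j) - ξ i0 * ↑u⁻¹ * C (i0.succAbove j) i0, ?_⟩
    have hx : x = ξ i0 • b i0 + ∑ j, ξ (i0.succAbove j) • c j := by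
      conv_lhs => rw [← b.sum_equivFun x, Fin.sum_univ_succAbove _ i0]
    have hr2 : r = (u : S) • b i0 + ∑ j, C (i0.succAbove j) i0 • c j := by
      rw [hr', Fin.sum_univ_succAbove _ i0, hu]
    rw [hr2, smul_add, smul_smul, Finset.smul_sum, mul_assoc, Units.inv_mul, mul_one]
    simp only [smul_smul, sub_smul, Finset.sum_sub_distrib]
    rw [hx]
    abel
  · -- r ⟂ c j
    intro j
    rw [hr', polar_sum_smul_left]
    have h1 : (Γ * C) (i0.succAbove j) i0 = 0 := by
      rw [hCdef, Matrix.mul_adjugate, Matrix.smul_apply, Matrix.one_apply, if_neg (hne j), smul_zero]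
    rw [Matrix.mul_apply] at h1
    rw [← h1]
    refine Finset.sum_congr rfl (fun a _ => ?_)
    rw [hΓapp, polar_comm, mul_comm]
  · -- duals
    intro k' j
    simp only [hd]
    rw [polar_sum_smul_left]
    have h1 : (Γm⁻¹ * Γm) k' j = if k' = j then 1 else 0 := by
      rw [hΓminv, Matrix.one_apply]
    rw [← h1, Matrix.mul_apply]
    rfl
  · intro k'
    exact Submodule.sum_mem _ (fun j _ => Submodule.smul_mem _ _ (Submodule.subset_span ⟨j, rfl⟩))
  · -- Q r is a unit
    have h1 : Q r = HalfDisc.hd T * C i0 i0 := by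
      have hU := HalfDisc.U2 hn T i0
      rw [← hΓ, LinearMap.BilinForm.dotProduct_toMatrix_mulVec] at hU
      rw [← hB0, LinearMap.BilinMap.toQuadraticMap_apply, hr]
      exact hU
    rw [h1, ← hhdT, ← hu]
    exact hhd.mul u.isUnit
  · -- ψ r
    have : b.coord i0 r = C i0 i0 := by
      rw [Module.Basis.coord_apply, hr, ← Module.Basis.equivFun_apply, LinearEquiv.apply_symm_apply]
    rw [this, ← hu]; exact u.isUnit
  · intro j
    rw [Module.Basis.coord_apply, Module.Basis.repr_self, Finsupp.single_apply, if_neg (hne j)]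

end Basis

section A1
variable {S : Type*} [CommRing S] {M : Type*} [AddCommGroup M] [Module S M]

theorem scalar_of_commute_basis {n : ℕ} (hn : 3 ≤ n) (b : Module.Basis (Fin n) S M)
    (Q : QuadraticForm S M) (g : M →ₗ[S] M) (hg : ∀ v, Q (g v) = Q v)
    (hdual : ∀ j : Fin n, ∃ d : M, ∀ x, polar Q d x = b.repr x j)
    (hcomm : ∀ v w x : M, g (polar Q x v • w - polar Q x w • v) =
      polar Q (g x) v • w - polar Q (g x) w • v) :
    ∃ c : S, c * c = 1 ∧ ∀ v, g v = c • v := by
  classical
  have hpol : ∀ a b', polar Q (g a) (g b') = polar Q a b' := by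
    intro a b'
    simp only [polar, ← map_add, hg]
  choose d hd using hdual
  have hejk : ∀ j k : Fin n, b.repr (b k) j = if j = k then 1 else 0 := by
    intro j k
    rw [b.repr_self, Finsupp.single_apply]
    simp only [eq_comm]
  have h1 : ∀ j k : Fin n, j ≠ k →
      g (b k) = polar Q (g (d j)) (b j) • b k - polar Q (g (d j)) (b k) • b j := by
    intro j k hjk
    have := hcomm (b j) (b k) (d j)
    rw [hd, hd, hejk j j, hejk j k, if_pos rfl, if_neg hjk, one_smul, zero_smul, sub_zero] at this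
    exact this
  have hoff : ∀ k l : Fin n, l ≠ k → b.repr (g (b k)) l = 0 := by
    intro k l hlk
    obtain ⟨j, hjk, hjl⟩ := InfIso.exists_third hn k l
    rw [h1 j k hjk]
    simp only [map_sub, map_smul, Finsupp.coe_sub, Finsupp.coe_smul, Pi.sub_apply, Pi.smul_apply,
      smul_eq_mul, hejk, if_neg hlk, if_neg (Ne.symm hjl), mul_zero, sub_zero]
  set lam : Fin n → S := fun k => b.repr (g (b k)) k with hlam
  have hdiag : ∀ k, g (b k) = lam k • b k := by
    intro k
    apply b.ext_elem
    intro l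
    by_cases hlk : l = k
    · subst hlk; simp [hlam, hejk]
    · rw [hoff k l hlk]; simp [hejk, hlk]
  have h2 : ∀ j k : Fin n, j ≠ k → lam k = polar Q (g (d j)) (b j) := by
    intro j k hjk
    have := congrArg (fun z => b.repr z k) (h1 j k hjk)
    simp only [map_sub, map_smul, Finsupp.coe_sub, Finsupp.coe_smul, Pi.sub_apply, Pi.smul_apply,
      smul_eq_mul, hejk, if_true, if_neg (Ne.symm hjk), mul_one, mul_zero, sub_zero] at this
    exact this
  have h3 : ∀ j k : Fin n, j ≠ k → lam j * lam k = 1 := by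
    intro j k hjk
    rw [h2 j k hjk, ← smul_eq_mul, ← polar_smul_right, ← hdiag j, hpol, hd, hejk, if_pos rfl]
  have heq : ∀ k l : Fin n, lam k = lam l := by
    intro k l
    by_cases hkl : k = l
    · rw [hkl]
    obtain ⟨j, hjk, hjl⟩ := InfIso.exists_third hn k l
    calc lam k = lam k * (lam j * lam l) := by rw [h3 j l hjl, mul_one]
      _ = (lam j * lam k) * lam l := by ring
      _ = lam l := by rw [h3 j k hjk, one_mul]
  refine ⟨lam ⟨0, by omega⟩, ?_, ?_⟩
  · have := h3 ⟨0, by omega⟩ ⟨1, by omega⟩ (by simp [Fin.ext_iff])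
    rwa [heq ⟨1, by omega⟩ ⟨0, by omega⟩] at this
  · intro v
    have hlin : g = lam ⟨0, by omega⟩ • LinearMap.id := by
      apply b.ext
      intro k
      rw [hdiag, heq k ⟨0, by omega⟩]
      simp
    rw [hlin]
    simp

theorem A1 {n : ℕ} (hn : 3 ≤ n) (hodd : Odd n) (b : Module.Basis (Fin n) S M)
    (Q : QuadraticForm S M) (g : M →ₗ[S] M) (hiso : ∀ x, Q (g x) = Q x)
    (hcomm : ∀ v w x : M, g (polar Q x v • w - polar Q x w • v) =
      polar Q (g x) v • w - polar Q (g x) w • v)
    (hhd : IsUnit (halfDisc b (LinearEquiv.refl S S) Q)) (h2 : IsUnit (2 : S)) :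
    ∃ ρ : S, ρ * ρ = 1 ∧ ∀ x, g x = ρ • x := by
  classical
  have : Module.Free S M := Module.Free.of_basis b
  obtain ⟨B0, hB0⟩ := LinearMap.BilinMap.toQuadraticMap_surjective Q
  set T := LinearMap.BilinForm.toMatrix b B0 with hT
  have hΓ : gram b Q = T + Tᵀ := gram_eq b Q B0 hB0
  have hhdT : halfDisc b (LinearEquiv.refl S S) Q = HalfDisc.hd T := HalfDisc.halfDisc_eq_aeval b Q B0 hB0
  have hdet : IsUnit (gram b Q).det := by
    rw [hΓ, ← HalfDisc.two_mul_hd hodd T, ← hhdT]
    exact h2.mul hhd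
  have hinv : (gram b Q)⁻¹ * gram b Q = 1 := Matrix.nonsing_inv_mul _ hdet
  refine scalar_of_commute_basis hn b Q g hiso ?_ hcomm
  intro j
  refine ⟨∑ a, (gram b Q)⁻¹ j a • b a, fun x => ?_⟩
  have hbl : ∀ l, polar Q (∑ a, (gram b Q)⁻¹ j a • b a) (b l) = if j = l then 1 else 0 := by
    intro l
    rw [polar_sum_smul_left]
    have h1 : ((gram b Q)⁻¹ * gram b Q) j l = if j = l then 1 else 0 := by
      rw [hinv, Matrix.one_apply]
    rw [← h1, Matrix.mul_apply]
    rfl
  conv_lhs => rw [← b.sum_repr x]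
  rw [polar_sum_smul_right]
  simp only [hbl, mul_ite, mul_one, mul_zero, Finset.sum_ite_eq, Finset.mem_univ, if_true]

end A1

section Transfer
open TensorProduct
variable {R : Type*} [CommRing R] {M : Type*} [AddCommGroup M] [Module R M] [Module.Free R M]
  (Q : QuadraticForm R M) (S : Type*) [CommRing S] [Algebra R S]

theorem X_add_left {A : Type*} [CommRing A] {N : Type*} [AddCommGroup N] [Module A N]
    (Q' : QuadraticForm A N) (v₁ v₂ w : N) :
    InfIso.X Q' (v₁ + v₂) w = InfIso.X Q' v₁ w + InfIso.X Q' v₂ w := by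
  ext x
  simp only [InfIso.X_apply, LinearMap.add_apply, polar_add_right, add_smul, smul_add]
  abel

theorem X_smul_left {A : Type*} [CommRing A] {N : Type*} [AddCommGroup N] [Module A N]
    (Q' : QuadraticForm A N) (a : A) (v w : N) :
    InfIso.X Q' (a • v) w = a • InfIso.X Q' v w := by
  ext x
  simp only [InfIso.X_apply, LinearMap.smul_apply, polar_smul_right, smul_sub, smul_smul, smul_eq_mul,
    mul_comm]

theorem X_add_right {A : Type*} [CommRing A] {N : Type*} [AddCommGroup N] [Module A N]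
    (Q' : QuadraticForm A N) (v w₁ w₂ : N) :
    InfIso.X Q' v (w₁ + w₂) = InfIso.X Q' v w₁ + InfIso.X Q' v w₂ := by
  ext x
  simp only [InfIso.X_apply, LinearMap.add_apply, polar_add_right, add_smul, smul_add]
  abel

theorem X_smul_right {A : Type*} [CommRing A] {N : Type*} [AddCommGroup N] [Module A N]
    (Q' : QuadraticForm A N) (a : A) (v w : N) :
    InfIso.X Q' v (a • w) = a • InfIso.X Q' v w := by
  ext x
  simp only [InfIso.X_apply, LinearMap.smul_apply, polar_smul_right, smul_sub, smul_smul, smul_eq_mul,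
    mul_comm]

theorem X_zero_left {A : Type*} [CommRing A] {N : Type*} [AddCommGroup N] [Module A N]
    (Q' : QuadraticForm A N) (w : N) : InfIso.X Q' 0 w = 0 := by
  ext x; simp [InfIso.X_apply]

theorem X_zero_right {A : Type*} [CommRing A] {N : Type*} [AddCommGroup N] [Module A N]
    (Q' : QuadraticForm A N) (v : N) : InfIso.X Q' v 0 = 0 := by
  ext x; simp [InfIso.X_apply]

theorem X_one_tmul (v w x : M) :
    InfIso.X (QuadGrp.baseChangeForm S Q) ((1 : S) ⊗ₜ[R] v) ((1 : S) ⊗ₜ[R] w) ((1 : S) ⊗ₜ[R] x) =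
      (1 : S) ⊗ₜ[R] (polar Q x v • w - polar Q x w • v) := by
  rw [InfIso.X_apply, InfIso.polar_baseChangeForm, InfIso.polar_baseChangeForm,
    InfIso.algebraMap_smul_one_tmul, InfIso.algebraMap_smul_one_tmul, ← TensorProduct.tmul_sub]

variable {Q}

theorem iso_baseChange (g : M ≃ₗ[R] M) (hg : ∀ v, Q (g v) = Q v) (x : S ⊗[R] M) :
    QuadGrp.baseChangeForm S Q (g.baseChange R S M M x) = QuadGrp.baseChangeForm S Q x := by
  have h : (QuadGrp.baseChangeForm S Q).comp (g.baseChange R S M M).toLinearMap =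
      QuadGrp.baseChangeForm S Q := by
    apply _root_.baseChange_ext
    intro m
    rw [QuadraticMap.comp_apply, LinearEquiv.coe_coe, LinearEquiv.baseChange_tmul,
      InfIso.baseChangeForm_tmul, InfIso.baseChangeForm_tmul, hg]
  exact DFunLike.congr_fun h x

theorem comm_baseChange (g : M ≃ₗ[R] M)
    (hcomm : ∀ v w x : M, g (polar Q x v • w - polar Q x w • v) =
      polar Q (g x) v • w - polar Q (g x) w • v) (v' w' : S ⊗[R] M) :
    (g.baseChange R S M M).toLinearMap ∘ₗ InfIso.X (QuadGrp.baseChangeForm S Q) v' w' =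
      InfIso.X (QuadGrp.baseChangeForm S Q) v' w' ∘ₗ (g.baseChange R S M M).toLinearMap := by
  have base : ∀ v w : M,
      (g.baseChange R S M M).toLinearMap ∘ₗ
          InfIso.X (QuadGrp.baseChangeForm S Q) ((1 : S) ⊗ₜ[R] v) ((1 : S) ⊗ₜ[R] w) =
        InfIso.X (QuadGrp.baseChangeForm S Q) ((1 : S) ⊗ₜ[R] v) ((1 : S) ⊗ₜ[R] w) ∘ₗ
          (g.baseChange R S M M).toLinearMap := by
    intro v w
    apply TensorProduct.AlgebraTensorModule.ext
    intro a x
    have ha : a ⊗ₜ[R] x = a • ((1 : S) ⊗ₜ[R] x) := by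
      rw [TensorProduct.smul_tmul', smul_eq_mul, mul_one]
    rw [ha, map_smul, map_smul]
    congr 1
    rw [LinearMap.comp_apply, LinearMap.comp_apply, LinearEquiv.coe_coe, X_one_tmul,
      LinearEquiv.baseChange_tmul, LinearEquiv.baseChange_tmul, X_one_tmul, hcomm]
  have step1 : ∀ (v' : S ⊗[R] M) (w : M),
      (g.baseChange R S M M).toLinearMap ∘ₗ
          InfIso.X (QuadGrp.baseChangeForm S Q) v' ((1 : S) ⊗ₜ[R] w) =
        InfIso.X (QuadGrp.baseChangeForm S Q) v' ((1 : S) ⊗ₜ[R] w) ∘ₗ
          (g.baseChange R S M M).toLinearMap := by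
    intro v' w
    induction v' using TensorProduct.induction_on with
    | zero => rw [X_zero_left, LinearMap.comp_zero, LinearMap.zero_comp]
    | tmul a v =>
      have ha : a ⊗ₜ[R] v = a • ((1 : S) ⊗ₜ[R] v) := by
        rw [TensorProduct.smul_tmul', smul_eq_mul, mul_one]
      rw [ha, X_smul_left, LinearMap.comp_smul, LinearMap.smul_comp, base]
    | add x y hx hy => rw [X_add_left, LinearMap.comp_add, LinearMap.add_comp, hx, hy]
  induction w' using TensorProduct.induction_on with
  | zero => rw [X_zero_right, LinearMap.comp_zero, LinearMap.zero_comp]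
  | tmul a w =>
    have ha : a ⊗ₜ[R] w = a • ((1 : S) ⊗ₜ[R] w) := by
      rw [TensorProduct.smul_tmul', smul_eq_mul, mul_one]
    rw [ha, X_smul_right, LinearMap.comp_smul, LinearMap.smul_comp, step1]
  | add x y hx hy => rw [X_add_right, LinearMap.comp_add, LinearMap.add_comp, hx, hy]

theorem comm_baseChange' (g : M ≃ₗ[R] M)
    (hcomm : ∀ v w x : M, g (polar Q x v • w - polar Q x w • v) =
      polar Q (g x) v • w - polar Q (g x) w • v) (v' w' x' : S ⊗[R] M) :
    (g.baseChange R S M M).toLinearMap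
        (polar (QuadGrp.baseChangeForm S Q) x' v' • w' - polar (QuadGrp.baseChangeForm S Q) x' w' • v') =
      polar (QuadGrp.baseChangeForm S Q) ((g.baseChange R S M M).toLinearMap x') v' • w' -
        polar (QuadGrp.baseChangeForm S Q) ((g.baseChange R S M M).toLinearMap x') w' • v' := by
  have := LinearMap.congr_fun (comm_baseChange S g hcomm v' w') x'
  simpa only [LinearMap.comp_apply, InfIso.X_apply] using this

variable {n : ℕ} (b : Module.Basis (Fin n) R M)

theorem gram_baseChange :
    gram (Algebra.TensorProduct.basis S b) (QuadGrp.baseChangeForm S Q) =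
      (gram b Q).map (algebraMap R S) := by
  ext i j
  simp only [gram, Matrix.of_apply, Matrix.map_apply, Algebra.TensorProduct.basis_apply,
    InfIso.polar_baseChangeForm]

theorem halfDisc_baseChange :
    halfDisc (Algebra.TensorProduct.basis S b) (LinearEquiv.refl S S) (QuadGrp.baseChangeForm S Q) =
      algebraMap R S (halfDisc b (LinearEquiv.refl R R) Q) := by
  unfold halfDisc
  rw [MvPolynomial.eval₂_comp_left (algebraMap R S)]
  congr 1
  · exact RingHom.ext_int _ _
  · ext s
    induction s using Sym2.ind with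
    | _ i j =>
      rw [Function.comp_apply, coeffs_mk, coeffs_mk]
      by_cases h : i = j
      · rw [if_pos h, if_pos h]
        simp [Algebra.TensorProduct.basis_apply, InfIso.baseChangeForm_tmul,
          Algebra.algebraMap_eq_smul_one]
      · rw [if_neg h, if_neg h]
        simp [Algebra.TensorProduct.basis_apply, InfIso.polar_baseChangeForm]

end Transfer

section Global
open TensorProduct
variable {R : Type*} [CommRing R]

theorem eq_zero_of_span_top (gens : Set R) (h : Ideal.span gens = ⊤) (x : R)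
    (hx : ∀ u ∈ gens, ∃ N : ℕ, u ^ N * x = 0) : x = 0 := by
  by_contra hx0
  set I : Ideal R := LinearMap.ker (LinearMap.toSpanSingleton R R x) with hI'
  have hI : I ≠ ⊤ := by
    intro hI
    have : (1 : R) ∈ I := hI ▸ Submodule.mem_top
    rw [LinearMap.mem_ker, LinearMap.toSpanSingleton_apply, one_smul] at this
    exact hx0 this
  obtain ⟨m, hm, hle⟩ := Ideal.exists_le_maximal I hI
  have : Ideal.span gens ≤ m := Ideal.span_le.2 (fun u hu => by
    obtain ⟨N, hN⟩ := hx u hu
    have : u ^ N ∈ I := by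
      rw [LinearMap.mem_ker, LinearMap.toSpanSingleton_apply, smul_eq_mul, hN]
    exact hm.isPrime.mem_of_pow_mem N (hle this))
  rw [h] at this
  exact hm.ne_top (top_le_iff.1 this)

variable {M : Type*} [AddCommGroup M] [Module R M] [Module.Free R M] {k : ℕ}

theorem local_scalar (hk : 2 ≤ k) (hn : Odd (k + 1)) (b : Module.Basis (Fin (k + 1)) R M)
    (Q : QuadraticForm R M) (g : M ≃ₗ[R] M) (hg : ∀ v, Q (g v) = Q v)
    (hcomm : ∀ v w x : M, g (polar Q x v • w - polar Q x w • v) =
      polar Q (g x) v • w - polar Q (g x) w • v)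
    (hhd : IsUnit (halfDisc b (LinearEquiv.refl R R) Q))
    (u : R) (hu : u ∈ ({2} ∪ Set.range fun i => (gram b Q).adjugate i i : Set R)) :
    ∃ ρ : Localization.Away u, ρ * ρ = 1 ∧ ∀ x : Localization.Away u ⊗[R] M,
      g.baseChange R (Localization.Away u) M M x = ρ • x := by
  set S := Localization.Away u with hS
  have hisoS := fun x => iso_baseChange (Q := Q) S g hg x
  have hcommS := fun v' w' x' => comm_baseChange' (Q := Q) S g hcomm v' w' x'
  have hhdS : IsUnit (halfDisc (Algebra.TensorProduct.basis S b) (LinearEquiv.refl S S)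
      (QuadGrp.baseChangeForm S Q)) := by
    rw [halfDisc_baseChange]; exact hhd.map _
  have huS : IsUnit (algebraMap R S u) := IsLocalization.Away.algebraMap_isUnit u
  rcases hu with hu | ⟨i, hi⟩
  · have h2 : IsUnit (2 : S) := by
      rw [Set.mem_singleton_iff] at hu
      have e : algebraMap R S u = (2 : S) := by
        rw [← map_ofNat (algebraMap R S) 2]; exact congrArg _ hu
      rw [e] at huS
      exact huS
    exact A1 (by omega) hn (Algebra.TensorProduct.basis S b) (QuadGrp.baseChangeForm S Q)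
      (g.baseChange R S M M).toLinearMap hisoS hcommS hhdS h2
  · have hC : IsUnit ((gram (Algebra.TensorProduct.basis S b)
        (QuadGrp.baseChangeForm S Q)).adjugate i i) := by
      rw [gram_baseChange]
      have h := RingHom.map_adjugate (algebraMap R S) (gram b Q)
      have h' := congrFun (congrFun h i) i
      simp only [RingHom.mapMatrix_apply, Matrix.map_apply] at h'
      have hi' : (gram b Q).adjugate i i = u := hi
      rw [← h', hi']
      exact huS
    exact A2 hk hn (Algebra.TensorProduct.basis S b) (QuadGrp.baseChangeForm S Q)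
      (g.baseChange R S M M).toLinearMap hisoS hcommS hhdS i hC

theorem odd_centre (hk : 2 ≤ k) (hn : Odd (k + 1)) (b : Module.Basis (Fin (k + 1)) R M)
    (Q : QuadraticForm R M) (g : M ≃ₗ[R] M) (hg : ∀ v, Q (g v) = Q v)
    (hcomm : ∀ v w x : M, g (polar Q x v • w - polar Q x w • v) =
      polar Q (g x) v • w - polar Q (g x) w • v)
    (hhd : IsUnit (halfDisc b (LinearEquiv.refl R R) Q)) :
    ∃ c : R, c * c = 1 ∧ ∀ v, g v = c • v := by
  classical
  set gens : Set R := {2} ∪ Set.range fun i => (gram b Q).adjugate i i with hgens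
  have hspan : Ideal.span gens = ⊤ := by
    obtain ⟨B0, hB0⟩ := LinearMap.BilinMap.toQuadraticMap_surjective Q
    have hΓ := gram_eq b Q B0 hB0
    have hhdT := HalfDisc.halfDisc_eq_aeval b Q B0 hB0
    have := HalfDisc.span_two_adjugate_eq_top hn (LinearMap.BilinForm.toMatrix b B0)
      (by rw [HalfDisc.hd, ← hhdT]; exact hhd)
    rw [hgens, hΓ]; exact this
  set a : Fin (k + 1) → Fin (k + 1) → R := fun l k' => b.repr (g (b k')) l with ha
  have hloc : ∀ u ∈ gens, ∃ ρ : Localization.Away u, ρ * ρ = 1 ∧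
      ∀ l k', algebraMap R (Localization.Away u) (a l k') = ρ * (if l = k' then 1 else 0) := by
    intro u hu
    obtain ⟨ρ, hρ, hgρ⟩ := local_scalar hk hn b Q g hg hcomm hhd u hu
    refine ⟨ρ, hρ, fun l k' => ?_⟩
    have h1 := hgρ ((1 : Localization.Away u) ⊗ₜ[R] b k')
    rw [LinearEquiv.baseChange_tmul] at h1
    have h2 := congrArg (fun z => (Algebra.TensorProduct.basis (Localization.Away u) b).repr z l) h1
    simp only [Algebra.TensorProduct.basis_repr_tmul, map_smul, Finsupp.smul_apply,
      Finsupp.mapRange_apply, one_smul, smul_eq_mul] at h2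
    rw [h2, b.repr_self, Finsupp.single_apply]
    congr 1
    by_cases h : l = k'
    · simp [h]
    · simp [h, Ne.symm h]
  have hz : ∀ x : R, (∀ u ∈ gens, algebraMap R (Localization.Away u) x = 0) → x = 0 := by
    intro x hx
    apply eq_zero_of_span_top gens hspan
    intro u hu
    obtain ⟨⟨m, hm⟩, hmx⟩ := (IsLocalization.map_eq_zero_iff (Submonoid.powers u)
      (Localization.Away u) x).1 (hx u hu)
    obtain ⟨N, rfl⟩ := (Submonoid.mem_powers_iff _ _).1 hm
    exact ⟨N, hmx⟩
  have hoff : ∀ l k', l ≠ k' → a l k' = 0 := by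
    intro l k' hlk
    apply hz
    intro u hu
    obtain ⟨ρ, _, hρ⟩ := hloc u hu
    rw [hρ, if_neg hlk, mul_zero]
  have hdiag : ∀ l k', a l l = a k' k' := by
    intro l k'
    have : a l l - a k' k' = 0 := by
      apply hz
      intro u hu
      obtain ⟨ρ, _, hρ⟩ := hloc u hu
      rw [map_sub, hρ, hρ, if_pos rfl, if_pos rfl, sub_self]
    exact sub_eq_zero.1 this
  set c : R := a ⟨0, by omega⟩ ⟨0, by omega⟩ with hc
  have hcc : c * c = 1 := by
    have : c * c - 1 = 0 := by
      apply hz
      intro u hu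
      obtain ⟨ρ, hρρ, hρ⟩ := hloc u hu
      rw [map_sub, map_mul, map_one, hc, hρ, if_pos rfl, mul_one, hρρ, sub_self]
    exact sub_eq_zero.1 this
  refine ⟨c, hcc, fun v => ?_⟩
  have hlin : g.toLinearMap = c • LinearMap.id := by
    apply b.ext
    intro k'
    apply b.ext_elem
    intro l
    rw [LinearEquiv.coe_coe, LinearMap.smul_apply, LinearMap.id_apply, map_smul, Finsupp.smul_apply,
      b.repr_self, Finsupp.single_apply, smul_eq_mul]
    by_cases h : l = k'
    · subst h
      rw [if_pos rfl, mul_one]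
      exact hdiag l _
    · rw [if_neg (Ne.symm h), mul_zero]
      exact hoff l k' h
  have := LinearMap.congr_fun hlin v
  simpa using this

end Global

end Groth.Agent.Helper22.OddCentre
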