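import Mathlib.Algebra.Homology.Embedding.CochainComplex
import Mathlib.Algebra.Homology.Opposite
import Mathlib.Algebra.Homology.HomologicalComplexAbelian
import Mathlib.Algebra.Homology.QuasiIso
import Mathlib.CategoryTheory.Preadditive.Injective.Basic

/-!
# Passing to the opposite category for `ℤ`-indexed cochain complexes

Helper library (helper22): `opCx K` is the cochain complex in `Cᵒᵖ` with `(opCx K).X n = op (K.X (-n))`;
`unopCx` goes back. Both preserve quasi-isomorphisms, short exact sequences and exchange the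
boundedness conditions.
-/

set_option autoImplicit false
universe v u
open CategoryTheory CategoryTheory.Limits Opposite

namespace Groth.Agent.Helper22.OpCx

variable {C : Type u} [Category.{v} C] [Abelian C]

/-- The opposite complex, reindexed by negation. -/
def opCx (K : CochainComplex C ℤ) : CochainComplex Cᵒᵖ ℤ where
  X n := op (K.X (-n))
  d i j := (K.d (-j) (-i)).op
  shape i j h := by
    have h' : ¬ (ComplexShape.up ℤ).Rel (-j) (-i) := by
      intro h''
      apply h
      have e : -j + 1 = -i := h''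
      show i + 1 = j
      omega
    rw [K.shape _ _ h']
    rfl
  d_comp_d' i j k _ _ := by
    rw [← op_comp, K.d_comp_d, op_zero]

/-- The unopposite complex, reindexed by negation. -/
def unopCx (M : CochainComplex Cᵒᵖ ℤ) : CochainComplex C ℤ where
  X n := unop (M.X (-n))
  d i j := (M.d (-j) (-i)).unop
  shape i j h := by
    have h' : ¬ (ComplexShape.up ℤ).Rel (-j) (-i) := by
      intro h''
      apply h
      have e : -j + 1 = -i := h''
      show i + 1 = j
      omega
    rw [M.shape _ _ h']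
    rfl
  d_comp_d' i j k _ _ := by
    rw [← unop_comp, M.d_comp_d, unop_zero]

/-- The action of `opCx` on morphisms. -/
def opMap {K L : CochainComplex C ℤ} (f : K ⟶ L) : opCx L ⟶ opCx K where
  f n := (f.f (-n)).op
  comm' i j _ := by
    show (f.f (-i)).op ≫ (K.d (-j) (-i)).op = (L.d (-j) (-i)).op ≫ (f.f (-j)).op
    rw [← op_comp, ← op_comp, f.comm]

/-- The action of `unopCx` on morphisms. -/
def unopMap {M N : CochainComplex Cᵒᵖ ℤ} (g : M ⟶ N) : unopCx N ⟶ unopCx M where
  f n := (g.f (-n)).unop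
  comm' i j _ := by
    show (g.f (-i)).unop ≫ (M.d (-j) (-i)).unop = (N.d (-j) (-i)).unop ≫ (g.f (-j)).unop
    rw [← unop_comp, ← unop_comp, g.comm]

lemma opMap_comp {K L N : CochainComplex C ℤ} (f : K ⟶ L) (g : L ⟶ N) :
    opMap (f ≫ g) = opMap g ≫ opMap f := by
  ext n
  rfl

lemma opMap_zero (K L : CochainComplex C ℤ) : opMap (0 : K ⟶ L) = 0 := by
  ext n
  rfl

lemma unopMap_comp {K L N : CochainComplex Cᵒᵖ ℤ} (f : K ⟶ L) (g : L ⟶ N) :
    unopMap (f ≫ g) = unopMap g ≫ unopMap f := by
  ext n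
  rfl

lemma unopMap_zero (K L : CochainComplex Cᵒᵖ ℤ) : unopMap (0 : K ⟶ L) = 0 := by
  ext n
  rfl

lemma opCx_isStrictlyGE (K : CochainComplex C ℤ) (a b : ℤ) (hab : a + b = 0)
    [K.IsStrictlyLE a] : (opCx K).IsStrictlyGE b := by
  rw [CochainComplex.isStrictlyGE_iff]
  intro i hi
  exact (K.isZero_of_isStrictlyLE a (-i) (by omega)).op

lemma opCx_isStrictlyLE (K : CochainComplex C ℤ) (a b : ℤ) (hab : a + b = 0)
    [K.IsStrictlyGE a] : (opCx K).IsStrictlyLE b := by
  rw [CochainComplex.isStrictlyLE_iff]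
  intro i hi
  exact (K.isZero_of_isStrictlyGE a (-i) (by omega)).op

lemma unopCx_isStrictlyGE (M : CochainComplex Cᵒᵖ ℤ) (a b : ℤ) (hab : a + b = 0)
    [M.IsStrictlyLE a] : (unopCx M).IsStrictlyGE b := by
  rw [CochainComplex.isStrictlyGE_iff]
  intro i hi
  exact (M.isZero_of_isStrictlyLE a (-i) (by omega)).unop

lemma unopCx_isStrictlyLE (M : CochainComplex Cᵒᵖ ℤ) (a b : ℤ) (hab : a + b = 0)
    [M.IsStrictlyGE a] : (unopCx M).IsStrictlyLE b := by
  rw [CochainComplex.isStrictlyLE_iff]
  intro i hi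
  exact (M.isZero_of_isStrictlyGE a (-i) (by omega)).unop

/-- The canonical isomorphism `unopCx (opCx K) ≅ K`. -/
def η (K : CochainComplex C ℤ) : unopCx (opCx K) ≅ K :=
  HomologicalComplex.Hom.isoOfComponents (fun n => K.XIsoOfEq (neg_neg n)) (by
    intro i j _
    show (K.XIsoOfEq (neg_neg i)).hom ≫ K.d i j =
      K.d (- -i) (- -j) ≫ (K.XIsoOfEq (neg_neg j)).hom
    rw [HomologicalComplex.XIsoOfEq_hom_comp_d, HomologicalComplex.d_comp_XIsoOfEq_hom])

lemma η_naturality {K L : CochainComplex C ℤ} (f : K ⟶ L) :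
    unopMap (opMap f) ≫ (η L).hom = (η K).hom ≫ f := by
  ext n
  show f.f (- -n) ≫ (L.XIsoOfEq (neg_neg n)).hom = (K.XIsoOfEq (neg_neg n)).hom ≫ f.f n
  exact HomologicalComplex.XIsoOfEq_hom_naturality f (neg_neg n)

lemma quasiIsoAt_unopMap_iff {M N : CochainComplex Cᵒᵖ ℤ} (g : M ⟶ N) (n : ℤ) :
    QuasiIsoAt (unopMap g) n ↔ QuasiIsoAt g (-n) := by
  rw [quasiIsoAt_iff' (unopMap g) (n - 1) n (n + 1) (by simp) (by simp),
    quasiIsoAt_iff' g (-(n + 1)) (-n) (-(n - 1)) (by simp; omega) (by simp; omega)]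
  exact (ShortComplex.quasiIso_opMap_iff
    ((HomologicalComplex.shortComplexFunctor' C (ComplexShape.up ℤ) (n - 1) n (n + 1)).map
      (unopMap g))).symm

lemma quasiIso_unopMap {M N : CochainComplex Cᵒᵖ ℤ} (g : M ⟶ N) [QuasiIso g] :
    QuasiIso (unopMap g) := by
  rw [quasiIso_iff]
  intro n
  rw [quasiIsoAt_unopMap_iff]
  infer_instance

lemma quasiIsoAt_opMap_iff {K L : CochainComplex C ℤ} (f : K ⟶ L) (n : ℤ) :
    QuasiIsoAt (opMap f) n ↔ QuasiIsoAt f (-n) := by
  rw [quasiIsoAt_iff' (opMap f) (n - 1) n (n + 1) (by simp) (by simp),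
    quasiIsoAt_iff' f (-(n + 1)) (-n) (-(n - 1)) (by simp; omega) (by simp; omega)]
  exact ShortComplex.quasiIso_opMap_iff
    ((HomologicalComplex.shortComplexFunctor' C (ComplexShape.up ℤ) (-(n + 1)) (-n)
      (-(n - 1))).map f)

lemma quasiIso_opMap {K L : CochainComplex C ℤ} (f : K ⟶ L) [QuasiIso f] :
    QuasiIso (opMap f) := by
  rw [quasiIso_iff]
  intro n
  rw [quasiIsoAt_opMap_iff]
  infer_instance

/-- The opposite of a short complex of complexes. -/
abbrev opSC (S : ShortComplex (CochainComplex C ℤ)) : ShortComplex (CochainComplex Cᵒᵖ ℤ) :=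
  ShortComplex.mk (opMap S.g) (opMap S.f) (by rw [← opMap_comp, S.zero, opMap_zero])

/-- The unopposite of a short complex of complexes. -/
abbrev unopSC (T : ShortComplex (CochainComplex Cᵒᵖ ℤ)) : ShortComplex (CochainComplex C ℤ) :=
  ShortComplex.mk (unopMap T.g) (unopMap T.f) (by rw [← unopMap_comp, T.zero, unopMap_zero])

lemma opSC_shortExact {S : ShortComplex (CochainComplex C ℤ)} (hS : S.ShortExact) :
    (opSC S).ShortExact := by
  apply HomologicalComplex.shortExact_of_degreewise_shortExact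
  intro i
  exact ((HomologicalComplex.shortExact_iff_degreewise_shortExact S).1 hS (-i)).op

lemma unopSC_shortExact {T : ShortComplex (CochainComplex Cᵒᵖ ℤ)} (hT : T.ShortExact) :
    (unopSC T).ShortExact := by
  apply HomologicalComplex.shortExact_of_degreewise_shortExact
  intro i
  exact ((HomologicalComplex.shortExact_iff_degreewise_shortExact T).1 hT (-i)).unop

end Groth.Agent.Helper22.OpCx
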