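import Groth.Agent.Lib.Helper22.OddCentre
import Mathlib.LinearAlgebra.Transvection.Basic

open QuadGrp

namespace Groth.Agent.Helper22.OrthCentre

open QuadraticMap Groth.Agent.Helper22.InfIso

section Det
variable {A : Type*} [CommRing A] {M : Type*} [AddCommGroup M] [Module A M]
  (Q : QuadraticForm A M) (ε : A) (hε : ε * ε = 0)

/-- The infinitesimal isometry is a product of two transvections. -/
theorem iso_toLinearMap (v w : M) :
    (iso Q ε hε v w).toLinearMap =
      LinearMap.transvection (ε • (polarBilin Q).flip v) w ∘ₗ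
        LinearMap.transvection (-(ε • (polarBilin Q).flip w)) v := by
  ext x
  rw [LinearEquiv.coe_coe, iso_apply, LinearMap.comp_apply, LinearMap.transvection.apply,
    LinearMap.transvection.apply]
  simp only [LinearMap.neg_apply, LinearMap.smul_apply, LinearMap.flip_apply,
    polarBilin_apply_apply, smul_eq_mul, polar_add_left, polar_smul_left]
  have key : ε * (polar Q x v + -(ε * polar Q x w) * polar Q v v) = ε * polar Q x v := by
    linear_combination (-(polar Q x w * polar Q v v)) * hε
  rw [key]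
  simp only [smul_sub, smul_smul, neg_smul]
  abel

theorem iso_det [Module.Free A M] [Module.Finite A M] (v w : M) :
    LinearEquiv.det (iso Q ε hε v w) = 1 := by
  rw [← Units.val_inj, LinearEquiv.coe_det, iso_toLinearMap, LinearMap.det_comp,
    LinearMap.transvection.det, LinearMap.transvection.det, Units.val_one]
  simp only [LinearMap.neg_apply, LinearMap.smul_apply, LinearMap.flip_apply,
    polarBilin_apply_apply, smul_eq_mul]
  rw [polar_comm Q v w]
  linear_combination (-(polar Q w v * polar Q w v)) * hε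

end Det

section Orth
open TensorProduct
variable {R : Type*} [CommRing R] {M : Type*} [AddCommGroup M] [Module R M] [Module.Free R M]
  (Q : QuadraticForm R M) (A : Type*) [CommRing A] [Algebra R A]

theorem mem_orth_of_mem_O (h : (A ⊗[R] M) ≃ₗ[A] (A ⊗[R] M))
    (hh : h ∈ QuadGrp.O (QuadGrp.baseChangeForm A Q)) : h ∈ QuadGrp.orth Q A := by
  rw [QuadGrp.orth, QuadGrp.mem_O]
  intro y
  have := (QuadGrp.mem_O _ _).1 hh y
  exact (AlgebraTensorModule.rid R A A).injective this

theorem iso_mem_orth (ε : A) (hε : ε * ε = 0) (v w : A ⊗[R] M) :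
    iso (QuadGrp.baseChangeForm A Q) ε hε v w ∈ QuadGrp.orth Q A :=
  mem_orth_of_mem_O Q A _ (iso_mem_O _ ε hε v w)

theorem iso_mem_sorth' [Module.Finite R M] (ε : A) (hε : ε * ε = 0) (v w : A ⊗[R] M) :
    iso (QuadGrp.baseChangeForm A Q) ε hε v w ∈ QuadGrp.sorth' Q A := by
  rw [QuadGrp.sorth', QuadGrp.SO']
  exact Subgroup.mem_inf.2 ⟨iso_mem_orth Q A ε hε v w, MonoidHom.mem_ker.2 (iso_det _ ε hε v w)⟩

theorem comm_of_commute (g : M ≃ₗ[R] M) (v w x : M)
    (hc : g.baseChange R (DualNumber R) M M *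
        iso (QuadGrp.baseChangeForm (DualNumber R) Q) DualNumber.eps DualNumber.eps_mul_eps
          ((1 : DualNumber R) ⊗ₜ[R] v) ((1 : DualNumber R) ⊗ₜ[R] w) =
      iso (QuadGrp.baseChangeForm (DualNumber R) Q) DualNumber.eps DualNumber.eps_mul_eps
          ((1 : DualNumber R) ⊗ₜ[R] v) ((1 : DualNumber R) ⊗ₜ[R] w) *
        g.baseChange R (DualNumber R) M M) :
    g (polar Q x v • w - polar Q x w • v) = polar Q (g x) v • w - polar Q (g x) w • v := by
  have h1 := congrArg (fun f => f ((1 : DualNumber R) ⊗ₜ[R] x)) hc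
  simp only [LinearEquiv.mul_apply] at h1
  rw [iso_one_tmul, LinearEquiv.baseChange_tmul, iso_one_tmul, map_add, LinearEquiv.baseChange_tmul,
    LinearEquiv.baseChange_tmul] at h1
  have h2 := congrArg epsCoeff h1
  simpa [epsCoeff_eps_tmul, epsCoeff_one_tmul] using h2

end Orth

section Main

theorem centre_of_comm {R : Type*} [CommRing R] (n : ℕ) (hn : 3 ≤ n)
    (Q : QuadraticForm R (Fin n → R))
    (hQ : QuadGrp.IsNondeg (Pi.basisFun R (Fin n)) (LinearEquiv.refl R R) Q)
    (g : (Fin n → R) ≃ₗ[R] (Fin n → R)) (hg : ∀ v, Q (g v) = Q v)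
    (hcomm : ∀ v w x : Fin n → R, g (polar Q x v • w - polar Q x w • v) =
      polar Q (g x) v • w - polar Q (g x) w • v) :
    ∃ c : R, c * c = 1 ∧ ∀ v, g v = c • v := by
  rcases Nat.even_or_odd n with he | ho
  · exact scalar_of_commute hn Q (hQ.1 he) g hg hcomm
  · obtain ⟨k, rfl⟩ : ∃ k, n = k + 1 := ⟨n - 1, by omega⟩
    exact OddCentre.odd_centre (by omega) ho (Pi.basisFun R (Fin (k + 1))) Q g hg hcomm (hQ.2 ho)

end Main

end Groth.Agent.Helper22.OrthCentre
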