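import Groth.Agent.Lib.Helper22.PostEquiv
import Groth.Agent.S6409
import Mathlib

set_option autoImplicit false
set_option backward.isDefEq.respectTransparency false
set_option backward.isDefEq.respectTransparency.types false

namespace Groth.Agent.Helper22.PostFF

open CategoryTheory CategoryTheory.Limits FibCat Groth.Agent.Helper22.PostEquiv

universe v₂ u₂ v₃ u₃ v₄ u₄ v u

section
variable {C : Type u} [Category.{v} C] (ℬ : BasedCategory.{v₄, u₄} C)
  {𝒳 : BasedCategory.{v₂, u₂} C} {𝒴 : BasedCategory.{v₃, u₃} C}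

lemma post_faithful (F : 𝒳 ⥤ᵇ 𝒴) [F.toFunctor.Faithful] : (post ℬ F).Faithful where
  map_injective {P P'} α β h := by
    apply BasedNatTrans.homCategory.ext
    ext b
    apply F.toFunctor.map_injective
    exact congrArg (fun t => t.toNatTrans.app b) h

lemma post_full (F : 𝒳 ⥤ᵇ 𝒴) [F.toFunctor.Full] [F.toFunctor.Faithful] : (post ℬ F).Full where
  map_surjective {P P'} γ := by
    refine ⟨{ toNatTrans :=
                { app := fun b => F.toFunctor.preimage (γ.toNatTrans.app b)
                  naturality := ?_ }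
              isHomLift' := ?_ }, ?_⟩
    · intro b b' g
      apply F.toFunctor.map_injective
      rw [Functor.map_comp, Functor.map_comp, F.toFunctor.map_preimage,
        F.toFunctor.map_preimage]
      exact γ.toNatTrans.naturality g
    · intro b
      rw [← BasedFunctor.isHomLift_iff F]
      show 𝒴.p.IsHomLift (𝟙 (ℬ.p.obj b))
        (F.toFunctor.map (F.toFunctor.preimage (γ.toNatTrans.app b)))
      rw [F.toFunctor.map_preimage]
      exact γ.isHomLift' b
    · apply BasedNatTrans.homCategory.ext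
      ext b
      exact F.toFunctor.map_preimage _

end

section
variable {C : Type u} [Category.{v} C] {𝒳 𝒴 : BasedCategory.{v, max u v} C}

/-- postcomposition and evaluation at the identity. -/
def sq (F : 𝒳 ⥤ᵇ 𝒴) (U : C) :
    post (FibCat.overCat U) F ⋙ FibCat.evalAtId 𝒴 U ≅
      FibCat.evalAtId 𝒳 U ⋙ FibCat.fiberFunctor F U :=
  NatIso.ofComponents (fun P => Iso.refl _) (by
    intro P P' α
    apply Subtype.ext
    show F.map (α.toNatTrans.app _) ≫ 𝟙 _ = 𝟙 _ ≫ F.map (α.toNatTrans.app _)
    rw [Category.comp_id, Category.id_comp])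

lemma fiber_ff_of_post_ff (h𝒳 : FibCat.IsFibGrpd 𝒳.p) (h𝒴 : FibCat.IsFibGrpd 𝒴.p)
    (F : 𝒳 ⥤ᵇ 𝒴) (U : C) [(post (FibCat.overCat U) F).Full]
    [(post (FibCat.overCat U) F).Faithful] :
    (FibCat.fiberFunctor F U).Full ∧ (FibCat.fiberFunctor F U).Faithful := by
  haveI := Groth.Agent.S6409.result h𝒳 U
  haveI := Groth.Agent.S6409.result h𝒴 U
  let I : (FibCat.evalAtId 𝒳 U).inv ⋙ post (FibCat.overCat U) F ⋙ FibCat.evalAtId 𝒴 U ≅
      FibCat.fiberFunctor F U :=
    CategoryTheory.Functor.isoWhiskerLeft (FibCat.evalAtId 𝒳 U).inv (sq F U) ≪≫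
      (CategoryTheory.Functor.associator _ _ _).symm ≪≫
      CategoryTheory.Functor.isoWhiskerRight (FibCat.evalAtId 𝒳 U).asEquivalence.counitIso
        (FibCat.fiberFunctor F U) ≪≫
      CategoryTheory.Functor.leftUnitor _
  exact ⟨CategoryTheory.Functor.Full.of_iso I, CategoryTheory.Functor.Faithful.of_iso I⟩

end

end Groth.Agent.Helper22.PostFF
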