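import Mathlib

set_option autoImplicit false
set_option maxHeartbeats 400000
set_option backward.isDefEq.respectTransparency false
set_option backward.isDefEq.respectTransparency.types false

universe u

open HomogeneousLocalization AlgebraicGeometry CategoryTheory CategoryTheory.Limits
open scoped HomogeneousIdeal

namespace Groth.Agent.Helper22.ProjGen

variable {A B σ τ : Type u} [CommRing A] [SetLike σ A] [AddSubgroupClass σ A]
  [CommRing B] [SetLike τ B] [AddSubgroupClass τ B]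
  (𝒜 : ℕ → σ) (ℬ : ℕ → τ) [GradedRing 𝒜] [GradedRing ℬ]

theorem away_mk_bump {f : A} {d : ℕ} (hf : f ∈ 𝒜 d) (n j : ℕ) (x : A) (hx : x ∈ 𝒜 (n • d))
    (hx' : x * f ^ j ∈ 𝒜 ((n + j) • d)) :
    Away.mk 𝒜 hf n x hx = Away.mk 𝒜 hf (n + j) (x * f ^ j) hx' := by
  rw [HomogeneousLocalization.ext_iff_val, Away.val_mk, Away.val_mk, Localization.mk_eq_mk_iff,
    Localization.r_iff_exists]
  refine ⟨1, ?_⟩
  simp only [OneMemClass.coe_one, one_mul]
  ring

theorem away_map_bijective (φ : ℬ →+*ᵍ 𝒜) (n₀ : ℕ)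
    (hbij : ∀ n : ℕ, n₀ ≤ n → Set.BijOn φ (ℬ n) (𝒜 n))
    {i : ℕ} (hi : 0 < i) (s : B) (hs : s ∈ ℬ i) :
    Function.Bijective (Away.map φ s) := by
  have hφs : φ s ∈ 𝒜 i := φ.2 hs
  constructor
  · intro x₁ x₂ h
    obtain ⟨n₁, a₁, ha₁, rfl⟩ := Away.mk_surjective ℬ hs x₁
    obtain ⟨n₂, a₂, ha₂, rfl⟩ := Away.mk_surjective ℬ hs x₂
    rw [Away.map_mk, Away.map_mk, HomogeneousLocalization.ext_iff_val, Away.val_mk, Away.val_mk,
      Localization.mk_eq_mk_iff, Localization.r_iff_exists] at h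
    obtain ⟨⟨_, k, rfl⟩, hk⟩ := h
    simp only at hk
    have h1 : s ^ (k + n₀) * (s ^ n₂ * a₁) ∈ ℬ ((k + n₀) • i + (n₂ • i + n₁ • i)) :=
      SetLike.mul_mem_graded (SetLike.pow_mem_graded (k + n₀) hs)
        (SetLike.mul_mem_graded (SetLike.pow_mem_graded n₂ hs) ha₁)
    have h2 : s ^ (k + n₀) * (s ^ n₁ * a₂) ∈ ℬ ((k + n₀) • i + (n₂ • i + n₁ • i)) := by
      have := SetLike.mul_mem_graded (SetLike.pow_mem_graded (k + n₀) hs)
        (SetLike.mul_mem_graded (SetLike.pow_mem_graded n₁ hs) ha₂)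
      rwa [add_comm (n₁ • i) (n₂ • i)] at this
    have hN : n₀ ≤ (k + n₀) • i + (n₂ • i + n₁ • i) := by
      have h1 : n₀ ≤ (k + n₀) * i :=
        le_trans (Nat.le_add_left n₀ k) (Nat.le_mul_of_pos_right _ hi)
      exact le_trans h1 (Nat.le_add_right _ _)
    have hφeq : φ (s ^ (k + n₀) * (s ^ n₂ * a₁)) = φ (s ^ (k + n₀) * (s ^ n₁ * a₂)) := by
      simp only [map_mul, map_pow, pow_add]
      calc φ s ^ k * φ s ^ n₀ * (φ s ^ n₂ * φ a₁)
          = φ s ^ n₀ * (φ s ^ k * (φ s ^ n₂ * φ a₁)) := by ring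
        _ = φ s ^ n₀ * (φ s ^ k * (φ s ^ n₁ * φ a₂)) := by rw [hk]
        _ = φ s ^ k * φ s ^ n₀ * (φ s ^ n₁ * φ a₂) := by ring
    have hu := (hbij _ hN).injOn h1 h2 hφeq
    rw [HomogeneousLocalization.ext_iff_val, Away.val_mk, Away.val_mk, Localization.mk_eq_mk_iff,
      Localization.r_iff_exists]
    exact ⟨⟨s ^ (k + n₀), k + n₀, rfl⟩, hu⟩
  · intro y
    obtain ⟨n, b, hb, rfl⟩ := Away.mk_surjective 𝒜 hφs y
    have hb' : b * φ s ^ n₀ ∈ 𝒜 ((n + n₀) • i) := by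
      have := SetLike.mul_mem_graded hb (SetLike.pow_mem_graded n₀ hφs)
      rwa [← add_smul] at this
    have hN : n₀ ≤ (n + n₀) • i :=
      le_trans (Nat.le_add_left n₀ n) (Nat.le_mul_of_pos_right _ hi)
    obtain ⟨a, ha, hab⟩ := (hbij _ hN).surjOn hb'
    refine ⟨Away.mk ℬ hs (n + n₀) a ha, ?_⟩
    rw [away_mk_bump 𝒜 hφs n n₀ b hb hb', Away.map_mk, HomogeneousLocalization.ext_iff_val,
      Away.val_mk, Away.val_mk, hab]

/-- a graded homomorphism bijective in all large degrees induces an isomorphism of `Proj`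
(gradings by any additive-subgroup class) -/
theorem isIso_map_of_bijOn_ge (φ : ℬ →+*ᵍ 𝒜) (n₀ : ℕ)
    (hbij : ∀ n : ℕ, n₀ ≤ n → Set.BijOn φ (ℬ n) (𝒜 n))
    (hφ : HomogeneousIdeal.irrelevant 𝒜 ≤ (HomogeneousIdeal.irrelevant ℬ).map φ) :
    IsIso (Proj.map φ hφ) := by
  suffices h : (MorphismProperty.isomorphisms Scheme) (Proj.map φ hφ) from h
  apply IsZariskiLocalAtTarget.of_openCover (P := MorphismProperty.isomorphisms Scheme)
    (Proj.affineOpenCover ℬ).openCover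
  intro j
  rw [MorphismProperty.isomorphisms.iff]
  have hb := away_map_bijective 𝒜 ℬ φ n₀ hbij j.1.2 j.2.1 j.2.2
  haveI : IsIso (CommRingCat.ofHom (Away.map φ j.2.1)) :=
    (ConcreteCategory.isIso_iff_bijective (CommRingCat.ofHom (Away.map φ j.2.1))).mpr hb
  have sq := IsOpenImmersion.isPullback (Spec.map (CommRingCat.ofHom (Away.map φ j.2.1)))
    (Proj.awayι 𝒜 (φ j.2.1) (φ.2 j.2.2) j.1.2) (Proj.awayι ℬ j.2.1 j.2.2 j.1.2)
    (Proj.map φ hφ) (Proj.awayι_comp_map φ hφ j.1.2 j.2.1 j.2.2)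
    (by rw [Proj.opensRange_awayι, Proj.opensRange_awayι, Proj.map_preimage_basicOpen])
  have e := sq.flip.isoPullback_inv_snd
  show IsIso (pullback.snd (Proj.map φ hφ) (Proj.awayι ℬ j.2.1 j.2.2 j.1.2))
  rw [← e]
  infer_instance

/-- the degree-zero part of a graded ring homomorphism -/
def zeroHom (f : 𝒜 →+*ᵍ ℬ) : 𝒜 0 →+* ℬ 0 where
  toFun x := ⟨f x, f.2 x.2⟩
  map_one' := Subtype.ext (map_one f)
  map_mul' a b := Subtype.ext (map_mul f (a : A) (b : A))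
  map_zero' := Subtype.ext (map_zero f)
  map_add' a b := Subtype.ext (map_add f (a : A) (b : A))

theorem away_map_fromZero (f : 𝒜 →+*ᵍ ℬ) (s : A) (x : 𝒜 0) :
    Away.map f s (fromZeroRingHom 𝒜 _ x) = fromZeroRingHom ℬ _ (zeroHom 𝒜 ℬ f x) := by
  rw [HomogeneousLocalization.ext_iff_val]
  simp only [fromZeroRingHom, Away.map, RingHom.coe_mk, MonoidHom.coe_mk, OneHom.coe_mk,
    HomogeneousLocalization.map_mk, HomogeneousLocalization.val_mk]
  rw [Localization.mk_eq_mk_iff, Localization.r_iff_exists]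
  exact ⟨1, by simp [zeroHom]⟩

theorem map_comp_toSpecZero (f : 𝒜 →+*ᵍ ℬ)
    (hf : HomogeneousIdeal.irrelevant ℬ ≤ (HomogeneousIdeal.irrelevant 𝒜).map f) :
    Proj.map f hf ≫ Proj.toSpecZero 𝒜 =
      Proj.toSpecZero ℬ ≫ Spec.map (CommRingCat.ofHom (zeroHom 𝒜 ℬ f)) := by
  classical
  have hspan : (HomogeneousIdeal.irrelevant ℬ).toIdeal ≤
      Ideal.span (Set.range fun s : (Σ i : PNat, 𝒜 i) => f (s.2 : A)) := by
    have h1 : (HomogeneousIdeal.irrelevant ℬ).toIdeal ≤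
        Ideal.map f (HomogeneousIdeal.irrelevant 𝒜).toIdeal := fun x hx => hf hx
    refine le_trans h1 ?_
    rw [Ideal.map_le_iff_le_comap]
    intro z hz
    rw [Ideal.mem_comap, ← DirectSum.sum_support_decompose 𝒜 z, map_sum]
    refine Ideal.sum_mem _ fun c _ => ?_
    by_cases hc0 : c = 0
    · subst hc0
      have h0 : (DirectSum.decompose 𝒜 z 0 : A) = 0 := by
        have := (HomogeneousIdeal.mem_irrelevant_iff 𝒜 z).mp hz
        rwa [GradedRing.proj_apply] at this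
      rw [h0, map_zero]
      exact Ideal.zero_mem _
    · exact Ideal.subset_span
        ⟨⟨⟨c, Nat.pos_iff_ne_zero.mpr hc0⟩, DirectSum.decompose 𝒜 z c⟩, rfl⟩
  let 𝒰 := Proj.affineOpenCoverOfIrrelevantLESpan ℬ
    (fun s : (Σ i : PNat, 𝒜 i) => f (s.2 : A))
    (m := fun s => (s.1 : ℕ)) (fun s => f.2 s.2.2) (fun s => s.1.2) hspan
  refine 𝒰.openCover.hom_ext _ _ fun s => ?_
  have key : CommRingCat.ofHom (fromZeroRingHom 𝒜 (Submonoid.powers (s.2 : A))) ≫
      CommRingCat.ofHom (Away.map f (s.2 : A)) =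
      CommRingCat.ofHom (zeroHom 𝒜 ℬ f) ≫
        CommRingCat.ofHom (fromZeroRingHom ℬ (Submonoid.powers (f (s.2 : A)))) := by
    refine CommRingCat.hom_ext (RingHom.ext fun x => ?_)
    exact away_map_fromZero 𝒜 ℬ f (s.2 : A) x
  change Proj.awayι ℬ (f (s.2 : A)) (f.2 s.2.2) s.1.2 ≫ Proj.map f hf ≫ Proj.toSpecZero 𝒜 =
    Proj.awayι ℬ (f (s.2 : A)) (f.2 s.2.2) s.1.2 ≫ Proj.toSpecZero ℬ ≫
      Spec.map (CommRingCat.ofHom (zeroHom 𝒜 ℬ f))
  rw [Proj.awayι_comp_map_assoc f hf s.1.2 (s.2 : A) s.2.2, Proj.awayι_toSpecZero,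
    Proj.awayι_toSpecZero_assoc, ← Spec.map_comp, ← Spec.map_comp, key]

theorem away_map_surjective (φ : ℬ →+*ᵍ 𝒜) (hsurj : Function.Surjective φ)
    {i : ℕ} (s : B) (hs : s ∈ ℬ i) :
    Function.Surjective (Away.map φ s) := by
  classical
  have hφs : φ s ∈ 𝒜 i := φ.2 hs
  intro y
  obtain ⟨n, b, hb, rfl⟩ := Away.mk_surjective 𝒜 hφs y
  obtain ⟨a₀, rfl⟩ := hsurj b
  refine ⟨Away.mk ℬ hs n (DirectSum.decompose ℬ a₀ (n • i) : B) (SetLike.coe_mem _), ?_⟩
  rw [Away.map_mk, HomogeneousLocalization.ext_iff_val, Away.val_mk, Away.val_mk,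
    GradedRingHom.map_directSumDecompose, DirectSum.decompose_of_mem_same 𝒜 hb]

/-- a surjective graded homomorphism induces a closed immersion of `Proj` -/
theorem isClosedImmersion_map_of_surjective (φ : ℬ →+*ᵍ 𝒜) (hsurj : Function.Surjective φ)
    (hφ : HomogeneousIdeal.irrelevant 𝒜 ≤ (HomogeneousIdeal.irrelevant ℬ).map φ) :
    IsClosedImmersion (Proj.map φ hφ) := by
  apply IsZariskiLocalAtTarget.of_openCover (P := @IsClosedImmersion)
    (Proj.affineOpenCover ℬ).openCover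
  intro j
  have hb := away_map_surjective 𝒜 ℬ φ hsurj j.2.1 j.2.2
  haveI : IsClosedImmersion (Spec.map (CommRingCat.ofHom (Away.map φ j.2.1))) :=
    IsClosedImmersion.spec_of_surjective (CommRingCat.ofHom (Away.map φ j.2.1)) hb
  have sq := IsOpenImmersion.isPullback (Spec.map (CommRingCat.ofHom (Away.map φ j.2.1)))
    (Proj.awayι 𝒜 (φ j.2.1) (φ.2 j.2.2) j.1.2) (Proj.awayι ℬ j.2.1 j.2.2 j.1.2)
    (Proj.map φ hφ) (Proj.awayι_comp_map φ hφ j.1.2 j.2.1 j.2.2)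
    (by rw [Proj.opensRange_awayι, Proj.opensRange_awayι, Proj.map_preimage_basicOpen])
  have e := sq.flip.isoPullback_inv_snd
  show IsClosedImmersion (pullback.snd (Proj.map φ hφ) (Proj.awayι ℬ j.2.1 j.2.2 j.1.2))
  rw [← e]
  infer_instance

theorem away_isReduced
    (hred : ∀ x : A, x ∈ HomogeneousIdeal.irrelevant 𝒜 → IsNilpotent x → x = 0)
    {i : ℕ} (hi : 0 < i) (s : A) (hs : s ∈ 𝒜 i) : IsReduced (Away 𝒜 s) := by
  constructor
  intro x hx
  obtain ⟨n, a, ha, rfl⟩ := Away.mk_surjective 𝒜 hs x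
  obtain ⟨k, hk⟩ := hx
  have hk' : (Localization.mk a ⟨s ^ n, n, rfl⟩ : Localization.Away s) ^ k = 0 := by
    have := congrArg HomogeneousLocalization.val hk
    rwa [HomogeneousLocalization.val_pow, Away.val_mk, HomogeneousLocalization.val_zero] at this
  rw [Localization.mk_pow, Localization.mk_eq_mk', IsLocalization.mk'_eq_zero_iff] at hk'
  obtain ⟨⟨_, m, rfl⟩, hm⟩ := hk'
  simp only at hm
  have hnil : IsNilpotent (a * s) := by
    refine ⟨k + m, ?_⟩
    calc (a * s) ^ (k + m) = (s ^ m * a ^ k) * (a ^ m * s ^ k) := by ring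
      _ = 0 := by rw [hm, zero_mul]
  have hmem : a * s ∈ HomogeneousIdeal.irrelevant 𝒜 :=
    HomogeneousIdeal.mem_irrelevant_of_mem 𝒜 (i := n • i + i) (by omega)
      (SetLike.mul_mem_graded ha hs)
  have h0 : a * s = 0 := hred _ hmem hnil
  rw [HomogeneousLocalization.ext_iff_val, Away.val_mk, HomogeneousLocalization.val_zero,
    Localization.mk_eq_mk', IsLocalization.mk'_eq_zero_iff]
  exact ⟨⟨s, 1, pow_one s⟩, by simpa [mul_comm] using h0⟩

theorem proj_isReduced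
    (hred : ∀ x : A, x ∈ HomogeneousIdeal.irrelevant 𝒜 → IsNilpotent x → x = 0) :
    AlgebraicGeometry.IsReduced (Proj 𝒜) := by
  haveI : ∀ j, AlgebraicGeometry.IsReduced ((Proj.affineOpenCover 𝒜).openCover.X j) := by
    intro j
    haveI : _root_.IsReduced (CommRingCat.of (Away 𝒜 j.2.1)) :=
      away_isReduced 𝒜 hred j.1.2 j.2.1 j.2.2
    show AlgebraicGeometry.IsReduced (Spec (CommRingCat.of (Away 𝒜 j.2.1)))
    infer_instance
  exact AlgebraicGeometry.IsReduced.of_openCover (Proj 𝒜) (Proj.affineOpenCover 𝒜).openCover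

end Groth.Agent.Helper22.ProjGen
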