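import Mathlib
import Groth.Agent.Lib.Helper22.ProjGen

set_option autoImplicit false
set_option maxHeartbeats 400000
set_option backward.isDefEq.respectTransparency false
set_option backward.isDefEq.respectTransparency.types false

universe u

open HomogeneousLocalization AlgebraicGeometry CategoryTheory CategoryTheory.Limits
open scoped HomogeneousIdeal

namespace Groth.Agent.Helper22.ProjFT

variable {A σ : Type u} [CommRing A] [SetLike σ A] [AddSubgroupClass σ A]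
  (𝒜 : ℕ → σ) [GradedRing 𝒜]

theorem away_mk_add {f : A} {d : ℕ} (hf : f ∈ 𝒜 d) (n : ℕ) (x y : A) (hx : x ∈ 𝒜 (n • d))
    (hy : y ∈ 𝒜 (n • d)) (hxy : x + y ∈ 𝒜 (n • d)) :
    Away.mk 𝒜 hf n (x + y) hxy = Away.mk 𝒜 hf n x hx + Away.mk 𝒜 hf n y hy := by
  rw [HomogeneousLocalization.ext_iff_val, HomogeneousLocalization.val_add, Away.val_mk,
    Away.val_mk, Away.val_mk, Localization.add_mk_self]

theorem away_mk_zero {f : A} {d : ℕ} (hf : f ∈ 𝒜 d) (n : ℕ) (h0 : (0 : A) ∈ 𝒜 (n • d)) :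
    Away.mk 𝒜 hf n 0 h0 = 0 := by
  rw [HomogeneousLocalization.ext_iff_val, Away.val_mk, HomogeneousLocalization.val_zero,
    Localization.mk_zero]

theorem away_mk_sum_mem {f : A} {d : ℕ} (hf : f ∈ 𝒜 d) (n : ℕ) {ι : Type*} (s : Finset ι)
    (y : ι → A) (hy : ∀ i, y i ∈ 𝒜 (n • d)) (G : AddSubmonoid (Away 𝒜 f))
    (hG : ∀ i ∈ s, Away.mk 𝒜 hf n (y i) (hy i) ∈ G) :
    ∀ (z : A) (hz : z ∈ 𝒜 (n • d)), z = ∑ i ∈ s, y i → Away.mk 𝒜 hf n z hz ∈ G := by
  classical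
  induction s using Finset.induction_on with
  | empty =>
    intro z hz hzs
    rw [Finset.sum_empty] at hzs
    subst hzs
    rw [away_mk_zero]
    exact G.zero_mem
  | insert a s ha ih =>
    intro z hz hzs
    rw [Finset.sum_insert ha] at hzs
    subst hzs
    have hw : (∑ i ∈ s, y i) ∈ 𝒜 (n • d) := sum_mem fun i _ => hy i
    rw [away_mk_add 𝒜 hf n (y a) (∑ i ∈ s, y i) (hy a) hw hz]
    exact G.add_mem (hG a (Finset.mem_insert_self a s))
      (ih (fun i hi => hG i (Finset.mem_insert_of_mem hi)) _ hw rfl)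

/-- If `A` is generated over `A₀` by a finite set `T ⊆ A₁` which spans `A₁` over a base ring `R`
(acting through `str : R → A₀`), then every `A_(t)`, `t ∈ A₁`, is of finite type over `R`. -/
theorem away_finiteType_of_degOne {R : Type u} [CommRing R] (str : R →+* A)
    (hstr : ∀ r, str r ∈ 𝒜 0) (T : Finset A) (hT : ∀ t ∈ T, t ∈ 𝒜 1)
    (hspan : ∀ x ∈ 𝒜 1, ∃ c : A → R, x = ∑ t ∈ T, str (c t) * t)
    (hadj : Algebra.adjoin (𝒜 0) (T : Set A) = ⊤)
    (t : A) (ht : t ∈ 𝒜 1) (ρ : R →+* Away 𝒜 t)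
    (hρ : ∀ r, ρ r = fromZeroRingHom 𝒜 _ ⟨str r, hstr r⟩) : ρ.FiniteType := by
  classical
  haveI : Algebra.FiniteType (𝒜 0) A := ⟨⟨T, hadj⟩⟩
  have hft0 : Algebra.FiniteType (𝒜 0) (Away 𝒜 t) := HomogeneousLocalization.Away.finiteType t 1 ht
  obtain ⟨S₀, hS₀⟩ := hft0.out
  letI : Algebra R (Away 𝒜 t) := ρ.toAlgebra
  have h11 : ∀ t' ∈ T, t' ∈ 𝒜 (1 • 1) := fun t' h => by simpa using hT t' h
  let S₁ : Finset (Away 𝒜 t) :=
    T.attach.image (fun t' => Away.mk 𝒜 ht 1 t'.1 (h11 t'.1 t'.2))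
  let G : Subalgebra R (Away 𝒜 t) := Algebra.adjoin R (↑(S₁ ∪ S₀) : Set (Away 𝒜 t))
  suffices hG : G = ⊤ from ⟨⟨S₁ ∪ S₀, hG⟩⟩
  rw [eq_top_iff]
  have hρG : ∀ r, ρ r ∈ G := fun r => G.algebraMap_mem r
  have hS₁G : ∀ t' (h : t' ∈ T), Away.mk 𝒜 ht 1 t' (h11 t' h) ∈ G := fun t' h =>
    Algebra.subset_adjoin (by
      rw [Finset.coe_union]
      exact Or.inl (Finset.mem_coe.mpr
        (Finset.mem_image.mpr ⟨⟨t', h⟩, Finset.mem_attach _ _, rfl⟩)))
  have hzero : ∀ a : 𝒜 0, fromZeroRingHom 𝒜 _ a ∈ G := by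
    intro a
    have hat : (a : A) * t ∈ 𝒜 1 := by simpa using SetLike.mul_mem_graded a.2 ht
    obtain ⟨c, hc⟩ := hspan _ hat
    have hy : ∀ i : {x // x ∈ T}, str (c i.1) * i.1 ∈ 𝒜 (1 • 1) := fun i => by
      simpa using SetLike.mul_mem_graded (hstr (c i.1)) (hT i.1 i.2)
    have hsum : (a : A) * t = ∑ i ∈ T.attach, str (c i.1) * i.1 := by
      rw [hc]
      exact (Finset.sum_attach T (fun t' => str (c t') * t')).symm
    have hz : (a : A) * t ∈ 𝒜 (1 • 1) := by simpa using hat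
    have e1 : fromZeroRingHom 𝒜 _ a = Away.mk 𝒜 ht 1 ((a : A) * t) hz := by
      rw [HomogeneousLocalization.ext_iff_val, Away.val_mk]
      show (HomogeneousLocalization.mk ⟨0, a, 1, one_mem _⟩).val = _
      rw [HomogeneousLocalization.val_mk, Localization.mk_eq_mk_iff, Localization.r_iff_exists]
      exact ⟨1, by simp [mul_comm]⟩
    rw [e1]
    refine away_mk_sum_mem 𝒜 ht 1 T.attach (fun i => str (c i.1) * i.1) hy
      G.toSubsemiring.toAddSubmonoid ?_ _ hz hsum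
    intro i _
    have e2 : Away.mk 𝒜 ht 1 (str (c i.1) * i.1) (hy i) =
        ρ (c i.1) * Away.mk 𝒜 ht 1 i.1 (h11 i.1 i.2) := by
      rw [HomogeneousLocalization.ext_iff_val, HomogeneousLocalization.val_mul, Away.val_mk,
        Away.val_mk, hρ]
      show _ = (HomogeneousLocalization.mk ⟨0, ⟨str (c i.1), hstr (c i.1)⟩, 1, one_mem _⟩).val * _
      rw [HomogeneousLocalization.val_mk, Localization.mk_mul, Localization.mk_eq_mk_iff,
        Localization.r_iff_exists]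
      exact ⟨1, by simp⟩
    show Away.mk 𝒜 ht 1 (str (c i.1) * i.1) (hy i) ∈ G
    rw [e2]
    exact G.mul_mem (hρG _) (hS₁G i.1 i.2)
  intro x _
  have hx : x ∈ Algebra.adjoin (𝒜 0) (S₀ : Set (Away 𝒜 t)) := by
    rw [hS₀]
    trivial
  induction hx using Algebra.adjoin_induction with
  | mem x hx =>
    exact Algebra.subset_adjoin (by rw [Finset.coe_union]; exact Or.inr hx)
  | algebraMap a => exact hzero a
  | add x y _ _ hx hy => exact G.add_mem (hx Algebra.mem_top) (hy Algebra.mem_top)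
  | mul x y _ _ hx hy => exact G.mul_mem (hx Algebra.mem_top) (hy Algebra.mem_top)

end Groth.Agent.Helper22.ProjFT
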