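import Mathlib
import Groth.Agent.Lib.Helper22.ProjGen

set_option autoImplicit false
set_option maxHeartbeats 400000
set_option backward.isDefEq.respectTransparency false
set_option backward.isDefEq.respectTransparency.types false

universe u

open HomogeneousLocalization AlgebraicGeometry CategoryTheory CategoryTheory.Limits
open scoped HomogeneousIdeal

namespace Groth.Agent.Helper22.ProjGenOne

variable {A B σ τ : Type u} [CommRing A] [SetLike σ A] [AddSubgroupClass σ A]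
  [CommRing B] [SetLike τ B] [AddSubgroupClass τ B]
  (𝒜 : ℕ → σ) (ℬ : ℕ → τ) [GradedRing 𝒜] [GradedRing ℬ]

/-- the degree-one part as a submodule over the degree-zero subring -/
def M1 : Submodule (𝒜 0) A where
  carrier := {x | x ∈ 𝒜 1}
  add_mem' := fun ha hb => add_mem ha hb
  zero_mem' := zero_mem _
  smul_mem' := fun c x hx => by
    show c • x ∈ 𝒜 1
    rw [Algebra.smul_def]
    have := SetLike.mul_mem_graded c.2 hx
    simpa using this

theorem mem_M1 {x : A} : x ∈ M1 𝒜 ↔ x ∈ 𝒜 1 := Iff.rfl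

theorem zero_mul_mem_pow (n : ℕ) {a x : A} (ha : a ∈ 𝒜 0) (hx : x ∈ M1 𝒜 ^ n) :
    a * x ∈ M1 𝒜 ^ n := by
  have := (M1 𝒜 ^ n).smul_mem (⟨a, ha⟩ : 𝒜 0) hx
  rwa [Algebra.smul_def] at this

/-- if `A` is generated by `A₀` and `A₁`, then `Aₙ = A₁ⁿ` for `n ≥ 1` -/
theorem mem_pow_of_genDegOne
    (hgen : Subring.closure ((𝒜 0 : Set A) ∪ (𝒜 1 : Set A)) = ⊤) :
    ∀ x : A, ∀ n : ℕ, 1 ≤ n → (DirectSum.decompose 𝒜 x n : A) ∈ M1 𝒜 ^ n := by
  classical
  intro x
  have hx : x ∈ Subring.closure ((𝒜 0 : Set A) ∪ (𝒜 1 : Set A)) := by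
    rw [hgen]
    trivial
  induction hx using Subring.closure_induction with
  | mem x hx =>
    intro n hn
    rcases hx with hx | hx
    · rw [DirectSum.decompose_of_mem_ne 𝒜 hx (by omega)]
      exact zero_mem _
    · by_cases h1 : n = 1
      · subst h1
        rw [DirectSum.decompose_of_mem_same 𝒜 hx, Submodule.pow_one]
        exact hx
      · rw [DirectSum.decompose_of_mem_ne 𝒜 hx (fun h => h1 h.symm)]
        exact zero_mem _
  | zero =>
    intro n _
    rw [DirectSum.decompose_zero]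
    exact zero_mem _
  | one =>
    intro n hn
    rw [DirectSum.decompose_of_mem_ne 𝒜 (SetLike.GradedOne.one_mem (A := 𝒜)) (by omega)]
    exact zero_mem _
  | add x y _ _ hx hy =>
    intro n hn
    rw [DirectSum.decompose_add]
    exact add_mem (hx n hn) (hy n hn)
  | neg x _ hx =>
    intro n hn
    rw [DirectSum.decompose_neg]
    exact neg_mem (hx n hn)
  | mul x y _ _ hx hy =>
    intro n hn
    rw [DirectSum.decompose_mul, DirectSum.coe_mul_apply_eq_sum_antidiagonal]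
    refine sum_mem fun ij hij => ?_
    have hsum : ij.1 + ij.2 = n := Finset.HasAntidiagonal.mem_antidiagonal.mp hij
    by_cases h1 : ij.1 = 0
    · have h2 : ij.2 = n := by omega
      rw [h1, h2]
      exact zero_mul_mem_pow 𝒜 n (SetLike.coe_mem _) (hy n hn)
    · by_cases h2 : ij.2 = 0
      · have h1' : ij.1 = n := by omega
        rw [h1', h2, mul_comm]
        exact zero_mul_mem_pow 𝒜 n (SetLike.coe_mem _) (hx n hn)
      · have := Submodule.mul_mem_mul (hx ij.1 (by omega)) (hy ij.2 (by omega))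
        rwa [← Submodule.pow_add _ h2, hsum] at this

theorem pow_succ_le_subring (R' : Subring A) (h1 : ∀ x ∈ 𝒜 1, x ∈ R') :
    ∀ n : ℕ, ∀ x ∈ M1 𝒜 ^ (n + 1), x ∈ R' := by
  intro n
  induction n with
  | zero =>
    intro x hx
    rw [zero_add, Submodule.pow_one] at hx
    exact h1 x hx
  | succ n ih =>
    intro x hx
    rw [Submodule.pow_succ] at hx
    refine Submodule.mul_induction_on hx (fun a ha b hb => ?_) (fun a b ha hb => R'.add_mem ha hb)
    exact R'.mul_mem (ih a ha) (h1 b hb)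

/-- a graded homomorphism onto a ring generated in degrees `0, 1`, surjective onto the degree-one
part, is surjective onto every part of positive degree -/
theorem surjOn_of_genDegOne (φ : ℬ →+*ᵍ 𝒜)
    (hgen : Subring.closure ((𝒜 0 : Set A) ∪ (𝒜 1 : Set A)) = ⊤)
    (h1 : ∀ x ∈ 𝒜 1, ∃ b : B, φ b = x) :
    ∀ n : ℕ, 1 ≤ n → Set.SurjOn φ (ℬ n) (𝒜 n) := by
  classical
  intro n hn x hx
  have hxp : x ∈ M1 𝒜 ^ n := by
    have := mem_pow_of_genDegOne 𝒜 hgen x n hn
    rwa [DirectSum.decompose_of_mem_same 𝒜 hx] at this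
  obtain ⟨m, rfl⟩ : ∃ m, n = m + 1 := ⟨n - 1, by omega⟩
  have hxr : x ∈ (φ : B →+* A).range :=
    pow_succ_le_subring 𝒜 (φ : B →+* A).range (fun y hy => by
      obtain ⟨b, hb⟩ := h1 y hy
      exact ⟨b, hb⟩) m x hxp
  obtain ⟨b, hb⟩ := hxr
  have hb' : φ b = x := hb
  refine ⟨(DirectSum.decompose ℬ b (m + 1) : B), SetLike.coe_mem _, ?_⟩
  rw [GradedRingHom.map_directSumDecompose, hb', DirectSum.decompose_of_mem_same 𝒜 hx]

theorem away_map_surjective_of_surjOn_ge (φ : ℬ →+*ᵍ 𝒜) (n₀ : ℕ)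
    (hsurj : ∀ n : ℕ, n₀ ≤ n → Set.SurjOn φ (ℬ n) (𝒜 n))
    {i : ℕ} (hi : 0 < i) (s : B) (hs : s ∈ ℬ i) :
    Function.Surjective (Away.map φ s) := by
  have hφs : φ s ∈ 𝒜 i := φ.2 hs
  intro y
  obtain ⟨n, b, hb, rfl⟩ := Away.mk_surjective 𝒜 hφs y
  have hb' : b * φ s ^ n₀ ∈ 𝒜 ((n + n₀) • i) := by
    have := SetLike.mul_mem_graded hb (SetLike.pow_mem_graded n₀ hφs)
    rwa [← add_smul] at this
  have hN : n₀ ≤ (n + n₀) • i :=
    le_trans (Nat.le_add_left n₀ n) (Nat.le_mul_of_pos_right _ hi)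
  obtain ⟨a, ha, hab⟩ := hsurj _ hN hb'
  refine ⟨Away.mk ℬ hs (n + n₀) a ha, ?_⟩
  rw [ProjGen.away_mk_bump 𝒜 hφs n n₀ b hb hb', Away.map_mk, HomogeneousLocalization.ext_iff_val,
    Away.val_mk, Away.val_mk, hab]

/-- a graded homomorphism surjective in all large degrees induces a closed immersion of `Proj` -/
theorem isClosedImmersion_map_of_surjOn_ge (φ : ℬ →+*ᵍ 𝒜) (n₀ : ℕ)
    (hsurj : ∀ n : ℕ, n₀ ≤ n → Set.SurjOn φ (ℬ n) (𝒜 n))
    (hφ : HomogeneousIdeal.irrelevant 𝒜 ≤ (HomogeneousIdeal.irrelevant ℬ).map φ) :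
    IsClosedImmersion (Proj.map φ hφ) := by
  apply IsZariskiLocalAtTarget.of_openCover (P := @IsClosedImmersion)
    (Proj.affineOpenCover ℬ).openCover
  intro j
  have hb := away_map_surjective_of_surjOn_ge 𝒜 ℬ φ n₀ hsurj j.1.2 j.2.1 j.2.2
  haveI : IsClosedImmersion (Spec.map (CommRingCat.ofHom (Away.map φ j.2.1))) :=
    IsClosedImmersion.spec_of_surjective (CommRingCat.ofHom (Away.map φ j.2.1)) hb
  have sq := IsOpenImmersion.isPullback (Spec.map (CommRingCat.ofHom (Away.map φ j.2.1)))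
    (Proj.awayι 𝒜 (φ j.2.1) (φ.2 j.2.2) j.1.2) (Proj.awayι ℬ j.2.1 j.2.2 j.1.2)
    (Proj.map φ hφ) (Proj.awayι_comp_map φ hφ j.1.2 j.2.1 j.2.2)
    (by rw [Proj.opensRange_awayι, Proj.opensRange_awayι, Proj.map_preimage_basicOpen])
  have e := sq.flip.isoPullback_inv_snd
  show IsClosedImmersion (pullback.snd (Proj.map φ hφ) (Proj.awayι ℬ j.2.1 j.2.2 j.1.2))
  rw [← e]
  infer_instance

end Groth.Agent.Helper22.ProjGenOne
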