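import Mathlib
import Groth.Prelude.Def_RelProj
import Groth.Agent.Lib.Helper22.ProjGen

set_option autoImplicit false
set_option maxHeartbeats 400000

universe u

open CategoryTheory CategoryTheory.Limits AlgebraicGeometry TopologicalSpace Opposite
open scoped HomogeneousIdeal

namespace Groth.Agent.Helper22.ProjIrr

section Top

/-- a space covered by irreducible open subsets that meet pairwise is irreducible -/
theorem irreducibleSpace_of_cover {X : Type*} [TopologicalSpace X] {ι : Type*} [Nonempty ι]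
    (s : ι → Set X) (hopen : ∀ i, IsOpen (s i)) (hirr : ∀ i, IsIrreducible (s i))
    (hcov : ∀ x, ∃ i, x ∈ s i) (hpair : ∀ i j, (s i ∩ s j).Nonempty) : IrreducibleSpace X := by
  have hne : Nonempty X := by
    obtain ⟨i⟩ := ‹Nonempty ι›
    obtain ⟨x, -⟩ := (hirr i).nonempty
    exact ⟨x⟩
  have hpre : IsPreirreducible (Set.univ : Set X) := by
    rintro u v hu hv ⟨x, -, hxu⟩ ⟨y, -, hyv⟩
    obtain ⟨i, hi⟩ := hcov x
    obtain ⟨j, hj⟩ := hcov y
    obtain ⟨z, hzi, hzu, hzj⟩ :=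
      (hirr i).isPreirreducible u (s j) hu (hopen j) ⟨x, hi, hxu⟩ (hpair i j)
    obtain ⟨w, hwj, hwu, hwv⟩ :=
      (hirr j).isPreirreducible u v hu hv ⟨z, hzj, hzu⟩ ⟨y, hj, hyv⟩
    exact ⟨w, Set.mem_univ _, hwu, hwv⟩
  exact { isPreirreducible_univ := hpre, toNonempty := hne }

end Top

section Alg

variable {A σ : Type u} [CommRing A] [SetLike σ A] [AddSubgroupClass σ A] (𝒜 : ℕ → σ)
  [GradedRing 𝒜]

theorem away_isDomain [IsDomain A] {f : A} (hf0 : f ≠ 0) :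
    IsDomain (HomogeneousLocalization.Away 𝒜 f) := by
  haveI : IsDomain (Localization (Submonoid.powers f)) :=
    IsLocalization.isDomain_localization (powers_le_nonZeroDivisors_of_noZeroDivisors hf0)
  exact Function.Injective.isDomain
    (algebraMap (HomogeneousLocalization.Away 𝒜 f) (Localization (Submonoid.powers f)))
    (fun a b h => HomogeneousLocalization.val_injective _
      (by simpa only [HomogeneousLocalization.algebraMap_apply] using h))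

theorem mem_basicOpen_iff (f : A) (x : Proj 𝒜) :
    x ∈ ((Proj.basicOpen 𝒜 f : (Proj 𝒜).Opens) : Set (Proj 𝒜)) ↔
      f ∉ (ProjectiveSpectrum.asHomogeneousIdeal x).toIdeal := Iff.rfl

theorem isIrreducible_basicOpen [IsDomain A] {f : A} {d : ℕ} (hf : f ∈ 𝒜 d) (hd : 0 < d)
    (hf0 : f ≠ 0) :
    IsIrreducible ((Proj.basicOpen 𝒜 f : (Proj 𝒜).Opens) : Set (Proj 𝒜)) := by
  haveI := away_isDomain 𝒜 hf0
  haveI : IrreducibleSpace (Spec (CommRingCat.of (HomogeneousLocalization.Away 𝒜 f))) :=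
    inferInstanceAs (IrreducibleSpace (PrimeSpectrum (HomogeneousLocalization.Away 𝒜 f)))
  have h1 := (IrreducibleSpace.isIrreducible_univ
    (Spec (CommRingCat.of (HomogeneousLocalization.Away 𝒜 f)))).image
    (Proj.awayι 𝒜 f hf hd).base.hom (Proj.awayι 𝒜 f hf hd).base.hom.continuous.continuousOn
  rw [Set.image_univ] at h1
  have h2 : Set.range (Proj.awayι 𝒜 f hf hd).base.hom =
      ((Proj.basicOpen 𝒜 f : (Proj 𝒜).Opens) : Set (Proj 𝒜)) := by
    rw [← Proj.opensRange_awayι 𝒜 f hf hd]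
    rfl
  rwa [h2] at h1

theorem exists_mem_basicOpen (x : Proj 𝒜) :
    ∃ (f : A) (d : ℕ), 0 < d ∧ f ∈ 𝒜 d ∧
      x ∈ ((Proj.basicOpen 𝒜 f : (Proj 𝒜).Opens) : Set (Proj 𝒜)) := by
  by_contra hcon
  refine ProjectiveSpectrum.not_irrelevant_le x ?_
  rw [HomogeneousIdeal.irrelevant_le]
  intro i hi b hb
  by_contra hb'
  exact hcon ⟨b, i, hi, hb, hb'⟩

theorem exists_homogeneous_ne_zero (hne : (𝒜₊).toIdeal ≠ ⊥) :
    ∃ (f : A) (d : ℕ), 0 < d ∧ f ∈ 𝒜 d ∧ f ≠ 0 := by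
  classical
  obtain ⟨a, ha, ha0⟩ := Submodule.exists_mem_ne_zero_of_ne_bot hne
  have ha' : a ∈ 𝒜₊ := ha
  rw [HomogeneousIdeal.mem_irrelevant_iff, GradedRing.proj_apply] at ha'
  have hex : ∃ i, (DirectSum.decompose 𝒜 a i : A) ≠ 0 := by
    by_contra hcon
    apply ha0
    have h2 : ∀ i, (DirectSum.decompose 𝒜 a i : A) = 0 := fun i =>
      by_contra fun h => hcon ⟨i, h⟩
    rw [← DirectSum.sum_support_decompose 𝒜 a]
    exact Finset.sum_eq_zero fun i _ => h2 i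
  obtain ⟨i, hi⟩ := hex
  refine ⟨(DirectSum.decompose 𝒜 a i : A), i, ?_, SetLike.coe_mem _, hi⟩
  rcases Nat.eq_zero_or_pos i with h0 | h0
  · subst h0
    exact absurd ha' hi
  · exact h0

theorem irreducibleSpace_proj [IsDomain A] (hne : (𝒜₊).toIdeal ≠ ⊥) :
    IrreducibleSpace (Proj 𝒜) := by
  obtain ⟨f₀, d₀, hd₀, hf₀, hf₀0⟩ := exists_homogeneous_ne_zero 𝒜 hne
  let ι := {f : A // f ≠ 0 ∧ ∃ d, 0 < d ∧ f ∈ 𝒜 d}
  haveI : Nonempty ι := ⟨⟨f₀, hf₀0, d₀, hd₀, hf₀⟩⟩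
  have hirr : ∀ i : ι,
      IsIrreducible ((Proj.basicOpen 𝒜 i.1 : (Proj 𝒜).Opens) : Set (Proj 𝒜)) := by
    rintro ⟨f, hf0, d, hd, hf⟩
    exact isIrreducible_basicOpen 𝒜 hf hd hf0
  refine irreducibleSpace_of_cover
    (fun i : ι => ((Proj.basicOpen 𝒜 i.1 : (Proj 𝒜).Opens) : Set (Proj 𝒜)))
    (fun i => (Proj.basicOpen 𝒜 i.1).isOpen) hirr ?_ ?_
  · intro x
    obtain ⟨f, d, hd, hf, hx⟩ := exists_mem_basicOpen 𝒜 x
    refine ⟨⟨f, ?_, d, hd, hf⟩, hx⟩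
    rintro rfl
    exact (mem_basicOpen_iff 𝒜 0 x).mp hx (Submodule.zero_mem _)
  · rintro ⟨f, hf0, d, hd, hf⟩ ⟨g, hg0, e, he, hg⟩
    obtain ⟨x, hx⟩ := (isIrreducible_basicOpen 𝒜 (SetLike.mul_mem_graded hf hg)
      (Nat.add_pos_left hd e) (mul_ne_zero hf0 hg0)).nonempty
    have hx' := (mem_basicOpen_iff 𝒜 (f * g) x).mp hx
    refine ⟨x, (mem_basicOpen_iff 𝒜 f x).mpr fun hfx => hx' ?_,
      (mem_basicOpen_iff 𝒜 g x).mpr fun hgx => hx' ?_⟩
    · exact Ideal.mul_mem_right _ _ hfx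
    · exact Ideal.mul_mem_left _ _ hgx

end Alg

section Rel

variable {Y P : Scheme.{u}} (𝒮 : RelProj.QCGrAlg Y) (p : P ⟶ Y)
  (chart : ∀ (U : Y.Opens) (hU : IsAffineOpen U),
    (((p ⁻¹ᵁ U : P.Opens) : Scheme.{u}) ≅ Proj (𝒮.deg U hU)))

include chart in
theorem isIrreducible_preimage (U : Y.Opens) (hU : IsAffineOpen U)
    [IrreducibleSpace (Proj (𝒮.deg U hU))] :
    IsIrreducible ((p ⁻¹ᵁ U : P.Opens) : Set P) := by
  have h1 := (IrreducibleSpace.isIrreducible_univ (Proj (𝒮.deg U hU))).image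
    ((chart U hU).inv ≫ (p ⁻¹ᵁ U).ι).base.hom
    ((chart U hU).inv ≫ (p ⁻¹ᵁ U).ι).base.hom.continuous.continuousOn
  rw [Set.image_univ] at h1
  have h2 : Set.range ((chart U hU).inv ≫ (p ⁻¹ᵁ U).ι).base.hom =
      ((p ⁻¹ᵁ U : P.Opens) : Set P) := by
    have := Scheme.Hom.opensRange_comp_of_isIso (chart U hU).inv (p ⁻¹ᵁ U).ι
    rw [Scheme.Opens.opensRange_ι] at this
    exact congrArg (fun W : P.Opens => (W : Set P)) this
  rwa [h2] at h1

include chart in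
/-- the relative `Proj` of a sheaf of graded domains with nonzero irrelevant ideals over an
integral base is integral and dominates the base -/
theorem isIntegral_and_denseRange [IsIntegral Y]
    (hint : ∀ (U : Y.Opens) (hU : IsAffineOpen U), (U : Set Y).Nonempty →
      IsDomain (𝒮.presheaf.obj (op U)) ∧ ((𝒮.deg U hU)₊).toIdeal ≠ ⊥) :
    IsIntegral P ∧ DenseRange p.base := by
  have hirrU : ∀ (U : Y.Opens) (hU : IsAffineOpen U), (U : Set Y).Nonempty →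
      IsIrreducible ((p ⁻¹ᵁ U : P.Opens) : Set P) := by
    intro U hU hne
    obtain ⟨hdom, hirrel⟩ := hint U hU hne
    haveI := hdom
    haveI : IrreducibleSpace (Proj (𝒮.deg U hU)) := irreducibleSpace_proj (𝒮.deg U hU) hirrel
    exact isIrreducible_preimage 𝒮 p chart U hU
  have hredU : ∀ (U : Y.Opens) (hU : IsAffineOpen U), (U : Set Y).Nonempty →
      AlgebraicGeometry.IsReduced ((p ⁻¹ᵁ U : P.Opens) : Scheme.{u}) := by
    intro U hU hne
    obtain ⟨hdom, -⟩ := hint U hU hne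
    haveI := hdom
    haveI : AlgebraicGeometry.IsReduced (Proj (𝒮.deg U hU)) :=
      ProjGen.proj_isReduced (𝒮.deg U hU) (fun x _ hx => hx.eq_zero)
    exact isReduced_of_isOpenImmersion (chart U hU).hom
  let ι := {U : Y.affineOpens // (U.1 : Set Y).Nonempty}
  have hbasis : ∀ (V : Y.Opens) (y : Y), y ∈ V → ∃ i : ι, y ∈ i.1.1 ∧ i.1.1 ≤ V := by
    intro V y hy
    obtain ⟨_, ⟨W, hW, rfl⟩, hyW, hWV⟩ :=
      Y.isBasis_affineOpens.exists_subset_of_mem_open hy V.2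
    exact ⟨⟨⟨W, hW⟩, ⟨y, hyW⟩⟩, hyW, fun _ h => hWV h⟩
  haveI : Nonempty ι := by
    obtain ⟨y⟩ : Nonempty Y := inferInstance
    obtain ⟨i, -, -⟩ := hbasis ⊤ y (Opens.mem_top y)
    exact ⟨i⟩
  haveI : IrreducibleSpace P := by
    refine irreducibleSpace_of_cover (fun i : ι => ((p ⁻¹ᵁ i.1.1 : P.Opens) : Set P))
      (fun i => (p ⁻¹ᵁ i.1.1).isOpen) (fun i => hirrU i.1.1 i.1.2 i.2) ?_ ?_
    · intro x
      obtain ⟨i, hi, -⟩ := hbasis ⊤ (p.base x) (Opens.mem_top _)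
      exact ⟨i, hi⟩
    · intro i j
      obtain ⟨y, hyi, hyj⟩ :=
        nonempty_preirreducible_inter i.1.1.isOpen j.1.1.isOpen i.2 j.2
      obtain ⟨k, hyk, hk⟩ := hbasis (i.1.1 ⊓ j.1.1) y ⟨hyi, hyj⟩
      obtain ⟨x, hx⟩ := (hirrU k.1.1 k.1.2 k.2).nonempty
      have hx' : p.base x ∈ k.1.1 := hx
      exact ⟨x, (hk hx').1, (hk hx').2⟩
  haveI : AlgebraicGeometry.IsReduced P := by
    have hcov : TopologicalSpace.IsOpenCover (fun i : ι => p ⁻¹ᵁ i.1.1) := by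
      refine eq_top_iff.mpr fun x _ => ?_
      obtain ⟨i, hi, -⟩ := hbasis ⊤ (p.base x) (Opens.mem_top _)
      exact Opens.mem_iSup.mpr ⟨i, hi⟩
    haveI : ∀ i, AlgebraicGeometry.IsReduced ((P.openCoverOfIsOpenCover _ hcov).X i) :=
      fun i => hredU i.1.1 i.1.2 i.2
    exact AlgebraicGeometry.IsReduced.of_openCover P (P.openCoverOfIsOpenCover _ hcov)
  refine ⟨isIntegral_of_irreducibleSpace_of_isReduced P, dense_iff_inter_open.mpr ?_⟩
  rintro V hV ⟨y, hy⟩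
  obtain ⟨k, hyk, hk⟩ := hbasis ⟨V, hV⟩ y hy
  obtain ⟨x, hx⟩ := (hirrU k.1.1 k.1.2 k.2).nonempty
  have hx' : p.base x ∈ k.1.1 := hx
  exact ⟨p.base x, hk hx', x, rfl⟩

end Rel

end Groth.Agent.Helper22.ProjIrr
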