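import Mathlib
import Groth.Prelude.Def_RelProj
import Groth.Agent.Lib.Helper22.ProjIrr

set_option autoImplicit false
set_option maxHeartbeats 400000

universe u

open CategoryTheory CategoryTheory.Limits AlgebraicGeometry TopologicalSpace Opposite
open scoped HomogeneousIdeal

namespace Groth.Agent.Helper22.ProjIrr2

open Groth.Agent.Helper22.ProjIrr

section Alg

variable {A σ : Type u} [CommRing A] [SetLike σ A] [AddSubgroupClass σ A] (𝒜 : ℕ → σ)
  [GradedRing 𝒜]

theorem away_nontrivial {f : A} (hf : ¬ IsNilpotent f) :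
    Nontrivial (HomogeneousLocalization.Away 𝒜 f) := by
  refine ⟨⟨0, 1, fun h => hf ?_⟩⟩
  have h1 : (algebraMap A (Localization (Submonoid.powers f))) 0 =
      (algebraMap A (Localization (Submonoid.powers f))) 1 := by
    have := congrArg HomogeneousLocalization.val h
    rw [HomogeneousLocalization.val_zero, HomogeneousLocalization.val_one] at this
    rw [map_zero, map_one]
    exact this
  obtain ⟨⟨c, hc⟩, hc'⟩ := (IsLocalization.eq_iff_exists (Submonoid.powers f)
    (Localization (Submonoid.powers f))).mp h1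
  obtain ⟨n, rfl⟩ := (Submonoid.mem_powers_iff _ _).mp hc
  exact ⟨n, by simpa using hc'.symm⟩

theorem basicOpen_nonempty {f : A} {d : ℕ} (hf : f ∈ 𝒜 d) (hd : 0 < d) (hn : ¬ IsNilpotent f) :
    ((Proj.basicOpen 𝒜 f : (Proj 𝒜).Opens) : Set (Proj 𝒜)).Nonempty := by
  haveI := away_nontrivial 𝒜 hn
  obtain ⟨z⟩ : Nonempty (Spec (CommRingCat.of (HomogeneousLocalization.Away 𝒜 f))) :=
    inferInstanceAs (Nonempty (PrimeSpectrum (HomogeneousLocalization.Away 𝒜 f)))
  refine ⟨(Proj.awayι 𝒜 f hf hd).base z, ?_⟩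
  have : (Proj.awayι 𝒜 f hf hd).base z ∈ (Proj.awayι 𝒜 f hf hd).opensRange := ⟨z, rfl⟩
  rwa [Proj.opensRange_awayι] at this

theorem fromZero_eq_zero {a b : A} (ha : a ∈ 𝒜 0) (hab : a * b = 0) :
    HomogeneousLocalization.fromZeroRingHom 𝒜 (Submonoid.powers b) ⟨a, ha⟩ = 0 := by
  apply HomogeneousLocalization.val_injective
  rw [HomogeneousLocalization.val_zero]
  simp only [HomogeneousLocalization.fromZeroRingHom, RingHom.coe_mk, MonoidHom.coe_mk,
    OneHom.coe_mk, HomogeneousLocalization.val_mk]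
  rw [Localization.mk_eq_mk', IsLocalization.mk'_eq_zero_iff]
  exact ⟨⟨b, Submonoid.mem_powers b⟩, by rw [mul_comm]; exact hab⟩

/-- a graded ring with irreducible `Proj`, no nilpotents in the irrelevant ideal, and no
zero-divisor pairs involving degree `0` homogeneous elements is a domain -/
theorem isDomain_of_irreducible [IrreducibleSpace (Proj 𝒜)]
    (hred : ∀ x : A, x ∈ 𝒜₊ → IsNilpotent x → x = 0)
    (h00 : ∀ x y : A, x ∈ 𝒜 0 → y ∈ 𝒜 0 → x * y = 0 → x = 0 ∨ y = 0)
    (h0p : ∀ (x y : A) (j : ℕ), x ∈ 𝒜 0 → y ∈ 𝒜 j → 0 < j → x * y = 0 → x = 0 ∨ y = 0) :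
    IsDomain A := by
  obtain ⟨q⟩ : Nonempty (Proj 𝒜) := inferInstance
  haveI : Nontrivial A := ⟨⟨0, 1, fun h => (ProjectiveSpectrum.isPrime q).ne_top
    ((Ideal.eq_top_iff_one _).mpr (h ▸ zero_mem _))⟩⟩
  haveI : (⊥ : Ideal A).IsPrime := by
    refine (Ideal.IsHomogeneous.bot 𝒜).isPrime_of_homogeneous_mem_or_mem bot_ne_top ?_
    rintro x y ⟨i, hx⟩ ⟨j, hy⟩ hxy
    simp only [Ideal.mem_bot] at hxy ⊢
    rcases Nat.eq_zero_or_pos i with hi | hi
    · subst hi
      rcases Nat.eq_zero_or_pos j with hj | hj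
      · subst hj
        exact h00 x y hx hy hxy
      · exact h0p x y j hx hy hj hxy
    · rcases Nat.eq_zero_or_pos j with hj | hj
      · subst hj
        rw [mul_comm] at hxy
        exact (h0p y x i hy hx hi hxy).symm
      · by_contra hcon
        have hx0 : x ≠ 0 := fun h => hcon (Or.inl h)
        have hy0 : y ≠ 0 := fun h => hcon (Or.inr h)
        have hxn : ¬ IsNilpotent x := fun h =>
          hx0 (hred x (HomogeneousIdeal.mem_irrelevant_of_mem _ hi hx) h)
        have hyn : ¬ IsNilpotent y := fun h =>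
          hy0 (hred y (HomogeneousIdeal.mem_irrelevant_of_mem _ hj hy) h)
        obtain ⟨z, hzx, hzy⟩ := nonempty_preirreducible_inter
          (Proj.basicOpen 𝒜 x).isOpen (Proj.basicOpen 𝒜 y).isOpen
          (basicOpen_nonempty 𝒜 hx hi hxn) (basicOpen_nonempty 𝒜 hy hj hyn)
        have hzx' := (mem_basicOpen_iff 𝒜 x z).mp hzx
        have hzy' := (mem_basicOpen_iff 𝒜 y z).mp hzy
        have hmem : x * y ∈ (ProjectiveSpectrum.asHomogeneousIdeal z).toIdeal := by
          rw [hxy]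
          exact zero_mem _
        rcases (ProjectiveSpectrum.isPrime z).mem_or_mem hmem with h | h
        · exact hzx' h
        · exact hzy' h
  exact IsDomain.of_bot_isPrime A

end Alg

section Rel

theorem isDominant_of_isOpenImmersion {X Z : Scheme.{u}} (f : X ⟶ Z) [IsOpenImmersion f]
    [Nonempty X] [IrreducibleSpace Z] : IsDominant f := by
  obtain ⟨x⟩ := ‹Nonempty X›
  exact ⟨f.opensRange.isOpen.dense ⟨f.base x, x, rfl⟩⟩

variable {Y P : Scheme.{u}} (𝒮 : RelProj.QCGrAlg Y) (p : P ⟶ Y)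
  (chart : ∀ (U : Y.Opens) (hU : IsAffineOpen U),
    (((p ⁻¹ᵁ U : P.Opens) : Scheme.{u}) ≅ Proj (𝒮.deg U hU)))
  (hP : RelProj.IsRelProj 𝒮 p chart)

include hP in
theorem isDominant_away [IsIntegral P] (hdom : DenseRange p.base)
    (U : Y.Opens) (hU : IsAffineOpen U)
    {b : 𝒮.presheaf.obj (op U)} {j : ℕ} (hb : b ∈ 𝒮.deg U hU j) (hj : 0 < j)
    (hbn : ¬ IsNilpotent b) :
    IsDominant (Spec.map (𝒮.strZero U hU ≫ CommRingCat.ofHom
      (HomogeneousLocalization.fromZeroRingHom (𝒮.deg U hU) (Submonoid.powers b)))) := by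
  haveI := away_nontrivial (𝒮.deg U hU) hbn
  haveI : Nonempty (Spec (CommRingCat.of (HomogeneousLocalization.Away (𝒮.deg U hU) b))) :=
    inferInstanceAs (Nonempty (PrimeSpectrum (HomogeneousLocalization.Away (𝒮.deg U hU) b)))
  have hcomp : (Proj.awayι (𝒮.deg U hU) b hb hj ≫ (chart U hU).inv ≫ (p ⁻¹ᵁ U).ι) ≫ p =
      Spec.map (𝒮.strZero U hU ≫ CommRingCat.ofHom
        (HomogeneousLocalization.fromZeroRingHom (𝒮.deg U hU) (Submonoid.powers b))) ≫
        hU.fromSpec := by
    rw [Spec.map_comp]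
    simp only [Category.assoc]
    rw [← hP.chart_over U hU, Iso.inv_hom_id_assoc, Proj.awayι_toSpecZero_assoc]
  haveI : IsDominant (Proj.awayι (𝒮.deg U hU) b hb hj ≫ (chart U hU).inv ≫ (p ⁻¹ᵁ U).ι) :=
    isDominant_of_isOpenImmersion _
  haveI : IsDominant p := ⟨hdom⟩
  haveI : IsDominant (Spec.map (𝒮.strZero U hU ≫ CommRingCat.ofHom
      (HomogeneousLocalization.fromZeroRingHom (𝒮.deg U hU) (Submonoid.powers b))) ≫
        hU.fromSpec) := by
    rw [← hcomp]
    infer_instance
  exact IsDominant.of_comp_of_isOpenImmersion _ hU.fromSpec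

include hP in
/-- converse: if the relative `Proj` is integral and dominates the integral base, and the
irrelevant ideals have no nilpotents, the algebra is a sheaf of graded domains -/
theorem isDomain_and_irrelevant_ne_bot [IsIntegral Y] [IsIntegral P]
    (h0 : ∀ (U : Y.Opens) (hU : IsAffineOpen U), Function.Bijective (𝒮.strZero U hU).hom)
    (hred : ∀ (U : Y.Opens) (hU : IsAffineOpen U) (x : 𝒮.presheaf.obj (op U)),
      x ∈ (𝒮.deg U hU)₊ → IsNilpotent x → x = 0)
    (hdom : DenseRange p.base)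
    (U : Y.Opens) (hU : IsAffineOpen U) (hne : (U : Set Y).Nonempty) :
    IsDomain (𝒮.presheaf.obj (op U)) ∧ ((𝒮.deg U hU)₊).toIdeal ≠ ⊥ := by
  obtain ⟨x, hx⟩ := hdom.exists_mem_open U.isOpen hne
  haveI : Nonempty ↥(p ⁻¹ᵁ U) := ⟨⟨x, hx⟩⟩
  haveI : Nonempty (Proj (𝒮.deg U hU)) := ⟨(chart U hU).hom.base ⟨x, hx⟩⟩
  haveI : IrreducibleSpace (Proj (𝒮.deg U hU)) := by
    haveI : IsIntegral (Proj (𝒮.deg U hU)) :=
      isIntegral_of_isOpenImmersion ((chart U hU).inv ≫ (p ⁻¹ᵁ U).ι)
    infer_instance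
  haveI : IsDomain Γ(Y, U) :=
    @IsIntegral.component_integral Y _ U ⟨⟨p.base x, hx⟩⟩
  refine ⟨?_, ?_⟩
  · refine isDomain_of_irreducible (𝒮.deg U hU) (hred U hU) ?_ ?_
    · intro a b ha hb hab
      obtain ⟨r, hr⟩ := (h0 U hU).2 ⟨a, ha⟩
      obtain ⟨s, hs⟩ := (h0 U hU).2 ⟨b, hb⟩
      have hra : (𝒮.str.app (op U)).hom r = a := congrArg Subtype.val hr
      have hsb : (𝒮.str.app (op U)).hom s = b := congrArg Subtype.val hs
      have h1 : (𝒮.strZero U hU).hom (r * s) = (𝒮.strZero U hU).hom 0 := by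
        apply Subtype.ext
        show (𝒮.str.app (op U)).hom (r * s) = (𝒮.str.app (op U)).hom 0
        rw [map_mul, map_zero, hra, hsb]
        exact hab
      rcases mul_eq_zero.mp ((h0 U hU).1 h1) with h | h
      · left
        rw [← hra, h, map_zero]
      · right
        rw [← hsb, h, map_zero]
    · intro a b j ha hb hj hab
      by_cases hb0 : b = 0
      · exact Or.inr hb0
      left
      have hbn : ¬ IsNilpotent b := fun h =>
        hb0 (hred U hU b (HomogeneousIdeal.mem_irrelevant_of_mem _ hj hb) h)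
      obtain ⟨r, hr⟩ := (h0 U hU).2 ⟨a, ha⟩
      have hra : (𝒮.str.app (op U)).hom r = a := congrArg Subtype.val hr
      haveI := isDominant_away 𝒮 p chart hP hdom U hU hb hj hbn
      have hker := (PrimeSpectrum.denseRange_comap_iff_ker_le_nilRadical
        (f := (𝒮.strZero U hU ≫ CommRingCat.ofHom (HomogeneousLocalization.fromZeroRingHom
          (𝒮.deg U hU) (Submonoid.powers b))).hom)).mp
        (IsDominant.denseRange (f := Spec.map (𝒮.strZero U hU ≫ CommRingCat.ofHom
          (HomogeneousLocalization.fromZeroRingHom (𝒮.deg U hU) (Submonoid.powers b)))))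
      have hmem : r ∈ RingHom.ker (𝒮.strZero U hU ≫ CommRingCat.ofHom
          (HomogeneousLocalization.fromZeroRingHom (𝒮.deg U hU) (Submonoid.powers b))).hom := by
        rw [RingHom.mem_ker]
        show HomogeneousLocalization.fromZeroRingHom (𝒮.deg U hU) (Submonoid.powers b)
          ((𝒮.strZero U hU).hom r) = 0
        rw [hr]
        exact fromZero_eq_zero (𝒮.deg U hU) ha hab
      have hr0 : r = 0 := (mem_nilradical.mp (hker hmem)).eq_zero
      rw [← hra, hr0, map_zero]
  · intro hbot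
    obtain ⟨q⟩ := ‹Nonempty (Proj (𝒮.deg U hU))›
    refine ProjectiveSpectrum.not_irrelevant_le q fun z hz => ?_
    have hz' : z ∈ ((𝒮.deg U hU)₊).toIdeal := hz
    rw [hbot, Ideal.mem_bot] at hz'
    rw [hz']
    exact zero_mem _

end Rel

end Groth.Agent.Helper22.ProjIrr2
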