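import Mathlib

set_option autoImplicit false
set_option maxHeartbeats 400000

universe u

open HomogeneousLocalization AlgebraicGeometry CategoryTheory CategoryTheory.Limits

namespace Groth.Agent.Helper22.ProjTN

section General

variable {R A B : Type u} [CommRing R] [CommRing A] [Algebra R A] [CommRing B] [Algebra R B]
  (𝒜 : ℕ → Submodule R A) [GradedAlgebra 𝒜] (ℬ : ℕ → Submodule R B) [GradedAlgebra ℬ]

theorem away_mk_bump {f : A} {d : ℕ} (hf : f ∈ 𝒜 d) (n j : ℕ) (x : A) (hx : x ∈ 𝒜 (n • d))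
    (hx' : x * f ^ j ∈ 𝒜 ((n + j) • d)) :
    Away.mk 𝒜 hf n x hx = Away.mk 𝒜 hf (n + j) (x * f ^ j) hx' := by
  rw [HomogeneousLocalization.ext_iff_val, Away.val_mk, Away.val_mk, Localization.mk_eq_mk_iff,
    Localization.r_iff_exists]
  refine ⟨1, ?_⟩
  simp only [OneMemClass.coe_one, one_mul]
  ring

theorem away_map_bijective (φ : ℬ →+*ᵍ 𝒜) (n₀ : ℕ)
    (hbij : ∀ n : ℕ, n₀ ≤ n → Set.BijOn φ (ℬ n) (𝒜 n))
    {i : ℕ} (hi : 0 < i) (s : B) (hs : s ∈ ℬ i) :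
    Function.Bijective (Away.map φ s) := by
  have hφs : φ s ∈ 𝒜 i := φ.2 hs
  constructor
  · intro x₁ x₂ h
    obtain ⟨n₁, a₁, ha₁, rfl⟩ := Away.mk_surjective ℬ hs x₁
    obtain ⟨n₂, a₂, ha₂, rfl⟩ := Away.mk_surjective ℬ hs x₂
    rw [Away.map_mk, Away.map_mk, HomogeneousLocalization.ext_iff_val, Away.val_mk, Away.val_mk,
      Localization.mk_eq_mk_iff, Localization.r_iff_exists] at h
    obtain ⟨⟨_, k, rfl⟩, hk⟩ := h
    simp only at hk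
    have h1 : s ^ (k + n₀) * (s ^ n₂ * a₁) ∈ ℬ ((k + n₀) • i + (n₂ • i + n₁ • i)) :=
      SetLike.mul_mem_graded (SetLike.pow_mem_graded (k + n₀) hs)
        (SetLike.mul_mem_graded (SetLike.pow_mem_graded n₂ hs) ha₁)
    have h2 : s ^ (k + n₀) * (s ^ n₁ * a₂) ∈ ℬ ((k + n₀) • i + (n₂ • i + n₁ • i)) := by
      have := SetLike.mul_mem_graded (SetLike.pow_mem_graded (k + n₀) hs)
        (SetLike.mul_mem_graded (SetLike.pow_mem_graded n₁ hs) ha₂)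
      rwa [add_comm (n₁ • i) (n₂ • i)] at this
    have hN : n₀ ≤ (k + n₀) • i + (n₂ • i + n₁ • i) := by
      have h1 : n₀ ≤ (k + n₀) * i :=
        le_trans (Nat.le_add_left n₀ k) (Nat.le_mul_of_pos_right _ hi)
      exact le_trans h1 (Nat.le_add_right _ _)
    have hφeq : φ (s ^ (k + n₀) * (s ^ n₂ * a₁)) = φ (s ^ (k + n₀) * (s ^ n₁ * a₂)) := by
      simp only [map_mul, map_pow, pow_add]
      calc φ s ^ k * φ s ^ n₀ * (φ s ^ n₂ * φ a₁)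
          = φ s ^ n₀ * (φ s ^ k * (φ s ^ n₂ * φ a₁)) := by ring
        _ = φ s ^ n₀ * (φ s ^ k * (φ s ^ n₁ * φ a₂)) := by rw [hk]
        _ = φ s ^ k * φ s ^ n₀ * (φ s ^ n₁ * φ a₂) := by ring
    have hu := (hbij _ hN).injOn h1 h2 hφeq
    rw [HomogeneousLocalization.ext_iff_val, Away.val_mk, Away.val_mk, Localization.mk_eq_mk_iff,
      Localization.r_iff_exists]
    exact ⟨⟨s ^ (k + n₀), k + n₀, rfl⟩, hu⟩
  · intro y
    obtain ⟨n, b, hb, rfl⟩ := Away.mk_surjective 𝒜 hφs y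
    have hb' : b * φ s ^ n₀ ∈ 𝒜 ((n + n₀) • i) := by
      have := SetLike.mul_mem_graded hb (SetLike.pow_mem_graded n₀ hφs)
      rwa [← add_smul] at this
    have hN : n₀ ≤ (n + n₀) • i :=
      le_trans (Nat.le_add_left n₀ n) (Nat.le_mul_of_pos_right _ hi)
    obtain ⟨a, ha, hab⟩ := (hbij _ hN).surjOn hb'
    refine ⟨Away.mk ℬ hs (n + n₀) a ha, ?_⟩
    rw [away_mk_bump 𝒜 hφs n n₀ b hb hb', Away.map_mk, HomogeneousLocalization.ext_iff_val,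
      Away.val_mk, Away.val_mk, hab]

/-- a graded homomorphism bijective in all large degrees induces an isomorphism of `Proj` -/
theorem isIso_map_of_bijOn_ge (φ : ℬ →+*ᵍ 𝒜) (n₀ : ℕ)
    (hbij : ∀ n : ℕ, n₀ ≤ n → Set.BijOn φ (ℬ n) (𝒜 n))
    (hφ : HomogeneousIdeal.irrelevant 𝒜 ≤ (HomogeneousIdeal.irrelevant ℬ).map φ) :
    IsIso (Proj.map φ hφ) := by
  suffices h : (MorphismProperty.isomorphisms Scheme) (Proj.map φ hφ) from h
  apply IsZariskiLocalAtTarget.of_openCover (P := MorphismProperty.isomorphisms Scheme)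
    (Proj.affineOpenCover ℬ).openCover
  intro j
  rw [MorphismProperty.isomorphisms.iff]
  have hb := away_map_bijective 𝒜 ℬ φ n₀ hbij j.1.2 j.2.1 j.2.2
  haveI : IsIso (CommRingCat.ofHom (Away.map φ j.2.1)) :=
    (ConcreteCategory.isIso_iff_bijective (CommRingCat.ofHom (Away.map φ j.2.1))).mpr hb
  have sq := IsOpenImmersion.isPullback (Spec.map (CommRingCat.ofHom (Away.map φ j.2.1)))
    (Proj.awayι 𝒜 (φ j.2.1) (φ.2 j.2.2) j.1.2) (Proj.awayι ℬ j.2.1 j.2.2 j.1.2)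
    (Proj.map φ hφ) (Proj.awayι_comp_map φ hφ j.1.2 j.2.1 j.2.2)
    (by rw [Proj.opensRange_awayι, Proj.opensRange_awayι, Proj.map_preimage_basicOpen])
  have e := sq.flip.isoPullback_inv_snd
  show IsIso (pullback.snd (Proj.map φ hφ) (Proj.awayι ℬ j.2.1 j.2.2 j.1.2))
  rw [← e]
  infer_instance

end General

/-! ### the ring `S♮` and its quotient `T` -/

section Natural

open DirectSum

variable {R A B C : Type u} [CommRing R] [CommRing A] [Algebra R A]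
  (𝒜 : ℕ → Submodule R A) [GradedAlgebra 𝒜] [CommRing B] [Algebra R B]
  (ℬ : ℕ → Submodule R B) [GradedAlgebra ℬ]
  (φ : B →ₐ[R] Polynomial A) (hφ : Function.Injective φ)
  (hdeg : ∀ n : ℕ, Submodule.map φ.toLinearMap (ℬ n) =
    Submodule.map ((Polynomial.monomial n : A →ₗ[A] Polynomial A).restrictScalars R)
      (⨆ (m : ℕ) (_ : n ≤ m), 𝒜 m))
  [CommRing C] [Algebra R C] (𝒞 : ℕ → Submodule R C) [GradedAlgebra 𝒞]
  (π : ℬ →+*ᵍ 𝒞) (hπ : Function.Surjective π)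
  (hker : RingHom.ker π.toRingHom =
    Ideal.span (⇑φ ⁻¹' (⇑(Polynomial.C : A →+* Polynomial A) ''
      ((HomogeneousIdeal.irrelevant 𝒜).toIdeal : Set A))))
  (ρ : 𝒞 →+*ᵍ 𝒜)
  (hρ : ∀ (n : ℕ) (b : B), b ∈ ℬ n → ρ (π b) = GradedRing.proj 𝒜 n ((φ b).coeff n))

include hdeg in
theorem exists_lift (n : ℕ) (a : A) (ha : a ∈ ⨆ (m : ℕ) (_ : n ≤ m), 𝒜 m) :
    ∃ b ∈ ℬ n, φ b = Polynomial.monomial n a := by
  have : Polynomial.monomial n a ∈ Submodule.map φ.toLinearMap (ℬ n) := by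
    rw [hdeg]
    exact Submodule.mem_map_of_mem
      (f := ((Polynomial.monomial n : A →ₗ[A] Polynomial A).restrictScalars R)) ha
  obtain ⟨b, hb, hbe⟩ := Submodule.mem_map.mp this
  exact ⟨b, hb, hbe⟩

include hdeg in
theorem exists_coeff (n : ℕ) (b : B) (hb : b ∈ ℬ n) :
    ∃ a ∈ ⨆ (m : ℕ) (_ : n ≤ m), 𝒜 m, φ b = Polynomial.monomial n a := by
  have : φ.toLinearMap b ∈ Submodule.map φ.toLinearMap (ℬ n) := Submodule.mem_map_of_mem hb
  rw [hdeg] at this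
  obtain ⟨a, ha, hae⟩ := Submodule.mem_map.mp this
  exact ⟨a, ha, hae.symm⟩

include hρ in
theorem rho_pi (n : ℕ) (b : B) (hb : b ∈ ℬ n) (a : A) (h : φ b = Polynomial.monomial n a) :
    ρ (π b) = GradedRing.proj 𝒜 n a := by
  rw [hρ n b hb, h, Polynomial.coeff_monomial_same]

theorem proj_eq_zero_of_mem_sup (n m : ℕ) (hm : m < n) (a : A)
    (ha : a ∈ ⨆ (m' : ℕ) (_ : n ≤ m'), 𝒜 m') : (DirectSum.decompose 𝒜 a m : A) = 0 := by
  have hle : (⨆ (m' : ℕ) (_ : n ≤ m'), 𝒜 m') ≤ LinearMap.ker (GradedAlgebra.proj 𝒜 m) := by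
    refine iSup₂_le fun m' hm' x hx => ?_
    rw [LinearMap.mem_ker, GradedAlgebra.proj_apply]
    exact DirectSum.decompose_of_mem_ne 𝒜 hx (by omega)
  have := hle ha
  rwa [LinearMap.mem_ker, GradedAlgebra.proj_apply] at this

theorem mem_sup_of_mem (n m : ℕ) (hm : n ≤ m) (a : A) (ha : a ∈ 𝒜 m) :
    a ∈ ⨆ (m' : ℕ) (_ : n ≤ m'), 𝒜 m' :=
  Submodule.mem_iSup_of_mem m (Submodule.mem_iSup_of_mem hm ha)

include hdeg hρ in
theorem surjOn (n : ℕ) : Set.SurjOn ρ (𝒞 n) (𝒜 n) := by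
  intro a ha
  obtain ⟨b, hb, hbe⟩ := exists_lift 𝒜 ℬ φ hdeg n a (mem_sup_of_mem 𝒜 n n le_rfl a ha)
  refine ⟨π b, π.2 hb, ?_⟩
  rw [rho_pi 𝒜 ℬ φ 𝒞 π ρ hρ n b hb a hbe, GradedRing.proj_apply,
    DirectSum.decompose_of_mem_same 𝒜 ha]

include hπ in
theorem exists_homog_lift (n : ℕ) (c : C) (hc : c ∈ 𝒞 n) : ∃ b ∈ ℬ n, π b = c := by
  obtain ⟨b₀, rfl⟩ := hπ c
  refine ⟨(DirectSum.decompose ℬ b₀ n : B), SetLike.coe_mem _, ?_⟩
  rw [GradedRingHom.map_directSumDecompose, DirectSum.decompose_of_mem_same 𝒞 hc]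

include hker in
theorem pi_eq_zero_of_C (u : A) (hu : u ∈ HomogeneousIdeal.irrelevant 𝒜) (b₁ : B)
    (h : φ b₁ = Polynomial.C u) : π b₁ = 0 := by
  have : b₁ ∈ RingHom.ker π.toRingHom := by
    rw [hker]
    exact Ideal.subset_span ⟨u, hu, h.symm⟩
  exact this

include hdeg hρ in
theorem rho_surjective : Function.Surjective ρ := by
  intro a
  classical
  have h : ∀ m, ∃ c, ρ c = (DirectSum.decompose 𝒜 a m : A) := fun m => by
    obtain ⟨c, -, hc⟩ := surjOn 𝒜 ℬ φ hdeg 𝒞 π ρ hρ m (SetLike.coe_mem (DirectSum.decompose 𝒜 a m))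
    exact ⟨c, hc⟩
  choose c hc using h
  refine ⟨∑ m ∈ (DirectSum.decompose 𝒜 a).support, c m, ?_⟩
  rw [map_sum]
  simp only [hc]
  exact DirectSum.sum_support_decompose 𝒜 a

include hφ hdeg hπ hker hρ in
theorem eq_zero_of_gen (n₀ : ℕ) (hgen : ∀ n : ℕ, n₀ ≤ n → 𝒜 (n + 1) = 𝒜 1 * 𝒜 n) (n : ℕ)
    (hn : n₀ ≤ n) (c : C) (hc : c ∈ 𝒞 n) (h0 : ρ c = 0) : c = 0 := by
  classical
  obtain ⟨b, hb, rfl⟩ := exists_homog_lift ℬ 𝒞 π hπ n c hc
  obtain ⟨a, ha, hae⟩ := exists_coeff 𝒜 ℬ φ hdeg n b hb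
  have hpa : (DirectSum.decompose 𝒜 a n : A) = 0 := by
    rw [← GradedRing.proj_apply, ← rho_pi 𝒜 ℬ φ 𝒞 π ρ hρ n b hb a hae, h0]
  let K : Submodule R A :=
    Submodule.comap ((Polynomial.monomial n : A →ₗ[A] Polynomial A).restrictScalars R)
      (Submodule.map φ.toLinearMap ((RingHom.ker π.toRingHom).restrictScalars R))
  have fact5 : ∀ m' : ℕ, n ≤ m' → 𝒜 (m' + 1) ≤ K := by
    intro m' hm' x hx
    rw [hgen m' (le_trans hn hm')] at hx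
    refine Submodule.mul_induction_on hx (fun u hu v hv => ?_) (fun x y hx hy => K.add_mem hx hy)
    obtain ⟨b₁, hb₁, e₁⟩ := exists_lift 𝒜 ℬ φ hdeg 0 u (mem_sup_of_mem 𝒜 0 1 (Nat.zero_le 1) u hu)
    obtain ⟨b₂, hb₂, e₂⟩ := exists_lift 𝒜 ℬ φ hdeg n v (mem_sup_of_mem 𝒜 n m' hm' v hv)
    have hu_irr : u ∈ HomogeneousIdeal.irrelevant 𝒜 := by
      rw [HomogeneousIdeal.mem_irrelevant_iff, GradedRing.proj_apply]
      exact DirectSum.decompose_of_mem_ne 𝒜 hu one_ne_zero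
    have hπ1 : π b₁ = 0 :=
      pi_eq_zero_of_C 𝒜 ℬ φ 𝒞 π hker u hu_irr b₁ (by rw [e₁, Polynomial.monomial_zero_left])
    show u * v ∈ K
    rw [Submodule.mem_comap, Submodule.mem_map]
    refine ⟨b₁ * b₂, ?_, ?_⟩
    · show b₁ * b₂ ∈ RingHom.ker π.toRingHom
      rw [RingHom.mem_ker]
      show π (b₁ * b₂) = 0
      rw [map_mul, hπ1, zero_mul]
    · show φ (b₁ * b₂) = Polynomial.monomial n (u * v)
      rw [map_mul, e₁, e₂, Polynomial.monomial_zero_left, Polynomial.C_mul_monomial]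
  have haK : a ∈ K := by
    rw [← DirectSum.sum_support_decompose 𝒜 a]
    refine K.sum_mem fun m _ => ?_
    rcases lt_trichotomy m n with hlt | heq | hgt
    · rw [proj_eq_zero_of_mem_sup 𝒜 n m hlt a ha]
      exact K.zero_mem
    · rw [heq, hpa]
      exact K.zero_mem
    · obtain ⟨m', rfl⟩ : ∃ m', m = m' + 1 := ⟨m - 1, by omega⟩
      exact fact5 m' (by omega) (SetLike.coe_mem _)
  rw [Submodule.mem_comap, Submodule.mem_map] at haK
  obtain ⟨b', hb'ker, hb'e⟩ := haK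
  have hbb : b' = b := hφ (by
    show φ b' = φ b
    rw [hae]
    exact hb'e)
  rw [← hbb]
  exact hb'ker

include hφ hdeg hπ hker hρ in
theorem pow_eq_zero_of_homog (n : ℕ) (c : C) (hc : c ∈ 𝒞 n) (h0 : ρ c = 0) : c ^ (n + 1) = 0 := by
  classical
  obtain ⟨b, hb, rfl⟩ := exists_homog_lift ℬ 𝒞 π hπ n c hc
  obtain ⟨a, ha, hae⟩ := exists_coeff 𝒜 ℬ φ hdeg n b hb
  have hpa : (DirectSum.decompose 𝒜 a n : A) = 0 := by
    rw [← GradedRing.proj_apply, ← rho_pi 𝒜 ℬ φ 𝒞 π ρ hρ n b hb a hae, h0]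
  have ha' : a ∈ ⨆ (m : ℕ) (_ : n + 1 ≤ m), 𝒜 m := by
    rw [← DirectSum.sum_support_decompose 𝒜 a]
    refine Submodule.sum_mem _ fun m _ => ?_
    rcases lt_trichotomy m n with hlt | heq | hgt
    · rw [proj_eq_zero_of_mem_sup 𝒜 n m hlt a ha]
      exact Submodule.zero_mem _
    · rw [heq, hpa]
      exact Submodule.zero_mem _
    · exact mem_sup_of_mem 𝒜 (n + 1) m hgt _ (SetLike.coe_mem _)
  have ha0 : a ∈ ⨆ (m : ℕ) (_ : 0 ≤ m), 𝒜 m := by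
    have hle : (⨆ (m : ℕ) (_ : n ≤ m), 𝒜 m) ≤ ⨆ (m : ℕ) (_ : 0 ≤ m), 𝒜 m :=
      iSup₂_le fun m _ => le_iSup₂_of_le m (Nat.zero_le m) le_rfl
    exact hle ha
  have ha_irr : a ∈ HomogeneousIdeal.irrelevant 𝒜 := by
    rw [HomogeneousIdeal.mem_irrelevant_iff, GradedRing.proj_apply]
    exact proj_eq_zero_of_mem_sup 𝒜 (n + 1) 0 (Nat.succ_pos n) a ha'
  obtain ⟨b₁, hb₁, e₁⟩ := exists_lift 𝒜 ℬ φ hdeg 0 a ha0
  obtain ⟨b', hb', e'⟩ := exists_lift 𝒜 ℬ φ hdeg (n + 1) a ha'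
  have hπ1 : π b₁ = 0 :=
    pi_eq_zero_of_C 𝒜 ℬ φ 𝒞 π hker a ha_irr b₁ (by rw [e₁, Polynomial.monomial_zero_left])
  have hbb : b ^ (n + 1) = b₁ * b' ^ n := hφ (by
    show φ (b ^ (n + 1)) = φ (b₁ * b' ^ n)
    rw [map_pow, map_mul, map_pow, hae, e₁, e', Polynomial.monomial_pow, Polynomial.monomial_pow,
      Polynomial.monomial_zero_left, Polynomial.C_mul_monomial, Nat.mul_comm (n + 1) n,
      ← pow_succ'])
  rw [← map_pow, hbb, map_mul, hπ1, zero_mul]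

include hφ hdeg hπ hker hρ in
theorem isNilpotent_of_rho_eq_zero (c : C) (h : ρ c = 0) : IsNilpotent c := by
  classical
  rw [← mem_nilradical, ← DirectSum.sum_support_decompose 𝒞 c]
  refine (nilradical C).sum_mem fun n _ => ?_
  rw [mem_nilradical]
  refine ⟨n + 1, pow_eq_zero_of_homog 𝒜 ℬ φ hφ hdeg 𝒞 π hπ hker ρ hρ n _ (SetLike.coe_mem _) ?_⟩
  rw [GradedRingHom.map_directSumDecompose, h, DirectSum.decompose_zero]
  rfl

end Natural

end Groth.Agent.Helper22.ProjTN
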