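import Mathlib
import Groth.Prelude.Def_RDerDelta

set_option autoImplicit false

/-! helper22: comparison of injective resolutions of short exact sequences (for `RDer`). -/

universe v u v' u'

open CategoryTheory CategoryTheory.Limits

namespace Groth.Agent.Helper22.RDerMid

variable {C : Type u} [Category.{v} C] [Abelian C]

/-- uniform extension along `d n (n+1)` in an injective resolution -/
lemma exists_ext {X : C} (I : InjectiveResolution X) (n : ℕ) (J : C) [Injective J]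
    (h : I.cocomplex.X n ⟶ J)
    (h1 : ∀ m, I.cocomplex.d m n ≫ h = 0) (h2 : I.ι.f n ≫ h = 0) :
    ∃ θ : I.cocomplex.X (n + 1) ⟶ J, I.cocomplex.d n (n + 1) ≫ θ = h := by
  cases n with
  | zero =>
    exact ⟨I.exact₀.descToInjective h h2, I.exact₀.comp_descToInjective h h2⟩
  | succ m =>
    exact ⟨(I.exact_succ m).descToInjective h (h1 m),
      (I.exact_succ m).comp_descToInjective h (h1 m)⟩

/-- abstract degree-by-degree construction of the middle map -/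
theorem exists_mid
    {K₁ K₂ K₃ L₁ L₂ L₃ : CochainComplex C ℕ}
    (f : K₁ ⟶ K₂) (g : K₂ ⟶ K₃) (f' : L₁ ⟶ L₂) (g' : L₂ ⟶ L₃)
    (a₁ : K₁ ⟶ L₁) (a₃ : K₃ ⟶ L₃)
    (r : ∀ n, K₂.X n ⟶ K₁.X n) (s : ∀ n, K₃.X n ⟶ K₂.X n)
    (hfr : ∀ n, f.f n ≫ r n = 𝟙 _) (hsg : ∀ n, s n ≫ g.f n = 𝟙 _)
    (hid : ∀ n, r n ≫ f.f n + g.f n ≫ s n = 𝟙 _)
    (hfg : ∀ n, f.f n ≫ g.f n = 0)
    (r' : ∀ n, L₂.X n ⟶ L₁.X n) (s' : ∀ n, L₃.X n ⟶ L₂.X n)
    (hfr' : ∀ n, f'.f n ≫ r' n = 𝟙 _) (hsg' : ∀ n, s' n ≫ g'.f n = 𝟙 _)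
    (hid' : ∀ n, r' n ≫ f'.f n + g'.f n ≫ s' n = 𝟙 _)
    (hfg' : ∀ n, f'.f n ≫ g'.f n = 0)
    (hinj : ∀ n, Injective (L₁.X n))
    (Y₂ Y₃ : ℕ → C) (σ : ∀ n, Y₂ n ⟶ Y₃ n) (hσ : ∀ n, Epi (σ n))
    (u₂ : ∀ n, Y₂ n ⟶ K₂.X n) (u₃ : ∀ n, Y₃ n ⟶ K₃.X n)
    (hu : ∀ n, u₂ n ≫ g.f n = σ n ≫ u₃ n)
    (hu₂d : ∀ n, u₂ n ≫ K₂.d n (n + 1) = 0) (hu₂s : ∀ n, u₂ (n + 1) = 0)
    (hext : ∀ (n : ℕ) (J : C) [Injective J] (h : K₃.X n ⟶ J),
      (∀ m, K₃.d m n ≫ h = 0) → u₃ n ≫ h = 0 →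
      ∃ θ : K₃.X (n + 1) ⟶ J, K₃.d n (n + 1) ≫ θ = h)
    (p₀ : K₂.X 0 ⟶ L₂.X 0) (h0i : f.f 0 ≫ p₀ = a₁.f 0 ≫ f'.f 0)
    (h0ii : p₀ ≫ g'.f 0 = g.f 0 ≫ a₃.f 0)
    (h0v : u₂ 0 ≫ p₀ ≫ L₂.d 0 1 = 0) :
    ∃ a₂ : K₂ ⟶ L₂, a₂.f 0 = p₀ ∧ f ≫ a₂ = a₁ ≫ f' ∧ a₂ ≫ g' = g ≫ a₃ := by
  classical
  let P : ∀ n : ℕ, (K₂.X n ⟶ L₂.X n) → Prop := fun n p =>
    f.f n ≫ p = a₁.f n ≫ f'.f n ∧ p ≫ g'.f n = g.f n ≫ a₃.f n ∧
      (∀ m, K₂.d m n ≫ p ≫ L₂.d n (n + 1) = 0) ∧ u₂ n ≫ p ≫ L₂.d n (n + 1) = 0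
  have step : ∀ (n : ℕ) (p : K₂.X n ⟶ L₂.X n), P n p →
      ∃ q : K₂.X (n + 1) ⟶ L₂.X (n + 1), P (n + 1) q ∧
        K₂.d n (n + 1) ≫ q = p ≫ L₂.d n (n + 1) := by
    rintro n p ⟨hi, hii, hiv, hv⟩
    obtain ⟨b, hb⟩ : ∃ b : K₂.X (n + 1) ⟶ L₂.X (n + 1),
        b = r (n + 1) ≫ a₁.f (n + 1) ≫ f'.f (n + 1) + g.f (n + 1) ≫ a₃.f (n + 1) ≫ s' (n + 1) :=
      ⟨_, rfl⟩
    have hfb : f.f (n + 1) ≫ b = a₁.f (n + 1) ≫ f'.f (n + 1) := by
      rw [hb, Preadditive.comp_add, reassoc_of% (hfr (n + 1)), reassoc_of% (hfg (n + 1)),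
        zero_comp, add_zero]
    have hbg : b ≫ g'.f (n + 1) = g.f (n + 1) ≫ a₃.f (n + 1) := by
      rw [hb, Preadditive.add_comp]
      simp only [Category.assoc]
      rw [hfg' (n + 1), hsg' (n + 1)]
      simp
    obtain ⟨ε, hε⟩ : ∃ ε : K₂.X n ⟶ L₂.X (n + 1),
        ε = p ≫ L₂.d n (n + 1) - K₂.d n (n + 1) ≫ b := ⟨_, rfl⟩
    have hfε : f.f n ≫ ε = 0 := by
      rw [hε, Preadditive.comp_sub, sub_eq_zero, reassoc_of% hi, f'.comm, f.comm_assoc, hfb,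
        a₁.comm_assoc]
    have hεg : ε ≫ g'.f (n + 1) = 0 := by
      rw [hε, Preadditive.sub_comp, sub_eq_zero]
      simp only [Category.assoc]
      rw [hbg, ← g'.comm, reassoc_of% hii, ← g.comm_assoc, a₃.comm]
    have hεdec : g.f n ≫ s n ≫ ε ≫ r' (n + 1) ≫ f'.f (n + 1) = ε := by
      have h1 : ε ≫ r' (n + 1) ≫ f'.f (n + 1) = ε := by
        have := congrArg (fun t => ε ≫ t) (hid' (n + 1))
        simp only [Preadditive.comp_add, reassoc_of% hεg, zero_comp, add_zero,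
          Category.comp_id] at this
        exact this
      have h2 : g.f n ≫ s n ≫ ε = ε := by
        have := congrArg (fun t => t ≫ ε) (hid n)
        simp only [Preadditive.add_comp, Category.assoc, hfε, comp_zero, zero_add,
          Category.id_comp] at this
        exact this
      rw [h1, h2]
    have hm : Mono (f'.f (n + 1)) := by
      have : Mono (f'.f (n + 1) ≫ r' (n + 1)) := by rw [hfr']; infer_instance
      exact mono_of_mono _ (r' (n + 1))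
    have hC1 : ∀ m, K₃.d m n ≫ (s n ≫ ε ≫ r' (n + 1)) = 0 := by
      intro m
      have he : Epi (g.f m) := by
        have : Epi (s m ≫ g.f m) := by rw [hsg]; infer_instance
        exact epi_of_epi (s m) _
      rw [← cancel_epi (g.f m), ← cancel_mono (f'.f (n + 1))]
      simp only [Category.assoc, comp_zero, zero_comp]
      rw [g.comm_assoc, hεdec, hε, Preadditive.comp_sub, hiv m,
        HomologicalComplex.d_comp_d_assoc, zero_comp, sub_zero]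
    have hC2 : u₃ n ≫ (s n ≫ ε ≫ r' (n + 1)) = 0 := by
      have := hσ n
      rw [← cancel_epi (σ n), ← cancel_mono (f'.f (n + 1))]
      simp only [Category.assoc, comp_zero, zero_comp]
      rw [← reassoc_of% (hu n), hεdec, hε, Preadditive.comp_sub, hv, reassoc_of% (hu₂d n),
        zero_comp, sub_zero]
    obtain ⟨θ, hθ⟩ := hext n (L₁.X (n + 1)) (s n ≫ ε ≫ r' (n + 1)) hC1 hC2
    have hiii : K₂.d n (n + 1) ≫ (b + g.f (n + 1) ≫ θ ≫ f'.f (n + 1)) =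
        p ≫ L₂.d n (n + 1) := by
      rw [Preadditive.comp_add, ← g.comm_assoc, reassoc_of% hθ]
      rw [hεdec, hε]
      abel
    refine ⟨b + g.f (n + 1) ≫ θ ≫ f'.f (n + 1), ⟨?_, ?_, ?_, ?_⟩, hiii⟩
    · rw [Preadditive.comp_add, hfb, reassoc_of% (hfg (n + 1)), zero_comp, add_zero]
    · rw [Preadditive.add_comp, hbg]
      simp only [Category.assoc]
      rw [hfg' (n + 1), comp_zero, comp_zero, add_zero]
    · intro m
      by_cases hm' : (ComplexShape.up ℕ).Rel m (n + 1)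
      · have hmn : m = n := by
          have : m + 1 = n + 1 := hm'
          omega
        subst hmn
        rw [reassoc_of% hiii, HomologicalComplex.d_comp_d, comp_zero]
      · rw [K₂.shape _ _ hm', zero_comp]
    · rw [hu₂s n, zero_comp]
  have hP0 : P 0 p₀ := by
    refine ⟨h0i, h0ii, ?_, h0v⟩
    intro m
    rw [K₂.shape _ _ (by simp), zero_comp]
  let seq : ∀ n, {p : K₂.X n ⟶ L₂.X n // P n p} := fun n =>
    Nat.rec (motive := fun n => {p : K₂.X n ⟶ L₂.X n // P n p}) ⟨p₀, hP0⟩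
      (fun n ih => ⟨(step n ih.1 ih.2).choose, (step n ih.1 ih.2).choose_spec.1⟩) n
  have hseq0 : (seq 0).1 = p₀ := rfl
  have hseqS : ∀ n, K₂.d n (n + 1) ≫ (seq (n + 1)).1 = (seq n).1 ≫ L₂.d n (n + 1) :=
    fun n => (step n (seq n).1 (seq n).2).choose_spec.2
  refine ⟨{ f := fun n => (seq n).1
            comm' := ?_ }, hseq0, ?_, ?_⟩
  · intro i j hij
    have : i + 1 = j := hij
    subst this
    exact (hseqS i).symm
  · ext n
    exact (seq n).2.1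
  · ext n
    exact (seq n).2.2.1


/-- abstract degree-zero step -/
lemma exists_base {S : ShortComplex C} (hS : S.ShortExact)
    {A₁ A₂ A₃ B₁ B₂ B₃ : C}
    (u₁ : S.X₁ ⟶ A₁) (u₂ : S.X₂ ⟶ A₂) (u₃ : S.X₃ ⟶ A₃) [Mono u₃]
    (f : A₁ ⟶ A₂) (g : A₂ ⟶ A₃) (f' : B₁ ⟶ B₂) (g' : B₂ ⟶ B₃)
    (r : A₂ ⟶ A₁) (s : A₃ ⟶ A₂) (hfr : f ≫ r = 𝟙 _) (hsg : s ≫ g = 𝟙 _)
    (hid : r ≫ f + g ≫ s = 𝟙 _) (hfg : f ≫ g = 0)
    (r' : B₂ ⟶ B₁) (s' : B₃ ⟶ B₂) (hfr' : f' ≫ r' = 𝟙 _) (hsg' : s' ≫ g' = 𝟙 _)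
    (hid' : r' ≫ f' + g' ≫ s' = 𝟙 _) (hfg' : f' ≫ g' = 0)
    [Injective B₁]
    (a₁ : A₁ ⟶ B₁) (a₃ : A₃ ⟶ B₃) (w : S.X₂ ⟶ B₂)
    (h1 : u₁ ≫ f = S.f ≫ u₂) (h3 : u₂ ≫ g = S.g ≫ u₃)
    (hw1 : S.f ≫ w = u₁ ≫ a₁ ≫ f') (hw3 : w ≫ g' = S.g ≫ u₃ ≫ a₃) :
    ∃ p : A₂ ⟶ B₂, f ≫ p = a₁ ≫ f' ∧ p ≫ g' = g ≫ a₃ ∧ u₂ ≫ p = w := by
  have := hS.epi_g
  obtain ⟨b, hb⟩ : ∃ b : A₂ ⟶ B₂, b = r ≫ a₁ ≫ f' + g ≫ a₃ ≫ s' := ⟨_, rfl⟩
  have hfb : f ≫ b = a₁ ≫ f' := by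
    rw [hb, Preadditive.comp_add, reassoc_of% hfr, reassoc_of% hfg, zero_comp, add_zero]
  have hbg : b ≫ g' = g ≫ a₃ := by
    rw [hb, Preadditive.add_comp]
    simp only [Category.assoc]
    rw [hfg', hsg']
    simp
  obtain ⟨ε, hε⟩ : ∃ ε : S.X₂ ⟶ B₂, ε = w - u₂ ≫ b := ⟨_, rfl⟩
  have hfε : S.f ≫ ε = 0 := by
    rw [hε, Preadditive.comp_sub, sub_eq_zero, hw1, ← reassoc_of% h1, hfb]
  have hεg : ε ≫ g' = 0 := by
    rw [hε, Preadditive.sub_comp, sub_eq_zero, hw3, Category.assoc, hbg, reassoc_of% h3]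
  obtain ⟨e, he⟩ : ∃ e : S.X₃ ⟶ B₂, S.g ≫ e = ε :=
    ⟨hS.exact.desc ε hfε, hS.exact.g_desc ε hfε⟩
  have heg : e ≫ g' = 0 := by rw [← cancel_epi S.g, reassoc_of% he, hεg, comp_zero]
  have he' : e ≫ r' ≫ f' = e := by
    have := congrArg (fun t => e ≫ t) hid'
    simp only [Preadditive.comp_add, reassoc_of% heg, zero_comp, add_zero,
      Category.comp_id] at this
    exact this
  obtain ⟨θ, hθ⟩ : ∃ θ : A₃ ⟶ B₁, u₃ ≫ θ = e ≫ r' :=
    ⟨Injective.factorThru (e ≫ r') u₃, Injective.comp_factorThru _ _⟩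
  refine ⟨b + g ≫ θ ≫ f', ?_, ?_, ?_⟩
  · rw [Preadditive.comp_add, hfb, reassoc_of% hfg, zero_comp, add_zero]
  · rw [Preadditive.add_comp, hbg]
    simp only [Category.assoc]
    rw [hfg', comp_zero, comp_zero, add_zero]
  · rw [Preadditive.comp_add, reassoc_of% h3, reassoc_of% hθ, he', he, hε]
    abel

section Aug

set_option backward.isDefEq.respectTransparency false in
/-- the augmentation as a morphism out of the object itself -/
def aug {X : C} (I : InjectiveResolution X) : X ⟶ I.cocomplex.X 0 := I.ι.f 0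

set_option backward.isDefEq.respectTransparency false in
lemma aug_d {X : C} (I : InjectiveResolution X) : aug I ≫ I.cocomplex.d 0 1 = 0 :=
  I.ι_f_zero_comp_complex_d

set_option backward.isDefEq.respectTransparency false in
instance {X : C} (I : InjectiveResolution X) : Mono (aug I) :=
  inferInstanceAs (Mono (I.ι.f 0))

set_option backward.isDefEq.respectTransparency false in
lemma aug_exact {X : C} (I : InjectiveResolution X) :
    (ShortComplex.mk (aug I) (I.cocomplex.d 0 1) (aug_d I)).Exact :=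
  I.exact₀

set_option backward.isDefEq.respectTransparency false in
lemma ι_comp_eq_zero {X : C} (I : InjectiveResolution X) {J : C} (k : I.cocomplex.X 0 ⟶ J)
    (h : aug I ≫ k = 0) : I.ι.f 0 ≫ k = 0 := h

set_option backward.isDefEq.respectTransparency false in
lemma aug_desc {X Y : C} (f : X ⟶ Y) (I : InjectiveResolution Y) (J : InjectiveResolution X) :
    aug J ≫ (InjectiveResolution.desc f I J).f 0 = f ≫ aug I :=
  InjectiveResolution.desc_commutes_zero f I J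

set_option backward.isDefEq.respectTransparency false in
lemma comm_of_aug {X Y : C} (f : X ⟶ Y) (I : InjectiveResolution X) (J : InjectiveResolution Y)
    (a : I.cocomplex ⟶ J.cocomplex) (h : aug I ≫ a.f 0 = f ≫ aug J) :
    I.ι.f 0 ≫ a.f 0 = f ≫ J.ι.f 0 := h

variable {S : ShortComplex C}

set_option backward.isDefEq.respectTransparency false in
lemma aug_f (T : RDer.SESRes S) : aug T.I₁ ≫ T.f.f 0 = S.f ≫ aug T.I₂ :=
  (HomologicalComplex.congr_hom T.ι_f 0).trans (by simp [aug])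

set_option backward.isDefEq.respectTransparency false in
lemma aug_g (T : RDer.SESRes S) : aug T.I₂ ≫ T.g.f 0 = S.g ≫ aug T.I₃ :=
  (HomologicalComplex.congr_hom T.ι_g 0).trans (by simp [aug])

end Aug

section Concrete

variable {S S' : ShortComplex C}

lemma f_g_f (T : RDer.SESRes S) (n : ℕ) : T.f.f n ≫ T.g.f n = 0 := by
  rw [← HomologicalComplex.comp_f, T.zero, HomologicalComplex.zero_f]

/-- existence of a morphism of resolutions of short exact sequences over `φ` -/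
theorem exists_map (φ : S ⟶ S') (hS : S.ShortExact) (T : RDer.SESRes S) (T' : RDer.SESRes S') :
    ∃ (a₁ : T.I₁.cocomplex ⟶ T'.I₁.cocomplex) (a₂ : T.I₂.cocomplex ⟶ T'.I₂.cocomplex)
      (a₃ : T.I₃.cocomplex ⟶ T'.I₃.cocomplex),
      T.f ≫ a₂ = a₁ ≫ T'.f ∧ a₂ ≫ T'.g = T.g ≫ a₃ ∧
      aug T.I₁ ≫ a₁.f 0 = φ.τ₁ ≫ aug T'.I₁ ∧
      aug T.I₃ ≫ a₃.f 0 = φ.τ₃ ≫ aug T'.I₃ := by
  obtain ⟨a₁, ha₁⟩ : ∃ a₁ : T.I₁.cocomplex ⟶ T'.I₁.cocomplex,
      aug T.I₁ ≫ a₁.f 0 = φ.τ₁ ≫ aug T'.I₁ :=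
    ⟨InjectiveResolution.desc φ.τ₁ T'.I₁ T.I₁, aug_desc _ _ _⟩
  obtain ⟨a₃, ha₃⟩ : ∃ a₃ : T.I₃.cocomplex ⟶ T'.I₃.cocomplex,
      aug T.I₃ ≫ a₃.f 0 = φ.τ₃ ≫ aug T'.I₃ :=
    ⟨InjectiveResolution.desc φ.τ₃ T'.I₃ T.I₃, aug_desc _ _ _⟩
  have hinj : Injective (T'.I₁.cocomplex.X 0) := inferInstance
  obtain ⟨p₀, hp1, hp2, hp3⟩ := exists_base hS (aug T.I₁) (aug T.I₂) (aug T.I₃)
    (T.f.f 0) (T.g.f 0) (T'.f.f 0) (T'.g.f 0)
    (T.splitting 0).r (T.splitting 0).s (T.splitting 0).f_r (T.splitting 0).s_g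
    (T.splitting 0).id (f_g_f T 0)
    (T'.splitting 0).r (T'.splitting 0).s (T'.splitting 0).f_r (T'.splitting 0).s_g
    (T'.splitting 0).id (f_g_f T' 0)
    (a₁.f 0) (a₃.f 0) (φ.τ₂ ≫ aug T'.I₂) (aug_f T) (aug_g T)
    (by rw [← reassoc_of% φ.comm₁₂, ← aug_f T', ← reassoc_of% ha₁])
    (by rw [Category.assoc, aug_g T', reassoc_of% φ.comm₂₃, ← ha₃])
  have hS_epi := hS.epi_g
  obtain ⟨a₂, -, h12, h23⟩ := exists_mid T.f T.g T'.f T'.g a₁ a₃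
    (fun n => (T.splitting n).r) (fun n => (T.splitting n).s)
    (fun n => (T.splitting n).f_r) (fun n => (T.splitting n).s_g)
    (fun n => (T.splitting n).id) (f_g_f T)
    (fun n => (T'.splitting n).r) (fun n => (T'.splitting n).s)
    (fun n => (T'.splitting n).f_r) (fun n => (T'.splitting n).s_g)
    (fun n => (T'.splitting n).id) (f_g_f T')
    (fun n => inferInstance)
    (fun n => ((CochainComplex.single₀ C).obj S.X₂).X n)
    (fun n => ((CochainComplex.single₀ C).obj S.X₃).X n)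
    (fun n => ((CochainComplex.single₀ C).map S.g).f n)
    (by
      intro n
      cases n with
      | zero =>
        rw [HomologicalComplex.single_map_f_self]
        infer_instance
      | succ m =>
        exact (HomologicalComplex.isZero_single_obj_X _ _ _ _ (by simp)).epi _)
    (fun n => T.I₂.ι.f n) (fun n => T.I₃.ι.f n)
    (fun n => HomologicalComplex.congr_hom T.ι_g n)
    (by
      intro n
      rw [T.I₂.ι.comm n (n + 1), HomologicalComplex.single_obj_d, zero_comp])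
    (fun n => T.I₂.ι_f_succ n)
    (fun n J _ h h1 h2 => exists_ext T.I₃ n J h h1 h2)
    p₀ hp1 hp2
    (by
      apply ι_comp_eq_zero
      rw [reassoc_of% hp3, aug_d, comp_zero])
  exact ⟨a₁, a₂, a₃, h12, h23, ha₁, ha₃⟩


/-- abstract form: a resolution of a short complex forces it to be short exact -/
lemma shortExact_abstract {S : ShortComplex C}
    {A₁ A₂ A₃ B₁ B₂ B₃ E₁ E₂ : C}
    (u₁ : S.X₁ ⟶ A₁) (u₂ : S.X₂ ⟶ A₂) (u₃ : S.X₃ ⟶ A₃) [Mono u₁] [Mono u₂] [Mono u₃]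
    (f0 : A₁ ⟶ A₂) (g0 : A₂ ⟶ A₃) (f1 : B₁ ⟶ B₂) (g1 : B₂ ⟶ B₃) (f2 : E₁ ⟶ E₂)
    (hf2 : Mono f2)
    (d₁ : A₁ ⟶ B₁) (d₂ : A₂ ⟶ B₂) (d₃ : A₃ ⟶ B₃) (d₁' : B₁ ⟶ E₁) (d₂' : B₂ ⟶ E₂)
    (r0 : A₂ ⟶ A₁) (s0 : A₃ ⟶ A₂) (hfr0 : f0 ≫ r0 = 𝟙 _) (hsg0 : s0 ≫ g0 = 𝟙 _)
    (hid0 : r0 ≫ f0 + g0 ≫ s0 = 𝟙 _) (hfg0 : f0 ≫ g0 = 0)
    (r1 : B₂ ⟶ B₁) (s1 : B₃ ⟶ B₂) (hfr1 : f1 ≫ r1 = 𝟙 _)
    (hid1 : r1 ≫ f1 + g1 ≫ s1 = 𝟙 _)
    (hu₁ : u₁ ≫ d₁ = 0) (hu₂ : u₂ ≫ d₂ = 0) (hu₃ : u₃ ≫ d₃ = 0) (hd₁ : d₁ ≫ d₁' = 0)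
    (ex₁ : (ShortComplex.mk u₁ d₁ hu₁).Exact) (ex₂ : (ShortComplex.mk u₂ d₂ hu₂).Exact)
    (ex₁' : (ShortComplex.mk d₁ d₁' hd₁).Exact)
    (c1 : f0 ≫ d₂ = d₁ ≫ f1) (c2 : g0 ≫ d₃ = d₂ ≫ g1) (c3 : f1 ≫ d₂' = d₁' ≫ f2)
    (hd₂ : d₂ ≫ d₂' = 0)
    (h1 : u₁ ≫ f0 = S.f ≫ u₂) (h3 : u₂ ≫ g0 = S.g ≫ u₃) :
    S.ShortExact := by
  have hmf0 : Mono f0 := by
    have : Mono (f0 ≫ r0) := by rw [hfr0]; infer_instance
    exact mono_of_mono _ r0
  have hmf1 : Mono f1 := by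
    have : Mono (f1 ≫ r1) := by rw [hfr1]; infer_instance
    exact mono_of_mono _ r1
  have hmono : Mono S.f := by
    have : Mono (S.f ≫ u₂) := by rw [← h1]; exact mono_comp _ _
    exact mono_of_mono _ u₂
  have hexact : S.Exact := by
    rw [ShortComplex.exact_iff_exact_up_to_refinements]
    intro A x₂ hx₂
    obtain ⟨y, hy⟩ : ∃ y : A ⟶ A₂, y = x₂ ≫ u₂ := ⟨_, rfl⟩
    have hyg : y ≫ g0 = 0 := by rw [hy, Category.assoc, h3, reassoc_of% hx₂, zero_comp]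
    have hyd : y ≫ d₂ = 0 := by rw [hy, Category.assoc, hu₂, comp_zero]
    obtain ⟨w, hw⟩ : ∃ w : A ⟶ A₁, w ≫ f0 = y := by
      refine ⟨y ≫ r0, ?_⟩
      have := congrArg (fun t => y ≫ t) hid0
      simp only [Preadditive.comp_add, reassoc_of% hyg, zero_comp, add_zero,
        Category.comp_id] at this
      rw [Category.assoc]
      exact this
    have hwd : w ≫ d₁ = 0 := by
      rw [← cancel_mono f1, Category.assoc, ← c1, reassoc_of% hw, hyd, zero_comp]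
    obtain ⟨x₁, hx₁⟩ : ∃ x₁ : A ⟶ S.X₁, x₁ ≫ u₁ = w := ⟨ex₁.lift w hwd, ex₁.lift_f w hwd⟩
    refine ⟨A, 𝟙 A, inferInstance, x₁, ?_⟩
    rw [Category.id_comp, ← cancel_mono u₂, Category.assoc, ← h1, reassoc_of% hx₁, hw, hy]
  have hepi : Epi S.g := by
    rw [epi_iff_surjective_up_to_refinements]
    intro A x₃
    obtain ⟨y, hy⟩ : ∃ y : A ⟶ A₂, y ≫ g0 = x₃ ≫ u₃ :=
      ⟨x₃ ≫ u₃ ≫ s0, by simp only [Category.assoc, hsg0, Category.comp_id]⟩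
    obtain ⟨t, ht⟩ : ∃ t : A ⟶ B₂, t = y ≫ d₂ := ⟨_, rfl⟩
    have htg : t ≫ g1 = 0 := by
      rw [ht, Category.assoc, ← c2, reassoc_of% hy, hu₃, comp_zero]
    have htd : t ≫ d₂' = 0 := by rw [ht, Category.assoc, hd₂, comp_zero]
    obtain ⟨z, hz⟩ : ∃ z : A ⟶ B₁, z ≫ f1 = t := by
      refine ⟨t ≫ r1, ?_⟩
      have := congrArg (fun s => t ≫ s) hid1
      simp only [Preadditive.comp_add, reassoc_of% htg, zero_comp, add_zero,
        Category.comp_id] at this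
      rw [Category.assoc]
      exact this
    have hzd : z ≫ d₁' = 0 := by
      rw [← cancel_mono f2, Category.assoc, ← c3, reassoc_of% hz, htd, zero_comp]
    obtain ⟨A', π, hπ, w, hw⟩ := ex₁'.exact_up_to_refinements z hzd
    dsimp at w hw
    obtain ⟨y', hy'⟩ : ∃ y' : A' ⟶ A₂, y' = π ≫ y - w ≫ f0 := ⟨_, rfl⟩
    have hy'd : y' ≫ d₂ = 0 := by
      rw [hy', Preadditive.sub_comp, Category.assoc, Category.assoc, c1, ← reassoc_of% hw, hz,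
        ← ht, sub_self]
    have hy'g : y' ≫ g0 = π ≫ x₃ ≫ u₃ := by
      rw [hy', Preadditive.sub_comp, Category.assoc, Category.assoc, hfg0, comp_zero, sub_zero,
        hy]
    obtain ⟨x₂, hx₂⟩ : ∃ x₂ : A' ⟶ S.X₂, x₂ ≫ u₂ = y' :=
      ⟨ex₂.lift y' hy'd, ex₂.lift_f y' hy'd⟩
    refine ⟨A', π, hπ, x₂, ?_⟩
    rw [← cancel_mono u₃, Category.assoc, Category.assoc, ← h3, reassoc_of% hx₂, hy'g]
  exact { exact := hexact, mono_f := hmono, epi_g := hepi }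

theorem shortExact_of_sesRes (T : RDer.SESRes S) : S.ShortExact := by
  have hm : Mono T.f := T.shortExact.mono_f
  exact shortExact_abstract (aug T.I₁) (aug T.I₂) (aug T.I₃)
    (T.f.f 0) (T.g.f 0) (T.f.f 1) (T.g.f 1) (T.f.f 2) inferInstance
    (T.I₁.cocomplex.d 0 1) (T.I₂.cocomplex.d 0 1) (T.I₃.cocomplex.d 0 1)
    (T.I₁.cocomplex.d 1 2) (T.I₂.cocomplex.d 1 2)
    (T.splitting 0).r (T.splitting 0).s (T.splitting 0).f_r (T.splitting 0).s_g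
    (T.splitting 0).id (f_g_f T 0)
    (T.splitting 1).r (T.splitting 1).s (T.splitting 1).f_r (T.splitting 1).id
    (aug_d _) (aug_d _) (aug_d _) (T.I₁.cocomplex.d_comp_d 0 1 2)
    (aug_exact _) (aug_exact _) (T.I₁.exact_succ 0)
    (T.f.comm 0 1) (T.g.comm 0 1) (T.f.comm 1 2) (T.I₂.cocomplex.d_comp_d 0 1 2)
    (aug_f T) (aug_g T)

section Delta

variable [HasInjectiveResolutions C] {D : Type u'} [Category.{v'} D] [Abelian D]

/-- naturality of the connecting morphisms computed from resolutions -/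
theorem delta_natural (φ : S ⟶ S') (hS : S.ShortExact) (T : RDer.SESRes S) (T' : RDer.SESRes S')
    (F : C ⥤ D) [F.Additive] (n₀ n₁ : ℕ) (h : n₀ + 1 = n₁) :
    (F.rightDerived n₀).map φ.τ₃ ≫ T'.delta F n₀ n₁ h =
      T.delta F n₀ n₁ h ≫ (F.rightDerived n₁).map φ.τ₁ := by
  obtain ⟨a₁, a₂, a₃, h12, h23, ha₁, ha₃⟩ := exists_map φ hS T T'
  let Φ : T.cx.map (F.mapHomologicalComplex (ComplexShape.up ℕ)) ⟶
      T'.cx.map (F.mapHomologicalComplex (ComplexShape.up ℕ)) :=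
    { τ₁ := (F.mapHomologicalComplex _).map a₁
      τ₂ := (F.mapHomologicalComplex _).map a₂
      τ₃ := (F.mapHomologicalComplex _).map a₃
      comm₁₂ := by
        show (F.mapHomologicalComplex _).map a₁ ≫ (F.mapHomologicalComplex _).map T'.f =
          (F.mapHomologicalComplex _).map T.f ≫ (F.mapHomologicalComplex _).map a₂
        rw [← Functor.map_comp, ← Functor.map_comp, h12]
      comm₂₃ := by
        show (F.mapHomologicalComplex _).map a₂ ≫ (F.mapHomologicalComplex _).map T'.g =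
          (F.mapHomologicalComplex _).map T.g ≫ (F.mapHomologicalComplex _).map a₃
        rw [← Functor.map_comp, ← Functor.map_comp, h23] }
  have hδ : (T.map_shortExact F).δ n₀ n₁ h ≫
      HomologicalComplex.homologyMap ((F.mapHomologicalComplex _).map a₁) n₁ =
      HomologicalComplex.homologyMap ((F.mapHomologicalComplex _).map a₃) n₀ ≫
        (T'.map_shortExact F).δ n₀ n₁ h :=
    HomologicalComplex.HomologySequence.δ_naturality Φ (T.map_shortExact F)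
      (T'.map_shortExact F) n₀ n₁ h
  have hn1 := InjectiveResolution.isoRightDerivedObj_hom_naturality φ.τ₁ T.I₁ T'.I₁ a₁
    (comm_of_aug _ _ _ _ ha₁) F n₁
  have hn3 := InjectiveResolution.isoRightDerivedObj_hom_naturality φ.τ₃ T.I₃ T'.I₃ a₃
    (comm_of_aug _ _ _ _ ha₃) F n₀
  simp only [Functor.comp_map, HomologicalComplex.homologyFunctor_map] at hn1 hn3
  rw [← cancel_mono (T'.I₁.isoRightDerivedObj F n₁).hom, Category.assoc, Category.assoc,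
    T'.delta_comp_isoRightDerivedObj_hom F n₀ n₁ h, hn1,
    T.delta_comp_isoRightDerivedObj_hom_assoc F n₀ n₁ h]
  exact ((Category.assoc _ _ _).symm.trans ((congrArg (fun t => t ≫ _) hn3).trans
    ((Category.assoc _ _ _).trans ((congrArg (fun t => _ ≫ t) hδ.symm).trans
      (Category.assoc _ _ _).symm))))

/-- independence of the connecting morphism from the resolution -/
theorem delta_indep (T T' : RDer.SESRes S) (F : C ⥤ D) [F.Additive] (n₀ n₁ : ℕ)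
    (h : n₀ + 1 = n₁) : T.delta F n₀ n₁ h = T'.delta F n₀ n₁ h := by
  have := delta_natural (𝟙 S) (shortExact_of_sesRes T) T T' F n₀ n₁ h
  simpa using this.symm

end Delta

end Concrete

end Groth.Agent.Helper22.RDerMid
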