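import Mathlib
import Groth.Prelude.Def_RDerDelta
import Groth.Agent.Lib.Helper22.RDerMid

set_option autoImplicit false

/-! helper22: horseshoe lemma for `ℕ`-indexed injective resolutions (for `RDer`). -/

universe v u v' u'

open CategoryTheory CategoryTheory.Limits

namespace Groth.Agent.Helper22.RDerHorse

open Groth.Agent.Helper22.RDerMid

variable {C : Type u} [Category.{v} C] [Abelian C]

/-- abstract construction of the twisting maps -/
theorem exists_tau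
    {K₁ K₃ : CochainComplex C ℕ} (hinj : ∀ n, Injective (K₁.X n))
    (Y₃ : ℕ → C) (u₃ : ∀ n, Y₃ n ⟶ K₃.X n) (hu₃s : ∀ n, u₃ (n + 1) = 0)
    (hext : ∀ (n : ℕ) (J : C) [Injective J] (h : K₃.X n ⟶ J),
      (∀ m, K₃.d m n ≫ h = 0) → u₃ n ≫ h = 0 →
      ∃ θ : K₃.X (n + 1) ⟶ J, K₃.d n (n + 1) ≫ θ = h)
    (τ₀ : K₃.X 0 ⟶ K₁.X 1) (h0 : u₃ 0 ≫ τ₀ ≫ K₁.d 1 2 = 0) :
    ∃ τ : ∀ n, K₃.X n ⟶ K₁.X (n + 1), τ 0 = τ₀ ∧
      ∀ n, K₃.d n (n + 1) ≫ τ (n + 1) = -(τ n ≫ K₁.d (n + 1) (n + 1 + 1)) := by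
  classical
  let Q : ∀ n : ℕ, (K₃.X n ⟶ K₁.X (n + 1)) → Prop := fun n t =>
    (∀ m, K₃.d m n ≫ t ≫ K₁.d (n + 1) (n + 1 + 1) = 0) ∧
      u₃ n ≫ t ≫ K₁.d (n + 1) (n + 1 + 1) = 0
  have step : ∀ (n : ℕ) (t : K₃.X n ⟶ K₁.X (n + 1)), Q n t →
      ∃ t' : K₃.X (n + 1) ⟶ K₁.X (n + 1 + 1), Q (n + 1) t' ∧
        K₃.d n (n + 1) ≫ t' = -(t ≫ K₁.d (n + 1) (n + 1 + 1)) := by
    rintro n t ⟨h1, h2⟩
    obtain ⟨t', ht'⟩ := hext n (K₁.X (n + 1 + 1)) (-(t ≫ K₁.d (n + 1) (n + 1 + 1)))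
      (fun m => by rw [Preadditive.comp_neg, h1 m, neg_zero])
      (by rw [Preadditive.comp_neg, h2, neg_zero])
    refine ⟨t', ⟨?_, ?_⟩, ht'⟩
    · intro m
      by_cases hm : (ComplexShape.up ℕ).Rel m (n + 1)
      · have hmn : m = n := by
          have : m + 1 = n + 1 := hm
          omega
        subst hmn
        rw [reassoc_of% ht', Preadditive.neg_comp, Category.assoc,
          HomologicalComplex.d_comp_d, comp_zero, neg_zero]
      · rw [K₃.shape _ _ hm, zero_comp]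
    · rw [hu₃s n, zero_comp]
  have hQ0 : Q 0 τ₀ := ⟨fun m => by rw [K₃.shape _ _ (by simp), zero_comp], h0⟩
  let seq : ∀ n, {t : K₃.X n ⟶ K₁.X (n + 1) // Q n t} := fun n =>
    Nat.rec (motive := fun n => {t : K₃.X n ⟶ K₁.X (n + 1) // Q n t}) ⟨τ₀, hQ0⟩
      (fun n ih => ⟨(step n ih.1 ih.2).choose, (step n ih.1 ih.2).choose_spec.1⟩) n
  exact ⟨fun n => (seq n).1, rfl, fun n => (step n (seq n).1 (seq n).2).choose_spec.2⟩

section Cx

variable (K₁ K₃ : CochainComplex C ℕ) (τ : ∀ n, K₃.X n ⟶ K₁.X (n + 1))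

/-- differential of the middle complex -/
noncomputable def midD (n : ℕ) : (K₁.X n ⊞ K₃.X n) ⟶ (K₁.X (n + 1) ⊞ K₃.X (n + 1)) :=
  biprod.fst ≫ K₁.d n (n + 1) ≫ biprod.inl + biprod.snd ≫ τ n ≫ biprod.inl +
    biprod.snd ≫ K₃.d n (n + 1) ≫ biprod.inr

variable (hτ : ∀ n, K₃.d n (n + 1) ≫ τ (n + 1) = -(τ n ≫ K₁.d (n + 1) (n + 1 + 1)))

include hτ in
lemma midD_comp (n : ℕ) : midD K₁ K₃ τ n ≫ midD K₁ K₃ τ (n + 1) = 0 := by
  have h := hτ n
  simp only [midD, Preadditive.add_comp, Preadditive.comp_add, Category.assoc,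
    biprod.inl_fst_assoc, biprod.inl_snd_assoc, biprod.inr_fst_assoc, biprod.inr_snd_assoc,
    zero_comp, comp_zero, add_zero, zero_add, HomologicalComplex.d_comp_d_assoc,
    reassoc_of% h, Preadditive.neg_comp, Preadditive.comp_neg]
  abel

/-- the middle complex -/
noncomputable abbrev midCx : CochainComplex C ℕ :=
  CochainComplex.of (fun n => K₁.X n ⊞ K₃.X n) (midD K₁ K₃ τ) (midD_comp K₁ K₃ τ hτ)

lemma midCx_d (n : ℕ) : (midCx K₁ K₃ τ hτ).d n (n + 1) = midD K₁ K₃ τ n := by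
  show (CochainComplex.of (fun n => K₁.X n ⊞ K₃.X n) (midD K₁ K₃ τ)
    (midD_comp K₁ K₃ τ hτ)).d n (n + 1) = _
  exact CochainComplex.of_d (fun n => K₁.X n ⊞ K₃.X n) (midD K₁ K₃ τ) n

/-- inclusion -/
noncomputable def midF : K₁ ⟶ midCx K₁ K₃ τ hτ where
  f n := (biprod.inl : K₁.X n ⟶ K₁.X n ⊞ K₃.X n)
  comm' := by
    intro i j hij
    have : i + 1 = j := hij
    subst this
    rw [midCx_d]
    simp [midD]

/-- projection -/
noncomputable def midG : midCx K₁ K₃ τ hτ ⟶ K₃ where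
  f n := (biprod.snd : K₁.X n ⊞ K₃.X n ⟶ K₃.X n)
  comm' := by
    intro i j hij
    have : i + 1 = j := hij
    subst this
    rw [midCx_d]
    simp [midD]

lemma mid_zero : midF K₁ K₃ τ hτ ≫ midG K₁ K₃ τ hτ = 0 := by
  ext n
  simp [midF, midG]

lemma mid_shortExact :
    (ShortComplex.mk (midF K₁ K₃ τ hτ) (midG K₁ K₃ τ hτ) (mid_zero K₁ K₃ τ hτ)).ShortExact := by
  apply HomologicalComplex.shortExact_of_degreewise_shortExact
  intro n
  exact (ShortComplex.Splitting.ofHasBinaryBiproduct (K₁.X n) (K₃.X n)).shortExact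

end Cx


set_option backward.isDefEq.respectTransparency false in
/-- build an injective resolution from exactness data -/
noncomputable def mkRes {X : C} (K : CochainComplex C ℕ) (hK : ∀ n, Injective (K.X n))
    (u : X ⟶ K.X 0) (hu : u ≫ K.d 0 1 = 0) (hmono : Mono u)
    (hex0 : (ShortComplex.mk u (K.d 0 1) hu).Exact) (hex : ∀ n, K.ExactAt (n + 1)) :
    InjectiveResolution X where
  cocomplex := K
  injective := hK
  ι := (CochainComplex.fromSingle₀Equiv K X).symm ⟨u, hu⟩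
  quasiIso := ⟨fun n => by
    cases n with
    | zero =>
      rw [CochainComplex.quasiIsoAt₀_iff, ShortComplex.quasiIso_iff_of_zeros]
      · refine (ShortComplex.exact_and_mono_f_iff_of_iso ?_).2 ⟨hex0, hmono⟩
        exact ShortComplex.isoMk (Iso.refl _) (Iso.refl _) (Iso.refl _) (by simp) (by simp)
      all_goals first | rfl | exact K.shape _ _ (by simp)
    | succ n =>
      rw [quasiIsoAt_iff_exactAt]
      · exact hex n
      · exact CochainComplex.exactAt_succ_single_obj _ _⟩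

set_option backward.isDefEq.respectTransparency false in
lemma aug_mkRes {X : C} (K : CochainComplex C ℕ) (hK : ∀ n, Injective (K.X n))
    (u : X ⟶ K.X 0) (hu : u ≫ K.d 0 1 = 0) (hmono : Mono u)
    (hex0 : (ShortComplex.mk u (K.d 0 1) hu).Exact) (hex : ∀ n, K.ExactAt (n + 1)) :
    aug (mkRes K hK u hu hmono hex0 hex) = u := by
  simp [aug, mkRes]

set_option backward.isDefEq.respectTransparency false in
lemma single_hom_ext_aug {X Y : C} (f : X ⟶ Y) (I : InjectiveResolution X)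
    (J : InjectiveResolution Y) (a : I.cocomplex ⟶ J.cocomplex)
    (h : aug I ≫ a.f 0 = f ≫ aug J) :
    I.ι ≫ a = (CochainComplex.single₀ C).map f ≫ J.ι := by
  apply HomologicalComplex.from_single_hom_ext
  simpa [aug] using h

/-- exactness in degree zero of the middle complex -/
lemma mid_exact₀ {S : ShortComplex C} (hS : S.ShortExact) {A₁ A₃ B₁ B₃ : C}
    (u₁ : S.X₁ ⟶ A₁) (u₃ : S.X₃ ⟶ A₃) [Mono u₁] [Mono u₃]
    (d₁ : A₁ ⟶ B₁) (d₃ : A₃ ⟶ B₃) (t : A₃ ⟶ B₁)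
    (hu₁ : u₁ ≫ d₁ = 0) (hu₃ : u₃ ≫ d₃ = 0)
    (ex₁ : (ShortComplex.mk u₁ d₁ hu₁).Exact) (ex₃ : (ShortComplex.mk u₃ d₃ hu₃).Exact)
    (l : S.X₂ ⟶ A₁) (hl : S.f ≫ l = u₁) (hlt : l ≫ d₁ + S.g ≫ u₃ ≫ t = 0)
    (D : A₁ ⊞ A₃ ⟶ B₁ ⊞ B₃)
    (hD : D = biprod.fst ≫ d₁ ≫ biprod.inl + biprod.snd ≫ t ≫ biprod.inl +
      biprod.snd ≫ d₃ ≫ biprod.inr)
    (hz : biprod.lift l (S.g ≫ u₃) ≫ D = 0) :
    (ShortComplex.mk (biprod.lift l (S.g ≫ u₃)) D hz).Exact ∧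
      Mono (biprod.lift l (S.g ≫ u₃)) := by
  have := hS.mono_f
  have := hS.epi_g
  have hDfst : D ≫ biprod.fst = biprod.fst ≫ d₁ + biprod.snd ≫ t := by
    rw [hD]
    simp
  have hDsnd : D ≫ biprod.snd = biprod.snd ≫ d₃ := by
    rw [hD]
    simp
  constructor
  · rw [ShortComplex.exact_iff_exact_up_to_refinements]
    intro P x hx
    dsimp at x hx
    obtain ⟨a, ha⟩ : ∃ a : P ⟶ A₁, a = x ≫ biprod.fst := ⟨_, rfl⟩
    obtain ⟨b, hb⟩ : ∃ b : P ⟶ A₃, b = x ≫ biprod.snd := ⟨_, rfl⟩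
    have hbd : b ≫ d₃ = 0 := by
      rw [hb, Category.assoc, ← hDsnd, reassoc_of% hx, zero_comp]
    have habt : a ≫ d₁ + b ≫ t = 0 := by
      rw [ha, hb, Category.assoc, Category.assoc, ← Preadditive.comp_add, ← hDfst,
        reassoc_of% hx, zero_comp]
    obtain ⟨x₃, hx₃⟩ : ∃ x₃ : P ⟶ S.X₃, x₃ ≫ u₃ = b := ⟨ex₃.lift b hbd, ex₃.lift_f b hbd⟩
    obtain ⟨P', π, hπ, x₂, hx₂⟩ := surjective_up_to_refinements_of_epi S.g x₃
    obtain ⟨a', ha'⟩ : ∃ a' : P' ⟶ A₁, a' = π ≫ a - x₂ ≫ l := ⟨_, rfl⟩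
    have hld : l ≫ d₁ = -(S.g ≫ u₃ ≫ t) := eq_neg_of_add_eq_zero_left hlt
    have ha'd : a' ≫ d₁ = 0 := by
      rw [ha', Preadditive.sub_comp, Category.assoc, Category.assoc, hld, Preadditive.comp_neg,
        sub_neg_eq_add, ← reassoc_of% hx₂, reassoc_of% hx₃, ← Preadditive.comp_add, habt,
        comp_zero]
    obtain ⟨x₁, hx₁⟩ : ∃ x₁ : P' ⟶ S.X₁, x₁ ≫ u₁ = a' := ⟨ex₁.lift a' ha'd, ex₁.lift_f a' ha'd⟩
    refine ⟨P', π, hπ, x₂ + x₁ ≫ S.f, ?_⟩
    dsimp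
    apply biprod.hom_ext
    · simp only [Category.assoc, Preadditive.add_comp, biprod.lift_fst, hl, hx₁, ha', ← ha]
      abel
    · simp only [Category.assoc, Preadditive.add_comp, biprod.lift_snd, S.zero_assoc, zero_comp,
        comp_zero, add_zero, ← hb, ← reassoc_of% hx₂, hx₃]
  · apply Preadditive.mono_of_cancel_zero
    intro P x hx
    have h3 : x ≫ S.g = 0 := by
      have := congrArg (fun t => t ≫ biprod.snd) hx
      simp only [Category.assoc, biprod.lift_snd, zero_comp] at this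
      rw [← cancel_mono u₃, Category.assoc, this, zero_comp]
    have h1 : x ≫ l = 0 := by
      have := congrArg (fun t => t ≫ biprod.fst) hx
      simpa only [Category.assoc, biprod.lift_fst, zero_comp] using this
    obtain ⟨y, hy⟩ : ∃ y : P ⟶ S.X₁, y ≫ S.f = x := ⟨hS.exact.lift x h3, hS.exact.lift_f x h3⟩
    have hy0 : y = 0 := by
      rw [← cancel_mono u₁, ← hl, ← Category.assoc, hy, h1, zero_comp]
    rw [← hy, hy0, zero_comp]


/-- the horseshoe lemma -/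
theorem nonempty_sesRes [EnoughInjectives C] {S : ShortComplex C} (hS : S.ShortExact) :
    Nonempty (RDer.SESRes S) := by
  have := hS.mono_f
  have := hS.epi_g
  obtain ⟨I₁⟩ : Nonempty (InjectiveResolution S.X₁) := ⟨InjectiveResolution.of S.X₁⟩
  obtain ⟨I₃⟩ : Nonempty (InjectiveResolution S.X₃) := ⟨InjectiveResolution.of S.X₃⟩
  have hinj0 : Injective (I₁.cocomplex.X 0) := inferInstance
  have hinj1 : Injective (I₁.cocomplex.X 1) := inferInstance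
  obtain ⟨l, hl⟩ : ∃ l : S.X₂ ⟶ I₁.cocomplex.X 0, S.f ≫ l = aug I₁ :=
    ⟨Injective.factorThru (aug I₁) S.f, Injective.comp_factorThru _ _⟩
  have hfl : S.f ≫ l ≫ I₁.cocomplex.d 0 1 = 0 := by rw [reassoc_of% hl, aug_d]
  obtain ⟨w, hw⟩ : ∃ w : S.X₃ ⟶ I₁.cocomplex.X 1, S.g ≫ w = l ≫ I₁.cocomplex.d 0 1 :=
    ⟨hS.exact.desc _ hfl, hS.exact.g_desc _ hfl⟩
  obtain ⟨τ₀, hτ₀⟩ : ∃ τ₀ : I₃.cocomplex.X 0 ⟶ I₁.cocomplex.X 1, aug I₃ ≫ τ₀ = -w :=
    ⟨Injective.factorThru (-w) (aug I₃), Injective.comp_factorThru _ _⟩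
  have h0 : I₃.ι.f 0 ≫ τ₀ ≫ I₁.cocomplex.d 1 2 = 0 := by
    apply ι_comp_eq_zero
    rw [reassoc_of% hτ₀, Preadditive.neg_comp, neg_eq_zero, ← cancel_epi S.g, reassoc_of% hw,
      HomologicalComplex.d_comp_d, comp_zero, comp_zero]
  obtain ⟨τ, hτ0, hτ⟩ := exists_tau (K₁ := I₁.cocomplex) (K₃ := I₃.cocomplex)
    (fun n => inferInstance)
    (fun n => ((CochainComplex.single₀ C).obj S.X₃).X n) (fun n => I₃.ι.f n)
    (fun n => I₃.ι_f_succ n)
    (fun n J _ h h1 h2 => exists_ext I₃ n J h h1 h2) τ₀ h0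
  have hlt : l ≫ I₁.cocomplex.d 0 1 + S.g ≫ aug I₃ ≫ τ 0 = 0 := by
    rw [hτ0, hτ₀, Preadditive.comp_neg, hw, add_neg_cancel]
  have hD : (midCx I₁.cocomplex I₃.cocomplex τ hτ).d 0 1 =
      biprod.fst ≫ I₁.cocomplex.d 0 1 ≫ biprod.inl + biprod.snd ≫ τ 0 ≫ biprod.inl +
        biprod.snd ≫ I₃.cocomplex.d 0 1 ≫ biprod.inr :=
    midCx_d I₁.cocomplex I₃.cocomplex τ hτ 0
  have hu : biprod.lift l (S.g ≫ aug I₃) ≫ (midCx I₁.cocomplex I₃.cocomplex τ hτ).d 0 1 = 0 := by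
    have h3 : aug I₃ ≫ I₃.cocomplex.d 0 1 = 0 := aug_d I₃
    rw [hD]
    simp only [Preadditive.comp_add, biprod.lift_fst_assoc, biprod.lift_snd_assoc,
      Category.assoc, reassoc_of% h3, zero_comp, comp_zero, add_zero]
    have := congrArg (fun t => t ≫ (biprod.inl : _ ⟶ I₁.cocomplex.X 1 ⊞ I₃.cocomplex.X 1)) hlt
    simpa only [Preadditive.add_comp, Category.assoc, zero_comp] using this
  obtain ⟨hex0, hmono⟩ := mid_exact₀ hS (aug I₁) (aug I₃) (I₁.cocomplex.d 0 1)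
    (I₃.cocomplex.d 0 1) (τ 0) (aug_d I₁) (aug_d I₃) (aug_exact I₁) (aug_exact I₃) l hl hlt
    ((midCx I₁.cocomplex I₃.cocomplex τ hτ).d 0 1) hD hu
  have hSES := mid_shortExact I₁.cocomplex I₃.cocomplex τ hτ
  let I₂ : InjectiveResolution S.X₂ := mkRes (midCx I₁.cocomplex I₃.cocomplex τ hτ)
    (fun n => (inferInstance : Injective (I₁.cocomplex.X n ⊞ I₃.cocomplex.X n)))
    (biprod.lift l (S.g ≫ aug I₃)) hu hmono hex0
    (fun n => hSES.exactAt_X₂ (n + 1) (I₁.cocomplex_exactAt_succ n)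
      (I₃.cocomplex_exactAt_succ n))
  have haug₂ : aug I₂ = biprod.lift l (S.g ≫ aug I₃) := aug_mkRes _ _ _ _ _ _ _
  refine ⟨{ I₁ := I₁, I₂ := I₂, I₃ := I₃
            f := midF I₁.cocomplex I₃.cocomplex τ hτ
            g := midG I₁.cocomplex I₃.cocomplex τ hτ
            zero := mid_zero I₁.cocomplex I₃.cocomplex τ hτ
            ι_f := ?_, ι_g := ?_, shortExact := hSES }⟩
  · apply single_hom_ext_aug
    rw [haug₂]
    show aug I₁ ≫ (biprod.inl : I₁.cocomplex.X 0 ⟶ I₁.cocomplex.X 0 ⊞ I₃.cocomplex.X 0) =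
      S.f ≫ biprod.lift l (S.g ≫ aug I₃)
    apply biprod.hom_ext
    · simp [hl]
    · simp
  · apply single_hom_ext_aug
    rw [haug₂]
    show biprod.lift l (S.g ≫ aug I₃) ≫
      (biprod.snd : I₁.cocomplex.X 0 ⊞ I₃.cocomplex.X 0 ⟶ I₃.cocomplex.X 0) = S.g ≫ aug I₃
    simp


section LES

variable {D : Type u'} [Category.{v'} D] [Abelian D]

lemma zero_of_isos {X₁ X₂ X₃ Y₁ Y₂ Y₃ : D} (f : X₁ ⟶ X₂) (g : X₂ ⟶ X₃) (f' : Y₁ ⟶ Y₂)
    (g' : Y₂ ⟶ Y₃) (e₁ : X₁ ≅ Y₁) (e₂ : X₂ ≅ Y₂) (e₃ : X₃ ≅ Y₃)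
    (c₁ : f ≫ e₂.hom = e₁.hom ≫ f') (c₂ : g ≫ e₃.hom = e₂.hom ≫ g') (w' : f' ≫ g' = 0) :
    f ≫ g = 0 := by
  rw [← cancel_mono e₃.hom, Category.assoc, c₂, reassoc_of% c₁, w', comp_zero, zero_comp]

lemma exact_of_isos {X₁ X₂ X₃ Y₁ Y₂ Y₃ : D} (f : X₁ ⟶ X₂) (g : X₂ ⟶ X₃) (f' : Y₁ ⟶ Y₂)
    (g' : Y₂ ⟶ Y₃) (e₁ : X₁ ≅ Y₁) (e₂ : X₂ ≅ Y₂) (e₃ : X₃ ≅ Y₃)
    (c₁ : f ≫ e₂.hom = e₁.hom ≫ f') (c₂ : g ≫ e₃.hom = e₂.hom ≫ g') (w' : f' ≫ g' = 0)
    (h : (ShortComplex.mk f' g' w').Exact) (w : f ≫ g = 0) :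
    (ShortComplex.mk f g w).Exact :=
  (ShortComplex.exact_iff_of_iso (ShortComplex.isoMk e₁ e₂ e₃ c₁.symm c₂.symm)).2 h

variable [EnoughInjectives C] (F : C ⥤ D) [F.Additive]

lemma map_f_iso {S : ShortComplex C} (T : RDer.SESRes S) (n : ℕ) :
    (F.rightDerived n).map S.f ≫ (T.I₂.isoRightDerivedObj F n).hom =
      (T.I₁.isoRightDerivedObj F n).hom ≫
        HomologicalComplex.homologyMap ((F.mapHomologicalComplex _).map T.f) n := by
  have := InjectiveResolution.isoRightDerivedObj_hom_naturality S.f T.I₁ T.I₂ T.f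
    (comm_of_aug _ _ _ _ (aug_f T)) F n
  simp only [Functor.comp_map, HomologicalComplex.homologyFunctor_map] at this
  exact this

lemma map_g_iso {S : ShortComplex C} (T : RDer.SESRes S) (n : ℕ) :
    (F.rightDerived n).map S.g ≫ (T.I₃.isoRightDerivedObj F n).hom =
      (T.I₂.isoRightDerivedObj F n).hom ≫
        HomologicalComplex.homologyMap ((F.mapHomologicalComplex _).map T.g) n := by
  have := InjectiveResolution.isoRightDerivedObj_hom_naturality S.g T.I₂ T.I₃ T.g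
    (comm_of_aug _ _ _ _ (aug_g T)) F n
  simp only [Functor.comp_map, HomologicalComplex.homologyFunctor_map] at this
  exact this

/-- the long exact sequence of right derived functors -/
theorem nonempty_derivedLES : Nonempty (RDer.DerivedLES F) := by
  classical
  let T : ∀ (S : ShortComplex C), S.ShortExact → RDer.SESRes S :=
    fun S hS => (nonempty_sesRes hS).some
  have hcδ : ∀ (S : ShortComplex C) (hS : S.ShortExact) (n₀ n₁ : ℕ) (h : n₀ + 1 = n₁),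
      (F.rightDerived n₀).map S.g ≫ (T S hS).delta F n₀ n₁ h = 0 := fun S hS n₀ n₁ h =>
    zero_of_isos _ _ _ _ ((T S hS).I₂.isoRightDerivedObj F n₀)
      ((T S hS).I₃.isoRightDerivedObj F n₀) ((T S hS).I₁.isoRightDerivedObj F n₁)
      (map_g_iso F (T S hS) n₀) ((T S hS).delta_comp_isoRightDerivedObj_hom F n₀ n₁ h)
      (((T S hS).map_shortExact F).comp_δ n₀ n₁ h)
  have hδc : ∀ (S : ShortComplex C) (hS : S.ShortExact) (n₀ n₁ : ℕ) (h : n₀ + 1 = n₁),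
      (T S hS).delta F n₀ n₁ h ≫ (F.rightDerived n₁).map S.f = 0 := fun S hS n₀ n₁ h =>
    zero_of_isos _ _ _ _ ((T S hS).I₃.isoRightDerivedObj F n₀)
      ((T S hS).I₁.isoRightDerivedObj F n₁) ((T S hS).I₂.isoRightDerivedObj F n₁)
      ((T S hS).delta_comp_isoRightDerivedObj_hom F n₀ n₁ h) (map_f_iso F (T S hS) n₁)
      (((T S hS).map_shortExact F).δ_comp n₀ n₁ h)
  exact ⟨{ δ := fun S hS n₀ n₁ h => (T S hS).delta F n₀ n₁ h
           δ_eq := fun S hS T' n₀ n₁ h => delta_indep _ _ F n₀ n₁ h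
           δ_natural := fun hS hS' φ n₀ n₁ h => delta_natural φ hS (T _ hS) (T _ hS') F n₀ n₁ h
           exact₂ := fun S hS n =>
            exact_of_isos _ _ _ _ ((T S hS).I₁.isoRightDerivedObj F n)
              ((T S hS).I₂.isoRightDerivedObj F n) ((T S hS).I₃.isoRightDerivedObj F n)
              (map_f_iso F (T S hS) n) (map_g_iso F (T S hS) n) _
              (((T S hS).map_shortExact F).homology_exact₂ n) _
           comp_δ := hcδ
           exact₃ := fun S hS n₀ n₁ h =>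
            exact_of_isos _ _ _ _ ((T S hS).I₂.isoRightDerivedObj F n₀)
              ((T S hS).I₃.isoRightDerivedObj F n₀) ((T S hS).I₁.isoRightDerivedObj F n₁)
              (map_g_iso F (T S hS) n₀) ((T S hS).delta_comp_isoRightDerivedObj_hom F n₀ n₁ h) _
              (((T S hS).map_shortExact F).homology_exact₃ n₀ n₁ h) _
           δ_comp := hδc
           exact₁ := fun S hS n₀ n₁ h =>
            exact_of_isos _ _ _ _ ((T S hS).I₃.isoRightDerivedObj F n₀)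
              ((T S hS).I₁.isoRightDerivedObj F n₁) ((T S hS).I₂.isoRightDerivedObj F n₁)
              ((T S hS).delta_comp_isoRightDerivedObj_hom F n₀ n₁ h) (map_f_iso F (T S hS) n₁) _
              (((T S hS).map_shortExact F).homology_exact₁ n₀ n₁ h) _ }⟩

end LES

end Groth.Agent.Helper22.RDerHorse
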