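import Groth.Prelude.Def_W4c2azumayainvolQEt
import Mathlib.RingTheory.Kaehler.Basic
import Mathlib.RingTheory.Unramified.LocalRing
import Mathlib.RingTheory.Jacobson.Ideal
import Mathlib.Tactic.Ring
import Mathlib.Tactic.LinearCombination

/-!
Helper lemmas on commutative rings with involution.
-/

namespace Groth.Agent.Helper22.RInvLib

open RInv

variable {S R : Type*} [CommRing S] [CommRing R] [Algebra S R] {lam : R ≃+* R}

lemma lam_algebraMap (hS : IsFixedRing S R lam) (s : S) :
    lam (algebraMap S R s) = algebraMap S R s :=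
  (hS.2 _).mpr ⟨s, rfl⟩

lemma exists_trace (hlam : Function.Involutive lam) (hS : IsFixedRing S R lam) (r : R) :
    ∃ t : S, algebraMap S R t = r + lam r := by
  apply (hS.2 _).mp
  rw [map_add, hlam r, add_comm]

lemma exists_norm (hlam : Function.Involutive lam) (hS : IsFixedRing S R lam) (r : R) :
    ∃ n : S, algebraMap S R n = r * lam r := by
  apply (hS.2 _).mp
  rw [map_mul, hlam r, mul_comm]

/-- The linear map `(a, b) ↦ a + b r`. -/
def φ (S : Type*) {R : Type*} [CommRing S] [CommRing R] [Algebra S R] (r : R) : S × S →ₗ[S] R :=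
  (Algebra.linearMap S R).coprod (LinearMap.toSpanSingleton S R r)

lemma φ_apply (r : R) (p : S × S) : φ S r p = algebraMap S R p.1 + algebraMap S R p.2 * r := by
  simp [φ, Algebra.smul_def]

theorem φ_bijective (hlam : Function.Involutive lam) (hS : IsFixedRing S R lam) (r w' : R)
    (hw : (r - lam r) * w' = 1) : Function.Bijective (φ S r) := by
  have hlw : lam w' = -w' := by
    have h1 : lam (r - lam r) * lam w' = 1 := by rw [← map_mul, hw, map_one]
    rw [map_sub, hlam r] at h1
    -- (lam r - r) * lam w' = 1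
    have h2 : lam w' = lam w' * ((r - lam r) * w') := by rw [hw, mul_one]
    rw [h2]
    linear_combination (-w') * h1
  constructor
  · rw [← LinearMap.ker_eq_bot, LinearMap.ker_eq_bot']
    intro p hp
    rw [φ_apply] at hp
    have hp' : algebraMap S R p.1 + algebraMap S R p.2 * lam r = 0 := by
      have h1 := congrArg lam hp
      rwa [map_add, map_mul, lam_algebraMap hS, lam_algebraMap hS, map_zero] at h1
    have h2 : algebraMap S R p.2 = 0 := by
      have h3 : algebraMap S R p.2 * (r - lam r) = 0 := by linear_combination hp - hp'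
      calc algebraMap S R p.2 = algebraMap S R p.2 * ((r - lam r) * w') := by rw [hw, mul_one]
        _ = (algebraMap S R p.2 * (r - lam r)) * w' := by ring
        _ = 0 := by rw [h3, zero_mul]
    have h4 : algebraMap S R p.1 = 0 := by rw [h2, zero_mul, add_zero] at hp; exact hp
    have e1 : p.1 = 0 := hS.1 (by rw [h4, map_zero])
    have e2 : p.2 = 0 := hS.1 (by rw [h2, map_zero])
    exact Prod.ext e1 e2
  · intro x
    set β : R := (x - lam x) * w' with hβ
    have hβfix : lam β = β := by
      rw [hβ, map_mul, map_sub, hlam x, hlw]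
      ring
    obtain ⟨b, hb⟩ := (hS.2 β).mp hβfix
    set α : R := x - β * r with hα
    have hαfix : lam α = α := by
      rw [hα, map_sub, map_mul, hβfix]
      have h1 : β * (r - lam r) = x - lam x := by
        rw [hβ]
        calc (x - lam x) * w' * (r - lam r) = (x - lam x) * ((r - lam r) * w') := by ring
          _ = x - lam x := by rw [hw, mul_one]
      linear_combination h1
    obtain ⟨a, ha⟩ := (hS.2 α).mp hαfix
    refine ⟨(a, b), ?_⟩
    rw [φ_apply]
    show algebraMap S R a + algebraMap S R b * r = x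
    rw [ha, hb, hα]
    ring

theorem formallyUnramified_of_unit (hlam : Function.Involutive lam) (hS : IsFixedRing S R lam)
    (r w' : R) (hw : (r - lam r) * w' = 1) : Algebra.FormallyUnramified S R := by
  constructor
  obtain ⟨t, ht⟩ := exists_trace hlam hS r
  obtain ⟨n, hn⟩ := exists_norm hlam hS r
  have hrel : r * r = algebraMap S R t * r - algebraMap S R n := by
    rw [ht, hn]
    ring
  have hDr : KaehlerDifferential.D S R r = 0 := by
    have h1 := congrArg (KaehlerDifferential.D S R) hrel
    rw [Derivation.leibniz, map_sub, Derivation.leibniz, Derivation.map_algebraMap,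
      Derivation.map_algebraMap, smul_zero, add_zero, sub_zero] at h1
    have h2 : (r - lam r) • KaehlerDifferential.D S R r = 0 := by
      have h3 : (r + r - algebraMap S R t) • KaehlerDifferential.D S R r = 0 := by
        rw [sub_smul, add_smul, h1, sub_self]
      have h4 : r + r - algebraMap S R t = r - lam r := by rw [ht]; ring
      rwa [h4] at h3
    calc KaehlerDifferential.D S R r = (w' * (r - lam r)) • KaehlerDifferential.D S R r := by
          rw [mul_comm, hw, one_smul]
      _ = w' • ((r - lam r) • KaehlerDifferential.D S R r) := by rw [mul_smul]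
      _ = 0 := by rw [h2, smul_zero]
  have hD : ∀ x : R, KaehlerDifferential.D S R x = 0 := by
    intro x
    obtain ⟨p, hp⟩ := (φ_bijective hlam hS r w' hw).2 x
    rw [← hp, φ_apply, map_add, Derivation.leibniz, Derivation.map_algebraMap,
      Derivation.map_algebraMap, hDr, smul_zero, smul_zero, add_zero, add_zero]
  have htop := KaehlerDifferential.span_range_derivation S R
  have hbot : Submodule.span R (Set.range (KaehlerDifferential.D S R)) = ⊥ := by
    rw [Submodule.span_eq_bot]
    rintro _ ⟨x, rfl⟩
    exact hD x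
  rw [hbot] at htop
  exact (Submodule.subsingleton_iff R).mp (subsingleton_of_bot_eq_top htop)

theorem isQuadEtale_of_unit (hlam : Function.Involutive lam) (hS : IsFixedRing S R lam)
    (r w' : R) (hw : (r - lam r) * w' = 1) : IsQuadEtale S R := by
  let e : (S × S) ≃ₗ[S] R := LinearEquiv.ofBijective (φ S r) (φ_bijective hlam hS r w' hw)
  have hfin : Module.Finite S R := Module.Finite.equiv e
  have hfree : Module.Free S R := Module.Free.of_equiv e
  refine ⟨hfin, inferInstance, formallyUnramified_of_unit hlam hS r w' hw, ?_⟩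
  intro p
  have : Nontrivial S := nontrivial_of_ne (0 : S) 1
    (fun h => p.2.ne_top ((Ideal.eq_top_iff_one _).mpr (h ▸ p.asIdeal.zero_mem)))
  have h1 : Module.finrank S R = 2 := by
    rw [← e.finrank_eq, Module.finrank_prod, Module.finrank_self]
  have h2 := congrFun (Module.rankAtStalk_eq_finrank_of_free (R := S) (M := R)) p
  rw [h2, h1]
  rfl

section Basis

lemma φ_bijective_of_basis (b : Module.Basis (Fin 2) S R) (ha : IsUnit (b.repr 1 0)) :
    Function.Bijective (φ S (b 1)) := by
  obtain ⟨u, hu⟩ := ha.exists_left_inv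
  have h1 : b.repr 1 0 • b 0 + b.repr 1 1 • b 1 = 1 := by
    have := b.sum_repr 1
    rwa [Fin.sum_univ_two] at this
  constructor
  · rw [← LinearMap.ker_eq_bot, LinearMap.ker_eq_bot']
    intro p hp
    rw [φ_apply] at hp
    have hp2 : p.1 • (1 : R) + p.2 • b 1 = 0 := by
      rw [Algebra.smul_def, Algebra.smul_def, mul_one]; exact hp
    have hp3 := congrArg b.repr hp2
    rw [map_add, map_smul, map_smul, b.repr_self, map_zero] at hp3
    have e0 := DFunLike.congr_fun hp3 0
    have e1 := DFunLike.congr_fun hp3 1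
    simp at e0 e1
    have hp1 : p.1 = 0 := by
      calc p.1 = (p.1 * b.repr 1 0) * u := by rw [mul_assoc, mul_comm _ u, hu, mul_one]
        _ = 0 := by rw [e0, zero_mul]
    rw [hp1, zero_mul, zero_add] at e1
    exact Prod.ext hp1 e1
  · intro x
    refine ⟨(b.repr x 0 * u, b.repr x 1 - b.repr x 0 * u * b.repr 1 1), ?_⟩
    rw [φ_apply]
    have hx := b.sum_repr x
    rw [Fin.sum_univ_two] at hx
    have hu' : algebraMap S R u * algebraMap S R (b.repr 1 0) = 1 := by
      rw [← map_mul, hu, map_one]
    rw [Algebra.smul_def, Algebra.smul_def] at h1 hx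
    show algebraMap S R (b.repr x 0 * u) +
      algebraMap S R (b.repr x 1 - b.repr x 0 * u * b.repr 1 1) * b 1 = x
    rw [map_mul, map_sub, map_mul, map_mul]
    linear_combination (algebraMap S R (b.repr x 0) * b 0) * hu' -
      (algebraMap S R (b.repr x 0) * algebraMap S R u) * h1 + hx

end Basis

section Deriv

/-- If `(1, r)` is an `S`-basis of `R` and `R` is formally unramified over `S`, then
`r - lam r` is a unit. -/
theorem isUnit_sub_of_φ_bijective (hlam : Function.Involutive lam) (hS : IsFixedRing S R lam)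
    (r : R) (hb : Function.Bijective (φ S r)) [hu : Algebra.FormallyUnramified S R] :
    IsUnit (r - lam r) := by
  obtain ⟨t, ht⟩ := exists_trace hlam hS r
  obtain ⟨n, hn⟩ := exists_norm hlam hS r
  have hrel : r * r = algebraMap S R t * r - algebraMap S R n := by rw [ht, hn]; ring
  let e : (S × S) ≃ₗ[S] R := LinearEquiv.ofBijective (φ S r) hb
  let I : Ideal R := Ideal.span {r - lam r}
  let D₀ : R →ₗ[S] (R ⧸ I) :=
    (Algebra.linearMap S (R ⧸ I)) ∘ₗ (LinearMap.snd S S S) ∘ₗ e.symm.toLinearMap
  have hD₀ : ∀ p : S × S, D₀ (φ S r p) = algebraMap S (R ⧸ I) p.2 := by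
    intro p
    have h1 : e.symm (φ S r p) = p := e.symm_apply_apply p
    simp [D₀, h1]
  have hleib : ∀ x y : R, D₀ (x * y) = x • D₀ y + y • D₀ x := by
    intro x y
    obtain ⟨p, rfl⟩ := hb.2 x
    obtain ⟨q, rfl⟩ := hb.2 y
    have hprod : φ S r p * φ S r q =
        φ S r (p.1 * q.1 - p.2 * q.2 * n, p.1 * q.2 + p.2 * q.1 + p.2 * q.2 * t) := by
      simp only [φ_apply, map_sub, map_add, map_mul]
      linear_combination (algebraMap S R p.2 * algebraMap S R q.2) * hrel
    rw [hprod, hD₀, hD₀, hD₀]
    rw [IsScalarTower.algebraMap_apply S R (R ⧸ I), IsScalarTower.algebraMap_apply S R (R ⧸ I) q.2,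
      IsScalarTower.algebraMap_apply S R (R ⧸ I) p.2, Ideal.Quotient.algebraMap_eq,
      Algebra.smul_def, Algebra.smul_def, Ideal.Quotient.algebraMap_eq, ← map_mul, ← map_mul,
      ← map_add, Ideal.Quotient.eq, Ideal.mem_span_singleton]
    refine ⟨-(algebraMap S R p.2 * algebraMap S R q.2), ?_⟩
    simp only [φ_apply, map_add, map_mul]
    linear_combination (algebraMap S R p.2 * algebraMap S R q.2) * ht
  let D : Derivation S R (R ⧸ I) := Derivation.mk' D₀ hleib
  have hDr : D r = 1 := by
    have h1 : φ S r (0, 1) = r := by simp [φ_apply]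
    show D₀ r = 1
    rw [← h1, hD₀]
    simp
  have hsub : Subsingleton (Ω[R⁄S]) := hu.1
  have hzero : D r = 0 := by
    rw [← D.liftKaehlerDifferential_comp_D r, Subsingleton.elim (KaehlerDifferential.D S R r) 0,
      map_zero]
  have h10 : (1 : R ⧸ I) = 0 := by rw [← hDr, hzero]
  have htop : I = ⊤ := by
    rw [Ideal.eq_top_iff_one, ← Ideal.Quotient.eq_zero_iff_mem, map_one]
    exact h10
  exact Ideal.span_singleton_eq_top.mp htop

end Deriv

section Local

variable [IsLocalRing S]

lemma algebraMap_mem_of_mem_maximalIdeal (hlam : Function.Involutive lam)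
    (hS : IsFixedRing S R lam) {s : S} (hs : s ∈ IsLocalRing.maximalIdeal S) (M : Ideal R)
    [hM : M.IsMaximal] : algebraMap S R s ∈ M := by
  by_contra hsM
  obtain ⟨y, i, hi, hyi⟩ := hM.exists_inv hsM
  obtain ⟨t, ht⟩ := exists_trace hlam hS y
  obtain ⟨n, hn⟩ := exists_norm hlam hS y
  have h1 : i * lam i = algebraMap S R (1 - (t * s - n * s * s)) := by
    have hi' : i = 1 - y * algebraMap S R s := by linear_combination hyi
    rw [hi', map_sub, map_one, map_mul, lam_algebraMap hS, map_sub, map_one, map_sub, map_mul,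
      map_mul, map_mul, ht, hn]
    ring
  have h2 : IsUnit (1 - (t * s - n * s * s)) := by
    apply IsLocalRing.isUnit_one_sub_self_of_mem_nonunits
    rw [← IsLocalRing.mem_maximalIdeal]
    exact Ideal.sub_mem _ (Ideal.mul_mem_left _ _ hs) (Ideal.mul_mem_left _ _ hs)
  have h3 : IsUnit (i * lam i) := by rw [h1]; exact h2.map (algebraMap S R)
  exact hM.ne_top (Ideal.eq_top_of_isUnit_mem _ (Ideal.mul_mem_right _ _ hi) h3)

lemma eq_or_eq_comap (hlam : Function.Involutive lam) (hS : IsFixedRing S R lam)
    (M M₂ : Ideal R) [hM : M.IsMaximal] [hM₂ : M₂.IsMaximal] :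
    M₂ = M ∨ M₂ = M.comap (lam : R →+* R) := by
  have hM' : (M.comap (lam : R →+* R)).IsMaximal :=
    Ideal.comap_isMaximal_of_surjective _ lam.surjective
  have hsub : (M₂ : Set R) ⊆ (M : Set R) ∪ (M.comap (lam : R →+* R) : Set R) := by
    intro x hx
    obtain ⟨n, hn⟩ := exists_norm hlam hS x
    have hnm : n ∈ IsLocalRing.maximalIdeal S := by
      by_contra hnm
      have hu : IsUnit n := by
        by_contra hu'
        exact hnm ((IsLocalRing.mem_maximalIdeal _).mpr hu')
      have h1 : IsUnit (x * lam x) := by rw [← hn]; exact hu.map _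
      have hxu : IsUnit x := isUnit_of_mul_isUnit_left h1
      exact hM₂.ne_top (Ideal.eq_top_of_isUnit_mem _ hx hxu)
    have h2 := algebraMap_mem_of_mem_maximalIdeal hlam hS hnm M
    rw [hn] at h2
    rcases hM.isPrime.mem_or_mem h2 with h | h
    · exact Or.inl h
    · exact Or.inr (by simpa [Ideal.mem_comap] using h)
  rcases Ideal.subset_union.mp hsub with h | h
  · exact Or.inl (hM₂.eq_of_le hM.ne_top h)
  · exact Or.inr (hM₂.eq_of_le hM'.ne_top h)

theorem exists_isUnit_sub (hlam : Function.Involutive lam) (hS : IsFixedRing S R lam)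
    (h : ∃ r : R, lam r - r ∉ Ring.jacobson R) : ∃ r : R, IsUnit (r - lam r) := by
  obtain ⟨r, hr⟩ := h
  rw [Ring.jacobson_eq_sInf_isMaximal, Ideal.mem_sInf] at hr
  push Not at hr
  obtain ⟨M, hM, hrM⟩ := hr
  have hM : M.IsMaximal := hM
  have hM' : (M.comap (lam : R →+* R)).IsMaximal :=
    Ideal.comap_isMaximal_of_surjective _ lam.surjective
  have hmem : ∀ x : R, x ∈ M.comap (lam : R →+* R) ↔ lam x ∈ M := fun x => by
    simp [Ideal.mem_comap]
  have hcrit : ∀ x : R, x ∉ M → x ∉ M.comap (lam : R →+* R) → IsUnit x := by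
    intro x h1 h2
    by_contra hx
    obtain ⟨N, hN, hxN⟩ := exists_max_ideal_of_mem_nonunits hx
    rcases eq_or_eq_comap hlam hS M N with h | h
    · exact h1 (h ▸ hxN)
    · exact h2 (h ▸ hxN)
  by_cases hMM : M.comap (lam : R →+* R) = M
  · have h0 : r - lam r ∉ M := by
      intro h
      apply hrM
      have := M.neg_mem h
      rwa [neg_sub] at this
    refine ⟨r, hcrit _ h0 ?_⟩
    rw [hMM]
    exact h0
  · obtain ⟨a, ha, b, hb, hab⟩ := Submodule.mem_sup.mp
      ((Ideal.eq_top_iff_one _).mp (hM.coprime_of_ne hM' (Ne.symm hMM)))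
    have hlb : lam b ∈ M := (hmem b).mp hb
    have hsum : lam a + lam b = 1 := by rw [← map_add, hab, map_one]
    refine ⟨a, hcrit _ ?_ ?_⟩
    · intro h
      apply hM.ne_top
      rw [Ideal.eq_top_iff_one]
      have h1 : lam a ∈ M := by
        have := M.sub_mem ha h
        rwa [sub_sub_cancel] at this
      rw [← hsum]
      exact M.add_mem h1 hlb
    · intro h
      apply hM'.ne_top
      rw [Ideal.eq_top_iff_one]
      have h1 : lam a ∈ M.comap (lam : R →+* R) := by
        rw [hmem, hlam a]
        exact ha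
      have h2 : a ∈ M.comap (lam : R →+* R) := by
        have := (M.comap (lam : R →+* R)).add_mem h h1
        rwa [sub_add_cancel] at this
      rw [← hab]
      exact (M.comap (lam : R →+* R)).add_mem h2 hb

theorem isLocalRing_of_forall_mem_jacobson (hlam : Function.Involutive lam)
    (hS : IsFixedRing S R lam) (h : ∀ r : R, lam r - r ∈ Ring.jacobson R) : IsLocalRing R := by
  have : Nontrivial R := hS.1.nontrivial
  apply IsLocalRing.of_unique_max_ideal
  obtain ⟨M, hM⟩ := Ideal.exists_maximal R
  refine ⟨M, hM, ?_⟩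
  intro N hN
  have hN' : N.IsMaximal := hN
  have hcomap : M.comap (lam : R →+* R) = M := by
    have hM' : (M.comap (lam : R →+* R)).IsMaximal :=
      Ideal.comap_isMaximal_of_surjective _ lam.surjective
    symm
    apply hM.eq_of_le hM'.ne_top
    intro x hx
    rw [Ideal.mem_comap]
    have h1 : lam x - x ∈ M := Ring.jacobson_le_of_isMaximal M (h x)
    have := M.add_mem h1 hx
    rwa [sub_add_cancel] at this
  rcases eq_or_eq_comap hlam hS M N with h1 | h1
  · exact h1
  · rw [h1, hcomap]

theorem exists_isUnit_sub_of_isQuadEtale (hlam : Function.Involutive lam)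
    (hS : IsFixedRing S R lam) (hq : IsQuadEtale S R) : ∃ r : R, IsUnit (r - lam r) := by
  obtain ⟨hfin, hproj, hunr, hrank⟩ := hq
  have hfree : Module.Free S R := Module.free_of_flat_of_isLocalRing
  have h2 : Module.finrank S R = 2 := by
    have h1 := congrFun (Module.rankAtStalk_eq_finrank_of_free (R := S) (M := R))
      (IsLocalRing.closedPoint S)
    rw [hrank] at h1
    exact h1.symm
  let b : Module.Basis (Fin 2) S R := Module.finBasisOfFinrankEq S R h2
  have hsum : b.repr 1 0 • b 0 + b.repr 1 1 • b 1 = 1 := by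
    have := b.sum_repr 1
    rwa [Fin.sum_univ_two] at this
  have : Nontrivial R := hS.1.nontrivial
  by_cases ha : IsUnit (b.repr 1 0)
  · exact ⟨b 1, isUnit_sub_of_φ_bijective hlam hS _ (φ_bijective_of_basis b ha)⟩
  by_cases hc : IsUnit (b.repr 1 1)
  · let b' : Module.Basis (Fin 2) S R := b.reindex (Equiv.swap 0 1)
    have hc' : IsUnit (b'.repr 1 0) := by
      have : b'.repr 1 0 = b.repr 1 1 := by simp [b']
      rw [this]; exact hc
    exact ⟨b' 1, isUnit_sub_of_φ_bijective hlam hS _ (φ_bijective_of_basis b' hc')⟩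
  · exfalso
    obtain ⟨M, hM⟩ := Ideal.exists_maximal R
    have h0 := algebraMap_mem_of_mem_maximalIdeal hlam hS
      ((IsLocalRing.mem_maximalIdeal _).mpr ha) M
    have h1 := algebraMap_mem_of_mem_maximalIdeal hlam hS
      ((IsLocalRing.mem_maximalIdeal _).mpr hc) M
    apply hM.ne_top
    rw [Ideal.eq_top_iff_one, ← hsum, Algebra.smul_def, Algebra.smul_def]
    exact M.add_mem (M.mul_mem_right _ h0) (M.mul_mem_right _ h1)

lemma isUnit_of_notMem (hlam : Function.Involutive lam) (hS : IsFixedRing S R lam)
    (M : Ideal R) [hM : M.IsMaximal] (x : R) (h1 : x ∉ M) (h2 : lam x ∉ M) : IsUnit x := by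
  by_contra hx
  obtain ⟨N, hN, hxN⟩ := exists_max_ideal_of_mem_nonunits hx
  rcases eq_or_eq_comap hlam hS M N with h | h
  · exact h1 (h ▸ hxN)
  · apply h2
    rw [h] at hxN
    simpa [Ideal.mem_comap] using hxN

/-- Hilbert 90 for a quadratic etale algebra over a local ring. -/
theorem exists_hilbert90 (hlam : Function.Involutive lam) (hS : IsFixedRing S R lam)
    (hq : IsQuadEtale S R) (r : R) (hr : lam r * r = 1) :
    ∃ a : R, IsUnit a ∧ a * r = lam a := by
  have hform : ∀ c : R, (c + lam c * lam r) * r = lam (c + lam c * lam r) := by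
    intro c
    rw [map_add, map_mul, hlam c, hlam r]
    linear_combination (lam c) * hr
  have : Nontrivial R := hS.1.nontrivial
  obtain ⟨r₀, hr₀⟩ := exists_isUnit_sub_of_isQuadEtale hlam hS hq
  obtain ⟨M, hM⟩ := Ideal.exists_maximal R
  have hM' : (M.comap (lam : R →+* R)).IsMaximal :=
    Ideal.comap_isMaximal_of_surjective _ lam.surjective
  have hmem : ∀ x : R, x ∈ M.comap (lam : R →+* R) ↔ lam x ∈ M := fun x => by
    simp [Ideal.mem_comap]
  have hru : IsUnit r := IsUnit.of_mul_eq_one (lam r) (by rw [mul_comm]; exact hr)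
  by_cases hMM : M.comap (lam : R →+* R) = M
  · have hMlam : ∀ x : R, lam x ∈ M ↔ x ∈ M := fun x => by rw [← hmem, hMM]
    by_cases h1 : 1 + lam r ∈ M
    · refine ⟨r₀ + lam r₀ * lam r, ?_, hform r₀⟩
      have h2 : r₀ + lam r₀ * lam r ∉ M := by
        intro h
        have h3 : r₀ - lam r₀ ∈ M := by
          have := M.sub_mem h (M.mul_mem_left (lam r₀) h1)
          have e : r₀ + lam r₀ * lam r - lam r₀ * (1 + lam r) = r₀ - lam r₀ := by ring
          rwa [e] at this
        exact hM.ne_top (Ideal.eq_top_of_isUnit_mem _ h3 hr₀)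
      exact isUnit_of_notMem hlam hS M _ h2 (fun h => h2 ((hMlam _).mp h))
    · refine ⟨1 + lam 1 * lam r, ?_, hform 1⟩
      rw [map_one, one_mul]
      exact isUnit_of_notMem hlam hS M _ h1 (fun h => h1 ((hMlam _).mp h))
  · obtain ⟨a, ha, b, hb, hab⟩ := Submodule.mem_sup.mp
      ((Ideal.eq_top_iff_one _).mp (hM.coprime_of_ne hM' (Ne.symm hMM)))
    have hlb : lam b ∈ M := (hmem b).mp hb
    have hsum : lam a + lam b = 1 := by rw [← map_add, hab, map_one]
    refine ⟨b + lam b * lam r, ?_, hform b⟩
    apply isUnit_of_notMem hlam hS M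
    · intro h
      have h1 : b ∈ M := by
        have := M.sub_mem h (M.mul_mem_right (lam r) hlb)
        rwa [add_sub_cancel_right] at this
      apply hM.ne_top
      rw [Ideal.eq_top_iff_one, ← hab]
      exact M.add_mem ha h1
    · intro h
      rw [map_add, map_mul, hlam b, hlam r] at h
      have h1 : b * r ∈ M := by
        have := M.sub_mem h hlb
        rwa [add_sub_cancel_left] at this
      have h2 : b ∈ M := by
        rcases hM.isPrime.mem_or_mem h1 with h | h
        · exact h
        · exact absurd (Ideal.eq_top_of_isUnit_mem _ h hru) hM.ne_top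
      apply hM.ne_top
      rw [Ideal.eq_top_iff_one, ← hab]
      exact M.add_mem ha h2

theorem jacobson_sq_le (hlam : Function.Involutive lam) (hS : IsFixedRing S R lam)
    (h2 : IsUnit (2 : S)) :
    (Ring.jacobson R) ^ 2 ≤ (IsLocalRing.maximalIdeal S).map (algebraMap S R) := by
  have : Nontrivial R := hS.1.nontrivial
  obtain ⟨u, hu⟩ := h2.exists_left_inv
  have hu' : algebraMap S R u * 2 = 1 := by
    have := congrArg (algebraMap S R) hu
    rwa [map_mul, map_ofNat, map_one] at this
  have hJlam : ∀ x ∈ Ring.jacobson R, lam x ∈ Ring.jacobson R := by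
    intro x hx
    rw [Ring.jacobson_eq_sInf_isMaximal, Ideal.mem_sInf] at hx ⊢
    intro M hM
    have hM : M.IsMaximal := hM
    have hM' : (M.comap (lam : R →+* R)).IsMaximal :=
      Ideal.comap_isMaximal_of_surjective _ lam.surjective
    have := hx hM'
    simpa [Ideal.mem_comap] using this
  have hfix : ∀ x ∈ Ring.jacobson R, lam x = x →
      x ∈ (IsLocalRing.maximalIdeal S).map (algebraMap S R) := by
    intro x hx hfx
    obtain ⟨s, rfl⟩ := (hS.2 x).mp hfx
    apply Ideal.mem_map_of_mem
    rw [IsLocalRing.mem_maximalIdeal]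
    intro hs
    have h1 : IsUnit (algebraMap S R s) := hs.map _
    obtain ⟨M, hM⟩ := Ideal.exists_maximal R
    exact hM.ne_top (Ideal.eq_top_of_isUnit_mem _ (Ring.jacobson_le_of_isMaximal M hx) h1)
  rw [pow_two, Ideal.mul_le]
  intro x hx y hy
  have hxp : algebraMap S R u * (x + lam x) ∈ (IsLocalRing.maximalIdeal S).map (algebraMap S R) := by
    apply hfix
    · exact Ideal.mul_mem_left _ _ (Ideal.add_mem _ hx (hJlam x hx))
    · rw [map_mul, lam_algebraMap hS, map_add, hlam x, add_comm]
  have hyp : algebraMap S R u * (y + lam y) ∈ (IsLocalRing.maximalIdeal S).map (algebraMap S R) := by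
    apply hfix
    · exact Ideal.mul_mem_left _ _ (Ideal.add_mem _ hy (hJlam y hy))
    · rw [map_mul, lam_algebraMap hS, map_add, hlam y, add_comm]
  have hmm : (algebraMap S R u * (x - lam x)) * (algebraMap S R u * (y - lam y)) ∈
      (IsLocalRing.maximalIdeal S).map (algebraMap S R) := by
    apply hfix
    · exact Ideal.mul_mem_right _ _ (Ideal.mul_mem_left _ _ (Ideal.sub_mem _ hx (hJlam x hx)))
    · rw [map_mul, map_mul, map_mul, lam_algebraMap hS, map_sub, map_sub, hlam x, hlam y]
      ring
  have e : x * y = (algebraMap S R u * (x + lam x)) * y +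
      (algebraMap S R u * (x - lam x)) * (algebraMap S R u * (y + lam y)) +
      (algebraMap S R u * (x - lam x)) * (algebraMap S R u * (y - lam y)) := by
    linear_combination (-(x * y) - (algebraMap S R u) * (x - lam x) * y) * hu'
  rw [e]
  exact Ideal.add_mem _ (Ideal.add_mem _ (Ideal.mul_mem_right _ _ hxp)
    (Ideal.mul_mem_left _ _ hyp)) hmm

end Local

section NoInv

open IsLocalRing

set_option backward.inferInstanceAs.wrap.data false in
theorem jacobson_eq_map_maximalIdeal {S R : Type*} [CommRing S] [CommRing R] [Algebra S R]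
    [IsLocalRing S] [Module.Finite S R] [Algebra.FormallyUnramified S R] :
    Ring.jacobson R = (IsLocalRing.maximalIdeal S).map (algebraMap S R) := by
  apply le_antisymm
  · let mR := (maximalIdeal S).map (algebraMap S R)
    let : Algebra (ResidueField S) (R ⧸ mR) := (inferInstanceAs <| Algebra (S ⧸ _) _)
    have : IsScalarTower S (ResidueField S) (R ⧸ mR) :=
      (inferInstanceAs <| IsScalarTower S (S ⧸ _) _)
    have : Algebra.FormallyUnramified S (R ⧸ mR) := .comp _ R _
    have : Algebra.FormallyUnramified (ResidueField S) (R ⧸ mR) := .of_restrictScalars S _ _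
    have : Module.Finite (ResidueField S) (R ⧸ mR) := Module.Finite.of_restrictScalars_finite S _ _
    have : IsReduced (R ⧸ mR) :=
      Algebra.FormallyUnramified.isReduced_of_field (ResidueField S) (R ⧸ mR)
    have : IsArtinianRing (R ⧸ mR) := isArtinian_of_tower (ResidueField S) inferInstance
    have h1 : Ideal.jacobson (⊥ : Ideal (R ⧸ mR)) = ⊥ := by
      rw [IsArtinianRing.jacobson_eq_radical, ← Ideal.zero_eq_bot, ← nilradical, nilradical_eq_zero]
    have h2 : mR.jacobson = mR := Ideal.jacobson_eq_iff_jacobson_quotient_eq_bot.mpr h1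
    rw [← Ideal.jacobson_bot]
    calc Ideal.jacobson (⊥ : Ideal R) ≤ mR.jacobson := Ideal.jacobson_mono bot_le
      _ = mR := h2
  · rw [Ring.jacobson_eq_sInf_isMaximal]
    apply le_sInf
    intro M hM
    have hM : M.IsMaximal := hM
    rw [Ideal.map_le_iff_le_comap]
    have : (M.comap (algebraMap S R)).IsMaximal :=
      Ideal.isMaximal_comap_of_isIntegral_of_isMaximal M
    rw [IsLocalRing.eq_maximalIdeal this]

end NoInv

end Groth.Agent.Helper22.RInvLib
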