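import Mathlib
import Groth.Prelude.Def_RelProj
import Groth.Agent.Lib.Helper22.ProjGen

set_option autoImplicit false
set_option maxHeartbeats 400000

universe u

open CategoryTheory CategoryTheory.Limits AlgebraicGeometry TopologicalSpace Opposite
open scoped HomogeneousIdeal

namespace Groth.Agent.Helper22.RelProjLoc

variable {Y : Scheme.{u}}

section Str

variable {P : Scheme.{u}} (𝒮 : RelProj.QCGrAlg Y) (p : P ⟶ Y)
  (chart : ∀ (U : Y.Opens) (hU : IsAffineOpen U),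
    (((p ⁻¹ᵁ U : P.Opens) : Scheme.{u}) ≅ Proj (𝒮.deg U hU)))
  (hP : RelProj.IsRelProj 𝒮 p chart)

include hP in
theorem restrict_eq (U : Y.Opens) (hU : IsAffineOpen U) :
    p ∣_ U = (chart U hU).hom ≫ (Proj.toSpecZero (𝒮.deg U hU) ≫ Spec.map (𝒮.strZero U hU)) ≫
      hU.isoSpec.inv := by
  rw [← cancel_mono U.ι]
  simp only [Category.assoc, morphismRestrict_ι, IsAffineOpen.isoSpec_inv_ι]
  exact (hP.chart_over U hU).symm

include hP in
/-- a target-local property of the structure morphism of a relative `Proj` can be checked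
chartwise on `Proj 𝒮(U) ⟶ Spec 𝒮(U)₀ ⟶ Spec O(U)` -/
theorem of_chartwise_str (Q : MorphismProperty Scheme.{u}) [IsZariskiLocalAtTarget Q]
    (H : ∀ (U : Y.Opens) (hU : IsAffineOpen U),
      Q (Proj.toSpecZero (𝒮.deg U hU) ≫ Spec.map (𝒮.strZero U hU))) : Q p := by
  rw [IsZariskiLocalAtTarget.iff_of_iSup_eq_top (P := Q) (fun U : Y.affineOpens => U.1)
    (iSup_affineOpens_eq_top Y)]
  intro U
  rw [restrict_eq 𝒮 p chart hP U.1 U.2, Q.cancel_left_of_respectsIso,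
    Q.cancel_right_of_respectsIso]
  exact H U.1 U.2

include hP in
theorem isReduced_of_chartwise
    (H : ∀ (U : Y.Opens) (hU : IsAffineOpen U), AlgebraicGeometry.IsReduced (Proj (𝒮.deg U hU))) :
    AlgebraicGeometry.IsReduced P := by
  haveI : ∀ U, AlgebraicGeometry.IsReduced ((P.openCoverOfIsOpenCover _
      (.comap (iSup_affineOpens_eq_top Y) p.base.hom)).X U) := by
    intro U
    haveI := H U.1 U.2
    exact isReduced_of_isOpenImmersion (chart U.1 U.2).hom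
  exact AlgebraicGeometry.IsReduced.of_openCover P (P.openCoverOfIsOpenCover _
      (.comap (iSup_affineOpens_eq_top Y) p.base.hom))

end Str

section Map

variable {PA PB : Scheme.{u}} {𝒜 ℬ : RelProj.QCGrAlg Y}
  (φ : 𝒜.toQCAlg ⟶ ℬ.toQCAlg) (hφ : RelProj.IsGradedHom φ)
  (hirr : ∀ (U : Y.Opens) (hU : IsAffineOpen U),
    (ℬ.deg U hU)₊ ≤ ((𝒜.deg U hU)₊).map (RelProj.gradedHomAt φ hφ U hU))
  (pA : PA ⟶ Y) (pB : PB ⟶ Y)
  (chartA : ∀ (U : Y.Opens) (hU : IsAffineOpen U),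
    (((pA ⁻¹ᵁ U : PA.Opens) : Scheme.{u}) ≅ Proj (𝒜.deg U hU)))
  (chartB : ∀ (U : Y.Opens) (hU : IsAffineOpen U),
    (((pB ⁻¹ᵁ U : PB.Opens) : Scheme.{u}) ≅ Proj (ℬ.deg U hU)))
  (hA : RelProj.IsRelProj 𝒜 pA chartA) (hB : RelProj.IsRelProj ℬ pB chartB)
  (h : PB ⟶ PA) (hh : RelProj.IsRelProjMap φ hφ hirr chartA chartB h)

theorem str_compat (U : Y.Opens) (hU : IsAffineOpen U) :
    𝒜.strZero U hU ≫ CommRingCat.ofHom (ProjGen.zeroHom (𝒜.deg U hU)
      (ℬ.deg U hU) (RelProj.gradedHomAt φ hφ U hU)) = ℬ.strZero U hU := by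
  refine CommRingCat.hom_ext (RingHom.ext fun r => Subtype.ext ?_)
  show (φ.hom.app (op U)).hom ((𝒜.str.app (op U)).hom r) = (ℬ.str.app (op U)).hom r
  have := congrArg (fun t => (t.app (op U)).hom r) φ.comm
  exact this

include hA hB hh in
/-- the morphism of relative `Proj`s induced by a graded homomorphism lies over the base -/
theorem map_comp_str : h ≫ pA = pB := by
  refine Scheme.Cover.hom_ext (PB.openCoverOfIsOpenCover _
    (.comap (iSup_affineOpens_eq_top Y) pB.base.hom)) _ _ fun U => ?_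
  change (pB ⁻¹ᵁ U.1).ι ≫ h ≫ pA = (pB ⁻¹ᵁ U.1).ι ≫ pB
  rw [← hB.chart_over U.1 U.2, reassoc_of% (hh U.1 U.2), ← hA.chart_over U.1 U.2,
    Iso.inv_hom_id_assoc,
    reassoc_of% (ProjGen.map_comp_toSpecZero (𝒜.deg U.1 U.2)
      (ℬ.deg U.1 U.2) (RelProj.gradedHomAt φ hφ U.1 U.2) (hirr U.1 U.2)),
    ← Spec.map_comp_assoc, str_compat φ hφ U.1 U.2]

include hA hB hh in
/-- a target-local property of the morphism of relative `Proj`s induced by a graded homomorphism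
can be checked chartwise on the `Proj.map`s -/
theorem of_chartwise_map (Q : MorphismProperty Scheme.{u}) [IsZariskiLocalAtTarget Q]
    (H : ∀ (U : Y.Opens) (hU : IsAffineOpen U),
      Q (Proj.map (RelProj.gradedHomAt φ hφ U hU) (hirr U hU))) : Q h := by
  have hcomp : h ≫ pA = pB := map_comp_str φ hφ hirr pA pB chartA chartB hA hB h hh
  have hsup : ⨆ U : Y.affineOpens, pA ⁻¹ᵁ U.1 = ⊤ :=
    TopologicalSpace.IsOpenCover.comap (iSup_affineOpens_eq_top Y) pA.base.hom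
  rw [IsZariskiLocalAtTarget.iff_of_iSup_eq_top (P := Q)
    (fun U : Y.affineOpens => pA ⁻¹ᵁ U.1) hsup]
  intro U
  have hpre : h ⁻¹ᵁ (pA ⁻¹ᵁ U.1) = pB ⁻¹ᵁ U.1 := by
    rw [← hcomp]
    rfl
  have key : (PB.isoOfEq hpre).inv ≫ (h ∣_ (pA ⁻¹ᵁ U.1)) =
      (chartB U.1 U.2).hom ≫ Proj.map (RelProj.gradedHomAt φ hφ U.1 U.2) (hirr U.1 U.2) ≫
        (chartA U.1 U.2).inv := by
    rw [← cancel_mono (pA ⁻¹ᵁ U.1).ι]
    simp only [Category.assoc, morphismRestrict_ι]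
    rw [Scheme.isoOfEq_inv_ι_assoc]
    exact hh U.1 U.2
  have heq : h ∣_ (pA ⁻¹ᵁ U.1) = (PB.isoOfEq hpre).hom ≫ (chartB U.1 U.2).hom ≫
      Proj.map (RelProj.gradedHomAt φ hφ U.1 U.2) (hirr U.1 U.2) ≫ (chartA U.1 U.2).inv := by
    rw [← key, Iso.hom_inv_id_assoc]
  rw [heq, Q.cancel_left_of_respectsIso, Q.cancel_left_of_respectsIso,
    Q.cancel_right_of_respectsIso]
  exact H U.1 U.2

end Map

end Groth.Agent.Helper22.RelProjLoc
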