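import Mathlib
import Groth.Prelude.Def_RelProj
import Groth.Agent.Lib.Helper22.RelProjLoc

set_option autoImplicit false
set_option maxHeartbeats 400000

universe u

open CategoryTheory CategoryTheory.Limits AlgebraicGeometry TopologicalSpace Opposite
open scoped HomogeneousIdeal

namespace Groth.Agent.Helper22.RelProjGlue

section General

/-- two morphisms out of an open subscheme agree if they agree on smaller opens around
every point -/
theorem opens_hom_ext {X Z : Scheme.{u}} {V : X.Opens} (g₁ g₂ : (V : Scheme.{u}) ⟶ Z)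
    (H : ∀ x : X, x ∈ V → ∃ (W : X.Opens) (hW : W ≤ V), x ∈ W ∧
      X.homOfLE hW ≫ g₁ = X.homOfLE hW ≫ g₂) : g₁ = g₂ := by
  refine Scheme.hom_ext_of_forall _ _ fun x => ?_
  obtain ⟨W, hW, hxW, h⟩ := H x.1 x.2
  refine ⟨(X.homOfLE hW).opensRange, ⟨⟨x.1, hxW⟩, ?_⟩, ?_⟩
  · apply V.ι.isOpenEmbedding.injective
    rw [← Scheme.Hom.comp_apply, Scheme.homOfLE_ι]
    rfl
  · rw [← cancel_epi (X.homOfLE hW).isoOpensRange.hom]
    simp only [Scheme.Hom.isoOpensRange_hom_ι_assoc]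
    exact h

/-- glue morphisms defined on the members of an open cover, compatible on smaller members
around every point of the intersections -/
theorem glue_opens {X Z : Scheme.{u}} {ι : Type*} (W : ι → X.Opens)
    (hW : TopologicalSpace.IsOpenCover W)
    (f : ∀ i, ((W i : X.Opens) : Scheme.{u}) ⟶ Z)
    (hf : ∀ i j (x : X), x ∈ W i → x ∈ W j → ∃ k, x ∈ W k ∧ ∃ (hki : W k ≤ W i)
      (hkj : W k ≤ W j), X.homOfLE hki ≫ f i = f k ∧ X.homOfLE hkj ≫ f j = f k) :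
    ∃ h : X ⟶ Z, ∀ i, (W i).ι ≫ h = f i := by
  have hglue : ∀ i j, pullback.fst (W i).ι (W j).ι ≫ f i =
      pullback.snd (W i).ι (W j).ι ≫ f j := by
    intro i j
    refine Scheme.hom_ext_of_forall _ _ fun x => ?_
    have hcond : (W i).ι (pullback.fst (W i).ι (W j).ι x) =
        (W j).ι (pullback.snd (W i).ι (W j).ι x) := by
      rw [← Scheme.Hom.comp_apply, ← Scheme.Hom.comp_apply, pullback.condition]
    have hxi : (pullback.fst (W i).ι (W j).ι x).1 ∈ W i :=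
      (pullback.fst (W i).ι (W j).ι x).2
    have hxj : (pullback.fst (W i).ι (W j).ι x).1 ∈ W j := by
      have h2 := (pullback.snd (W i).ι (W j).ι x).2
      rw [Scheme.Opens.ι_apply, Scheme.Opens.ι_apply] at hcond
      rw [hcond]
      exact h2
    obtain ⟨k, hxk, hki, hkj, h1, h2⟩ := hf i j _ hxi hxj
    let α : ((W k : X.Opens) : Scheme.{u}) ⟶ pullback (W i).ι (W j).ι :=
      pullback.lift (X.homOfLE hki) (X.homOfLE hkj) (by simp)
    have hα1 : α ≫ pullback.fst (W i).ι (W j).ι = X.homOfLE hki := pullback.lift_fst _ _ _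
    have hα2 : α ≫ pullback.snd (W i).ι (W j).ι = X.homOfLE hkj := pullback.lift_snd _ _ _
    haveI : IsOpenImmersion α := by
      haveI : IsOpenImmersion (α ≫ pullback.fst (W i).ι (W j).ι) := by
        rw [hα1]
        infer_instance
      exact IsOpenImmersion.of_comp α (pullback.fst (W i).ι (W j).ι)
    have hαy : α ⟨_, hxk⟩ = x := by
      apply (pullback.fst (W i).ι (W j).ι).isOpenEmbedding.injective
      rw [← Scheme.Hom.comp_apply, hα1]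
      apply (W i).ι.isOpenEmbedding.injective
      rw [← Scheme.Hom.comp_apply, Scheme.homOfLE_ι]
      rfl
    refine ⟨α.opensRange, ⟨_, hαy⟩, ?_⟩
    rw [← cancel_epi α.isoOpensRange.hom]
    simp only [Scheme.Hom.isoOpensRange_hom_ι_assoc]
    rw [reassoc_of% hα1, reassoc_of% hα2, h1, h2]
  refine ⟨(X.openCoverOfIsOpenCover W hW).glueMorphisms f hglue, fun i => ?_⟩
  exact (X.openCoverOfIsOpenCover W hW).ι_glueMorphisms f hglue i

theorem hom_ext_preimage {Y P Z : Scheme.{u}} (p : P ⟶ Y) (g₁ g₂ : P ⟶ Z)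
    (h : ∀ (U : Y.Opens) (_ : IsAffineOpen U), (p ⁻¹ᵁ U).ι ≫ g₁ = (p ⁻¹ᵁ U).ι ≫ g₂) :
    g₁ = g₂ := by
  refine Scheme.Cover.hom_ext (P.openCoverOfIsOpenCover _
    (.comap (iSup_affineOpens_eq_top Y) p.base.hom)) _ _ fun U => ?_
  exact h U.1 U.2

/-- glue morphisms defined on the preimages of the affine opens of the base, compatible with
restriction to basic opens -/
theorem exists_unique_glue {Y X Z : Scheme.{u}} (q : X ⟶ Y)
    (f : ∀ (U : Y.Opens), IsAffineOpen U → (((q ⁻¹ᵁ U : X.Opens) : Scheme.{u}) ⟶ Z))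
    (hf : ∀ (U : Y.Opens) (hU : IsAffineOpen U) (r : Γ(Y, U)),
      X.homOfLE (q.preimage_mono (Y.basicOpen_le r)) ≫ f U hU =
        f (Y.basicOpen r) (hU.basicOpen r)) :
    ∃! h : X ⟶ Z, ∀ (U : Y.Opens) (hU : IsAffineOpen U), (q ⁻¹ᵁ U).ι ≫ h = f U hU := by
  have step1 : ∀ (U : Y.Opens) (hU : IsAffineOpen U) (r : Γ(Y, U)) (W : Y.Opens)
      (hW : IsAffineOpen W) (_ : W = Y.basicOpen r) (hWU : W ≤ U),
      X.homOfLE (q.preimage_mono hWU) ≫ f U hU = f W hW := by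
    intro U hU r W hW e hWU
    subst e
    exact hf U hU r
  have step2 : ∀ (U : Y.Opens) (hU : IsAffineOpen U) (V : Y.Opens) (hV : IsAffineOpen V)
      (hVU : V ≤ U), X.homOfLE (q.preimage_mono hVU) ≫ f U hU = f V hV := by
    intro U hU V hV hVU
    refine opens_hom_ext _ _ fun x hx => ?_
    have hxV : q x ∈ V := hx
    obtain ⟨r, s, e, hxr⟩ := exists_basicOpen_le_affine_inter hU hV (q x) ⟨hVU hxV, hxV⟩
    refine ⟨q ⁻¹ᵁ (Y.basicOpen s), q.preimage_mono (Y.basicOpen_le s), e ▸ hxr, ?_⟩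
    rw [Scheme.homOfLE_homOfLE_assoc]
    exact (step1 U hU r (Y.basicOpen s) (hV.basicOpen s) e.symm
      ((Y.basicOpen_le s).trans hVU)).trans (hf V hV s).symm
  have hcov : TopologicalSpace.IsOpenCover (fun U : Y.affineOpens => q ⁻¹ᵁ U.1) :=
    .comap (iSup_affineOpens_eq_top Y) q.base.hom
  have hcompat : ∀ (U V : Y.affineOpens) (x : X), x ∈ q ⁻¹ᵁ U.1 → x ∈ q ⁻¹ᵁ V.1 →
      ∃ k : Y.affineOpens, x ∈ q ⁻¹ᵁ k.1 ∧ ∃ (hki : q ⁻¹ᵁ k.1 ≤ q ⁻¹ᵁ U.1)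
        (hkj : q ⁻¹ᵁ k.1 ≤ q ⁻¹ᵁ V.1), X.homOfLE hki ≫ f U.1 U.2 = f k.1 k.2 ∧
          X.homOfLE hkj ≫ f V.1 V.2 = f k.1 k.2 := by
    intro U V x hxU hxV
    obtain ⟨_, ⟨W, hW, rfl⟩, hxW, hWUV⟩ := Y.isBasis_affineOpens.exists_subset_of_mem_open
      (show q x ∈ ((U.1 ⊓ V.1 : Y.Opens) : Set Y) from ⟨hxU, hxV⟩) (U.1 ⊓ V.1).2
    have hWU : W ≤ U.1 := fun _ h => (hWUV h).1
    have hWV : W ≤ V.1 := fun _ h => (hWUV h).2
    exact ⟨⟨W, hW⟩, hxW, q.preimage_mono hWU, q.preimage_mono hWV,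
      step2 U.1 U.2 W hW hWU, step2 V.1 V.2 W hW hWV⟩
  obtain ⟨h, hh⟩ := glue_opens (fun U : Y.affineOpens => q ⁻¹ᵁ U.1) hcov
    (fun U => f U.1 U.2) hcompat
  refine ⟨h, fun U hU => hh ⟨U, hU⟩, fun h' hh' => ?_⟩
  refine hom_ext_preimage q _ _ fun U hU => ?_
  rw [hh' U hU, hh ⟨U, hU⟩]

end General

section Rel

variable {Y : Scheme.{u}} {PA PB : Scheme.{u}} {𝒜 ℬ : RelProj.QCGrAlg Y}
  (pA : PA ⟶ Y) (pB : PB ⟶ Y)
  (chartA : ∀ (U : Y.Opens) (hU : IsAffineOpen U),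
    (((pA ⁻¹ᵁ U : PA.Opens) : Scheme.{u}) ≅ Proj (𝒜.deg U hU)))
  (chartB : ∀ (U : Y.Opens) (hU : IsAffineOpen U),
    (((pB ⁻¹ᵁ U : PB.Opens) : Scheme.{u}) ≅ Proj (ℬ.deg U hU)))
  (hA : RelProj.IsRelProj 𝒜 pA chartA) (hB : RelProj.IsRelProj ℬ pB chartB)

include hA in
theorem res_inv_ι (U : Y.Opens) (hU : IsAffineOpen U) (r : Γ(Y, U)) :
    Proj.map (𝒜.res hU (hU.basicOpen r) (Y.basicOpen_le r)) (𝒜.irrelevant_le_map U hU r) ≫
      (chartA U hU).inv ≫ (pA ⁻¹ᵁ U).ι =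
    (chartA (Y.basicOpen r) (hU.basicOpen r)).inv ≫ (pA ⁻¹ᵁ (Y.basicOpen r)).ι := by
  have h := (Iso.inv_comp_eq _).mpr (hA.chart_res U hU r)
  rw [← h]
  simp only [Category.assoc, Iso.hom_inv_id_assoc, Scheme.homOfLE_ι]

include hA hB in
/-- a chartwise family of morphisms `Proj ℬ(U) ⟶ Proj 𝒜(U)` compatible with restriction to
basic opens glues uniquely to a morphism of the relative `Proj`s -/
theorem exists_unique_of_chartwise
    (m : ∀ (U : Y.Opens) (hU : IsAffineOpen U), Proj (ℬ.deg U hU) ⟶ Proj (𝒜.deg U hU))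
    (hm : ∀ (U : Y.Opens) (hU : IsAffineOpen U) (r : Γ(Y, U)),
      Proj.map (ℬ.res hU (hU.basicOpen r) (Y.basicOpen_le r)) (ℬ.irrelevant_le_map U hU r) ≫
          m U hU =
        m (Y.basicOpen r) (hU.basicOpen r) ≫
          Proj.map (𝒜.res hU (hU.basicOpen r) (Y.basicOpen_le r))
            (𝒜.irrelevant_le_map U hU r)) :
    ∃! h : PB ⟶ PA, ∀ (U : Y.Opens) (hU : IsAffineOpen U),
      (pB ⁻¹ᵁ U).ι ≫ h = (chartB U hU).hom ≫ m U hU ≫ (chartA U hU).inv ≫ (pA ⁻¹ᵁ U).ι := by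
  refine exists_unique_glue pB
    (fun U hU => (chartB U hU).hom ≫ m U hU ≫ (chartA U hU).inv ≫ (pA ⁻¹ᵁ U).ι) ?_
  intro U hU r
  rw [reassoc_of% (hB.chart_res U hU r), reassoc_of% (hm U hU r),
    res_inv_ι pA chartA hA U hU r]

theorem map_congr {A B σ τ : Type u} [CommRing A] [SetLike σ A] [AddSubgroupClass σ A]
    [CommRing B] [SetLike τ B] [AddSubgroupClass τ B] {𝒜 : ℕ → σ} {ℬ : ℕ → τ}
    [GradedRing 𝒜] [GradedRing ℬ] {f g : 𝒜 →+*ᵍ ℬ} (h : f = g)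
    (hf : ℬ₊ ≤ 𝒜₊.map f) (hg : ℬ₊ ≤ 𝒜₊.map g) : Proj.map f hf = Proj.map g hg := by
  subst h
  rfl

theorem gradedHom_compat (φ : 𝒜.toQCAlg ⟶ ℬ.toQCAlg) (hφ : RelProj.IsGradedHom φ)
    (hirr : ∀ (U : Y.Opens) (hU : IsAffineOpen U),
      (ℬ.deg U hU)₊ ≤ ((𝒜.deg U hU)₊).map (RelProj.gradedHomAt φ hφ U hU))
    (U : Y.Opens) (hU : IsAffineOpen U) (r : Γ(Y, U)) :
    Proj.map (ℬ.res hU (hU.basicOpen r) (Y.basicOpen_le r)) (ℬ.irrelevant_le_map U hU r) ≫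
        Proj.map (RelProj.gradedHomAt φ hφ U hU) (hirr U hU) =
      Proj.map (RelProj.gradedHomAt φ hφ (Y.basicOpen r) (hU.basicOpen r))
          (hirr (Y.basicOpen r) (hU.basicOpen r)) ≫
        Proj.map (𝒜.res hU (hU.basicOpen r) (Y.basicOpen_le r))
          (𝒜.irrelevant_le_map U hU r) := by
  rw [← Proj.map_comp, ← Proj.map_comp]
  apply map_congr
  refine DFunLike.ext _ _ fun x => ?_
  show (ℬ.presheaf.map (homOfLE (Y.basicOpen_le r)).op).hom ((φ.hom.app (op U)).hom x) =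
    (φ.hom.app (op (Y.basicOpen r))).hom ((𝒜.presheaf.map (homOfLE (Y.basicOpen_le r)).op).hom x)
  have := congrArg (fun t => t.hom x) (φ.hom.naturality (homOfLE (Y.basicOpen_le r)).op)
  exact this.symm

end Rel

section Uniq

variable {Y P P' : Scheme.{u}} (𝒮 : RelProj.QCGrAlg Y) (p : P ⟶ Y)
  (chart : ∀ (U : Y.Opens) (hU : IsAffineOpen U),
    (((p ⁻¹ᵁ U : P.Opens) : Scheme.{u}) ≅ Proj (𝒮.deg U hU)))
  (hP : RelProj.IsRelProj 𝒮 p chart) (p' : P' ⟶ Y)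
  (chart' : ∀ (U : Y.Opens) (hU : IsAffineOpen U),
    (((p' ⁻¹ᵁ U : P'.Opens) : Scheme.{u}) ≅ Proj (𝒮.deg U hU)))
  (hP' : RelProj.IsRelProj 𝒮 p' chart')

include hP hP' in
theorem exists_unique_id :
    ∃! e : P ⟶ P', ∀ (U : Y.Opens) (hU : IsAffineOpen U),
      (p ⁻¹ᵁ U).ι ≫ e = (chart U hU).hom ≫ (chart' U hU).inv ≫ (p' ⁻¹ᵁ U).ι := by
  refine exists_unique_glue p
    (fun U hU => (chart U hU).hom ≫ (chart' U hU).inv ≫ (p' ⁻¹ᵁ U).ι) ?_
  intro U hU r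
  rw [reassoc_of% (hP.chart_res U hU r), res_inv_ι p' chart' hP' U hU r]

include hP hP' in
theorem isIso_and_over (e : P ⟶ P')
    (he : ∀ (U : Y.Opens) (hU : IsAffineOpen U),
      (p ⁻¹ᵁ U).ι ≫ e = (chart U hU).hom ≫ (chart' U hU).inv ≫ (p' ⁻¹ᵁ U).ι) :
    IsIso e ∧ e ≫ p' = p := by
  obtain ⟨e', he', -⟩ := exists_unique_id 𝒮 p' chart' hP' p chart hP
  have h1 : e ≫ e' = 𝟙 P := by
    refine hom_ext_preimage p _ _ fun U hU => ?_
    rw [reassoc_of% (he U hU), he' U hU]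
    simp
  have h2 : e' ≫ e = 𝟙 P' := by
    refine hom_ext_preimage p' _ _ fun U hU => ?_
    rw [reassoc_of% (he' U hU), he U hU]
    simp
  refine ⟨⟨e', h1, h2⟩, ?_⟩
  refine hom_ext_preimage p _ _ fun U hU => ?_
  rw [reassoc_of% (he U hU), ← hP'.chart_over U hU, Iso.inv_hom_id_assoc, hP.chart_over U hU]

end Uniq

end Groth.Agent.Helper22.RelProjGlue
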