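import Mathlib
import Groth.Prelude.Def_RelSpec
import Groth.Agent.Lib.Helper22.RelProjGlue

set_option autoImplicit false
set_option maxHeartbeats 400000

universe u

open CategoryTheory CategoryTheory.Limits AlgebraicGeometry TopologicalSpace Opposite

namespace Groth.Agent.Helper22.RelSpecQMor

open Groth.Agent.Helper22.RelProjGlue

section Basic

variable {S : Scheme.{u}} (A : RelSpec.QCAlg S)

theorem ι_res_basic (U : S.Opens) (hU : IsAffineOpen U) (r : Γ(S, U))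
    (hD : IsAffineOpen (S.basicOpen r)) :
    Spec.map (A.presheaf.map (homOfLE (S.basicOpen_le r)).op) ≫ A.ι U hU =
      A.ι (S.basicOpen r) hD :=
  A.ι_res (U := ⟨U, hU⟩) (V := ⟨S.basicOpen r, hD⟩) (homOfLE ⟨r, rfl⟩)

theorem basicOpen_of_eq {X : Scheme.{u}} {U : X.Opens} (hU : IsAffineOpen U) (r : Γ(X, U))
    (D : X.Opens) (e : X.basicOpen r = D) (g : Γ(X, D)) :
    ∃ a : Γ(X, U), X.basicOpen a = X.basicOpen g := by
  subst e
  exact hU.basicOpen_basicOpen_is_basicOpen r g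

theorem map_map_apply {X : TopCat.{u}} (F : TopCat.Presheaf CommRingCat.{u} X) {U V W : Opens X}
    (h1 : V ≤ U) (h2 : W ≤ V) (y : F.obj (op U)) :
    (F.map (homOfLE h2).op).hom ((F.map (homOfLE h1).op).hom y) =
      (F.map (homOfLE (h2.trans h1)).op).hom y := by
  rw [← CommRingCat.comp_apply, ← Functor.map_comp]
  rfl

end Basic

section QMor

variable {S S' : Scheme.{u}} (q : S' ⟶ S) (B : RelSpec.QCAlg S) (B' : RelSpec.QCAlg S')
  (u : B.presheaf ⟶ q.base _* B'.presheaf)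

/-- the ring map `B(U) ⟶ B'(U')` given by `u` and restriction -/
noncomputable def rho (U : S.Opens) (U' : S'.Opens) (hle : U' ≤ q ⁻¹ᵁ U) :
    B.presheaf.obj (op U) ⟶ B'.presheaf.obj (op U') :=
  (u.app (op U) : B.presheaf.obj (op U) ⟶ B'.presheaf.obj (op (q ⁻¹ᵁ U))) ≫
    B'.presheaf.map (homOfLE hle).op

theorem rho_res {U T : S.Opens} {U' T' : S'.Opens} (hTU : T ≤ U) (hT'U' : T' ≤ U')
    (hle : U' ≤ q ⁻¹ᵁ U) (hle' : T' ≤ q ⁻¹ᵁ T) :
    rho q B B' u U U' hle ≫ B'.presheaf.map (homOfLE hT'U').op =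
      B.presheaf.map (homOfLE hTU).op ≫ rho q B B' u T T' hle' := by
  refine CommRingCat.hom_ext (RingHom.ext fun x => ?_)
  have natx := congrArg (fun t => t.hom x) (u.naturality (homOfLE hTU).op)
  have natx' : (u.app (op T)).hom ((B.presheaf.map (homOfLE hTU).op).hom x) =
      (B'.presheaf.map (homOfLE (q.preimage_mono hTU)).op).hom ((u.app (op U)).hom x) := natx
  show (B'.presheaf.map (homOfLE hT'U').op).hom
      ((B'.presheaf.map (homOfLE hle).op).hom ((u.app (op U)).hom x)) =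
    (B'.presheaf.map (homOfLE hle').op).hom
      ((u.app (op T)).hom ((B.presheaf.map (homOfLE hTU).op).hom x))
  rw [natx', map_map_apply, map_map_apply]

theorem str_rho (hu : B.str ≫ u = q.c ≫ (TopCat.Presheaf.pushforward CommRingCat.{u} q.base).map B'.str)
    (U : S.Opens) (U' : S'.Opens) (hle : U' ≤ q ⁻¹ᵁ U) :
    B.str.app (op U) ≫ rho q B B' u U U' hle = q.appLE U U' hle ≫ B'.str.app (op U') := by
  refine CommRingCat.hom_ext (RingHom.ext fun x => ?_)
  have h1 := congrArg (fun t => (t.app (op U)).hom x) hu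
  have h1' : (u.app (op U)).hom ((B.str.app (op U)).hom x) =
      (B'.str.app (op (q ⁻¹ᵁ U))).hom ((q.c.app (op U)).hom x) := h1
  have h2 := congrArg (fun t => t.hom ((q.c.app (op U)).hom x))
    (B'.str.naturality (homOfLE hle).op)
  show (B'.presheaf.map (homOfLE hle).op).hom ((u.app (op U)).hom ((B.str.app (op U)).hom x)) =
    (B'.str.app (op U')).hom ((q.appLE U U' hle).hom x)
  rw [h1']
  exact h2.symm

/-- index: an affine open of the base and an affine open of the source mapping into it -/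
structure Idx where
  U : S.Opens
  hU : IsAffineOpen U
  U' : S'.Opens
  hU' : IsAffineOpen U'
  hle : U' ≤ q ⁻¹ᵁ U

theorem isOpenCover :
    TopologicalSpace.IsOpenCover (fun t : Idx q => (B'.ι t.U' t.hU').opensRange) := by
  refine eq_top_iff.mpr fun x _ => ?_
  obtain ⟨_, ⟨U, hU, rfl⟩, hyU, -⟩ := S.isBasis_affineOpens.exists_subset_of_mem_open
    (Set.mem_univ (q (B'.π x))) isOpen_univ
  obtain ⟨_, ⟨U', hU', rfl⟩, hyU', hU'le⟩ := S'.isBasis_affineOpens.exists_subset_of_mem_open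
    (show B'.π x ∈ ((q ⁻¹ᵁ U : S'.Opens) : Set S') from hyU) (q ⁻¹ᵁ U).2
  refine Opens.mem_iSup.mpr ⟨⟨U, hU, U', hU', fun _ h => hU'le h⟩, ?_⟩
  show x ∈ (B'.ι U' hU').opensRange
  rw [← B'.π_preimage U' hU']
  exact hyU'

theorem key (U : S.Opens) (hU : IsAffineOpen U) (U' : S'.Opens) (hU' : IsAffineOpen U')
    (hle : U' ≤ q ⁻¹ᵁ U) (r : Γ(S, U)) (a : Γ(S', U')) (T : S.Opens) (hT : IsAffineOpen T)
    (eT : T = S.basicOpen r) (T' : S'.Opens) (hT' : IsAffineOpen T') (eT' : T' = S'.basicOpen a)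
    (hle' : T' ≤ q ⁻¹ᵁ T)
    (hW : (B'.ι T' hT').opensRange ≤ (B'.ι U' hU').opensRange) :
    B'.spec.homOfLE hW ≫ (B'.ι U' hU').isoOpensRange.inv ≫
        Spec.map (rho q B B' u U U' hle) ≫ B.ι U hU =
      (B'.ι T' hT').isoOpensRange.inv ≫ Spec.map (rho q B B' u T T' hle') ≫ B.ι T hT := by
  subst eT eT'
  have h4 : B'.spec.homOfLE hW ≫ (B'.ι U' hU').isoOpensRange.inv =
      (B'.ι (S'.basicOpen a) hT').isoOpensRange.inv ≫
        Spec.map (B'.presheaf.map (homOfLE (S'.basicOpen_le a)).op) := by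
    rw [← cancel_mono (B'.ι U' hU')]
    simp only [Category.assoc, Scheme.Hom.isoOpensRange_inv_comp, Scheme.homOfLE_ι]
    rw [ι_res_basic B' U' hU' a hT', Scheme.Hom.isoOpensRange_inv_comp]
  rw [reassoc_of% h4]
  congr 1
  rw [← ι_res_basic B U hU r hT, ← Spec.map_comp_assoc, ← Spec.map_comp_assoc,
    rho_res q B B' u (S.basicOpen_le r) (S'.basicOpen_le a) hle hle']

variable (hu : B.str ≫ u = q.c ≫ (TopCat.Presheaf.pushforward CommRingCat.{u} q.base).map B'.str)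

theorem compat (i j : Idx q) (x : B'.spec) (hxi : x ∈ (B'.ι i.U' i.hU').opensRange)
    (hxj : x ∈ (B'.ι j.U' j.hU').opensRange) :
    ∃ k : Idx q, x ∈ (B'.ι k.U' k.hU').opensRange ∧
      ∃ (hki : (B'.ι k.U' k.hU').opensRange ≤ (B'.ι i.U' i.hU').opensRange)
        (hkj : (B'.ι k.U' k.hU').opensRange ≤ (B'.ι j.U' j.hU').opensRange),
        B'.spec.homOfLE hki ≫ ((B'.ι i.U' i.hU').isoOpensRange.inv ≫
            Spec.map (rho q B B' u i.U i.U' i.hle) ≫ B.ι i.U i.hU) =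
          (B'.ι k.U' k.hU').isoOpensRange.inv ≫
            Spec.map (rho q B B' u k.U k.U' k.hle) ≫ B.ι k.U k.hU ∧
        B'.spec.homOfLE hkj ≫ ((B'.ι j.U' j.hU').isoOpensRange.inv ≫
            Spec.map (rho q B B' u j.U j.U' j.hle) ≫ B.ι j.U j.hU) =
          (B'.ι k.U' k.hU').isoOpensRange.inv ≫
            Spec.map (rho q B B' u k.U k.U' k.hle) ≫ B.ι k.U k.hU := by
  obtain ⟨U, hU, U', hU', hle⟩ := i
  obtain ⟨V, hV, V', hV', hle2⟩ := j
  have hyU' : B'.π x ∈ U' := by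
    have h := hxi
    rw [← B'.π_preimage U' hU'] at h
    exact h
  have hyV' : B'.π x ∈ V' := by
    have h := hxj
    rw [← B'.π_preimage V' hV'] at h
    exact h
  have hyU : q (B'.π x) ∈ U := hle hyU'
  have hyV : q (B'.π x) ∈ V := hle2 hyV'
  obtain ⟨r, s, eTs, hyr⟩ := exists_basicOpen_le_affine_inter hU hV (q (B'.π x)) ⟨hyU, hyV⟩
  have hys : q (B'.π x) ∈ S.basicOpen s := eTs ▸ hyr
  obtain ⟨r'', s'', e'', hy''⟩ :=
    exists_basicOpen_le_affine_inter hU' hV' (B'.π x) ⟨hyU', hyV'⟩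
  have hy''s : B'.π x ∈ S'.basicOpen s'' := e'' ▸ hy''
  obtain ⟨g, hg1, hg2⟩ := (hV'.basicOpen s'').exists_basicOpen_le
    (V := q ⁻¹ᵁ S.basicOpen s) ⟨B'.π x, hys⟩ hy''s
  obtain ⟨a, ha⟩ := basicOpen_of_eq hU' r'' _ e'' g
  obtain ⟨b, hb⟩ := hV'.basicOpen_basicOpen_is_basicOpen s'' g
  have hT' : IsAffineOpen (S'.basicOpen g) := (hV'.basicOpen s'').basicOpen g
  have hTU' : S'.basicOpen g ≤ U' := ha ▸ S'.basicOpen_le a
  have hTV' : S'.basicOpen g ≤ V' := hb ▸ S'.basicOpen_le b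
  have hki : (B'.ι (S'.basicOpen g) hT').opensRange ≤ (B'.ι U' hU').opensRange := by
    rw [← B'.π_preimage _ hT', ← B'.π_preimage U' hU']
    exact B'.π.preimage_mono hTU'
  have hkj : (B'.ι (S'.basicOpen g) hT').opensRange ≤ (B'.ι V' hV').opensRange := by
    rw [← B'.π_preimage _ hT', ← B'.π_preimage V' hV']
    exact B'.π.preimage_mono hTV'
  refine ⟨⟨S.basicOpen s, hV.basicOpen s, S'.basicOpen g, hT', hg1⟩, ?_, hki, hkj, ?_, ?_⟩
  · show x ∈ (B'.ι (S'.basicOpen g) hT').opensRange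
    rw [← B'.π_preimage _ hT']
    exact hg2
  · exact key q B B' u U hU U' hU' hle r a (S.basicOpen s) (hV.basicOpen s) eTs.symm
      (S'.basicOpen g) hT' ha.symm hg1 hki
  · exact key q B B' u V hV V' hV' hle2 s b (S.basicOpen s) (hV.basicOpen s) rfl
      (S'.basicOpen g) hT' hb.symm hg1 hkj

include hu in
theorem over_base (v : B'.spec ⟶ B.spec)
    (hv : ∀ (U : S.Opens) (hU : IsAffineOpen U) (U' : S'.Opens) (hU' : IsAffineOpen U')
      (hle : U' ≤ q ⁻¹ᵁ U), B'.ι U' hU' ≫ v = Spec.map (rho q B B' u U U' hle) ≫ B.ι U hU) :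
    v ≫ B.π = B'.π ≫ q := by
  refine Scheme.Cover.hom_ext (B'.spec.openCoverOfIsOpenCover _ (isOpenCover q B')) _ _
    fun t => ?_
  obtain ⟨U, hU, U', hU', hle⟩ := t
  change (B'.ι U' hU').opensRange.ι ≫ v ≫ B.π = (B'.ι U' hU').opensRange.ι ≫ B'.π ≫ q
  rw [← cancel_epi (B'.ι U' hU').isoOpensRange.hom]
  simp only [Scheme.Hom.isoOpensRange_hom_ι_assoc]
  rw [reassoc_of% (hv U hU U' hU' hle), B.ι_π U hU, reassoc_of% (B'.ι_π U' hU'),
    ← IsAffineOpen.SpecMap_appLE_fromSpec q hU hU' hle, ← Spec.map_comp_assoc,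
    ← Spec.map_comp_assoc, str_rho q B B' u hu U U' hle]

theorem exists_unique_specMap :
    ∃! v : B'.spec ⟶ B.spec, ∀ (U : S.Opens) (hU : IsAffineOpen U) (U' : S'.Opens)
      (hU' : IsAffineOpen U') (hle : U' ≤ q ⁻¹ᵁ U),
      B'.ι U' hU' ≫ v = Spec.map (rho q B B' u U U' hle) ≫ B.ι U hU := by
  obtain ⟨v, hv⟩ := glue_opens (fun t : Idx q => (B'.ι t.U' t.hU').opensRange)
    (isOpenCover q B')
    (fun t => (B'.ι t.U' t.hU').isoOpensRange.inv ≫
      Spec.map (rho q B B' u t.U t.U' t.hle) ≫ B.ι t.U t.hU)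
    (compat q B B' u)
  refine ⟨v, fun U hU U' hU' hle => ?_, fun v' hv' => ?_⟩
  · have h := hv ⟨U, hU, U', hU', hle⟩
    rw [← cancel_epi (B'.ι U' hU').isoOpensRange.inv]
    simp only [Scheme.Hom.isoOpensRange_inv_comp_assoc]
    exact h
  · refine Scheme.Cover.hom_ext (B'.spec.openCoverOfIsOpenCover _ (isOpenCover q B')) _ _
      fun t => ?_
    obtain ⟨U, hU, U', hU', hle⟩ := t
    change (B'.ι U' hU').opensRange.ι ≫ v' = (B'.ι U' hU').opensRange.ι ≫ v
    rw [hv ⟨U, hU, U', hU', hle⟩, ← cancel_epi (B'.ι U' hU').isoOpensRange.hom]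
    simp only [Scheme.Hom.isoOpensRange_hom_ι_assoc, Iso.hom_inv_id_assoc]
    exact hv' U hU U' hU' hle

end QMor

end Groth.Agent.Helper22.RelSpecQMor
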