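import Mathlib
import Groth.Prelude.Def_RelSpec2
import Groth.Agent.Lib.Helper22.RelSpecQMor

set_option autoImplicit false
set_option maxHeartbeats 400000

universe u

open CategoryTheory CategoryTheory.Limits AlgebraicGeometry TopologicalSpace Opposite
open scoped HomogeneousIdeal

namespace Groth.Agent.Helper22.RelConeLoc

open Groth.Agent.Helper22.RelSpecQMor

section VC

theorem mem_vertexCompl {R : CommRingCat.{u}} (𝒜 : ℕ → AddSubgroup R) [GradedRing 𝒜]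
    (y : Spec R) :
    y ∈ RelCone.vertexCompl 𝒜 ↔
      ∃ f ∈ (HomogeneousIdeal.irrelevant 𝒜).toIdeal, f ∉ y.asIdeal := by
  have e : y ∈ RelCone.vertexCompl 𝒜 ↔
      ¬ (((HomogeneousIdeal.irrelevant 𝒜).toIdeal : Set R) ⊆ (y.asIdeal : Set R)) := Iff.rfl
  exact e.trans Set.not_subset

theorem map_mem_irrelevant {A B σ τ : Type*} [CommRing A] [SetLike σ A] [AddSubgroupClass σ A]
    [CommRing B] [SetLike τ B] [AddSubgroupClass τ B] {𝒜 : ℕ → σ} {ℬ : ℕ → τ}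
    [GradedRing 𝒜] [GradedRing ℬ] (ψ : 𝒜 →+*ᵍ ℬ) {f : A}
    (hf : f ∈ (HomogeneousIdeal.irrelevant 𝒜).toIdeal) :
    ψ f ∈ (HomogeneousIdeal.irrelevant ℬ).toIdeal := by
  have hf' : f ∈ HomogeneousIdeal.irrelevant 𝒜 := hf
  rw [HomogeneousIdeal.mem_irrelevant_iff, GradedRing.proj_apply] at hf'
  show ψ f ∈ HomogeneousIdeal.irrelevant ℬ
  rw [HomogeneousIdeal.mem_irrelevant_iff, GradedRing.proj_apply,
    ← GradedRingHom.map_directSumDecompose, hf', map_zero]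

end VC

section CI

variable {S : Scheme.{u}}

theorem ι_res_eq (A : RelSpec.QCAlg S) (U : S.Opens) (hU : IsAffineOpen U) (r : Γ(S, U))
    (W : S.Opens) (hW : IsAffineOpen W) (e : W = S.basicOpen r) (hWU : W ≤ U) :
    Spec.map (A.presheaf.map (homOfLE hWU).op) ≫ A.ι U hU = A.ι W hW := by
  subst e
  exact ι_res_basic A U hU r hW

theorem exists_chart (A : RelSpec.QCAlg S) (x : A.spec) (U : S.Opens) (hU : IsAffineOpen U)
    (hx : A.π x ∈ U) : ∃ y, A.ι U hU y = x := by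
  have h : x ∈ (A.ι U hU).opensRange := by
    rw [← A.π_preimage U hU]
    exact hx
  exact h

theorem π_ι_mem (A : RelSpec.QCAlg S) (U : S.Opens) (hU : IsAffineOpen U)
    (y : Spec (A.presheaf.obj (op U))) : A.π (A.ι U hU y) ∈ U := by
  have h : A.ι U hU y ∈ (A.ι U hU).opensRange := ⟨y, rfl⟩
  rw [← A.π_preimage U hU] at h
  exact h

variable (𝒮 : RelProj.QCGrAlg S)

theorem specMap_mem_vertexCompl_basic (U : S.Opens) (hU : IsAffineOpen U) (r : Γ(S, U))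
    (W : S.Opens) (hW : IsAffineOpen W) (e : W = S.basicOpen r) (hWU : W ≤ U)
    (w : Spec (𝒮.presheaf.obj (op W))) :
    Spec.map (𝒮.presheaf.map (homOfLE hWU).op) w ∈ RelCone.vertexCompl (𝒮.deg U hU) ↔
      w ∈ RelCone.vertexCompl (𝒮.deg W hW) := by
  subst e
  rw [mem_vertexCompl, mem_vertexCompl]
  constructor
  · rintro ⟨f, hf, hfw⟩
    exact ⟨𝒮.res hU hW hWU f, map_mem_irrelevant (𝒮.res hU hW hWU) hf, hfw⟩
  · rintro ⟨g, hg, hgw⟩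
    by_contra hcon
    apply hgw
    have hall : ∀ f ∈ ((𝒮.deg U hU)₊).toIdeal, (𝒮.res hU hW hWU) f ∈ w.asIdeal := by
      intro f hf
      by_contra h
      exact hcon ⟨f, hf, h⟩
    have hmap : Ideal.map (𝒮.res hU hW hWU) ((𝒮.deg U hU)₊).toIdeal ≤ w.asIdeal :=
      Ideal.map_le_iff_le_comap.mpr hall
    exact hmap (𝒮.irrelevant_le_map U hU r hg)

/-- membership of the vertex complement does not depend on the chart -/
theorem mem_vertexCompl_of_ι_eq (U : S.Opens) (hU : IsAffineOpen U) (V : S.Opens)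
    (hV : IsAffineOpen V) (y : Spec (𝒮.presheaf.obj (op U))) (z : Spec (𝒮.presheaf.obj (op V)))
    (h : 𝒮.toQCAlg.ι U hU y = 𝒮.toQCAlg.ι V hV z) :
    y ∈ RelCone.vertexCompl (𝒮.deg U hU) ↔ z ∈ RelCone.vertexCompl (𝒮.deg V hV) := by
  have hxU : 𝒮.toQCAlg.π (𝒮.toQCAlg.ι U hU y) ∈ U := π_ι_mem 𝒮.toQCAlg U hU y
  have hxV : 𝒮.toQCAlg.π (𝒮.toQCAlg.ι U hU y) ∈ V := by
    rw [h]
    exact π_ι_mem 𝒮.toQCAlg V hV z
  obtain ⟨r, s, e, hxr⟩ := exists_basicOpen_le_affine_inter hU hV _ ⟨hxU, hxV⟩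
  have hxs : 𝒮.toQCAlg.π (𝒮.toQCAlg.ι U hU y) ∈ S.basicOpen s := e ▸ hxr
  have hW : IsAffineOpen (S.basicOpen s) := hV.basicOpen s
  obtain ⟨w, hw⟩ := exists_chart 𝒮.toQCAlg _ (S.basicOpen s) hW hxs
  have hWU : S.basicOpen s ≤ U := e ▸ S.basicOpen_le r
  have h1 : Spec.map (𝒮.presheaf.map (homOfLE hWU).op) w = y := by
    apply (𝒮.toQCAlg.ι U hU).isOpenEmbedding.injective
    rw [← Scheme.Hom.comp_apply, ι_res_eq 𝒮.toQCAlg U hU r _ hW e.symm hWU]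
    exact hw
  have h2 : Spec.map (𝒮.presheaf.map (homOfLE (S.basicOpen_le s)).op) w = z := by
    apply (𝒮.toQCAlg.ι V hV).isOpenEmbedding.injective
    rw [← Scheme.Hom.comp_apply, ι_res_basic 𝒮.toQCAlg V hV s hW]
    exact hw.trans h
  rw [← h1, ← h2, specMap_mem_vertexCompl_basic 𝒮 U hU r _ hW e.symm hWU w,
    specMap_mem_vertexCompl_basic 𝒮 V hV s _ hW rfl (S.basicOpen_le s) w]

theorem ι_mem_pointedCone_iff (U : S.Opens) (hU : IsAffineOpen U)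
    (y : Spec (𝒮.presheaf.obj (op U))) :
    𝒮.toQCAlg.ι U hU y ∈ RelCone.pointedCone 𝒮 ↔ y ∈ RelCone.vertexCompl (𝒮.deg U hU) := by
  constructor
  · intro h
    obtain ⟨V, hV⟩ := Opens.mem_iSup.mp h
    obtain ⟨z, hz, hzy⟩ := hV
    exact (mem_vertexCompl_of_ι_eq 𝒮 U hU V.1 V.2 y z hzy.symm).mpr hz
  · intro h
    exact Opens.mem_iSup.mpr ⟨⟨U, hU⟩, y, h, rfl⟩

end CI

section QMor

variable {Y Y' : Scheme.{u}} (q : Y' ⟶ Y) (𝒮 : RelProj.QCGrAlg Y) (𝒮' : RelProj.QCGrAlg Y')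
  (u : 𝒮.presheaf ⟶ q.base _* 𝒮'.presheaf)
  (φ : ∀ (U : Y.Opens) (hU : IsAffineOpen U) (U' : Y'.Opens) (hU' : IsAffineOpen U')
    (_ : U' ≤ q ⁻¹ᵁ U), 𝒮.deg U hU →+*ᵍ 𝒮'.deg U' hU')
  (hφ : ∀ (U : Y.Opens) (hU : IsAffineOpen U) (U' : Y'.Opens) (hU' : IsAffineOpen U')
    (hle : U' ≤ q ⁻¹ᵁ U), (φ U hU U' hU' hle).toRingHom =
      ((u.app (op U) : 𝒮.presheaf.obj (op U) ⟶ 𝒮'.presheaf.obj (op (q ⁻¹ᵁ U))) ≫
        𝒮'.presheaf.map (homOfLE hle).op).hom)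
  (Φ : 𝒮'.toQCAlg.spec ⟶ 𝒮.toQCAlg.spec)
  (hΦ : ∀ (U : Y.Opens) (hU : IsAffineOpen U) (U' : Y'.Opens) (hU' : IsAffineOpen U')
    (hle : U' ≤ q ⁻¹ᵁ U), 𝒮'.toQCAlg.ι U' hU' ≫ Φ =
      Spec.map ((u.app (op U) : 𝒮.presheaf.obj (op U) ⟶ 𝒮'.presheaf.obj (op (q ⁻¹ᵁ U))) ≫
        𝒮'.presheaf.map (homOfLE hle).op) ≫ 𝒮.toQCAlg.ι U hU)

include hΦ in
theorem Φ_ι (U : Y.Opens) (hU : IsAffineOpen U) (U' : Y'.Opens) (hU' : IsAffineOpen U')
    (hle : U' ≤ q ⁻¹ᵁ U) (y' : Spec (𝒮'.presheaf.obj (op U'))) :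
    Φ (𝒮'.toQCAlg.ι U' hU' y') =
      𝒮.toQCAlg.ι U hU (Spec.map (rho q 𝒮.toQCAlg 𝒮'.toQCAlg u U U' hle) y') := by
  rw [← Scheme.Hom.comp_apply, hΦ U hU U' hU' hle, Scheme.Hom.comp_apply]
  rfl

include hφ in
theorem rho_apply (U : Y.Opens) (hU : IsAffineOpen U) (U' : Y'.Opens) (hU' : IsAffineOpen U')
    (hle : U' ≤ q ⁻¹ᵁ U) (f : 𝒮.presheaf.obj (op U)) :
    (rho q 𝒮.toQCAlg 𝒮'.toQCAlg u U U' hle).hom f = φ U hU U' hU' hle f :=
  (DFunLike.congr_fun (hφ U hU U' hU' hle) f).symm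

theorem exists_charts (x' : 𝒮'.toQCAlg.spec) :
    ∃ (U : Y.Opens) (hU : IsAffineOpen U) (U' : Y'.Opens) (hU' : IsAffineOpen U')
      (_ : U' ≤ q ⁻¹ᵁ U) (y' : Spec (𝒮'.presheaf.obj (op U'))),
      𝒮'.toQCAlg.ι U' hU' y' = x' := by
  obtain ⟨_, ⟨U, hU, rfl⟩, hyU, -⟩ := Y.isBasis_affineOpens.exists_subset_of_mem_open
    (Set.mem_univ (q (𝒮'.toQCAlg.π x'))) isOpen_univ
  obtain ⟨_, ⟨U', hU', rfl⟩, hyU', hU'le⟩ := Y'.isBasis_affineOpens.exists_subset_of_mem_open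
    (show 𝒮'.toQCAlg.π x' ∈ ((q ⁻¹ᵁ U : Y'.Opens) : Set Y') from hyU) (q ⁻¹ᵁ U).2
  obtain ⟨y', hy'⟩ := exists_chart 𝒮'.toQCAlg x' U' hU' hyU'
  exact ⟨U, hU, U', hU', fun _ h => hU'le h, y', hy'⟩

include hφ hΦ in
theorem preimage_pointedCone_le :
    Φ ⁻¹ᵁ RelCone.pointedCone 𝒮 ≤ RelCone.pointedCone 𝒮' := by
  intro x' hx'
  have hx : Φ x' ∈ RelCone.pointedCone 𝒮 := hx'
  obtain ⟨U, hU, U', hU', hle, y', rfl⟩ := exists_charts q 𝒮' x'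
  rw [Φ_ι q 𝒮 𝒮' u Φ hΦ U hU U' hU' hle y', ι_mem_pointedCone_iff, mem_vertexCompl] at hx
  obtain ⟨f, hf, hfy⟩ := hx
  rw [ι_mem_pointedCone_iff, mem_vertexCompl]
  refine ⟨φ U hU U' hU' hle f, map_mem_irrelevant _ hf, fun hmem => hfy ?_⟩
  show (rho q 𝒮.toQCAlg 𝒮'.toQCAlg u U U' hle).hom f ∈ y'.asIdeal
  rw [rho_apply q 𝒮 𝒮' u φ hφ U hU U' hU' hle f]
  exact hmem

include hφ hΦ in
theorem dom_top_iff :
    (∀ (U : Y.Opens) (hU : IsAffineOpen U) (U' : Y'.Opens) (hU' : IsAffineOpen U')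
      (hle : U' ≤ q ⁻¹ᵁ U), RelCone.domOpen (φ U hU U' hU' hle) = ⊤) ↔
      Φ ⁻¹ᵁ RelCone.pointedCone 𝒮 = RelCone.pointedCone 𝒮' := by
  classical
  constructor
  · intro hdom
    refine le_antisymm (preimage_pointedCone_le q 𝒮 𝒮' u φ hφ Φ hΦ) ?_
    intro x' hx'
    obtain ⟨U, hU, U', hU', hle, y', rfl⟩ := exists_charts q 𝒮' x'
    rw [ι_mem_pointedCone_iff, mem_vertexCompl] at hx'
    obtain ⟨g, hg, hgy⟩ := hx'
    have hprime : (y'.asIdeal.homogeneousCore (𝒮'.deg U' hU')).toIdeal.IsPrime :=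
      Ideal.IsPrime.homogeneousCore y'.isPrime
    have hnot : ¬ HomogeneousIdeal.irrelevant (𝒮'.deg U' hU') ≤
        y'.asIdeal.homogeneousCore (𝒮'.deg U' hU') := by
      intro hle2
      exact hgy (Ideal.toIdeal_homogeneousCore_le _ _ (hle2 hg))
    have hpt : (⟨y'.asIdeal.homogeneousCore (𝒮'.deg U' hU'), hprime, hnot⟩ :
        ProjectiveSpectrum (𝒮'.deg U' hU')) ∈ RelCone.domOpen (φ U hU U' hU' hle) := by
      rw [hdom U hU U' hU' hle]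
      trivial
    obtain ⟨f, hf, hfc⟩ := (RelCone.mem_domOpen _ _).mp hpt
    have hex : ∃ i, 0 < i ∧ φ U hU U' hU' hle
        (DirectSum.decompose (𝒮.deg U hU) f i : 𝒮.presheaf.obj (op U)) ∉ y'.asIdeal := by
      by_contra hcon
      apply hfc
      show φ U hU U' hU' hle f ∈ (y'.asIdeal.homogeneousCore (𝒮'.deg U' hU')).toIdeal
      have hsum : f = ∑ i ∈ (DirectSum.decompose (𝒮.deg U hU) f).support,
          (DirectSum.decompose (𝒮.deg U hU) f i : 𝒮.presheaf.obj (op U)) :=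
        (DirectSum.sum_support_decompose (𝒮.deg U hU) f).symm
      rw [hsum, map_sum]
      refine Ideal.sum_mem _ fun i _ => ?_
      rcases Nat.eq_zero_or_pos i with h0 | h0
      · subst h0
        have hf' : f ∈ HomogeneousIdeal.irrelevant (𝒮.deg U hU) := hf
        rw [HomogeneousIdeal.mem_irrelevant_iff, GradedRing.proj_apply] at hf'
        rw [hf', map_zero]
        exact zero_mem _
      · have hmem : φ U hU U' hU' hle
            (DirectSum.decompose (𝒮.deg U hU) f i : 𝒮.presheaf.obj (op U)) ∈ y'.asIdeal := by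
          by_contra h
          exact hcon ⟨i, h0, h⟩
        exact Ideal.mem_homogeneousCore_of_homogeneous_of_mem
          ⟨i, (φ U hU U' hU' hle).map_mem (SetLike.coe_mem _)⟩ hmem
    obtain ⟨i, h0, hi⟩ := hex
    show Φ (𝒮'.toQCAlg.ι U' hU' y') ∈ RelCone.pointedCone 𝒮
    rw [Φ_ι q 𝒮 𝒮' u Φ hΦ U hU U' hU' hle y', ι_mem_pointedCone_iff, mem_vertexCompl]
    refine ⟨(DirectSum.decompose (𝒮.deg U hU) f i : 𝒮.presheaf.obj (op U)),
      HomogeneousIdeal.mem_irrelevant_of_mem _ h0 (SetLike.coe_mem _), fun hmem => hi ?_⟩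
    have hmem' : (rho q 𝒮.toQCAlg 𝒮'.toQCAlg u U U' hle).hom
        (DirectSum.decompose (𝒮.deg U hU) f i : 𝒮.presheaf.obj (op U)) ∈ y'.asIdeal := hmem
    rw [rho_apply q 𝒮 𝒮' u φ hφ U hU U' hU' hle] at hmem'
    exact hmem'
  · intro heq U hU U' hU' hle
    refine eq_top_iff.mpr fun x _ => ?_
    rw [RelCone.mem_domOpen]
    obtain ⟨y', hy'def⟩ : ∃ y' : Spec (𝒮'.presheaf.obj (op U')),
        y'.asIdeal = (ProjectiveSpectrum.asHomogeneousIdeal x).toIdeal :=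
      ⟨⟨_, ProjectiveSpectrum.isPrime x⟩, rfl⟩
    have hy' : y' ∈ RelCone.vertexCompl (𝒮'.deg U' hU') := by
      rw [mem_vertexCompl]
      by_contra hcon
      apply ProjectiveSpectrum.not_irrelevant_le x
      intro g hg
      by_contra h
      refine hcon ⟨g, hg, ?_⟩
      rw [hy'def]
      exact h
    have h1 := (ι_mem_pointedCone_iff 𝒮' U' hU' y').mpr hy'
    rw [← heq] at h1
    have h2 : Φ (𝒮'.toQCAlg.ι U' hU' y') ∈ RelCone.pointedCone 𝒮 := h1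
    rw [Φ_ι q 𝒮 𝒮' u Φ hΦ U hU U' hU' hle, ι_mem_pointedCone_iff, mem_vertexCompl] at h2
    obtain ⟨f, hf, hfy⟩ := h2
    refine ⟨f, hf, fun hmem => hfy ?_⟩
    show (rho q 𝒮.toQCAlg 𝒮'.toQCAlg u U U' hle).hom f ∈ y'.asIdeal
    rw [hy'def, rho_apply q 𝒮 𝒮' u φ hφ U hU U' hU' hle f]
    exact hmem

end QMor

end Groth.Agent.Helper22.RelConeLoc
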