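import Mathlib
import Groth.Prelude.Def_RelSpec2
import Groth.Agent.Lib.Helper22.RelConeLoc

set_option autoImplicit false
set_option maxHeartbeats 400000

universe u

open CategoryTheory CategoryTheory.Limits AlgebraicGeometry TopologicalSpace Opposite
open scoped HomogeneousIdeal

namespace Groth.Agent.Helper22.RelConeVertex

open Groth.Agent.Helper22.RelSpecQMor Groth.Agent.Helper22.RelConeLoc

variable {Y : Scheme.{u}} (𝒮 : RelProj.QCGrAlg Y) (h0 : RelCone.StrZeroBij 𝒮)
  (aug : 𝒮.toQCAlg ⟶ RelSpec.QCAlg.unit Y) (haug : RelCone.IsAugmentation 𝒮 aug)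

include haug in
theorem aug_irrelevant (U : Y.Opens) (hU : IsAffineOpen U) (f : 𝒮.presheaf.obj (op U))
    (hf : f ∈ ((𝒮.deg U hU)₊).toIdeal) : (aug.hom.app (op U)).hom f = 0 := by
  classical
  have hf' : f ∈ HomogeneousIdeal.irrelevant (𝒮.deg U hU) := hf
  rw [HomogeneousIdeal.mem_irrelevant_iff, GradedRing.proj_apply] at hf'
  have hsum : f = ∑ i ∈ (DirectSum.decompose (𝒮.deg U hU) f).support,
      (DirectSum.decompose (𝒮.deg U hU) f i : 𝒮.presheaf.obj (op U)) :=
    (DirectSum.sum_support_decompose (𝒮.deg U hU) f).symm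
  rw [hsum, map_sum]
  refine Finset.sum_eq_zero fun i _ => ?_
  rcases Nat.eq_zero_or_pos i with hi | hi
  · subst hi
    rw [hf', map_zero]
  · obtain ⟨d, rfl⟩ := Nat.exists_eq_succ_of_ne_zero hi.ne'
    exact haug U hU d _ (SetLike.coe_mem _)

include h0 haug in
theorem sub_str_aug_mem (U : Y.Opens) (hU : IsAffineOpen U) (a : 𝒮.presheaf.obj (op U)) :
    a - (𝒮.str.app (op U)).hom ((aug.hom.app (op U)).hom a) ∈ ((𝒮.deg U hU)₊).toIdeal := by
  classical
  obtain ⟨r, hr⟩ := (h0 U hU).2 (DirectSum.decompose (𝒮.deg U hU) a 0)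
  have hr' : (𝒮.str.app (op U)).hom r =
      (DirectSum.decompose (𝒮.deg U hU) a 0 : 𝒮.presheaf.obj (op U)) := congrArg Subtype.val hr
  have hmem : a - (DirectSum.decompose (𝒮.deg U hU) a 0 : 𝒮.presheaf.obj (op U)) ∈
      ((𝒮.deg U hU)₊).toIdeal := by
    show _ ∈ HomogeneousIdeal.irrelevant (𝒮.deg U hU)
    rw [HomogeneousIdeal.mem_irrelevant_iff, GradedRing.proj_apply, DirectSum.decompose_sub,
      DirectSum.sub_apply, AddSubgroup.coe_sub, DirectSum.decompose_coe, DirectSum.of_eq_same,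
      sub_self]
  have haug_a : (aug.hom.app (op U)).hom a = r := by
    have h1 := aug_irrelevant 𝒮 aug haug U hU _ hmem
    rw [map_sub, sub_eq_zero] at h1
    rw [h1, ← hr']
    exact congrArg (fun t => (t.app (op U)).hom r) aug.comm
  rw [haug_a, hr']
  exact hmem

include h0 haug in
/-- the pointed affine cone is the complement of the vertex section -/
theorem pointedCone_eq_compl (ε : Y ⟶ 𝒮.toQCAlg.spec) (hε : RelCone.IsVertex 𝒮 aug ε) :
    ((RelCone.pointedCone 𝒮 : 𝒮.toQCAlg.spec.Opens) : Set 𝒮.toQCAlg.spec) =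
      (Set.range ε.base)ᶜ := by
  ext x
  obtain ⟨_, ⟨U, hU, rfl⟩, hxU, -⟩ := Y.isBasis_affineOpens.exists_subset_of_mem_open
    (Set.mem_univ (𝒮.toQCAlg.π x)) isOpen_univ
  replace hU : IsAffineOpen U := hU
  obtain ⟨y, rfl⟩ := exists_chart 𝒮.toQCAlg x U hU hxU
  have hE : 𝒮.toQCAlg.ι U hU y ∈
      ((RelCone.pointedCone 𝒮 : 𝒮.toQCAlg.spec.Opens) : Set 𝒮.toQCAlg.spec) ↔
      y ∈ RelCone.vertexCompl (𝒮.deg U hU) := ι_mem_pointedCone_iff 𝒮 U hU y
  rw [hE, mem_vertexCompl, Set.mem_compl_iff]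
  have key : 𝒮.toQCAlg.ι U hU y ∈ Set.range ε.base ↔
      ∀ f ∈ ((𝒮.deg U hU)₊).toIdeal, f ∈ y.asIdeal := by
    constructor
    · rintro ⟨s, hs⟩ f hf
      have hsU : s ∈ U := by
        have h1 : 𝒮.toQCAlg.π (ε s) = s := by
          rw [← Scheme.Hom.comp_apply, hε.comp_π]
          rfl
        have h2 := π_ι_mem 𝒮.toQCAlg U hU y
        rw [← hs] at h2
        rwa [h1] at h2
      obtain ⟨t, rfl⟩ : ∃ t, hU.fromSpec t = s := by
        have h : s ∈ Set.range hU.fromSpec := by
          rw [hU.range_fromSpec]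
          exact hsU
        exact h
      have h3 : ε (hU.fromSpec t) = 𝒮.toQCAlg.ι U hU (Spec.map (aug.hom.app (op U)) t) := by
        rw [← Scheme.Hom.comp_apply, hε.chart U hU]
        rfl
      have h4 : Spec.map (aug.hom.app (op U)) t = y := by
        apply (𝒮.toQCAlg.ι U hU).isOpenEmbedding.injective
        rw [← h3]
        exact hs
      rw [← h4]
      show (aug.hom.app (op U)).hom f ∈ t.asIdeal
      rw [aug_irrelevant 𝒮 aug haug U hU f hf]
      exact zero_mem _
    · intro hall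
      refine ⟨hU.fromSpec (Spec.map (𝒮.str.app (op U)) y), ?_⟩
      show ε (hU.fromSpec (Spec.map (𝒮.str.app (op U)) y)) = _
      rw [← Scheme.Hom.comp_apply, hε.chart U hU]
      show 𝒮.toQCAlg.ι U hU (Spec.map (aug.hom.app (op U)) (Spec.map (𝒮.str.app (op U)) y)) =
        𝒮.toQCAlg.ι U hU y
      refine congrArg _ ?_
      apply PrimeSpectrum.ext
      ext a
      show (𝒮.str.app (op U)).hom ((aug.hom.app (op U)).hom a) ∈ y.asIdeal ↔ a ∈ y.asIdeal
      have hsub := hall _ (sub_str_aug_mem 𝒮 h0 aug haug U hU a)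
      constructor
      · intro h
        have := add_mem hsub h
        simpa using this
      · intro h
        have := sub_mem h hsub
        simpa using this
  rw [key]
  constructor
  · rintro ⟨f, hf, hfy⟩ hall
    exact hfy (hall f hf)
  · intro h
    by_contra hcon
    apply h
    intro f hf
    by_contra hfy
    exact hcon ⟨f, hf, hfy⟩

end Groth.Agent.Helper22.RelConeVertex
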