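import Mathlib
import Groth.Prelude.Def_RelSpec2
import Groth.Agent.Lib.Helper22.RelConeLoc

set_option autoImplicit false
set_option maxHeartbeats 400000
set_option backward.isDefEq.respectTransparency false

universe u

open CategoryTheory CategoryTheory.Limits AlgebraicGeometry TopologicalSpace Opposite
open scoped HomogeneousIdeal

namespace Groth.Agent.Helper22.RelConeVertex2

open Groth.Agent.Helper22.RelSpecQMor Groth.Agent.Helper22.RelConeLoc
  Groth.Agent.Helper22.RelProjGlue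

variable {Y : Scheme.{u}} (𝒮 : RelProj.QCGrAlg Y)
  (aug : 𝒮.toQCAlg ⟶ RelSpec.QCAlg.unit Y)

/-- the local piece of the vertex section over the affine open `U` -/
noncomputable def piece (U : Y.Opens) (hU : IsAffineOpen U) :
    (U : Scheme.{u}) ⟶ 𝒮.toQCAlg.spec :=
  U.toSpecΓ ≫ Spec.map (aug.hom.app (op U)) ≫ 𝒮.toQCAlg.ι U hU

theorem piece_res (U : Y.Opens) (hU : IsAffineOpen U) (r : Γ(Y, U)) (W : Y.Opens)
    (hW : IsAffineOpen W) (e : W = Y.basicOpen r) (hWU : W ≤ U) :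
    Y.homOfLE hWU ≫ piece 𝒮 aug U hU = piece 𝒮 aug W hW := by
  have nat : 𝒮.presheaf.map (homOfLE hWU).op ≫ aug.hom.app (op W) =
      aug.hom.app (op U) ≫ Y.presheaf.map (homOfLE hWU).op := aug.hom.naturality _
  unfold piece
  rw [← ι_res_eq 𝒮.toQCAlg U hU r W hW e hWU, ← Spec.map_comp_assoc, nat, Spec.map_comp_assoc,
    reassoc_of% (Scheme.Opens.toSpecΓ_SpecMap_presheaf_map W U hWU)]

theorem exists_glued :
    ∃ ε : Y ⟶ 𝒮.toQCAlg.spec, ∀ (U : Y.Opens) (hU : IsAffineOpen U),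
      U.ι ≫ ε = piece 𝒮 aug U hU := by
  obtain ⟨ε, hε⟩ := glue_opens (fun U : Y.affineOpens => U.1) (iSup_affineOpens_eq_top Y)
    (fun U => piece 𝒮 aug U.1 U.2) (by
      intro U V x hxU hxV
      obtain ⟨r, s, e, hxr⟩ := exists_basicOpen_le_affine_inter U.2 V.2 x ⟨hxU, hxV⟩
      have hxs : x ∈ Y.basicOpen s := e ▸ hxr
      have hWU : Y.basicOpen s ≤ U.1 := e ▸ Y.basicOpen_le r
      exact ⟨⟨Y.basicOpen s, V.2.basicOpen s⟩, hxs, hWU, Y.basicOpen_le s,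
        piece_res 𝒮 aug U.1 U.2 r _ (V.2.basicOpen s) e.symm hWU,
        piece_res 𝒮 aug V.1 V.2 s _ (V.2.basicOpen s) rfl (Y.basicOpen_le s)⟩)
  exact ⟨ε, fun U hU => hε ⟨U, hU⟩⟩

theorem hom_ext_affine {Z : Scheme.{u}} (g₁ g₂ : Y ⟶ Z)
    (h : ∀ (U : Y.Opens) (_ : IsAffineOpen U), U.ι ≫ g₁ = U.ι ≫ g₂) : g₁ = g₂ := by
  refine Scheme.Cover.hom_ext (Y.openCoverOfIsOpenCover (fun U : Y.affineOpens => U.1)
    (iSup_affineOpens_eq_top Y)) _ _ fun U => ?_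
  exact h U.1 U.2

theorem isVertex_iff (ε : Y ⟶ 𝒮.toQCAlg.spec) :
    RelCone.IsVertex 𝒮 aug ε ↔ ∀ (U : Y.Opens) (hU : IsAffineOpen U),
      U.ι ≫ ε = piece 𝒮 aug U hU := by
  constructor
  · intro hε U hU
    unfold piece
    rw [← hε.chart U hU, IsAffineOpen.toSpecΓ_fromSpec_assoc]
  · intro h
    have hchart : ∀ (U : Y.Opens) (hU : IsAffineOpen U),
        hU.fromSpec ≫ ε = Spec.map (aug.hom.app (op U)) ≫ 𝒮.toQCAlg.ι U hU := by
      intro U hU
      rw [← IsAffineOpen.isoSpec_inv_ι, Category.assoc, h U hU]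
      unfold piece
      rw [IsAffineOpen.isoSpec_inv_toSpecΓ_assoc]
    refine ⟨?_, hchart⟩
    refine hom_ext_affine _ _ fun U hU => ?_
    rw [reassoc_of% (h U hU)]
    unfold piece
    have hcomm : 𝒮.str.app (op U) ≫ aug.hom.app (op U) = 𝟙 _ :=
      congrArg (fun t => t.app (op U)) aug.comm
    rw [Category.assoc, Category.assoc, 𝒮.toQCAlg.ι_π U hU, ← Spec.map_comp_assoc, hcomm,
      Spec.map_id, Category.id_comp, IsAffineOpen.toSpecΓ_fromSpec, Category.comp_id]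

theorem existsUnique_vertex : ∃! ε : Y ⟶ 𝒮.toQCAlg.spec, RelCone.IsVertex 𝒮 aug ε := by
  obtain ⟨ε, hε⟩ := exists_glued 𝒮 aug
  refine ⟨ε, (isVertex_iff 𝒮 aug ε).mpr hε, fun ε' hε' => ?_⟩
  refine hom_ext_affine _ _ fun U hU => ?_
  rw [hε U hU, (isVertex_iff 𝒮 aug ε').mp hε' U hU]

theorem isClosedImmersion_vertex (ε : Y ⟶ 𝒮.toQCAlg.spec) (hε : RelCone.IsVertex 𝒮 aug ε) :
    IsClosedImmersion ε := by
  haveI : IsClosedImmersion (ε ≫ 𝒮.toQCAlg.π) := by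
    rw [hε.comp_π]
    infer_instance
  exact IsClosedImmersion.of_comp ε 𝒮.toQCAlg.π

end Groth.Agent.Helper22.RelConeVertex2
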