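import Mathlib
import Groth.Prelude.Def_RelProj4
import Groth.Agent.Lib.Helper22.ProjIrr
import Groth.Agent.Lib.Helper22.RelConeLoc

set_option autoImplicit false
set_option maxHeartbeats 400000

universe u

open CategoryTheory CategoryTheory.Limits AlgebraicGeometry TopologicalSpace Opposite
open scoped HomogeneousIdeal

namespace Groth.Agent.Helper22.RelProjTN

open HomogeneousLocalization

section Alg

variable {A B σ τ : Type u} [CommRing A] [SetLike σ A] [AddSubgroupClass σ A] {𝒜 : ℕ → σ}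
  [GradedRing 𝒜] [CommRing B] [SetLike τ B] [AddSubgroupClass τ B] {ℬ : ℕ → τ} [GradedRing ℬ]

theorem map_isLocalizationElem (ψ : 𝒜 →+*ᵍ ℬ) {e d : ℕ} {a f : A} (ha : a ∈ 𝒜 e)
    (hf : f ∈ 𝒜 d) :
    Away.map ψ a (Away.isLocalizationElem ha hf) =
      Away.isLocalizationElem (GradedFunLike.map_mem ψ ha) (GradedFunLike.map_mem ψ hf) := by
  apply HomogeneousLocalization.val_injective
  simp only [Away.isLocalizationElem]
  rw [Away.map_mk, Away.val_mk, Away.val_mk, map_pow]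

theorem awayι_map_mem_basicOpen_iff (ψ : 𝒜 →+*ᵍ ℬ) {e d : ℕ} (he : 0 < e) (hd : 0 < d) {a f : A}
    (ha : a ∈ 𝒜 e) (hf : f ∈ 𝒜 d)
    (z' : Spec (CommRingCat.of (Away ℬ (ψ a)))) :
    (Proj.awayι 𝒜 a ha he).base ((Spec.map (CommRingCat.ofHom (Away.map ψ a))).base z') ∈
        Proj.basicOpen 𝒜 f ↔
      (Proj.awayι ℬ (ψ a) (GradedFunLike.map_mem ψ ha) he).base z' ∈ Proj.basicOpen ℬ (ψ f) := by
  have h1 := SetLike.ext_iff.mp (Proj.awayι_preimage_basicOpen 𝒜 ha he hf hd)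
    ((Spec.map (CommRingCat.ofHom (Away.map ψ a))).base z')
  have h2 := SetLike.ext_iff.mp
    (Proj.awayι_preimage_basicOpen ℬ (GradedFunLike.map_mem ψ ha) he (GradedFunLike.map_mem ψ hf) hd) z'
  have e1 : (Proj.awayι 𝒜 a ha he).base
      ((Spec.map (CommRingCat.ofHom (Away.map ψ a))).base z') ∈ Proj.basicOpen 𝒜 f ↔
      (Spec.map (CommRingCat.ofHom (Away.map ψ a))).base z' ∈
          (Proj.awayι 𝒜 a ha he ⁻¹ᵁ Proj.basicOpen 𝒜 f) := Iff.rfl
  have e2 : (Proj.awayι ℬ (ψ a) (GradedFunLike.map_mem ψ ha) he).base z' ∈ Proj.basicOpen ℬ (ψ f) ↔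
      z' ∈ (Proj.awayι ℬ (ψ a) (GradedFunLike.map_mem ψ ha) he ⁻¹ᵁ Proj.basicOpen ℬ (ψ f)) := Iff.rfl
  have e3 : (Spec.map (CommRingCat.ofHom (Away.map ψ a))).base z' ∈
      PrimeSpectrum.basicOpen (Away.isLocalizationElem ha hf) ↔
      z' ∈ PrimeSpectrum.basicOpen (Away.isLocalizationElem (GradedFunLike.map_mem ψ ha) (GradedFunLike.map_mem ψ hf)) := by
    rw [← map_isLocalizationElem ψ ha hf]
    exact Iff.rfl
  exact (e1.trans h1).trans (e3.trans (e2.trans h2).symm)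

theorem exists_of_TN (ψ : 𝒜 →+*ᵍ ℬ) (n : ℕ)
    (hTN : ∀ k, n ≤ k → ∀ y ∈ ℬ k, ∃ x ∈ 𝒜 k, ψ x = y) (z : Proj ℬ) :
    ∃ (e : ℕ) (_ : 0 < e) (a : A) (_ : a ∈ 𝒜 e), z ∈ Proj.basicOpen ℬ (ψ a) := by
  obtain ⟨b, d, hd, hb, hz⟩ := Groth.Agent.Helper22.ProjIrr.exists_mem_basicOpen ℬ z
  have hb' : b ^ (n + 1) ∈ ℬ ((n + 1) • d) := SetLike.pow_mem_graded (n + 1) hb
  have hle : n ≤ (n + 1) • d := by
    rw [smul_eq_mul]; nlinarith
  obtain ⟨a, ha, hab⟩ := hTN _ hle _ hb'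
  refine ⟨(n + 1) • d, by rw [smul_eq_mul]; positivity, a, ha, ?_⟩
  rw [hab, Proj.basicOpen_pow ℬ b (n + 1) (Nat.succ_pos n)]
  exact hz

theorem away_map_surjective (ψ : 𝒜 →+*ᵍ ℬ) (n : ℕ)
    (hTN : ∀ k, n ≤ k → ∀ y ∈ ℬ k, ∃ x ∈ 𝒜 k, ψ x = y) {d : ℕ} (hd : 0 < d) {f : A}
    (hf : f ∈ 𝒜 d) :
    Function.Surjective (Away.map ψ f) := by
  intro y
  obtain ⟨k, b, hb, rfl⟩ := Away.mk_surjective ℬ (GradedFunLike.map_mem ψ hf) y
  have hb' : b * (ψ f) ^ n ∈ ℬ ((k + n) • d) := by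
    rw [add_smul]
    exact SetLike.mul_mem_graded hb (SetLike.pow_mem_graded n (GradedFunLike.map_mem ψ hf))
  have hle : n ≤ (k + n) • d := by rw [smul_eq_mul]; nlinarith
  obtain ⟨a, ha, hab⟩ := hTN _ hle _ hb'
  refine ⟨Away.mk 𝒜 hf (k + n) a ha, ?_⟩
  rw [Away.map_mk]
  apply HomogeneousLocalization.val_injective
  rw [Away.val_mk, Away.val_mk, Localization.mk_eq_mk_iff, Localization.r_iff_exists]
  refine ⟨1, ?_⟩
  simp only [OneMemClass.coe_one, one_mul]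
  rw [hab, pow_add]
  ring

theorem away_map_injective (ψ : 𝒜 →+*ᵍ ℬ) (n : ℕ)
    (hTN : ∀ k, n ≤ k → ∀ x ∈ 𝒜 k, ψ x = 0 → x = 0) {d : ℕ} (hd : 0 < d) {f : A}
    (hf : f ∈ 𝒜 d) :
    Function.Injective (Away.map ψ f) := by
  rw [injective_iff_map_eq_zero]
  intro x hx
  obtain ⟨k, a, ha, rfl⟩ := Away.mk_surjective 𝒜 hf x
  rw [Away.map_mk] at hx
  have hx' := congrArg HomogeneousLocalization.val hx
  rw [Away.val_mk, HomogeneousLocalization.val_zero,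
    ← Localization.mk_zero (1 : Submonoid.powers (ψ f)), Localization.mk_eq_mk_iff,
    Localization.r_iff_exists] at hx'
  obtain ⟨⟨c, M, rfl⟩, hc⟩ := hx'
  simp only [OneMemClass.coe_one, one_mul, mul_zero] at hc
  have h0 : ψ (f ^ (M + n) * a) = 0 := by
    rw [map_mul, map_pow, pow_add, mul_assoc, mul_comm ((ψ f) ^ n), ← mul_assoc, hc, zero_mul]
  have hmem : f ^ (M + n) * a ∈ 𝒜 ((M + n + k) • d) := by
    rw [add_smul]
    exact SetLike.mul_mem_graded (SetLike.pow_mem_graded _ hf) ha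
  have hle : n ≤ (M + n + k) • d := by rw [smul_eq_mul]; nlinarith
  have h1 := hTN _ hle _ hmem h0
  apply HomogeneousLocalization.val_injective
  rw [Away.val_mk, HomogeneousLocalization.val_zero,
    ← Localization.mk_zero (1 : Submonoid.powers f), Localization.mk_eq_mk_iff,
    Localization.r_iff_exists]
  refine ⟨⟨f ^ (M + n), M + n, rfl⟩, ?_⟩
  simp only [OneMemClass.coe_one, one_mul, mul_zero]
  exact h1

theorem away_map_fromZero (ψ : 𝒜 →+*ᵍ ℬ) (a : A) (x : 𝒜 0) (y : ℬ 0) (hxy : ψ (x : A) = (y : B)) :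
    Away.map ψ a (fromZeroRingHom 𝒜 _ x) = fromZeroRingHom ℬ _ y := by
  apply HomogeneousLocalization.val_injective
  simp only [fromZeroRingHom, RingHom.coe_mk, MonoidHom.coe_mk, OneHom.coe_mk, Away.map,
    HomogeneousLocalization.map_mk, HomogeneousLocalization.val_mk]
  rw [Localization.mk_eq_mk_iff, Localization.r_iff_exists]
  exact ⟨1, by simp [hxy]⟩

end Alg

section Gen

variable {S P : Scheme.{u}} {𝒮 : RelProj.QCGrAlg S} (p : P ⟶ S)
  (chart : ∀ (U : S.Opens) (hU : IsAffineOpen U),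
    (((p ⁻¹ᵁ U : P.Opens) : Scheme.{u}) ≅ Proj (𝒮.deg U hU)))

theorem emb_chart_hom (U : S.Opens) (hU : IsAffineOpen U) (x : P) (hx : x ∈ p ⁻¹ᵁ U) :
    (RelProj.emb p chart U hU).base ((chart U hU).hom.base ⟨x, hx⟩) = x := by
  unfold RelProj.emb
  have h1 : (chart U hU).inv.base ((chart U hU).hom.base ⟨x, hx⟩) = ⟨x, hx⟩ := by
    rw [← Scheme.Hom.comp_apply, Iso.hom_inv_id]
    rfl
  rw [Scheme.Hom.comp_apply, h1]
  rfl

theorem emb_mem (U : S.Opens) (hU : IsAffineOpen U) (w : Proj (𝒮.deg U hU)) :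
    p.base ((RelProj.emb p chart U hU).base w) ∈ U := by
  unfold RelProj.emb
  exact ((chart U hU).inv.base w).2

variable {p chart}

theorem emb_over (h : RelProj.IsRelProj 𝒮 p chart) (U : S.Opens) (hU : IsAffineOpen U) :
    RelProj.emb p chart U hU ≫ p =
      Proj.toSpecZero (𝒮.deg U hU) ≫ Spec.map (𝒮.strZero U hU) ≫ hU.fromSpec := by
  unfold RelProj.emb
  rw [Category.assoc, ← h.chart_over U hU, Iso.inv_hom_id_assoc]

theorem awayι_emb_over (h : RelProj.IsRelProj 𝒮 p chart) (U : S.Opens) (hU : IsAffineOpen U)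
    {d : ℕ} (hd : 0 < d) (f : 𝒮.presheaf.obj (op U)) (hf : f ∈ 𝒮.deg U hU d) :
    Proj.awayι (𝒮.deg U hU) f hf hd ≫ RelProj.emb p chart U hU ≫ p =
      Spec.map (CommRingCat.ofHom (HomogeneousLocalization.fromZeroRingHom (𝒮.deg U hU) _)) ≫
        Spec.map (𝒮.strZero U hU) ≫ hU.fromSpec := by
  rw [emb_over h, Proj.awayι_toSpecZero_assoc]

end Gen

section Imm

variable {S S' : Scheme.{u}} {g : S' ⟶ S} {𝒮 : RelProj.QCGrAlg S} {𝒮' : RelProj.QCGrAlg S'}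
  (u : RelProj.QGrHom g 𝒮 𝒮') {P' : Scheme.{u}} (p' : P' ⟶ S')
  (chart' : ∀ (U' : S'.Opens) (hU' : IsAffineOpen U'),
    (((p' ⁻¹ᵁ U' : P'.Opens) : Scheme.{u}) ≅ Proj (𝒮'.deg U' hU')))

instance isOpenImmersion_awayEmb (U : S.Opens) (hU : IsAffineOpen U) (U' : S'.Opens)
    (hU' : IsAffineOpen U') (hle : U' ≤ g ⁻¹ᵁ U) {d : ℕ} (hd : 0 < d)
    (f : 𝒮.presheaf.obj (op U)) (hf : f ∈ 𝒮.deg U hU d) :
    IsOpenImmersion (RelProj.awayEmb u p' chart' U hU U' hU' hle hd f hf) := by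
  unfold RelProj.awayEmb
  infer_instance

end Imm

section Sch

variable {Y PA PB : Scheme.{u}} {𝒜 ℬ : RelProj.QCGrAlg Y}
  (φ : 𝒜.toQCAlg ⟶ ℬ.toQCAlg) (hφ : RelProj.IsGradedHom φ)
  (pA : PA ⟶ Y)
  (chartA : ∀ (U : Y.Opens) (hU : IsAffineOpen U),
    (((pA ⁻¹ᵁ U : PA.Opens) : Scheme.{u}) ≅ Proj (𝒜.deg U hU)))
  (pB : PB ⟶ Y)
  (chartB : ∀ (U : Y.Opens) (hU : IsAffineOpen U),
    (((pB ⁻¹ᵁ U : PB.Opens) : Scheme.{u}) ≅ Proj (ℬ.deg U hU)))

theorem hle (U : Y.Opens) : U ≤ (𝟙 Y) ⁻¹ᵁ U := le_of_eq rfl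

/-- the graded ring map over `U` induced by `φ`, in the form used by the chart equations -/
abbrev psi (U : Y.Opens) (hU : IsAffineOpen U) : 𝒜.deg U hU →+*ᵍ ℬ.deg U hU :=
  (RelProj.QGrHom.ofHom φ hφ).gradedAt U hU U hU (hle U)

theorem map_homOfLE_self {X : TopCat.{u}} {C : Type*} [Category C] (F : (Opens X)ᵒᵖ ⥤ C)
    (U : Opens X) (hle : U ≤ U) : F.map (homOfLE hle).op = 𝟙 _ := by
  have : homOfLE hle = 𝟙 U := Subsingleton.elim _ _
  rw [this]
  exact F.map_id _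

theorem psi_apply (U : Y.Opens) (hU : IsAffineOpen U) (x : 𝒜.presheaf.obj (op U)) :
    psi φ hφ U hU x = (φ.hom.app (op U)).hom x := by
  show (ℬ.presheaf.map (homOfLE (hle U)).op).hom ((φ.hom.app (op U)).hom x) =
    (φ.hom.app (op U)).hom x
  have := map_homOfLE_self ℬ.presheaf U (hle U)
  exact congrArg (fun g : ℬ.presheaf.obj (op U) ⟶ ℬ.presheaf.obj (op U) =>
    g.hom ((φ.hom.app (op U)).hom x)) this

theorem hdom_of_TN (n : ℕ)
    (hTN : ∀ k, n ≤ k → ∀ (U : Y.Opens) (hU : IsAffineOpen U), ∀ y ∈ ℬ.deg U hU k,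
      ∃ x ∈ 𝒜.deg U hU k, (φ.hom.app (op U)).hom x = y)
    (U : Y.Opens) (hU : IsAffineOpen U) (z : Proj (ℬ.deg U hU)) :
    ∃ (e : ℕ) (_ : 0 < e) (a : 𝒜.presheaf.obj (op U)) (_ : a ∈ 𝒜.deg U hU e),
      z ∈ Proj.basicOpen (ℬ.deg U hU) (psi φ hφ U hU a) :=
  exists_of_TN (psi φ hφ U hU) n (fun k hk y hy => by
    obtain ⟨x, hx, hxy⟩ := hTN k hk U hU y hy
    exact ⟨x, hx, (psi_apply φ hφ U hU x).trans hxy⟩) z

variable (hdom : ∀ (U : Y.Opens) (hU : IsAffineOpen U) (z : Proj (ℬ.deg U hU)),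
      ∃ (e : ℕ) (_ : 0 < e) (a : 𝒜.presheaf.obj (op U)) (_ : a ∈ 𝒜.deg U hU e),
        z ∈ Proj.basicOpen (ℬ.deg U hU) (psi φ hφ U hU a))

include hdom in
theorem domQ_eq_top : RelProj.domQ (RelProj.QGrHom.ofHom φ hφ) pB chartB = ⊤ := by
  rw [eq_top_iff]
  rintro x -
  obtain ⟨_, ⟨U, hU, rfl⟩, hyU, -⟩ := Y.isBasis_affineOpens.exists_subset_of_mem_open
    (Set.mem_univ (pB.base x)) isOpen_univ
  replace hU : IsAffineOpen U := hU
  have hxU : x ∈ pB ⁻¹ᵁ U := hyU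
  obtain ⟨e, he, a, ha, hza⟩ := hdom U hU ((chartB U hU).hom.base ⟨x, hxU⟩)
  unfold RelProj.domQ
  refine Opens.mem_iSup.mpr ⟨⟨(⟨U, hU⟩, ⟨U, hU⟩), hle U⟩, ?_⟩
  exact ⟨(chartB U hU).hom.base ⟨x, hxU⟩, (RelCone.mem_domOpen _ _).mpr
    ⟨a, HomogeneousIdeal.mem_irrelevant_of_mem _ he ha, hza⟩, emb_chart_hom pB chartB U hU x hxU⟩

theorem ring_eq (U : Y.Opens) (hU : IsAffineOpen U) (a : 𝒜.presheaf.obj (op U)) :
    𝒜.strZero U hU ≫ CommRingCat.ofHom (fromZeroRingHom (𝒜.deg U hU) _) ≫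
      CommRingCat.ofHom (Away.map (psi φ hφ U hU) a) =
    ℬ.strZero U hU ≫ CommRingCat.ofHom (fromZeroRingHom (ℬ.deg U hU) _) := by
  refine CommRingCat.hom_ext (RingHom.ext fun c => ?_)
  refine away_map_fromZero (psi φ hφ U hU) a _ _ ?_
  rw [psi_apply]
  have := congrArg (fun t => (t.app (op U)).hom c) φ.comm
  exact this

include hdom in
theorem over_base (hA : RelProj.IsRelProj 𝒜 pA chartA) (hB : RelProj.IsRelProj ℬ pB chartB)
    (h : PB ⟶ PA)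
    (hh : RelProj.IsProjQMap (RelProj.QGrHom.ofHom φ hφ) pA chartA pB chartB h) :
    h ≫ pA = pB := by
  refine Scheme.hom_ext_of_forall _ _ fun x => ?_
  obtain ⟨_, ⟨U, hU, rfl⟩, hyU, -⟩ := Y.isBasis_affineOpens.exists_subset_of_mem_open
    (Set.mem_univ (pB.base x)) isOpen_univ
  replace hU : IsAffineOpen U := hU
  have hxU : x ∈ pB ⁻¹ᵁ U := hyU
  obtain ⟨e, he, a, ha, hza⟩ := hdom U hU ((chartB U hU).hom.base ⟨x, hxU⟩)
  obtain ⟨z', hz'⟩ := (Proj.opensRange_awayι (ℬ.deg U hU) _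
    (GradedFunLike.map_mem (psi φ hφ U hU) ha) he).ge hza
  refine ⟨(RelProj.awayEmb (RelProj.QGrHom.ofHom φ hφ) pB chartB U hU U hU (hle U) he a
    ha).opensRange, ⟨z', ?_⟩, ?_⟩
  · show (RelProj.emb pB chartB U hU).base ((Proj.awayι (ℬ.deg U hU) _ _ he).base z') = x
    rw [hz', emb_chart_hom]
  · rw [← Scheme.Hom.isoOpensRange_inv_comp, Category.assoc, Category.assoc]
    congr 1
    rw [← Category.assoc, hh.2 U hU U hU (hle U) e he a ha, Category.assoc, Category.assoc,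
      awayι_emb_over hA]
    unfold RelProj.awayEmb
    rw [Category.assoc, awayι_emb_over hB, ← Spec.map_comp_assoc, ← Spec.map_comp_assoc,
      ← Spec.map_comp_assoc, ring_eq]

include hdom in
theorem preimage_chart (h : PB ⟶ PA)
    (hh : RelProj.IsProjQMap (RelProj.QGrHom.ofHom φ hφ) pA chartA pB chartB h)
    (hover : h ≫ pA = pB)
    (U : Y.Opens) (hU : IsAffineOpen U) {d : ℕ} (hd : 0 < d) (f : 𝒜.presheaf.obj (op U))
    (hf : f ∈ 𝒜.deg U hU d) :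
    h ⁻¹ᵁ (Proj.awayι (𝒜.deg U hU) f hf hd ≫ RelProj.emb pA chartA U hU).opensRange =
      (RelProj.awayEmb (RelProj.QGrHom.ofHom φ hφ) pB chartB U hU U hU (hle U) hd f
        hf).opensRange := by
  apply le_antisymm
  · intro x hx
    obtain ⟨w₁', hw₁'⟩ := hx
    obtain ⟨w₁, hw₁def⟩ : ∃ w₁, w₁ = (Proj.awayι (𝒜.deg U hU) f hf hd).base w₁' := ⟨_, rfl⟩
    have hw₁ : (RelProj.emb pA chartA U hU).base w₁ = h.base x := by
      rw [hw₁def]
      exact hw₁'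
    have hw₁f : w₁ ∈ Proj.basicOpen (𝒜.deg U hU) f := by
      rw [hw₁def]
      exact (Proj.opensRange_awayι (𝒜.deg U hU) f hf hd).le ⟨w₁', rfl⟩
    have hxU : x ∈ pB ⁻¹ᵁ U := by
      show pB.base x ∈ U
      have e1 : pB.base x = pA.base (h.base x) := by
        rw [← hover]
        rfl
      rw [e1, ← hw₁]
      exact emb_mem pA chartA U hU w₁
    have hzx : (RelProj.emb pB chartB U hU).base ((chartB U hU).hom.base ⟨x, hxU⟩) = x :=
      emb_chart_hom pB chartB U hU x hxU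
    obtain ⟨e, he, a, ha, hza⟩ := hdom U hU ((chartB U hU).hom.base ⟨x, hxU⟩)
    obtain ⟨z', hz'⟩ := (Proj.opensRange_awayι (ℬ.deg U hU) _
      (GradedFunLike.map_mem (psi φ hφ U hU) ha) he).ge hza
    have hchart := hh.2 U hU U hU (hle U) e he a ha
    have hx2 : h.base x = (RelProj.emb pA chartA U hU).base
        ((Proj.awayι (𝒜.deg U hU) a ha he).base
          ((Spec.map (CommRingCat.ofHom (Away.map (psi φ hφ U hU) a))).base z')) := by
      have := congrArg (fun t => t.base z') hchart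
      rw [← hzx, ← hz']
      exact this
    have hw : w₁ = (Proj.awayι (𝒜.deg U hU) a ha he).base
        ((Spec.map (CommRingCat.ofHom (Away.map (psi φ hφ U hU) a))).base z') :=
      (RelProj.emb pA chartA U hU).isOpenEmbedding.injective (hw₁.trans hx2)
    rw [hw] at hw₁f
    have hzf : (chartB U hU).hom.base ⟨x, hxU⟩ ∈
        Proj.basicOpen (ℬ.deg U hU) (psi φ hφ U hU f) := by
      rw [← hz']
      exact (awayι_map_mem_basicOpen_iff (psi φ hφ U hU) he hd ha hf z').mp hw₁f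
    obtain ⟨z'', hz''⟩ := (Proj.opensRange_awayι (ℬ.deg U hU) _
      (GradedFunLike.map_mem (psi φ hφ U hU) hf) hd).ge hzf
    refine ⟨z'', ?_⟩
    show (RelProj.emb pB chartB U hU).base ((Proj.awayι (ℬ.deg U hU) _ _ hd).base z'') = x
    rw [hz'', hzx]
  · rintro _ ⟨z', rfl⟩
    have := congrArg (fun t => t.base z') (hh.2 U hU U hU (hle U) d hd f hf)
    exact ⟨(Spec.map (CommRingCat.ofHom (Away.map (psi φ hφ U hU) f))).base z', this.symm⟩

theorem cover (w : PA) : ∃ (U : Y.Opens) (hU : IsAffineOpen U) (d : ℕ) (hd : 0 < d)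
    (f : 𝒜.presheaf.obj (op U)) (hf : f ∈ 𝒜.deg U hU d),
    w ∈ (Proj.awayι (𝒜.deg U hU) f hf hd ≫ RelProj.emb pA chartA U hU).opensRange := by
  obtain ⟨_, ⟨U, hU, rfl⟩, hyU, -⟩ := Y.isBasis_affineOpens.exists_subset_of_mem_open
    (Set.mem_univ (pA.base w)) isOpen_univ
  replace hU : IsAffineOpen U := hU
  have hwU : w ∈ pA ⁻¹ᵁ U := hyU
  obtain ⟨f, d, hd, hf, hw0⟩ := Groth.Agent.Helper22.ProjIrr.exists_mem_basicOpen (𝒜.deg U hU)
    ((chartA U hU).hom.base ⟨w, hwU⟩)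
  obtain ⟨w', hw'⟩ := (Proj.opensRange_awayι (𝒜.deg U hU) f hf hd).ge hw0
  refine ⟨U, hU, d, hd, f, hf, w', ?_⟩
  show (RelProj.emb pA chartA U hU).base ((Proj.awayι _ f hf hd).base w') = w
  rw [hw', emb_chart_hom]

include hdom in
theorem main (P : MorphismProperty Scheme.{u}) [IsZariskiLocalAtTarget P]
    (hA : RelProj.IsRelProj 𝒜 pA chartA) (hB : RelProj.IsRelProj ℬ pB chartB)
    (hP : ∀ (U : Y.Opens) (hU : IsAffineOpen U) (d : ℕ) (_ : 0 < d) (f : 𝒜.presheaf.obj (op U))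
      (_ : f ∈ 𝒜.deg U hU d),
      P (Spec.map (CommRingCat.ofHom (Away.map (psi φ hφ U hU) f))))
    (h : PB ⟶ PA)
    (hh : RelProj.IsProjQMap (RelProj.QGrHom.ofHom φ hφ) pA chartA pB chartB h) : P h := by
  have hover := over_base φ hφ pA chartA pB chartB hdom hA hB h hh
  apply IsZariskiLocalAtTarget.of_forall_exists_morphismRestrict
  intro w
  obtain ⟨U, hU, d, hd, f, hf, hw⟩ := cover pA chartA w
  refine ⟨(Proj.awayι (𝒜.deg U hU) f hf hd ≫ RelProj.emb pA chartA U hU).opensRange, hw, ?_⟩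
  have hpre := preimage_chart φ hφ pA chartA pB chartB hdom h hh hover U hU hd f hf
  let e1 := IsOpenImmersion.isoOfRangeEq
    (RelProj.awayEmb (RelProj.QGrHom.ofHom φ hφ) pB chartB U hU U hU (hle U) hd f hf)
    (h ⁻¹ᵁ (Proj.awayι (𝒜.deg U hU) f hf hd ≫ RelProj.emb pA chartA U hU).opensRange).ι
    (by rw [Scheme.Opens.range_ι, hpre]; rfl)
  let e2 := (Proj.awayι (𝒜.deg U hU) f hf hd ≫ RelProj.emb pA chartA U hU).isoOpensRange
  have hsq : e1.hom ≫ (h ∣_ (Proj.awayι (𝒜.deg U hU) f hf hd ≫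
      RelProj.emb pA chartA U hU).opensRange) =
      Spec.map (CommRingCat.ofHom (Away.map (psi φ hφ U hU) f)) ≫ e2.hom := by
    rw [← cancel_mono (Scheme.Opens.ι _), Category.assoc, Category.assoc, morphismRestrict_ι,
      ← Category.assoc e1.hom, IsOpenImmersion.isoOfRangeEq_hom_fac,
      Scheme.Hom.isoOpensRange_hom_ι, hh.2 U hU U hU (hle U) d hd f hf]
  have hr : (h ∣_ (Proj.awayι (𝒜.deg U hU) f hf hd ≫
      RelProj.emb pA chartA U hU).opensRange) =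
      e1.inv ≫ Spec.map (CommRingCat.ofHom (Away.map (psi φ hφ U hU) f)) ≫ e2.hom := by
    rw [Iso.eq_inv_comp]
    exact hsq
  rw [hr, P.cancel_left_of_respectsIso, P.cancel_right_of_respectsIso]
  exact hP U hU d hd f hf

end Sch

end Groth.Agent.Helper22.RelProjTN
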