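import Mathlib
import Groth.Prelude.Def_RelProj4
import Groth.Agent.Lib.Helper22.RelProjTN

set_option autoImplicit false
set_option maxHeartbeats 400000

universe u

open CategoryTheory CategoryTheory.Limits AlgebraicGeometry TopologicalSpace Opposite
open scoped HomogeneousIdeal

namespace Groth.Agent.Helper22.RelProjOn

open HomogeneousLocalization Groth.Agent.Helper22.RelProjTN

section Alg

variable {A B σ τ : Type u} [CommRing A] [SetLike σ A] [AddSubgroupClass σ A] {𝒜 : ℕ → σ}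
  [GradedRing 𝒜] [CommRing B] [SetLike τ B] [AddSubgroupClass τ B] {ℬ : ℕ → τ} [GradedRing ℬ]

theorem exists_homogeneous_of_mem_domOpen (ψ : 𝒜 →+*ᵍ ℬ) (z : Proj ℬ)
    (hz : z ∈ RelCone.domOpen ψ) :
    ∃ (e : ℕ) (_ : 0 < e) (a : A) (_ : a ∈ 𝒜 e), z ∈ Proj.basicOpen ℬ (ψ a) := by
  classical
  obtain ⟨f, hf, hfz⟩ := (RelCone.mem_domOpen _ _).mp hz
  have hf' : f ∈ HomogeneousIdeal.irrelevant 𝒜 := hf
  rw [HomogeneousIdeal.mem_irrelevant_iff, GradedRing.proj_apply] at hf'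
  by_contra hcon
  apply hfz
  show ψ f ∈ z.asHomogeneousIdeal.toIdeal
  rw [← DirectSum.sum_support_decompose 𝒜 f, map_sum]
  refine Ideal.sum_mem _ fun i _ => ?_
  rcases Nat.eq_zero_or_pos i with h0 | h0
  · rw [h0, hf', map_zero]
    exact Ideal.zero_mem _
  · by_contra hi
    exact hcon ⟨i, h0, _, SetLike.coe_mem _, hi⟩

theorem mem_map_iff (ψ : 𝒜 →+*ᵍ ℬ)
    (hirr : HomogeneousIdeal.irrelevant ℬ ≤ (HomogeneousIdeal.irrelevant 𝒜).map ψ) (y : Proj ℬ)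
    (a : A) :
    a ∈ ((Proj.map ψ hirr).base y).asHomogeneousIdeal ↔ ψ a ∈ y.asHomogeneousIdeal := Iff.rfl

end Alg

section Gen

variable {S P : Scheme.{u}} {𝒮 : RelProj.QCGrAlg S} {p : P ⟶ S}
  {chart : ∀ (U : S.Opens) (hU : IsAffineOpen U),
    (((p ⁻¹ᵁ U : P.Opens) : Scheme.{u}) ≅ Proj (𝒮.deg U hU))}

theorem emb_res (h : RelProj.IsRelProj 𝒮 p chart) (U : S.Opens) (hU : IsAffineOpen U)
    (W : S.Opens) (hW : IsAffineOpen W) (r : Γ(S, U)) (e : W = S.basicOpen r) :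
    ∃ (hle : W ≤ U) (hirr : (𝒮.deg W hW)₊ ≤ ((𝒮.deg U hU)₊).map (𝒮.res hU hW hle)),
      Proj.map (𝒮.res hU hW hle) hirr ≫ RelProj.emb p chart U hU = RelProj.emb p chart W hW := by
  subst e
  exact ⟨S.basicOpen_le r, 𝒮.irrelevant_le_map U hU r, RelProj.map_res_emb h U hU r⟩

theorem chart_point_res (h : RelProj.IsRelProj 𝒮 p chart) (U : S.Opens) (hU : IsAffineOpen U)
    (W : S.Opens) (hW : IsAffineOpen W) (r : Γ(S, U)) (e : W = S.basicOpen r) (x : P)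
    (hxW : x ∈ p ⁻¹ᵁ W) (hxU : x ∈ p ⁻¹ᵁ U) :
    ∃ (hle : W ≤ U) (hirr : (𝒮.deg W hW)₊ ≤ ((𝒮.deg U hU)₊).map (𝒮.res hU hW hle)),
      (chart U hU).hom.base ⟨x, hxU⟩ =
        (Proj.map (𝒮.res hU hW hle) hirr).base ((chart W hW).hom.base ⟨x, hxW⟩) := by
  obtain ⟨hle, hirr, heq⟩ := emb_res h U hU W hW r e
  refine ⟨hle, hirr, ?_⟩
  apply (RelProj.emb p chart U hU).isOpenEmbedding.injective
  rw [emb_chart_hom]
  have := congrArg (fun t => t.base ((chart W hW).hom.base ⟨x, hxW⟩)) heq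
  have h2 : (RelProj.emb p chart U hU).base ((Proj.map (𝒮.res hU hW hle) hirr).base
      ((chart W hW).hom.base ⟨x, hxW⟩)) =
      (RelProj.emb p chart W hW).base ((chart W hW).hom.base ⟨x, hxW⟩) := this
  rw [h2, emb_chart_hom]

theorem map_map_apply' {X : TopCat.{u}} (F : (Opens X)ᵒᵖ ⥤ CommRingCat.{u}) {U V W : Opens X}
    (h1 : V ≤ U) (h2 : W ≤ V) (h3 : W ≤ U) (y : F.obj (op U)) :
    (F.map (homOfLE h2).op).hom ((F.map (homOfLE h1).op).hom y) =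
      (F.map (homOfLE h3).op).hom y := by
  rw [← CommRingCat.comp_apply, ← Functor.map_comp]
  rfl

end Gen

section Sch

variable {Y PA PB : Scheme.{u}} {𝒜 ℬ : RelProj.QCGrAlg Y}
  (φ : 𝒜.toQCAlg ⟶ ℬ.toQCAlg) (hφ : RelProj.IsGradedHom φ)
  (pA : PA ⟶ Y)
  (chartA : ∀ (U : Y.Opens) (hU : IsAffineOpen U),
    (((pA ⁻¹ᵁ U : PA.Opens) : Scheme.{u}) ≅ Proj (𝒜.deg U hU)))
  (pB : PB ⟶ Y)
  (chartB : ∀ (U : Y.Opens) (hU : IsAffineOpen U),
    (((pB ⁻¹ᵁ U : PB.Opens) : Scheme.{u}) ≅ Proj (ℬ.deg U hU)))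

theorem phi_res {U W : Y.Opens} (hle : W ≤ U) (a : 𝒜.presheaf.obj (op U)) :
    (φ.hom.app (op W)).hom ((𝒜.presheaf.map (homOfLE hle).op).hom a) =
      (ℬ.presheaf.map (homOfLE hle).op).hom ((φ.hom.app (op U)).hom a) := by
  have nat := φ.hom.naturality (homOfLE hle).op
  exact congrArg (fun t => t.hom a) nat

theorem gradedAt_res (U₁ : Y.Opens) (hU₁ : IsAffineOpen U₁) (U₁' : Y.Opens)
    (hU₁' : IsAffineOpen U₁') (hle₁ : U₁' ≤ (𝟙 Y) ⁻¹ᵁ U₁) (W : Y.Opens) (hW : IsAffineOpen W)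
    (hWU₁' : W ≤ U₁') (hWU₁ : W ≤ U₁) (f₁ : 𝒜.presheaf.obj (op U₁)) :
    ℬ.res hU₁' hW hWU₁' ((RelProj.QGrHom.ofHom φ hφ).gradedAt U₁ hU₁ U₁' hU₁' hle₁ f₁) =
      (φ.hom.app (op W)).hom (𝒜.res hU₁ hW hWU₁ f₁) := by
  rw [RelProj.QCGrAlg.res_apply, RelProj.QCGrAlg.res_apply, phi_res]
  exact map_map_apply' ℬ.presheaf hle₁ hWU₁' hWU₁ _

theorem mem_domOpen_of_mem_domQ (hB : RelProj.IsRelProj ℬ pB chartB) (U : Y.Opens)
    (hU : IsAffineOpen U) (x : PB) (hxU : x ∈ pB ⁻¹ᵁ U)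
    (hxD : x ∈ RelProj.domQ (RelProj.QGrHom.ofHom φ hφ) pB chartB) :
    (chartB U hU).hom.base ⟨x, hxU⟩ ∈ RelCone.domOpen (psi φ hφ U hU) := by
  unfold RelProj.domQ at hxD
  obtain ⟨⟨⟨⟨U₁, hU₁⟩, ⟨U₁', hU₁'⟩⟩, hle₁⟩, z₁, hz₁, hz₁x⟩ := Opens.mem_iSup.mp hxD
  replace hU₁ : IsAffineOpen U₁ := hU₁
  replace hU₁' : IsAffineOpen U₁' := hU₁'
  have hz₁' : z₁ ∈ RelCone.domOpen
      ((RelProj.QGrHom.ofHom φ hφ).gradedAt U₁ hU₁ U₁' hU₁' hle₁) := hz₁
  have hz₁x' : (RelProj.emb pB chartB U₁' hU₁').base z₁ = x := hz₁x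
  obtain ⟨f₁, hf₁, hf₁z⟩ := (RelCone.mem_domOpen _ _).mp hz₁'
  have hxU₁' : x ∈ pB ⁻¹ᵁ U₁' := by
    show pB.base x ∈ U₁'
    rw [← hz₁x']
    exact emb_mem pB chartB U₁' hU₁' z₁
  have hz₁eq : z₁ = (chartB U₁' hU₁').hom.base ⟨x, hxU₁'⟩ := by
    apply (RelProj.emb pB chartB U₁' hU₁').isOpenEmbedding.injective
    rw [emb_chart_hom, hz₁x']
  obtain ⟨r, r', hrr', hxr⟩ :=
    exists_basicOpen_le_affine_inter hU hU₁' (pB.base x) ⟨hxU, hxU₁'⟩
  have hW : IsAffineOpen (Y.basicOpen r) := hU.basicOpen r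
  have hxW : x ∈ pB ⁻¹ᵁ (Y.basicOpen r) := hxr
  obtain ⟨hleU, hirrU, hzU⟩ := chart_point_res hB U hU _ hW r rfl x hxW hxU
  obtain ⟨hle₁', hirr₁, hz₁U⟩ := chart_point_res hB U₁' hU₁' _ hW r' hrr' x hxW hxU₁'
  have hWU₁ : Y.basicOpen r ≤ U₁ := fun y hy => hle₁ (hle₁' hy)
  refine (RelCone.mem_domOpen _ _).mpr ?_
  by_contra hcon
  have hall : ∀ f ∈ HomogeneousIdeal.irrelevant (𝒜.deg U hU),
      psi φ hφ U hU f ∈ ((chartB U hU).hom.base ⟨x, hxU⟩).asHomogeneousIdeal := by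
    intro f hf
    by_contra hfz
    exact hcon ⟨f, hf, hfz⟩
  apply hf₁z
  rw [hz₁eq, hz₁U, mem_map_iff, gradedAt_res φ hφ U₁ hU₁ U₁' hU₁' hle₁ _ hW hle₁' hWU₁ f₁]
  have hg : 𝒜.res hU₁ hW hWU₁ f₁ ∈ (HomogeneousIdeal.irrelevant (𝒜.deg _ hW)).toIdeal :=
    Groth.Agent.Helper22.RelConeLoc.map_mem_irrelevant _ hf₁
  have hg2 := 𝒜.irrelevant_le_map U hU r hg
  have hJ : ((HomogeneousIdeal.irrelevant (𝒜.deg U hU)).toIdeal.map (𝒜.res hU hW hleU)) ≤
      Ideal.comap (φ.hom.app (op (Y.basicOpen r))).hom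
        ((chartB _ hW).hom.base ⟨x, hxW⟩).asHomogeneousIdeal.toIdeal := by
    rw [Ideal.map_le_iff_le_comap]
    intro f hf
    show (φ.hom.app (op _)).hom (𝒜.res hU hW hleU f) ∈
      ((chartB _ hW).hom.base ⟨x, hxW⟩).asHomogeneousIdeal.toIdeal
    have h1 := hall f hf
    rw [hzU, mem_map_iff, psi_apply] at h1
    rw [RelProj.QCGrAlg.res_apply, phi_res φ hleU f]
    exact h1
  exact hJ hg2

theorem hdom_on (hB : RelProj.IsRelProj ℬ pB chartB) (U : Y.Opens) (hU : IsAffineOpen U)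
    (z : Proj (ℬ.deg U hU))
    (hz : (RelProj.emb pB chartB U hU).base z ∈
      RelProj.domQ (RelProj.QGrHom.ofHom φ hφ) pB chartB) :
    ∃ (e : ℕ) (_ : 0 < e) (a : 𝒜.presheaf.obj (op U)) (_ : a ∈ 𝒜.deg U hU e),
      z ∈ Proj.basicOpen (ℬ.deg U hU) (psi φ hφ U hU a) := by
  have hxU : (RelProj.emb pB chartB U hU).base z ∈ pB ⁻¹ᵁ U := emb_mem pB chartB U hU z
  have h1 := mem_domOpen_of_mem_domQ φ hφ pB chartB hB U hU _ hxU hz
  have h2 : (chartB U hU).hom.base ⟨_, hxU⟩ = z := by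
    apply (RelProj.emb pB chartB U hU).isOpenEmbedding.injective
    rw [emb_chart_hom]
  rw [h2] at h1
  exact exists_homogeneous_of_mem_domOpen _ z h1

theorem domQ_inf (hB : RelProj.IsRelProj ℬ pB chartB) (U : Y.Opens) (hU : IsAffineOpen U) :
    RelProj.domQ (RelProj.QGrHom.ofHom φ hφ) pB chartB ⊓ pB ⁻¹ᵁ U =
      (RelProj.emb pB chartB U hU) ''ᵁ RelCone.domOpen (RelProj.gradedHomAt φ hφ U hU) := by
  have hdomeq : RelCone.domOpen (RelProj.gradedHomAt φ hφ U hU) =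
      RelCone.domOpen (psi φ hφ U hU) := by
    ext z
    constructor
    · intro hz
      obtain ⟨f, hf, hfz⟩ := (RelCone.mem_domOpen _ _).mp hz
      exact (RelCone.mem_domOpen _ _).mpr ⟨f, hf, by rw [psi_apply]; exact hfz⟩
    · intro hz
      obtain ⟨f, hf, hfz⟩ := (RelCone.mem_domOpen _ _).mp hz
      exact (RelCone.mem_domOpen _ _).mpr ⟨f, hf, by rw [psi_apply] at hfz; exact hfz⟩
  rw [hdomeq]
  apply le_antisymm
  · rintro x ⟨hxD, hxU⟩
    exact ⟨(chartB U hU).hom.base ⟨x, hxU⟩,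
      mem_domOpen_of_mem_domQ φ hφ pB chartB hB U hU x hxU hxD,
      emb_chart_hom pB chartB U hU x hxU⟩
  · rintro _ ⟨z, hz, rfl⟩
    refine ⟨?_, emb_mem pB chartB U hU z⟩
    unfold RelProj.domQ
    exact Opens.mem_iSup.mpr ⟨⟨(⟨U, hU⟩, ⟨U, hU⟩), hle U⟩, z, hz, rfl⟩

/-- the lift of a standard chart of `PB` into the open of definition -/
noncomputable abbrev lft (U : Y.Opens) (hU : IsAffineOpen U) {d : ℕ} (hd : 0 < d)
    (f : 𝒜.presheaf.obj (op U)) (hf : f ∈ 𝒜.deg U hU d) :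
    Spec (CommRingCat.of (HomogeneousLocalization.Away (ℬ.deg U hU) (psi φ hφ U hU f))) ⟶
      ((RelProj.domQ (RelProj.QGrHom.ofHom φ hφ) pB chartB : PB.Opens) : Scheme.{u}) :=
  IsOpenImmersion.lift (RelProj.domQ (RelProj.QGrHom.ofHom φ hφ) pB chartB).ι
    (RelProj.awayEmb (RelProj.QGrHom.ofHom φ hφ) pB chartB U hU U hU (hle U) hd f hf)
    (RelProj.range_awayEmb_subset_domQ (RelProj.QGrHom.ofHom φ hφ) pB chartB U hU U hU (hle U)
      hd f hf)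

theorem lft_ι (U : Y.Opens) (hU : IsAffineOpen U) {d : ℕ} (hd : 0 < d)
    (f : 𝒜.presheaf.obj (op U)) (hf : f ∈ 𝒜.deg U hU d) :
    lft φ hφ pB chartB U hU hd f hf ≫ (RelProj.domQ (RelProj.QGrHom.ofHom φ hφ) pB chartB).ι =
      RelProj.awayEmb (RelProj.QGrHom.ofHom φ hφ) pB chartB U hU U hU (hle U) hd f hf :=
  IsOpenImmersion.lift_fac _ _ _

instance isOpenImmersion_lft (U : Y.Opens) (hU : IsAffineOpen U) {d : ℕ} (hd : 0 < d)
    (f : 𝒜.presheaf.obj (op U)) (hf : f ∈ 𝒜.deg U hU d) :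
    IsOpenImmersion (lft φ hφ pB chartB U hU hd f hf) := by
  have : IsOpenImmersion (lft φ hφ pB chartB U hU hd f hf ≫
      (RelProj.domQ (RelProj.QGrHom.ofHom φ hφ) pB chartB).ι) := by
    rw [lft_ι]
    infer_instance
  exact IsOpenImmersion.of_comp _ (RelProj.domQ (RelProj.QGrHom.ofHom φ hφ) pB chartB).ι

theorem lft_point (U : Y.Opens) (hU : IsAffineOpen U) {d : ℕ} (hd : 0 < d)
    (f : 𝒜.presheaf.obj (op U)) (hf : f ∈ 𝒜.deg U hU d)
    (z' : Spec (CommRingCat.of (HomogeneousLocalization.Away (ℬ.deg U hU) (psi φ hφ U hU f))))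
    (x : ((RelProj.domQ (RelProj.QGrHom.ofHom φ hφ) pB chartB : PB.Opens) : Scheme.{u}))
    (hx : (RelProj.emb pB chartB U hU).base ((Proj.awayι (ℬ.deg U hU) (psi φ hφ U hU f)
      (GradedFunLike.map_mem (psi φ hφ U hU) hf) hd).base z') =
      (RelProj.domQ (RelProj.QGrHom.ofHom φ hφ) pB chartB).ι.base x) :
    (lft φ hφ pB chartB U hU hd f hf).base z' = x := by
  apply (RelProj.domQ (RelProj.QGrHom.ofHom φ hφ) pB chartB).ι.isOpenEmbedding.injective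
  have h1 : (RelProj.domQ (RelProj.QGrHom.ofHom φ hφ) pB chartB).ι.base
      ((lft φ hφ pB chartB U hU hd f hf).base z') =
      (RelProj.awayEmb (RelProj.QGrHom.ofHom φ hφ) pB chartB U hU U hU (hle U) hd f hf).base z' :=
    congrArg (fun t => t.base z') (lft_ι φ hφ pB chartB U hU hd f hf)
  rw [h1]
  exact hx

theorem over_base_on (hA : RelProj.IsRelProj 𝒜 pA chartA) (hB : RelProj.IsRelProj ℬ pB chartB)
    (Φ : ((RelProj.domQ (RelProj.QGrHom.ofHom φ hφ) pB chartB : PB.Opens) : Scheme.{u}) ⟶ PA)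
    (hΦ : RelProj.IsProjQMapOn (RelProj.QGrHom.ofHom φ hφ) pA chartA pB chartB
      (RelProj.domQ (RelProj.QGrHom.ofHom φ hφ) pB chartB) Φ) :
    Φ ≫ pA = (RelProj.domQ (RelProj.QGrHom.ofHom φ hφ) pB chartB).ι ≫ pB := by
  refine Scheme.hom_ext_of_forall _ _ fun x => ?_
  obtain ⟨_, ⟨U, hU, rfl⟩, hyU, -⟩ := Y.isBasis_affineOpens.exists_subset_of_mem_open
    (Set.mem_univ (pB.base ((RelProj.domQ (RelProj.QGrHom.ofHom φ hφ) pB chartB).ι.base x)))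
    isOpen_univ
  replace hU : IsAffineOpen U := hU
  have hxU : (RelProj.domQ (RelProj.QGrHom.ofHom φ hφ) pB chartB).ι.base x ∈ pB ⁻¹ᵁ U := hyU
  have hzx := emb_chart_hom pB chartB U hU _ hxU
  have hxD : (RelProj.domQ (RelProj.QGrHom.ofHom φ hφ) pB chartB).ι.base x ∈
      RelProj.domQ (RelProj.QGrHom.ofHom φ hφ) pB chartB := x.2
  obtain ⟨e, he, a, ha, hza⟩ := hdom_on φ hφ pB chartB hB U hU
    ((chartB U hU).hom.base ⟨_, hxU⟩) (by rw [hzx]; exact hxD)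
  obtain ⟨z', hz'⟩ := (Proj.opensRange_awayι (ℬ.deg U hU) _
    (GradedFunLike.map_mem (psi φ hφ U hU) ha) he).ge hza
  refine ⟨(lft φ hφ pB chartB U hU he a ha).opensRange,
    ⟨z', lft_point φ hφ pB chartB U hU he a ha z' x (by rw [hz', hzx])⟩, ?_⟩
  rw [← Scheme.Hom.isoOpensRange_inv_comp, Category.assoc, Category.assoc]
  congr 1
  have hR : lft φ hφ pB chartB U hU he a ha ≫
      (RelProj.domQ (RelProj.QGrHom.ofHom φ hφ) pB chartB).ι ≫ pB =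
      RelProj.awayEmb (RelProj.QGrHom.ofHom φ hφ) pB chartB U hU U hU (hle U) he a ha ≫ pB := by
    rw [← Category.assoc, lft_ι]
  rw [hR, ← Category.assoc, hΦ U hU U hU (hle U) e he a ha
    (RelProj.range_awayEmb_subset_domQ (RelProj.QGrHom.ofHom φ hφ) pB chartB U hU U hU (hle U)
      he a ha), Category.assoc, Category.assoc, awayι_emb_over hA]
  unfold RelProj.awayEmb
  rw [Category.assoc, awayι_emb_over hB, ← Spec.map_comp_assoc, ← Spec.map_comp_assoc,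
    ← Spec.map_comp_assoc, ring_eq]

theorem preimage_chart_on (hB : RelProj.IsRelProj ℬ pB chartB)
    (Φ : ((RelProj.domQ (RelProj.QGrHom.ofHom φ hφ) pB chartB : PB.Opens) : Scheme.{u}) ⟶ PA)
    (hΦ : RelProj.IsProjQMapOn (RelProj.QGrHom.ofHom φ hφ) pA chartA pB chartB
      (RelProj.domQ (RelProj.QGrHom.ofHom φ hφ) pB chartB) Φ)
    (hover : Φ ≫ pA = (RelProj.domQ (RelProj.QGrHom.ofHom φ hφ) pB chartB).ι ≫ pB)
    (U : Y.Opens) (hU : IsAffineOpen U) {d : ℕ} (hd : 0 < d) (f : 𝒜.presheaf.obj (op U))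
    (hf : f ∈ 𝒜.deg U hU d) :
    Φ ⁻¹ᵁ (Proj.awayι (𝒜.deg U hU) f hf hd ≫ RelProj.emb pA chartA U hU).opensRange =
      (lft φ hφ pB chartB U hU hd f hf).opensRange := by
  apply le_antisymm
  · intro x hx
    obtain ⟨w₁', hw₁'⟩ := hx
    obtain ⟨w₁, hw₁def⟩ : ∃ w₁, w₁ = (Proj.awayι (𝒜.deg U hU) f hf hd).base w₁' := ⟨_, rfl⟩
    have hw₁ : (RelProj.emb pA chartA U hU).base w₁ = Φ.base x := by
      rw [hw₁def]
      exact hw₁'
    have hw₁f : w₁ ∈ Proj.basicOpen (𝒜.deg U hU) f := by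
      rw [hw₁def]
      exact (Proj.opensRange_awayι (𝒜.deg U hU) f hf hd).le ⟨w₁', rfl⟩
    have hxU : (RelProj.domQ (RelProj.QGrHom.ofHom φ hφ) pB chartB).ι.base x ∈ pB ⁻¹ᵁ U := by
      show pB.base ((RelProj.domQ (RelProj.QGrHom.ofHom φ hφ) pB chartB).ι.base x) ∈ U
      have e1 : pB.base ((RelProj.domQ (RelProj.QGrHom.ofHom φ hφ) pB chartB).ι.base x) =
          pA.base (Φ.base x) := (congrArg (fun t => t.base x) hover).symm
      rw [e1, ← hw₁]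
      exact emb_mem pA chartA U hU w₁
    have hzx := emb_chart_hom pB chartB U hU _ hxU
    have hxD : (RelProj.domQ (RelProj.QGrHom.ofHom φ hφ) pB chartB).ι.base x ∈
        RelProj.domQ (RelProj.QGrHom.ofHom φ hφ) pB chartB := x.2
    obtain ⟨e, he, a, ha, hza⟩ := hdom_on φ hφ pB chartB hB U hU
      ((chartB U hU).hom.base ⟨_, hxU⟩) (by rw [hzx]; exact hxD)
    obtain ⟨z', hz'⟩ := (Proj.opensRange_awayι (ℬ.deg U hU) _
      (GradedFunLike.map_mem (psi φ hφ U hU) ha) he).ge hza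
    have hxl : (lft φ hφ pB chartB U hU he a ha).base z' = x :=
      lft_point φ hφ pB chartB U hU he a ha z' x (by rw [hz', hzx])
    have hchart := hΦ U hU U hU (hle U) e he a ha
      (RelProj.range_awayEmb_subset_domQ (RelProj.QGrHom.ofHom φ hφ) pB chartB U hU U hU (hle U)
        he a ha)
    have hx2 : Φ.base x = (RelProj.emb pA chartA U hU).base
        ((Proj.awayι (𝒜.deg U hU) a ha he).base
          ((Spec.map (CommRingCat.ofHom (Away.map (psi φ hφ U hU) a))).base z')) := by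
      have := congrArg (fun t => t.base z') hchart
      rw [← hxl]
      exact this
    have hw : w₁ = (Proj.awayι (𝒜.deg U hU) a ha he).base
        ((Spec.map (CommRingCat.ofHom (Away.map (psi φ hφ U hU) a))).base z') :=
      (RelProj.emb pA chartA U hU).isOpenEmbedding.injective (hw₁.trans hx2)
    rw [hw] at hw₁f
    have hzf : (chartB U hU).hom.base ⟨_, hxU⟩ ∈
        Proj.basicOpen (ℬ.deg U hU) (psi φ hφ U hU f) := by
      rw [← hz']
      exact (awayι_map_mem_basicOpen_iff (psi φ hφ U hU) he hd ha hf z').mp hw₁f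
    obtain ⟨z'', hz''⟩ := (Proj.opensRange_awayι (ℬ.deg U hU) _
      (GradedFunLike.map_mem (psi φ hφ U hU) hf) hd).ge hzf
    exact ⟨z'', lft_point φ hφ pB chartB U hU hd f hf z'' x (by rw [hz'', hzx])⟩
  · rintro _ ⟨z', rfl⟩
    have := congrArg (fun t => t.base z') (hΦ U hU U hU (hle U) d hd f hf
      (RelProj.range_awayEmb_subset_domQ (RelProj.QGrHom.ofHom φ hφ) pB chartB U hU U hU (hle U)
        hd f hf))
    exact ⟨(Spec.map (CommRingCat.ofHom (Away.map (psi φ hφ U hU) f))).base z', this.symm⟩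

theorem main_on (P : MorphismProperty Scheme.{u}) [IsZariskiLocalAtTarget P]
    (hA : RelProj.IsRelProj 𝒜 pA chartA) (hB : RelProj.IsRelProj ℬ pB chartB)
    (hP : ∀ (U : Y.Opens) (hU : IsAffineOpen U) (d : ℕ) (_ : 0 < d) (f : 𝒜.presheaf.obj (op U))
      (_ : f ∈ 𝒜.deg U hU d),
      P (Spec.map (CommRingCat.ofHom (Away.map (psi φ hφ U hU) f))))
    (Φ : ((RelProj.domQ (RelProj.QGrHom.ofHom φ hφ) pB chartB : PB.Opens) : Scheme.{u}) ⟶ PA)
    (hΦ : RelProj.IsProjQMapOn (RelProj.QGrHom.ofHom φ hφ) pA chartA pB chartB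
      (RelProj.domQ (RelProj.QGrHom.ofHom φ hφ) pB chartB) Φ) : P Φ := by
  have hover := over_base_on φ hφ pA chartA pB chartB hA hB Φ hΦ
  apply IsZariskiLocalAtTarget.of_forall_exists_morphismRestrict
  intro w
  obtain ⟨U, hU, d, hd, f, hf, hw⟩ := cover pA chartA w
  refine ⟨(Proj.awayι (𝒜.deg U hU) f hf hd ≫ RelProj.emb pA chartA U hU).opensRange, hw, ?_⟩
  have hpre := preimage_chart_on φ hφ pA chartA pB chartB hB Φ hΦ hover U hU hd f hf
  let e1 := IsOpenImmersion.isoOfRangeEq (lft φ hφ pB chartB U hU hd f hf)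
    (Φ ⁻¹ᵁ (Proj.awayι (𝒜.deg U hU) f hf hd ≫ RelProj.emb pA chartA U hU).opensRange).ι
    (by rw [Scheme.Opens.range_ι, hpre]; rfl)
  let e2 := (Proj.awayι (𝒜.deg U hU) f hf hd ≫ RelProj.emb pA chartA U hU).isoOpensRange
  have hsq : e1.hom ≫ (Φ ∣_ (Proj.awayι (𝒜.deg U hU) f hf hd ≫
      RelProj.emb pA chartA U hU).opensRange) =
      Spec.map (CommRingCat.ofHom (Away.map (psi φ hφ U hU) f)) ≫ e2.hom := by
    rw [← cancel_mono (Scheme.Opens.ι _), Category.assoc, Category.assoc, morphismRestrict_ι,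
      ← Category.assoc e1.hom, IsOpenImmersion.isoOfRangeEq_hom_fac,
      Scheme.Hom.isoOpensRange_hom_ι, hΦ U hU U hU (hle U) d hd f hf
        (RelProj.range_awayEmb_subset_domQ (RelProj.QGrHom.ofHom φ hφ) pB chartB U hU U hU
          (hle U) hd f hf)]
  have hr : (Φ ∣_ (Proj.awayι (𝒜.deg U hU) f hf hd ≫
      RelProj.emb pA chartA U hU).opensRange) =
      e1.inv ≫ Spec.map (CommRingCat.ofHom (Away.map (psi φ hφ U hU) f)) ≫ e2.hom := by
    rw [Iso.eq_inv_comp]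
    exact hsq
  rw [hr, P.cancel_left_of_respectsIso, P.cancel_right_of_respectsIso]
  exact hP U hU d hd f hf

end Sch

end Groth.Agent.Helper22.RelProjOn
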