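import Mathlib
import Groth.Prelude.Def_RelProj

set_option autoImplicit false
set_option maxHeartbeats 400000

universe u

open CategoryTheory CategoryTheory.Limits AlgebraicGeometry TopologicalSpace Opposite
open scoped HomogeneousIdeal

namespace Groth.Agent.Helper22.RelProjXf

variable {Y P : Scheme.{u}} (𝒮 : RelProj.QCGrAlg Y) (p : P ⟶ Y)
  (chart : ∀ (U : Y.Opens) (hU : IsAffineOpen U),
    (((p ⁻¹ᵁ U : P.Opens) : Scheme.{u}) ≅ Proj (𝒮.deg U hU)))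
  (hP : RelProj.IsRelProj 𝒮 p chart) (f : 𝒮.presheaf.obj (op ⊤))

/-- the piece of `X_f` over the affine open `U` -/
noncomputable def piece (U : Y.Opens) (hU : IsAffineOpen U) : P.Opens :=
  (p ⁻¹ᵁ U).ι ''ᵁ ((chart U hU).hom ⁻¹ᵁ
    Proj.basicOpen (𝒮.deg U hU) ((𝒮.presheaf.map (homOfLE le_top).op).hom f))

theorem mem_piece (U : Y.Opens) (hU : IsAffineOpen U) (x : P) :
    x ∈ piece 𝒮 p chart f U hU ↔ ∃ hx : x ∈ p ⁻¹ᵁ U,
      (chart U hU).hom ⟨x, hx⟩ ∈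
        Proj.basicOpen (𝒮.deg U hU) ((𝒮.presheaf.map (homOfLE le_top).op).hom f) := by
  constructor
  · rintro ⟨y, hy, rfl⟩
    exact ⟨y.2, hy⟩
  · rintro ⟨hx, h⟩
    exact ⟨⟨x, hx⟩, h, rfl⟩

include hP in
theorem mem_piece_basic (U : Y.Opens) (hU : IsAffineOpen U) (r : Γ(Y, U)) (W : Y.Opens)
    (hW : IsAffineOpen W) (e : W = Y.basicOpen r) (x : P) (hxW : x ∈ p ⁻¹ᵁ W) :
    x ∈ piece 𝒮 p chart f U hU ↔ x ∈ piece 𝒮 p chart f W hW := by
  subst e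
  have hxU : x ∈ p ⁻¹ᵁ U := p.preimage_mono (Y.basicOpen_le r) hxW
  have hpt : (P.homOfLE (p.preimage_mono (Y.basicOpen_le r))) ⟨x, hxW⟩ =
      (⟨x, hxU⟩ : ↥(p ⁻¹ᵁ U)) := by
    apply (p ⁻¹ᵁ U).ι.isOpenEmbedding.injective
    rw [← Scheme.Hom.comp_apply, Scheme.homOfLE_ι]
    rfl
  have hres : (P.homOfLE (p.preimage_mono (Y.basicOpen_le r)) ≫ (chart U hU).hom) ⟨x, hxW⟩ =
      ((chart (Y.basicOpen r) (hU.basicOpen r)).hom ≫
        Proj.map (𝒮.res hU (hU.basicOpen r) (Y.basicOpen_le r))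
          (𝒮.irrelevant_le_map U hU r)) ⟨x, hxW⟩ := by
    rw [hP.chart_res U hU r]
  rw [Scheme.Hom.comp_apply, Scheme.Hom.comp_apply, hpt] at hres
  have hf : (𝒮.res hU (hU.basicOpen r) (Y.basicOpen_le r))
      ((𝒮.presheaf.map (homOfLE le_top).op).hom f) =
      (𝒮.presheaf.map (homOfLE le_top).op).hom f := by
    rw [RelProj.QCGrAlg.res_apply, ← CommRingCat.comp_apply, ← Functor.map_comp]
    rfl
  rw [mem_piece, mem_piece]
  constructor
  · rintro ⟨_, h⟩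
    refine ⟨hxW, ?_⟩
    have h2 : (chart U hU).hom ⟨x, hxU⟩ ∈
        Proj.basicOpen (𝒮.deg U hU) ((𝒮.presheaf.map (homOfLE le_top).op).hom f) := h
    rw [hres] at h2
    have h3 : (chart (Y.basicOpen r) (hU.basicOpen r)).hom ⟨x, hxW⟩ ∈
        Proj.basicOpen (𝒮.deg (Y.basicOpen r) (hU.basicOpen r))
          ((𝒮.res hU (hU.basicOpen r) (Y.basicOpen_le r))
            ((𝒮.presheaf.map (homOfLE le_top).op).hom f)) := h2
    rw [hf] at h3
    exact h3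
  · rintro ⟨_, h⟩
    refine ⟨hxU, ?_⟩
    rw [hres]
    have h2 : (chart (Y.basicOpen r) (hU.basicOpen r)).hom ⟨x, hxW⟩ ∈
        Proj.basicOpen (𝒮.deg (Y.basicOpen r) (hU.basicOpen r))
          ((𝒮.presheaf.map (homOfLE le_top).op).hom f) := h
    rw [← hf] at h2
    exact h2

include hP in
theorem mem_piece_iff (U : Y.Opens) (hU : IsAffineOpen U) (V : Y.Opens) (hV : IsAffineOpen V)
    (x : P) (hxU : x ∈ p ⁻¹ᵁ U) (hxV : x ∈ p ⁻¹ᵁ V) :
    x ∈ piece 𝒮 p chart f U hU ↔ x ∈ piece 𝒮 p chart f V hV := by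
  obtain ⟨r, s, e, hxr⟩ := exists_basicOpen_le_affine_inter hU hV (p x) ⟨hxU, hxV⟩
  have hxs : p x ∈ Y.basicOpen s := e ▸ hxr
  rw [mem_piece_basic 𝒮 p chart hP f U hU r (Y.basicOpen s) (hV.basicOpen s) e.symm x hxs,
    mem_piece_basic 𝒮 p chart hP f V hV s (Y.basicOpen s) (hV.basicOpen s) rfl x hxs]

include hP in
/-- the open `X_f` of a relative `Proj` cut out by a homogeneous global section of positive
degree, and its affineness over the base -/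
theorem exists_Xf {d : ℕ} (hd : 0 < d)
    (hf : ∀ (U : Y.Opens) (hU : IsAffineOpen U),
      (𝒮.presheaf.map (homOfLE le_top).op).hom f ∈ 𝒮.deg U hU d) :
    ∃ Xf : P.Opens, (∀ (U : Y.Opens) (hU : IsAffineOpen U),
      Xf ⊓ p ⁻¹ᵁ U = piece 𝒮 p chart f U hU) ∧ IsAffineHom (Xf.ι ≫ p) := by
  have hX : ∀ (U : Y.Opens) (hU : IsAffineOpen U),
      (⨆ V : Y.affineOpens, piece 𝒮 p chart f V.1 V.2) ⊓ p ⁻¹ᵁ U = piece 𝒮 p chart f U hU := by
    intro U hU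
    apply le_antisymm
    · rintro x ⟨hx1, hx2⟩
      obtain ⟨V, hV⟩ := Opens.mem_iSup.mp hx1
      have hxV : x ∈ p ⁻¹ᵁ V.1 := by
        obtain ⟨h, -⟩ := (mem_piece 𝒮 p chart f V.1 V.2 x).mp hV
        exact h
      exact (mem_piece_iff 𝒮 p chart hP f V.1 V.2 U hU x hxV hx2).mp hV
    · intro x hx
      refine ⟨Opens.mem_iSup.mpr ⟨⟨U, hU⟩, hx⟩, ?_⟩
      obtain ⟨h, -⟩ := (mem_piece 𝒮 p chart f U hU x).mp hx
      exact h
  refine ⟨⨆ V : Y.affineOpens, piece 𝒮 p chart f V.1 V.2, hX, ⟨fun U hU => ?_⟩⟩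
  have h1 : IsAffineOpen (piece 𝒮 p chart f U hU) := by
    unfold piece
    exact ((Proj.isAffineOpen_basicOpen (𝒮.deg U hU) _ (hf U hU) hd).preimage_of_isIso
      (chart U hU).hom).image_of_isOpenImmersion (p ⁻¹ᵁ U).ι
  rw [← Scheme.Hom.isAffineOpen_iff_of_isOpenImmersion
    (⨆ V : Y.affineOpens, piece 𝒮 p chart f V.1 V.2).ι]
  rw [Scheme.Hom.comp_preimage, Scheme.Hom.image_preimage_eq_opensRange_inf,
    Scheme.Opens.opensRange_ι, hX U hU]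
  exact h1

end Groth.Agent.Helper22.RelProjXf
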