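import Groth.Agent.Lib.Helper22.RepDiag

set_option autoImplicit false
set_option backward.isDefEq.respectTransparency false
set_option backward.isDefEq.respectTransparency.types false

namespace Groth.Agent.Helper22.RepDiag

open CategoryTheory CategoryTheory.Limits FibCat

universe v₂ u₂ v u

section eqlemma
variable {C : Type u} [Category.{v} C] [HasEqualizers C] {𝒮 : BasedCategory.{v₂, u₂} C}

theorem hasTerm_of_eq (h𝒮 : FibCat.IsFibGrpd 𝒮.p) {W : C}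
    (H : FibCat.overCat W ⥤ᵇ FibCat.fp (FibCat.toSelf 𝒮) (FibCat.toSelf 𝒮))
    (hξ : ∃ ξ₀ : (FibCat.fp
        (BasedFunctor.comp H (FibCat.fpFst (FibCat.toSelf 𝒮) (FibCat.toSelf 𝒮)))
        (BasedFunctor.comp H (FibCat.fpSnd (FibCat.toSelf 𝒮) (FibCat.toSelf 𝒮)))).obj,
      ∀ ρ, Nonempty (Unique (ρ ⟶ ξ₀))) :
    ∃ ξ : (FibCat.fp H (FibCat.diag (FibCat.toSelf 𝒮))).obj, ∀ ρ, Nonempty (Unique (ρ ⟶ ξ)) := by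
  obtain ⟨ξ₀, hξ₀⟩ := hξ
  let H₁ : FibCat.overCat W ⥤ᵇ 𝒮 :=
    BasedFunctor.comp H (FibCat.fpFst (FibCat.toSelf 𝒮) (FibCat.toSelf 𝒮))
  let H₂ : FibCat.overCat W ⥤ᵇ 𝒮 :=
    BasedFunctor.comp H (FibCat.fpSnd (FibCat.toSelf 𝒮) (FibCat.toSelf 𝒮))
  let a₀ : Over W := ξ₀.obj.fst
  let b₀ : Over W := ξ₀.obj.snd
  let θ₀ : H₁.obj a₀ ≅ H₂.obj b₀ := ξ₀.obj.iso
  haveI hθ₀ : 𝒮.p.IsHomLift (𝟙 a₀.left) θ₀.hom := ξ₀.property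
  have hb₀ : b₀.left = a₀.left := Groth.Agent.H13.fp_obj_snd_proj H₁ H₂ ξ₀
  let ah : a₀.left ⟶ W := a₀.hom
  let β₀ : a₀.left ⟶ W := eqToHom hb₀.symm ≫ b₀.hom
  let i : equalizer ah β₀ ⟶ a₀.left := equalizer.ι ah β₀
  haveI : Mono i := inferInstanceAs (Mono (equalizer.ι ah β₀))
  have hi : i ≫ ah = i ≫ β₀ := equalizer.condition ah β₀
  let c₀ : Over W := Over.mk (i ≫ ah)
  let ia : c₀ ⟶ a₀ := Over.homMk i rfl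
  let ib : c₀ ⟶ b₀ := Over.homMk (i ≫ eqToHom hb₀.symm) (by
    have h : (i ≫ eqToHom hb₀.symm) ≫ b₀.hom = i ≫ ah := by
      rw [Category.assoc]
      exact hi.symm
    exact h)
  haveI hia : 𝒮.p.IsHomLift i (H₁.map ia) := over_map_lift H₁ ia
  let φ : H₁.obj c₀ ⟶ H₂.obj b₀ := H₁.map ia ≫ θ₀.hom
  haveI hφ0 : 𝒮.p.IsHomLift i φ := by
    show 𝒮.p.IsHomLift i (H₁.map ia ≫ θ₀.hom)
    infer_instance
  let j : equalizer ah β₀ ⟶ b₀.left := i ≫ eqToHom hb₀.symm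
  haveI hφ : 𝒮.p.IsHomLift j φ := (IsHomLift.lift_comp_eqToHom_iff 𝒮.p i φ hb₀.symm).2 hφ0
  haveI hib : (FibCat.overCat W).p.IsHomLift j ib := by
    have h0 : (FibCat.overCat W).p.IsHomLift ((FibCat.overCat W).p.map ib) ib := inferInstance
    exact h0
  obtain ⟨lam, hE, hlamE, hlam, hlamfac⟩ :=
    Groth.Agent.Helper22.StkLocal.exists_iso_of_lifts h𝒮 H₁ H₂ j φ ib
  let s₀ : 𝒮.obj := H₂.obj c₀
  let Hc₀ := H.obj c₀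
  let Ds₀ := (FibCat.diag (FibCat.toSelf 𝒮)).obj s₀
  let Θ₀ : Hc₀ ≅ Ds₀ := isoP Hc₀ Ds₀ lam (Iso.refl s₀) hlamE (IsHomLift.id (H₂.w_obj c₀))
  have hΘ₀l : (FibCat.fp (FibCat.toSelf 𝒮) (FibCat.toSelf 𝒮)).p.IsHomLift
      (𝟙 ((FibCat.overCat W).p.obj c₀)) Θ₀.hom := by
    rw [Groth.Agent.H13.fp_isHomLift_iff (FibCat.toSelf 𝒮) (FibCat.toSelf 𝒮) Θ₀.hom
      (𝟙 ((FibCat.overCat W).p.obj c₀))]
    exact hlam
  let ξ : (FibCat.fp H (FibCat.diag (FibCat.toSelf 𝒮))).obj := ⟨⟨c₀, s₀, Θ₀⟩, hΘ₀l⟩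
  refine ⟨ξ, ?_⟩
  intro ρ
  let c : Over W := ρ.obj.fst
  let s : 𝒮.obj := ρ.obj.snd
  let Θ₁ : H₁.obj c ⟶ s := ρ.obj.iso.hom.hom.fst
  let Θ₂ : H₂.obj c ⟶ s := ρ.obj.iso.hom.hom.snd
  have hΘρ : (FibCat.fp (FibCat.toSelf 𝒮) (FibCat.toSelf 𝒮)).p.IsHomLift (𝟙 c.left)
      ρ.obj.iso.hom := ρ.property
  haveI hΘ₁ : 𝒮.p.IsHomLift (𝟙 c.left) Θ₁ :=
    (Groth.Agent.H13.fp_isHomLift_iff (FibCat.toSelf 𝒮) (FibCat.toSelf 𝒮) ρ.obj.iso.hom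
      (𝟙 c.left)).1 hΘρ
  haveI hΘ₂ : 𝒮.p.IsHomLift (𝟙 c.left) Θ₂ :=
    fp_lift_snd (FibCat.toSelf 𝒮) (FibCat.toSelf 𝒮) ρ.obj.iso.hom (𝟙 c.left) hΘρ
  haveI : IsIso Θ₁ := Groth.Agent.H13.FibGrpd.isIso_of_lift_id h𝒮 (S := c.left) Θ₁
  haveI : IsIso Θ₂ := Groth.Agent.H13.FibGrpd.isIso_of_lift_id h𝒮 (S := c.left) Θ₂
  let θ' : H₁.obj c ≅ H₂.obj c := asIso Θ₁ ≪≫ (asIso Θ₂).symm
  have hθ' : 𝒮.p.IsHomLift (𝟙 c.left) θ'.hom := by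
    show 𝒮.p.IsHomLift (𝟙 c.left) (Θ₁ ≫ inv Θ₂)
    infer_instance
  let ρ' : (FibCat.fp H₁ H₂).obj := ⟨⟨c, c, θ'⟩, hθ'⟩
  obtain ⟨uρ⟩ := hξ₀ ρ'
  let f₀ : ρ' ⟶ ξ₀ := uρ.default
  let k₁ : c ⟶ a₀ := f₀.hom.fst
  let k₂ : c ⟶ b₀ := f₀.hom.snd
  have compat : H₁.map k₁ ≫ θ₀.hom = (Θ₁ ≫ inv Θ₂) ≫ H₂.map k₂ := f₀.hom.w
  have hk₂ : k₂.left = k₁.left ≫ eqToHom hb₀.symm :=
    over_left_eq_cod k₂ k₁.left hb₀ (FibCat.fp_isHomLift_snd H₁ H₂ f₀)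
  let κ : c.left ⟶ a₀.left := k₁.left
  have hκa : κ ≫ ah = c.hom := Over.w k₁
  have hκb : κ ≫ β₀ = c.hom := by
    have h2 : k₂.left ≫ b₀.hom = c.hom := Over.w k₂
    rw [hk₂, Category.assoc] at h2
    exact h2
  let κ' : c.left ⟶ equalizer ah β₀ := equalizer.lift κ (hκa.trans hκb.symm)
  have hκ' : κ' ≫ i = κ := equalizer.lift_ι κ _
  let k : c ⟶ c₀ := Over.homMk κ' (by
    show κ' ≫ i ≫ ah = c.hom
    rw [← Category.assoc, hκ', hκa])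
  have hkia : k ≫ ia = k₁ := by
    apply Over.OverMorphism.ext
    exact hκ'
  have hkib : k ≫ ib = k₂ := by
    apply Over.OverMorphism.ext
    show κ' ≫ i ≫ eqToHom hb₀.symm = k₂.left
    rw [← Category.assoc, hκ', hk₂]
  haveI hHk₁ : 𝒮.p.IsHomLift κ' (H₁.map k) := over_map_lift H₁ k
  haveI hHk₂ : 𝒮.p.IsHomLift κ' (H₂.map k) := over_map_lift H₂ k
  haveI hscib : 𝒮.p.IsStronglyCartesian j (H₂.map ib) := by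
    haveI : 𝒮.p.IsHomLift j (H₂.map ib) := over_map_lift H₂ ib
    exact Groth.Agent.Helper22.FibLift.sc_of_lift 𝒮.p h𝒮 j (H₂.map ib)
  let m : s ⟶ s₀ := inv Θ₂ ≫ H₂.map k
  have eq1 : H₁.map k ≫ lam.hom = Θ₁ ≫ m := by
    haveI : 𝒮.p.IsHomLift κ' (H₁.map k ≫ lam.hom) := inferInstance
    haveI : 𝒮.p.IsHomLift (𝟙 c.left) (inv Θ₂) := inferInstance
    haveI : 𝒮.p.IsHomLift κ' (inv Θ₂ ≫ H₂.map k) := inferInstance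
    haveI : 𝒮.p.IsHomLift κ' (Θ₁ ≫ m) := by
      show 𝒮.p.IsHomLift κ' (Θ₁ ≫ inv Θ₂ ≫ H₂.map k)
      infer_instance
    apply Functor.IsStronglyCartesian.ext 𝒮.p j (H₂.map ib) κ'
    rw [Category.assoc, hlamfac]
    show H₁.map k ≫ H₁.map ia ≫ θ₀.hom = (Θ₁ ≫ inv Θ₂ ≫ H₂.map k) ≫ H₂.map ib
    rw [← Category.assoc, ← H₁.toFunctor.map_comp, hkia, compat]
    simp only [Category.assoc]
    rw [← H₂.toFunctor.map_comp, hkib]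
  have w : H.map k ≫ Θ₀.hom = ρ.obj.iso.hom ≫ (FibCat.diag (FibCat.toSelf 𝒮)).map m := by
    apply ObjectProperty.hom_ext
    apply CategoryTheory.Limits.CategoricalPullback.hom_ext
    · show H₁.map k ≫ lam.hom = Θ₁ ≫ m
      exact eq1
    · show H₂.map k ≫ 𝟙 s₀ = Θ₂ ≫ m
      rw [Category.comp_id]
      show H₂.map k = Θ₂ ≫ inv Θ₂ ≫ H₂.map k
      rw [IsIso.hom_inv_id_assoc]
  let f : ρ ⟶ ξ := ObjectProperty.homMk ⟨k, m, w⟩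
  refine ⟨{ default := f, uniq := ?_ }⟩
  intro f'
  let k' : c ⟶ c₀ := f'.hom.fst
  let m' : s ⟶ s₀ := f'.hom.snd
  have w' : H.map k' ≫ Θ₀.hom = ρ.obj.iso.hom ≫ (FibCat.diag (FibCat.toSelf 𝒮)).map m' :=
    f'.hom.w
  have w'₁ : H₁.map k' ≫ lam.hom = Θ₁ ≫ m' :=
    congrArg (fun z : H.obj c ⟶ Ds₀ => z.hom.fst) w'
  have w'₂ : H₂.map k' ≫ 𝟙 s₀ = Θ₂ ≫ m' :=
    congrArg (fun z : H.obj c ⟶ Ds₀ => z.hom.snd) w'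
  have hm' : m' = inv Θ₂ ≫ H₂.map k' := by
    rw [Category.comp_id] at w'₂
    rw [w'₂, IsIso.inv_hom_id_assoc]
  have compat' : H₁.map (k' ≫ ia) ≫ θ₀.hom = (Θ₁ ≫ inv Θ₂) ≫ H₂.map (k' ≫ ib) := by
    rw [H₁.toFunctor.map_comp, H₂.toFunctor.map_comp, Category.assoc]
    show H₁.map k' ≫ φ = _
    rw [← hlamfac, ← Category.assoc, w'₁, hm']
    simp only [Category.assoc]
  let f₁ : ρ' ⟶ ξ₀ := ObjectProperty.homMk ⟨k' ≫ ia, k' ≫ ib, compat'⟩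
  have hf₁ : f₁ = f₀ := uρ.uniq f₁
  have h1 : k' ≫ ia = k₁ := congrArg (fun z : ρ' ⟶ ξ₀ => z.hom.fst) hf₁
  have h2 : k'.left ≫ i = κ' ≫ i := by
    rw [hκ']
    exact congrArg (fun z : c ⟶ a₀ => z.left) h1
  have h3 : k'.left = κ' := (cancel_mono i).1 h2
  have hkk : k' = k := Over.OverMorphism.ext h3
  apply ObjectProperty.hom_ext
  apply CategoryTheory.Limits.CategoricalPullback.hom_ext
  · exact hkk
  · show m' = inv Θ₂ ≫ H₂.map k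
    rw [hm', hkk]

end eqlemma

end Groth.Agent.Helper22.RepDiag
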