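import Groth.Agent.Lib.Helper22.RepDiag

set_option autoImplicit false
set_option backward.isDefEq.respectTransparency false
set_option backward.isDefEq.respectTransparency.types false

namespace Groth.Agent.Helper22.RepDiag

open CategoryTheory CategoryTheory.Limits FibCat

universe v₂ u₂ v u

section prodlemma
variable {C : Type u} [Category.{v} C] [HasBinaryProducts C] {𝒮 : BasedCategory.{v₂, u₂} C}

/-- the functor `C/(V × U) ⟶ 𝒮 ×_C 𝒮` built from `G'` and `G`. -/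
noncomputable def prodH {V U : C} (G' : FibCat.overCat V ⥤ᵇ 𝒮) (G : FibCat.overCat U ⥤ᵇ 𝒮) :
    FibCat.overCat (V ⨯ U) ⥤ᵇ FibCat.fp (FibCat.toSelf 𝒮) (FibCat.toSelf 𝒮) :=
  FibCat.fpLift (BasedFunctor.comp (overMapB prod.fst) G')
    (BasedFunctor.comp (overMapB prod.snd) G) (toSelfIso _ _)

theorem hasTerm_of_prod (h𝒮 : FibCat.IsFibGrpd 𝒮.p) {V U : C}
    (G' : FibCat.overCat V ⥤ᵇ 𝒮) (G : FibCat.overCat U ⥤ᵇ 𝒮)
    (hξ : ∃ ξ : (FibCat.fp (prodH G' G) (FibCat.diag (FibCat.toSelf 𝒮))).obj,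
      ∀ ρ, Nonempty (Unique (ρ ⟶ ξ))) :
    ∃ ξ' : (FibCat.fp G' G).obj, ∀ ρ, Nonempty (Unique (ρ ⟶ ξ')) := by
  obtain ⟨ξ, hξ⟩ := hξ
  let c₀ : Over (V ⨯ U) := ξ.obj.fst
  let s₀ : 𝒮.obj := ξ.obj.snd
  let Hc₀ := (prodH G' G).obj c₀
  let Ds₀ := (FibCat.diag (FibCat.toSelf 𝒮)).obj s₀
  let t₁ : G'.obj ((Over.map prod.fst).obj c₀) ⟶ s₀ := ξ.obj.iso.hom.hom.fst
  let t₂ : G.obj ((Over.map prod.snd).obj c₀) ⟶ s₀ := ξ.obj.iso.hom.hom.snd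
  have hΘ : (FibCat.fp (FibCat.toSelf 𝒮) (FibCat.toSelf 𝒮)).p.IsHomLift (𝟙 c₀.left)
      ξ.obj.iso.hom := ξ.property
  haveI ht₁ : 𝒮.p.IsHomLift (𝟙 c₀.left) t₁ :=
    (Groth.Agent.H13.fp_isHomLift_iff (FibCat.toSelf 𝒮) (FibCat.toSelf 𝒮) ξ.obj.iso.hom
      (𝟙 c₀.left)).1 hΘ
  haveI ht₂ : 𝒮.p.IsHomLift (𝟙 c₀.left) t₂ :=
    fp_lift_snd (FibCat.toSelf 𝒮) (FibCat.toSelf 𝒮) ξ.obj.iso.hom (𝟙 c₀.left) hΘ
  haveI : IsIso t₁ := Groth.Agent.H13.FibGrpd.isIso_of_lift_id h𝒮 (S := c₀.left) t₁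
  haveI : IsIso t₂ := Groth.Agent.H13.FibGrpd.isIso_of_lift_id h𝒮 (S := c₀.left) t₂
  let θ₀ : G'.obj ((Over.map prod.fst).obj c₀) ≅ G.obj ((Over.map prod.snd).obj c₀) :=
    asIso t₁ ≪≫ (asIso t₂).symm
  have hθ₀ : 𝒮.p.IsHomLift (𝟙 c₀.left) θ₀.hom := by
    show 𝒮.p.IsHomLift (𝟙 c₀.left) (t₁ ≫ inv t₂)
    infer_instance
  let ξ' : (FibCat.fp G' G).obj :=
    ⟨⟨(Over.map prod.fst).obj c₀, (Over.map prod.snd).obj c₀, θ₀⟩, hθ₀⟩
  refine ⟨ξ', ?_⟩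
  intro ρ
  let a : Over V := ρ.obj.fst
  let b : Over U := ρ.obj.snd
  let θ : G'.obj a ≅ G.obj b := ρ.obj.iso
  haveI hθ : 𝒮.p.IsHomLift (𝟙 a.left) θ.hom := ρ.property
  have hb : b.left = a.left := Groth.Agent.H13.fp_obj_snd_proj G' G ρ
  let ah : a.left ⟶ V := a.hom
  let β : a.left ⟶ U := eqToHom hb.symm ≫ b.hom
  let c : Over (V ⨯ U) := Over.mk (prod.lift ah β)
  let ua : (Over.map prod.fst).obj c ⟶ a := Over.homMk (𝟙 a.left) (by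
    show 𝟙 a.left ≫ a.hom = prod.lift ah β ≫ prod.fst
    rw [Category.id_comp, prod.lift_fst])
  let ub : (Over.map prod.snd).obj c ⟶ b := Over.homMk (eqToHom hb.symm) (by
    show eqToHom hb.symm ≫ b.hom = prod.lift ah β ≫ prod.snd
    rw [prod.lift_snd])
  haveI hGua : 𝒮.p.IsHomLift (𝟙 a.left) (G'.map ua) := over_map_lift G' ua
  have hGub0 : 𝒮.p.IsHomLift (eqToHom hb.symm) (G.map ub) := over_map_lift G ub
  haveI hGub : 𝒮.p.IsHomLift (𝟙 a.left) (G.map ub) :=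
    lift_id_of_eqToHom 𝒮.p hb.symm (G.map ub) hGub0
  haveI : IsIso (G'.map ua) :=
    Groth.Agent.H13.FibGrpd.isIso_of_lift_id h𝒮 (S := a.left) (G'.map ua)
  haveI : IsIso (G.map ub) :=
    Groth.Agent.H13.FibGrpd.isIso_of_lift_id h𝒮 (S := a.left) (G.map ub)
  let Θ₁ : G'.obj ((Over.map prod.fst).obj c) ⟶ G.obj b := G'.map ua ≫ θ.hom
  haveI hΘ₁ : 𝒮.p.IsHomLift (𝟙 a.left) Θ₁ := by
    show 𝒮.p.IsHomLift (𝟙 a.left) (G'.map ua ≫ θ.hom)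
    infer_instance
  haveI : IsIso θ.hom := inferInstance
  haveI : IsIso Θ₁ := by
    show IsIso (G'.map ua ≫ θ.hom)
    infer_instance
  let Hc := (prodH G' G).obj c
  let Ds := (FibCat.diag (FibCat.toSelf 𝒮)).obj (G.obj b)
  let Θ : Hc ≅ Ds := isoP Hc Ds (asIso Θ₁) (asIso (G.map ub)) hΘ₁ hGub
  have hΘl : (FibCat.fp (FibCat.toSelf 𝒮) (FibCat.toSelf 𝒮)).p.IsHomLift (𝟙 c.left) Θ.hom := by
    rw [Groth.Agent.H13.fp_isHomLift_iff (FibCat.toSelf 𝒮) (FibCat.toSelf 𝒮) Θ.hom (𝟙 c.left)]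
    exact hΘ₁
  let ρ' : (FibCat.fp (prodH G' G) (FibCat.diag (FibCat.toSelf 𝒮))).obj :=
    ⟨⟨c, G.obj b, Θ⟩, hΘl⟩
  obtain ⟨uρ⟩ := hξ ρ'
  let f₀ : ρ' ⟶ ξ := uρ.default
  let k₀ : c ⟶ c₀ := f₀.hom.fst
  let m₀ : G.obj b ⟶ s₀ := f₀.hom.snd
  have w₀ : (prodH G' G).map k₀ ≫ ξ.obj.iso.hom =
      Θ.hom ≫ (FibCat.diag (FibCat.toSelf 𝒮)).map m₀ := f₀.hom.w
  have w₀₁ : G'.map ((Over.map prod.fst).map k₀) ≫ t₁ = Θ₁ ≫ m₀ :=
    congrArg (fun z : Hc ⟶ Ds₀ => z.hom.fst) w₀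
  have w₀₂ : G.map ((Over.map prod.snd).map k₀) ≫ t₂ = G.map ub ≫ m₀ :=
    congrArg (fun z : Hc ⟶ Ds₀ => z.hom.snd) w₀
  have hk₀ : k₀.left ≫ c₀.hom = prod.lift ah β := Over.w k₀
  let k₁ : a ⟶ (Over.map prod.fst).obj c₀ := Over.homMk k₀.left (by
    show k₀.left ≫ (c₀.hom ≫ prod.fst) = a.hom
    rw [← Category.assoc, hk₀, prod.lift_fst])
  let k₂ : b ⟶ (Over.map prod.snd).obj c₀ := Over.homMk (eqToHom hb ≫ k₀.left) (by
    show (eqToHom hb ≫ k₀.left) ≫ (c₀.hom ≫ prod.snd) = b.hom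
    rw [Category.assoc, ← Category.assoc k₀.left, hk₀, prod.lift_snd]
    show eqToHom hb ≫ eqToHom hb.symm ≫ b.hom = b.hom
    rw [eqToHom_trans_assoc, eqToHom_refl, Category.id_comp])
  have e₁ : (Over.map prod.fst).map k₀ = ua ≫ k₁ := by
    apply Over.OverMorphism.ext
    show k₀.left = 𝟙 a.left ≫ k₀.left
    rw [Category.id_comp]
  have e₂ : (Over.map prod.snd).map k₀ = ub ≫ k₂ := by
    apply Over.OverMorphism.ext
    show k₀.left = eqToHom hb.symm ≫ eqToHom hb ≫ k₀.left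
    rw [eqToHom_trans_assoc, eqToHom_refl, Category.id_comp]
  have c₁ : G'.map k₁ ≫ t₁ = θ.hom ≫ m₀ := by
    have h := w₀₁
    rw [e₁, G'.toFunctor.map_comp, Category.assoc] at h
    have h' : G'.map ua ≫ (G'.map k₁ ≫ t₁) = G'.map ua ≫ (θ.hom ≫ m₀) := by
      rw [h]
      show (G'.map ua ≫ θ.hom) ≫ m₀ = _
      rw [Category.assoc]
    exact (cancel_epi (G'.map ua)).1 h'
  have c₂ : G.map k₂ ≫ t₂ = m₀ := by
    have h := w₀₂
    rw [e₂, G.toFunctor.map_comp, Category.assoc] at h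
    exact (cancel_epi (G.map ub)).1 h
  have compat : G'.map k₁ ≫ θ₀.hom = θ.hom ≫ G.map k₂ := by
    show G'.map k₁ ≫ t₁ ≫ inv t₂ = θ.hom ≫ G.map k₂
    rw [← Category.assoc, c₁, ← c₂]
    simp
  let g₀ : ρ ⟶ ξ' := ObjectProperty.homMk ⟨k₁, k₂, compat⟩
  refine ⟨{ default := g₀, uniq := ?_ }⟩
  intro g
  let g₁ : a ⟶ (Over.map prod.fst).obj c₀ := g.hom.fst
  let g₂ : b ⟶ (Over.map prod.snd).obj c₀ := g.hom.snd
  have gw : G'.map g₁ ≫ (t₁ ≫ inv t₂) = θ.hom ≫ G.map g₂ := g.hom.w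
  have hg : g₂.left = eqToHom hb ≫ g₁.left :=
    over_left_eq_dom g₂ g₁.left hb (FibCat.fp_isHomLift_snd G' G g)
  have hk' : g₁.left ≫ c₀.hom = prod.lift ah β := by
    apply Limits.prod.hom_ext
    · rw [Category.assoc, prod.lift_fst]
      exact Over.w g₁
    · rw [Category.assoc, prod.lift_snd]
      have h2 : g₂.left ≫ (c₀.hom ≫ prod.snd) = b.hom := Over.w g₂
      rw [hg, Category.assoc] at h2
      show g₁.left ≫ c₀.hom ≫ prod.snd = eqToHom hb.symm ≫ b.hom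
      rw [← h2, eqToHom_trans_assoc, eqToHom_refl, Category.id_comp]
  let k' : c ⟶ c₀ := Over.homMk g₁.left hk'
  let m' : G.obj b ⟶ s₀ := G.map g₂ ≫ t₂
  have e₁' : (Over.map prod.fst).map k' = ua ≫ g₁ := by
    apply Over.OverMorphism.ext
    show g₁.left = 𝟙 a.left ≫ g₁.left
    rw [Category.id_comp]
  have e₂' : (Over.map prod.snd).map k' = ub ≫ g₂ := by
    apply Over.OverMorphism.ext
    show g₁.left = eqToHom hb.symm ≫ g₂.left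
    rw [hg, eqToHom_trans_assoc, eqToHom_refl, Category.id_comp]
  have gw' : G'.map g₁ ≫ t₁ = θ.hom ≫ G.map g₂ ≫ t₂ := by
    have := congrArg (fun z => z ≫ t₂) gw
    simpa using this
  have w' : (prodH G' G).map k' ≫ ξ.obj.iso.hom =
      Θ.hom ≫ (FibCat.diag (FibCat.toSelf 𝒮)).map m' := by
    apply ObjectProperty.hom_ext
    apply CategoryTheory.Limits.CategoricalPullback.hom_ext
    · show G'.map ((Over.map prod.fst).map k') ≫ t₁ = Θ₁ ≫ m'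
      rw [e₁', G'.toFunctor.map_comp, Category.assoc, gw']
      show _ = (G'.map ua ≫ θ.hom) ≫ G.map g₂ ≫ t₂
      rw [Category.assoc]
    · show G.map ((Over.map prod.snd).map k') ≫ t₂ = G.map ub ≫ m'
      rw [e₂', G.toFunctor.map_comp, Category.assoc]
  let f' : ρ' ⟶ ξ := ObjectProperty.homMk ⟨k', m', w'⟩
  have hf' : f' = f₀ := uρ.uniq f'
  have hk'k₀ : k' = k₀ := congrArg (fun z : ρ' ⟶ ξ => z.hom.fst) hf'
  have hl : g₁.left = k₀.left := congrArg (fun z : c ⟶ c₀ => z.left) hk'k₀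
  apply ObjectProperty.hom_ext
  apply CategoryTheory.Limits.CategoricalPullback.hom_ext
  · apply Over.OverMorphism.ext
    exact hl
  · apply Over.OverMorphism.ext
    show g₂.left = eqToHom hb ≫ k₀.left
    rw [hg, hl]

end prodlemma

end Groth.Agent.Helper22.RepDiag
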