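import Groth.Agent.Lib.Helper22.Cocone
import Mathlib.Algebra.Homology.ShortComplex.ShortExact

/-!
# Right resolutions of unbounded complexes by a class of finite cohomological dimension

Helper library (helper22).
-/

set_option autoImplicit false
universe v u
open CategoryTheory CategoryTheory.Limits ZeroObject
open Groth.Agent.Helper22.Cocone

namespace Groth.Agent.Helper22.ResFin

variable {A : Type u} [Category.{v} A] [Abelian A]

section Closure

variable (P : ObjectProperty A)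
  (h1 : ∀ X : A, ∃ (Y : A) (i : X ⟶ Y), P Y ∧ Mono i)
  (h2 : ∀ S : ShortComplex A, S.ShortExact → P S.X₁ → (P S.X₂ ↔ P S.X₃))

include h1 h2 in
lemma P_zero (Z : A) (hZ : IsZero Z) : P Z := by
  obtain ⟨Y, i, hY, _⟩ := h1 Z
  let S : ShortComplex A := ShortComplex.mk (𝟙 Y) (0 : Y ⟶ Z) comp_zero
  have hS : S.ShortExact :=
    (ShortComplex.Splitting.ofIsIsoOfIsZero S (inferInstanceAs (IsIso (𝟙 Y))) hZ).shortExact
  exact (h2 S hS hY).1 hY

include h1 h2 in
lemma P_iso {X Y : A} (e : X ≅ Y) (hX : P X) : P Y := by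
  let S : ShortComplex A := ShortComplex.mk e.hom (0 : Y ⟶ 0) comp_zero
  have hS : S.ShortExact :=
    (ShortComplex.Splitting.ofIsIsoOfIsZero S (inferInstanceAs (IsIso e.hom))
      (isZero_zero A)).shortExact
  exact (h2 S hS hX).2 (P_zero P h1 h2 _ (isZero_zero A))

include h2 in
lemma P_biprod {X Y : A} (hX : P X) (hY : P Y) : P (X ⊞ Y) :=
  (h2 _ (ShortComplex.Splitting.ofHasBinaryBiproduct X Y).shortExact hX).2 hY

end Closure

section Emb

variable (E : A → A) (u : ∀ X, X ⟶ E X)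

/-- A complex with terms `E _ ⊞ E _` into which `C` embeds. -/
noncomputable def EE (C : CochainComplex A ℤ) : CochainComplex A ℤ :=
  CochainComplex.of (fun k => E (C.X k) ⊞ E (C.X (k + 1)))
    (fun _ => biprod.snd ≫ biprod.inl) (fun k => by
      rw [Category.assoc, biprod.inl_snd_assoc, zero_comp, comp_zero])

lemma EE_d (C : CochainComplex A ℤ) (k : ℤ) :
    (EE E C).d k (k + 1) = biprod.snd ≫ biprod.inl := by
  show CochainComplex.of.d (fun k => E (C.X k) ⊞ E (C.X (k + 1)))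
    (fun _ => biprod.snd ≫ biprod.inl) k (k + 1) = _
  exact CochainComplex.of_d _ _ k

/-- The embedding. -/
noncomputable def eι (C : CochainComplex A ℤ) : C ⟶ EE E C where
  f k := biprod.lift (u (C.X k)) (C.d k (k + 1) ≫ u (C.X (k + 1)))
  comm' i j hij := by
    have hij' : i + 1 = j := hij
    subst hij'
    rw [EE_d]
    show biprod.lift (u (C.X i)) (C.d i (i + 1) ≫ u (C.X (i + 1))) ≫ biprod.snd ≫ biprod.inl =
      C.d i (i + 1) ≫ biprod.lift (u (C.X (i + 1))) (C.d (i + 1) (i + 1 + 1) ≫ u (C.X (i + 1 + 1)))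
    apply biprod.hom_ext
    · simp only [Category.assoc, biprod.lift_fst, biprod.inl_fst, Category.comp_id,
        biprod.lift_snd_assoc]
    · simp only [Category.assoc, biprod.lift_snd, biprod.inl_snd, comp_zero,
        HomologicalComplex.d_comp_d_assoc, zero_comp]

lemma eι_mono (hu : ∀ X, Mono (u X)) (C : CochainComplex A ℤ) (k : ℤ) : Mono ((eι E u C).f k) := by
  haveI := hu (C.X k)
  haveI : Mono ((eι E u C).f k ≫ biprod.fst) := by
    show Mono (biprod.lift (u (C.X k)) (C.d k (k + 1) ≫ u (C.X (k + 1))) ≫ biprod.fst)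
    rw [biprod.lift_fst]
    infer_instance
  exact mono_of_mono ((eι E u C).f k) biprod.fst

/-- The embedding used at stage `j`: the `E`-embedding for `j < n`, the identity afterwards. -/
noncomputable def embOf (n j : ℕ) (C : CochainComplex A ℤ) :
    Σ J : CochainComplex A ℤ, C ⟶ J :=
  if j < n then ⟨EE E C, eι E u C⟩ else ⟨C, 𝟙 C⟩

lemma embOf_mono (hu : ∀ X, Mono (u X)) (n j : ℕ) (C : CochainComplex A ℤ) (k : ℤ) :
    Mono ((embOf E u n j C).2.f k) := by
  unfold embOf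
  by_cases hj : j < n
  · rw [if_pos hj]
    exact eι_mono E u hu C k
  · rw [if_neg hj]
    show Mono ((𝟙 C : C ⟶ C).f k)
    infer_instance

lemma embOf_mem (P : A → Prop) (hP : ∀ X Y, P (E X ⊞ E Y)) (n j : ℕ) (hj : j < n)
    (C : CochainComplex A ℤ) (k : ℤ) : P ((embOf E u n j C).1.X k) := by
  unfold embOf
  rw [if_pos hj]
  exact hP _ _

lemma embOf_eq (n j : ℕ) (hj : ¬ j < n) (C : CochainComplex A ℤ) :
    embOf E u n j C = ⟨C, 𝟙 C⟩ := if_neg hj

lemma embOf_isIso (n j : ℕ) (hj : ¬ j < n) (C : CochainComplex A ℤ) :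
    IsIso (embOf E u n j C).2 := by
  rw [embOf_eq E u n j hj C]
  infer_instance

lemma embOf_fst (n j : ℕ) (hj : ¬ j < n) (C : CochainComplex A ℤ) :
    (embOf E u n j C).1 = C := by
  rw [embOf_eq E u n j hj C]

end Emb

lemma ses_degreewise {C J : CochainComplex A ℤ} (ι : C ⟶ J) (hι : ∀ k, Mono (ι.f k)) (k : ℤ) :
    Epi ((cokernel.π ι).f k) ∧ (ι.f k ≫ (cokernel.π ι).f k = 0) ∧
    ∀ ⦃T : A⦄ (x : T ⟶ J.X k), x ≫ (cokernel.π ι).f k = 0 →
      ∃ (T' : A) (π : T' ⟶ T) (_ : Epi π) (c : T' ⟶ C.X k), π ≫ x = c ≫ ι.f k := by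
  haveI : Mono ι := HomologicalComplex.mono_of_mono_f ι hι
  have hS : (ShortComplex.mk ι (cokernel.π ι) (cokernel.condition ι)).ShortExact :=
    ShortComplex.ShortExact.mk' (ShortComplex.exact_cokernel ι) inferInstance inferInstance
  have hk := (HomologicalComplex.shortExact_iff_degreewise_shortExact _).1 hS k
  refine ⟨hk.epi_g, ?_, ?_⟩
  · exact congrArg (fun t : C ⟶ cokernel ι => t.f k) (cokernel.condition ι)
  · have hex := hk.exact
    rw [ShortComplex.exact_iff_exact_up_to_refinements] at hex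
    exact hex

section Tower

variable (E : A → A) (u : ∀ X, X ⟶ E X) (n : ℕ) (X : CochainComplex A ℤ)

/-- The tower of cokernels. -/
noncomputable def Cs : ℕ → CochainComplex A ℤ
  | 0 => X
  | j + 1 => cokernel (embOf E u n j (Cs j)).2

/-- The complexes into which the `Cs` embed. -/
noncomputable def Js (j : ℕ) : CochainComplex A ℤ := (embOf E u n j (Cs E u n X j)).1

/-- The embeddings. -/
noncomputable def ιs (j : ℕ) : Cs E u n X j ⟶ Js E u n X j := (embOf E u n j (Cs E u n X j)).2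

/-- The projections. -/
noncomputable def πs (j : ℕ) : Js E u n X j ⟶ Cs E u n X (j + 1) := cokernel.π (ιs E u n X j)

variable (hu : ∀ X, Mono (u X))

include hu in
lemma ιs_mono (j : ℕ) (k : ℤ) : Mono ((ιs E u n X j).f k) := embOf_mono E u hu n j _ k

include hu in
lemma ses (j : ℕ) (k : ℤ) :
    Epi ((πs E u n X j).f k) ∧ ((ιs E u n X j).f k ≫ (πs E u n X j).f k = 0) ∧
    ∀ ⦃T : A⦄ (x : T ⟶ (Js E u n X j).X k), x ≫ (πs E u n X j).f k = 0 →
      ∃ (T' : A) (π : T' ⟶ T) (_ : Epi π) (c : T' ⟶ (Cs E u n X j).X k),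
        π ≫ x = c ≫ (ιs E u n X j).f k :=
  ses_degreewise (ιs E u n X j) (ιs_mono E u n X hu j) k

lemma Js_mem (P : A → Prop) (hP : ∀ X Y, P (E X ⊞ E Y)) (j : ℕ) (hj : j < n) (k : ℤ) :
    P ((Js E u n X j).X k) := embOf_mem E u P hP n j hj _ k

lemma Js_ge (j : ℕ) (hj : ¬ j < n) : Js E u n X j = Cs E u n X j := embOf_fst E u n j hj _

lemma ιs_iso (j : ℕ) (hj : ¬ j < n) : IsIso (ιs E u n X j) := embOf_isIso E u n j hj _

lemma Cs_isZero (j : ℕ) (hj : ¬ j < n) : IsZero (Cs E u n X (j + 1)) := by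
  haveI := ιs_iso E u n X j hj
  exact isZero_cokernel_of_epi (ιs E u n X j)

lemma Js_isZero (j : ℕ) (hj : n < j) (k : ℤ) : IsZero ((Js E u n X j).X k) := by
  obtain ⟨j', rfl⟩ : ∃ j', j = j' + 1 := ⟨j - 1, by omega⟩
  rw [Js_ge E u n X (j' + 1) (by omega)]
  exact Functor.map_isZero (HomologicalComplex.eval A (ComplexShape.up ℤ) k)
    (Cs_isZero E u n X j' (by omega))

include hu in
lemma K_sq (k : ℤ) (j : ℕ) :
    ((πs E u n X j).f k ≫ (ιs E u n X (j + 1)).f k) ≫
      ((πs E u n X (j + 1)).f k ≫ (ιs E u n X (j + 1 + 1)).f k) = 0 := by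
  rw [Category.assoc, ← Category.assoc ((ιs E u n X (j + 1)).f k), (ses E u n X hu (j + 1) k).2.1,
    zero_comp, comp_zero]

/-- The columns of the double complex. -/
noncomputable def Kk (k : ℤ) : CochainComplex A ℕ :=
  CochainComplex.of (fun j => (Js E u n X j).X k)
    (fun j => (πs E u n X j).f k ≫ (ιs E u n X (j + 1)).f k) (K_sq E u n X hu k)

lemma Kk_d (k : ℤ) (j : ℕ) : (Kk E u n X hu k).d j (j + 1) =
    (πs E u n X j).f k ≫ (ιs E u n X (j + 1)).f k := by
  show CochainComplex.of.d (fun j => (Js E u n X j).X k)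
    (fun j => (πs E u n X j).f k ≫ (ιs E u n X (j + 1)).f k) j (j + 1) = _
  exact CochainComplex.of_d _ _ j

lemma Kk_exact (k : ℤ) (j : ℕ) : (Kk E u n X hu k).ExactAt (j + 1) := by
  rw [HomologicalComplex.exactAt_iff' _ j (j + 1) (j + 1 + 1) (by simp) (by simp),
    ShortComplex.exact_iff_exact_up_to_refinements]
  intro T (x : T ⟶ (Js E u n X (j + 1)).X k) hx
  have hx' : x ≫ (πs E u n X (j + 1)).f k ≫ (ιs E u n X (j + 1 + 1)).f k = 0 := by
    rw [← Kk_d E u n X hu k (j + 1)]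
    exact hx
  haveI := ιs_mono E u n X hu (j + 1 + 1) k
  have hx'' : x ≫ (πs E u n X (j + 1)).f k = 0 := by
    rw [← cancel_mono ((ιs E u n X (j + 1 + 1)).f k), Category.assoc, hx', zero_comp]
  obtain ⟨T₁, π₁, hπ₁, c, hc⟩ := (ses E u n X hu (j + 1) k).2.2 x hx''
  haveI := (ses E u n X hu j k).1
  obtain ⟨T₂, π₂, hπ₂, y, hy⟩ :=
    surjective_up_to_refinements_of_epi ((πs E u n X j).f k) c
  refine ⟨T₂, π₂ ≫ π₁, epi_comp _ _, y, ?_⟩
  show (π₂ ≫ π₁) ≫ x = y ≫ (Kk E u n X hu k).d j (j + 1)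
  rw [Kk_d, Category.assoc, hc, ← Category.assoc, hy, Category.assoc]
  rfl

end Tower

section Main

variable (P : ObjectProperty A)
  (h1 : ∀ X : A, ∃ (Y : A) (i : X ⟶ Y), P Y ∧ Mono i)
  (h2 : ∀ S : ShortComplex A, S.ShortExact → P S.X₁ → (P S.X₂ ↔ P S.X₃))
  (n : ℕ) (hn : 1 ≤ n)
  (h3 : ∀ K : CochainComplex A ℕ, (∀ i : ℕ, 1 ≤ i → i ≤ n → K.ExactAt i) →
    (∀ i : ℕ, n < i → IsZero (K.X i)) →
      Epi (K.d (n - 1) n) → (∀ i : ℕ, i < n → P (K.X i)) → P (K.X n))

include h1 h2 hn h3 in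
theorem exists_res (X : CochainComplex A ℤ) :
    ∃ (I : CochainComplex A ℤ) (f : X ⟶ I), QuasiIso f ∧ ∀ k : ℤ, P (I.X k) := by
  choose E u hE using h1
  have hu : ∀ X, Mono (u X) := fun X => (hE X).2
  have hPE : ∀ X Y, P (E X ⊞ E Y) := fun X Y => P_biprod P h2 (hE X).1 (hE Y).1
  have top : ∀ k, P ((Cs E u n X n).X k) := by
    intro k
    have hK := h3 (Kk E u n X hu k) (fun i hi _ => by
        obtain ⟨i', rfl⟩ : ∃ i', i = i' + 1 := ⟨i - 1, by omega⟩
        exact Kk_exact E u n X hu k i')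
      (fun i hi => Js_isZero E u n X i hi k)
      (by
        obtain ⟨m, rfl⟩ : ∃ m, n = m + 1 := ⟨n - 1, by omega⟩
        rw [Nat.add_sub_cancel, Kk_d]
        have hE1 : Epi ((πs E u (m + 1) X m).f k) := (ses E u (m + 1) X hu m k).1
        haveI := ιs_iso E u (m + 1) X (m + 1) (by omega)
        have hI2 : IsIso ((ιs E u (m + 1) X (m + 1)).f k) := inferInstance
        have hE2 : Epi ((ιs E u (m + 1) X (m + 1)).f k) := inferInstance
        exact epi_comp' hE1 hE2)
      (fun i hi => Js_mem E u n X P hPE i hi k)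
    have hK' : P ((Js E u n X n).X k) := hK
    rw [Js_ge E u n X n (lt_irrefl n)] at hK'
    exact hK'
  have step : ∀ j, j < n →
      (∃ (Mj : CochainComplex A ℤ) (m : Cs E u n X (j + 1) ⟶ Mj),
        QuasiIso m ∧ ∀ k, P (Mj.X k)) →
      ∃ (Mj : CochainComplex A ℤ) (m : Cs E u n X j ⟶ Mj), QuasiIso m ∧ ∀ k, P (Mj.X k) := by
    rintro j hj ⟨M', m', hm', hM'⟩
    haveI := hm'
    have hc : ιs E u n X j ≫ πs E u n X j = 0 := cokernel.condition _
    have hg : ιs E u n X j ≫ (πs E u n X j ≫ m') = 0 := by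
      rw [← Category.assoc, hc, zero_comp]
    refine ⟨cc (πs E u n X j ≫ m'), ccMap _ (ιs E u n X j) hg, ?_, ?_⟩
    · exact ccMap_qis (ιs E u n X j) (πs E u n X j) m' (ιs_mono E u n X hu j)
        (fun k => (ses E u n X hu j k).1) hc (fun k => (ses E u n X hu j k).2.2) hg
    · intro k
      exact P_biprod P h2 (Js_mem E u n X P hPE j hj k) (hM' (k - 1))
  have all : ∀ d, d ≤ n → ∃ (Mj : CochainComplex A ℤ) (m : Cs E u n X (n - d) ⟶ Mj),
      QuasiIso m ∧ ∀ k, P (Mj.X k) := by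
    intro d
    induction d with
    | zero =>
      intro _
      exact ⟨Cs E u n X n, 𝟙 _, inferInstance, top⟩
    | succ d ih =>
      intro hd
      have ih' := ih (by omega)
      have e : n - d = (n - (d + 1)) + 1 := by omega
      rw [e] at ih'
      exact step (n - (d + 1)) (by omega) ih'
  have all0 := all n le_rfl
  rw [Nat.sub_self] at all0
  obtain ⟨M0, m0, h0, hM0⟩ := all0
  exact ⟨M0, m0, h0, hM0⟩

end Main

end Groth.Agent.Helper22.ResFin
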