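import Mathlib.Algebra.Homology.Embedding.CochainComplex
import Mathlib.Algebra.Homology.Refinements
import Mathlib.Algebra.Homology.HomotopyCategory.ShiftSequence
import Mathlib.CategoryTheory.Abelian.Refinements

/-!
# Right resolutions of bounded below complexes by objects of a cogenerating class

Helper library (helper22): given a functorial-on-objects choice of monomorphisms `X ⟶ E X` in an
abelian category, every cochain complex vanishing in degrees below `a` admits a termwise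
monomorphic quasi-isomorphism to a complex vanishing below `a` whose terms are of the form `E _`
(or a chosen zero object).
-/

set_option autoImplicit false
universe v u
open CategoryTheory CategoryTheory.Limits

namespace Groth.Agent.Helper22.ResI

variable {A : Type u} [Category.{v} A] [Abelian A]

section OfSeqZ

variable (Z : A)

/-- The terms. -/
def XZ (F : ℕ → A) : ℤ → A
  | Int.ofNat k => F k
  | Int.negSucc _ => Z

/-- The differentials. -/
def dZ (F : ℕ → A) (d : ∀ k, F k ⟶ F (k + 1)) : ∀ i j : ℤ, XZ Z F i ⟶ XZ Z F j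
  | Int.ofNat a, Int.ofNat b => if h : a + 1 = b then d a ≫ eqToHom (congrArg F h) else 0
  | Int.ofNat _, Int.negSucc _ => 0
  | Int.negSucc _, _ => 0

lemma dZ_succ (F : ℕ → A) (d : ∀ k, F k ⟶ F (k + 1)) (a : ℕ) :
    dZ Z F d (Int.ofNat a) (Int.ofNat (a + 1)) = d a := by
  show (if h : a + 1 = a + 1 then d a ≫ eqToHom (congrArg F h) else 0) = d a
  rw [dif_pos rfl, eqToHom_refl, Category.comp_id]

/-- The complex. -/
def ofSeq (F : ℕ → A) (d : ∀ k, F k ⟶ F (k + 1))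
    (sq : ∀ k, d k ≫ d (k + 1) = 0) : CochainComplex A ℤ where
  X := XZ Z F
  d := dZ Z F d
  shape i j h := by
    cases i with
    | ofNat a =>
      cases j with
      | ofNat b =>
        have hab : a + 1 ≠ b := fun hab => h (by subst hab; rfl)
        exact dif_neg hab
      | negSucc b => rfl
    | negSucc a => rfl
  d_comp_d' i j k hij hjk := by
    cases i with
    | negSucc a => exact zero_comp
    | ofNat a =>
      have h1 : Int.ofNat a + 1 = j := hij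
      subst h1
      have h2 : Int.ofNat a + 1 + 1 = k := hjk
      subst h2
      show dZ Z F d (Int.ofNat a) (Int.ofNat (a + 1)) ≫
        dZ Z F d (Int.ofNat (a + 1)) (Int.ofNat (a + 1 + 1)) = 0
      rw [dZ_succ, dZ_succ]
      exact sq a

variable (F : ℕ → A) (d : ∀ k, F k ⟶ F (k + 1)) (sq : ∀ k, d k ≫ d (k + 1) = 0)

lemma ofSeq_d (k : ℕ) : (ofSeq Z F d sq).d (k : ℤ) ((k + 1 : ℕ) : ℤ) = d k := dZ_succ Z F d k

variable {Z}

lemma ofSeq_isZero (hZ : IsZero Z) (i : ℤ) (hi : i < 0) : IsZero ((ofSeq Z F d sq).X i) := by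
  cases i with
  | ofNat a => exact absurd hi (by simp)
  | negSucc a => exact hZ

lemma ofSeq_isStrictlyGE (hZ : IsZero Z) : (ofSeq Z F d sq).IsStrictlyGE 0 :=
  (CochainComplex.isStrictlyGE_iff _ 0).2 (fun i hi => ofSeq_isZero F d sq hZ i hi)

end OfSeqZ

section PO

variable {B E X : A} (u : B ⟶ E) (g : B ⟶ X)

/-- The pushout, as a cokernel. -/
noncomputable abbrev PO : A := cokernel (biprod.lift u g)

/-- First inclusion. -/
noncomputable def poInl : E ⟶ PO u g := biprod.inl ≫ cokernel.π (biprod.lift u g)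

/-- Second inclusion. -/
noncomputable def poInr : X ⟶ PO u g := biprod.inr ≫ cokernel.π (biprod.lift u g)

lemma lift_eq {T : A} (y : T ⟶ E) (x : T ⟶ X) :
    biprod.lift y x = y ≫ biprod.inl + x ≫ biprod.inr := by
  apply biprod.hom_ext
  · rw [biprod.lift_fst, Preadditive.add_comp, Category.assoc, Category.assoc, biprod.inl_fst,
      biprod.inr_fst, Category.comp_id, comp_zero, add_zero]
  · rw [biprod.lift_snd, Preadditive.add_comp, Category.assoc, Category.assoc, biprod.inl_snd,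
      biprod.inr_snd, Category.comp_id, comp_zero, zero_add]

lemma po_rel : u ≫ poInl u g + g ≫ poInr u g = 0 := by
  unfold poInl poInr
  rw [← Category.assoc, ← Category.assoc, ← Preadditive.add_comp, ← lift_eq, cokernel.condition]

/-- The universal map out of the pushout. -/
noncomputable def poDesc {W : A} (a : E ⟶ W) (b : X ⟶ W) (h : u ≫ a + g ≫ b = 0) :
    PO u g ⟶ W :=
  cokernel.desc (biprod.lift u g) (biprod.desc a b) (by rw [biprod.lift_desc]; exact h)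

lemma poInl_desc {W : A} (a : E ⟶ W) (b : X ⟶ W) (h : u ≫ a + g ≫ b = 0) :
    poInl u g ≫ poDesc u g a b h = a := by
  unfold poInl poDesc
  rw [Category.assoc, cokernel.π_desc, biprod.inl_desc]

lemma poInr_desc {W : A} (a : E ⟶ W) (b : X ⟶ W) (h : u ≫ a + g ≫ b = 0) :
    poInr u g ≫ poDesc u g a b h = b := by
  unfold poInr poDesc
  rw [Category.assoc, cokernel.π_desc, biprod.inr_desc]

lemma po_hom_ext {W : A} {f f' : PO u g ⟶ W} (h1 : poInl u g ≫ f = poInl u g ≫ f')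
    (h2 : poInr u g ≫ f = poInr u g ≫ f') : f = f' := by
  rw [← cancel_epi (cokernel.π (biprod.lift u g))]
  apply biprod.hom_ext'
  · rw [← Category.assoc, ← Category.assoc]
    exact h1
  · rw [← Category.assoc, ← Category.assoc]
    exact h2

lemma po_epi ⦃T : A⦄ (b : T ⟶ PO u g) :
    ∃ (T' : A) (π : T' ⟶ T) (_ : Epi π) (y : T' ⟶ E) (x : T' ⟶ X),
      π ≫ b = y ≫ poInl u g + x ≫ poInr u g := by
  obtain ⟨T', π, hπ, z, hz⟩ :=
    surjective_up_to_refinements_of_epi (cokernel.π (biprod.lift u g)) b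
  refine ⟨T', π, hπ, z ≫ biprod.fst, z ≫ biprod.snd, ?_⟩
  have hz' : z = (z ≫ biprod.fst) ≫ biprod.inl + (z ≫ biprod.snd) ≫ biprod.inr := by
    rw [Category.assoc, Category.assoc, ← Preadditive.comp_add, biprod.total, Category.comp_id]
  unfold poInl poInr
  rw [hz, ← Category.assoc, ← Category.assoc, ← Preadditive.add_comp, ← hz']

lemma po_exact ⦃T : A⦄ (y : T ⟶ E) (x : T ⟶ X) (h : y ≫ poInl u g + x ≫ poInr u g = 0) :
    ∃ (T' : A) (π : T' ⟶ T) (_ : Epi π) (b : T' ⟶ B), π ≫ y = b ≫ u ∧ π ≫ x = b ≫ g := by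
  have hex : (ShortComplex.mk (biprod.lift u g) (cokernel.π (biprod.lift u g))
      (cokernel.condition _)).Exact := ShortComplex.exact_cokernel _
  rw [ShortComplex.exact_iff_exact_up_to_refinements] at hex
  have h0 : biprod.lift y x ≫ cokernel.π (biprod.lift u g) = 0 := by
    rw [lift_eq y x, Preadditive.add_comp, Category.assoc, Category.assoc]
    exact h
  obtain ⟨T', π, hπ, b, hb⟩ := hex (biprod.lift y x) h0
  have hb' : π ≫ biprod.lift y x = b ≫ biprod.lift u g := hb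
  refine ⟨T', π, hπ, b, ?_, ?_⟩
  · have e := congrArg (fun t => t ≫ biprod.fst) hb'
    simp only [Category.assoc, biprod.lift_fst] at e
    exact e
  · have e := congrArg (fun t => t ≫ biprod.snd) hb'
    simp only [Category.assoc, biprod.lift_snd] at e
    exact e

lemma poInr_mono [Mono u] : Mono (poInr u g) := by
  apply Preadditive.mono_of_cancel_zero
  intro T x hx
  have h : (0 : T ⟶ E) ≫ poInl u g + x ≫ poInr u g = 0 := by rw [zero_comp, zero_add, hx]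
  obtain ⟨T', π, hπ, b, hb1, hb2⟩ := po_exact u g 0 x h
  have hb0 : b = 0 := by
    rw [comp_zero] at hb1
    exact (cancel_mono u).1 (hb1.symm.trans zero_comp.symm)
  rw [hb0, zero_comp] at hb2
  exact (cancel_epi π).1 (hb2.trans comp_zero.symm)

end PO

/-- A choice of monomorphisms `X ⟶ E X` and of a zero object. -/
structure Emb (A : Type u) [Category.{v} A] [Abelian A] where
  /-- target objects -/
  E : A → A
  /-- the embeddings -/
  u : ∀ X, X ⟶ E X
  mono : ∀ X, Mono (u X)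
  /-- a zero object -/
  Z : A
  hZ : IsZero Z

variable (K : CochainComplex A ℤ) (em : Emb A)

/-- The data of the inductive construction in degree `k`. -/
structure Stage (k : ℕ) where
  /-- the pushout object -/
  B : A
  /-- the inclusion -/
  β : K.X (k : ℤ) ⟶ B
  /-- the induced differential -/
  δ : B ⟶ K.X ((k + 1 : ℕ) : ℤ)
  β_mono : Mono β
  β_δ : β ≫ δ = K.d (k : ℤ) ((k + 1 : ℕ) : ℤ)
  δ_d : δ ≫ K.d ((k + 1 : ℕ) : ℤ) ((k + 1 + 1 : ℕ) : ℤ) = 0
  im_δ : ∀ ⦃T : A⦄ (b : T ⟶ B),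
    ∃ (T' : A) (π : T' ⟶ T) (_ : Epi π) (x : T' ⟶ K.X (k : ℤ)),
      π ≫ b ≫ δ = x ≫ K.d (k : ℤ) ((k + 1 : ℕ) : ℤ)

/-- The initial stage. -/
def stage0 : Stage K 0 where
  B := K.X ((0 : ℕ) : ℤ)
  β := 𝟙 _
  δ := K.d ((0 : ℕ) : ℤ) ((0 + 1 : ℕ) : ℤ)
  β_mono := inferInstance
  β_δ := Category.id_comp _
  δ_d := K.d_comp_d _ _ _
  im_δ T b := ⟨T, 𝟙 T, inferInstance, b, Category.id_comp _⟩

variable {K}

lemma step_cond {k : ℕ} (s : Stage K k) :
    em.u s.B ≫ (0 : em.E s.B ⟶ K.X ((k + 1 + 1 : ℕ) : ℤ)) +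
      (-s.δ) ≫ K.d ((k + 1 : ℕ) : ℤ) ((k + 1 + 1 : ℕ) : ℤ) = 0 := by
  rw [comp_zero, zero_add, Preadditive.neg_comp, s.δ_d, neg_zero]

/-- The inductive step. -/
noncomputable def Step {k : ℕ} (s : Stage K k) : Stage K (k + 1) where
  B := PO (em.u s.B) (-s.δ)
  β := poInr (em.u s.B) (-s.δ)
  δ := poDesc (em.u s.B) (-s.δ) 0 (K.d ((k + 1 : ℕ) : ℤ) ((k + 1 + 1 : ℕ) : ℤ))
    (step_cond em s)
  β_mono := by
    haveI := em.mono s.B
    exact poInr_mono _ _
  β_δ := poInr_desc _ _ _ _ _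
  δ_d := by
    apply po_hom_ext
    · rw [← Category.assoc, poInl_desc, zero_comp, comp_zero]
    · rw [← Category.assoc, poInr_desc, K.d_comp_d, comp_zero]
  im_δ T b := by
    obtain ⟨T', π, hπ, y, x, hb⟩ := po_epi (em.u s.B) (-s.δ) b
    refine ⟨T', π, hπ, x, ?_⟩
    rw [← Category.assoc, hb, Preadditive.add_comp, Category.assoc, Category.assoc,
      poInl_desc, poInr_desc, comp_zero, zero_add]

variable (K)

/-- The stages of the construction. -/
noncomputable def stage : ∀ k : ℕ, Stage K k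
  | 0 => stage0 K
  | k + 1 => Step em (stage k)

/-- The pushout objects. -/
noncomputable def Bs (k : ℕ) : A := (stage K em k).B

/-- The terms of the resolution. -/
noncomputable abbrev Is (k : ℕ) : A := em.E (Bs K em k)

/-- The chosen embeddings. -/
noncomputable def js (k : ℕ) : Bs K em k ⟶ Is K em k := em.u (Bs K em k)

lemma js_mono (k : ℕ) : Mono (js K em k) := em.mono _

/-- The inclusions `Kᵏ ⟶ Bᵏ`. -/
noncomputable def βS (k : ℕ) : K.X (k : ℤ) ⟶ Bs K em k := (stage K em k).β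

/-- The maps `Bᵏ ⟶ Kᵏ⁺¹`. -/
noncomputable def δS (k : ℕ) : Bs K em k ⟶ K.X ((k + 1 : ℕ) : ℤ) := (stage K em k).δ

/-- The pushout inclusions `Iᵏ ⟶ Bᵏ⁺¹`. -/
noncomputable def inlS (k : ℕ) : Is K em k ⟶ Bs K em (k + 1) :=
  poInl (em.u (stage K em k).B) (-(stage K em k).δ)

/-- The pushout inclusions `Kᵏ⁺¹ ⟶ Bᵏ⁺¹`. -/
noncomputable def inrS (k : ℕ) : K.X ((k + 1 : ℕ) : ℤ) ⟶ Bs K em (k + 1) :=
  poInr (em.u (stage K em k).B) (-(stage K em k).δ)

lemma βS_mono (k : ℕ) : Mono (βS K em k) := (stage K em k).β_mono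

lemma βS_δS (k : ℕ) : βS K em k ≫ δS K em k = K.d (k : ℤ) ((k + 1 : ℕ) : ℤ) :=
  (stage K em k).β_δ

lemma δS_d (k : ℕ) : δS K em k ≫ K.d ((k + 1 : ℕ) : ℤ) ((k + 1 + 1 : ℕ) : ℤ) = 0 :=
  (stage K em k).δ_d

lemma im_δS (k : ℕ) ⦃T : A⦄ (b : T ⟶ Bs K em k) :
    ∃ (T' : A) (π : T' ⟶ T) (_ : Epi π) (x : T' ⟶ K.X (k : ℤ)),
      π ≫ b ≫ δS K em k = x ≫ K.d (k : ℤ) ((k + 1 : ℕ) : ℤ) := (stage K em k).im_δ b

lemma βS_succ (k : ℕ) : βS K em (k + 1) = inrS K em k := rfl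

lemma βS_zero_epi : Epi (βS K em 0) := by
  show Epi (𝟙 (K.X ((0 : ℕ) : ℤ)))
  infer_instance

lemma rel (k : ℕ) : js K em k ≫ inlS K em k = δS K em k ≫ inrS K em k := by
  have h : js K em k ≫ inlS K em k + (-(δS K em k)) ≫ inrS K em k = 0 :=
    po_rel (em.u (stage K em k).B) (-(stage K em k).δ)
  rw [Preadditive.neg_comp, ← sub_eq_add_neg, sub_eq_zero] at h
  exact h

lemma inlS_δS (k : ℕ) : inlS K em k ≫ δS K em (k + 1) = 0 :=
  poInl_desc (em.u (stage K em k).B) (-(stage K em k).δ) 0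
    (K.d ((k + 1 : ℕ) : ℤ) ((k + 1 + 1 : ℕ) : ℤ)) (step_cond em (stage K em k))

lemma inrS_δS (k : ℕ) :
    inrS K em k ≫ δS K em (k + 1) = K.d ((k + 1 : ℕ) : ℤ) ((k + 1 + 1 : ℕ) : ℤ) :=
  poInr_desc (em.u (stage K em k).B) (-(stage K em k).δ) 0
    (K.d ((k + 1 : ℕ) : ℤ) ((k + 1 + 1 : ℕ) : ℤ)) (step_cond em (stage K em k))

lemma epi' (k : ℕ) ⦃T : A⦄ (b : T ⟶ Bs K em (k + 1)) :
    ∃ (T' : A) (π : T' ⟶ T) (_ : Epi π) (y : T' ⟶ Is K em k)
      (x : T' ⟶ K.X ((k + 1 : ℕ) : ℤ)),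
      π ≫ b = y ≫ inlS K em k + x ≫ inrS K em k :=
  po_epi (em.u (stage K em k).B) (-(stage K em k).δ) b

lemma exact' (k : ℕ) ⦃T : A⦄ (y : T ⟶ Is K em k) (x : T ⟶ K.X ((k + 1 : ℕ) : ℤ))
    (h : y ≫ inlS K em k + x ≫ inrS K em k = 0) :
    ∃ (T' : A) (π : T' ⟶ T) (_ : Epi π) (b : T' ⟶ Bs K em k),
      π ≫ y = b ≫ js K em k ∧ π ≫ x = -(b ≫ δS K em k) := by
  obtain ⟨T', π, hπ, b, hb1, hb2⟩ :=
    po_exact (em.u (stage K em k).B) (-(stage K em k).δ) y x h
  refine ⟨T', π, hπ, b, hb1, ?_⟩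
  rw [hb2, Preadditive.comp_neg]
  rfl

/-- The components of the resolution map. -/
noncomputable def φs (k : ℕ) : K.X (k : ℤ) ⟶ Is K em k := βS K em k ≫ js K em k

/-- The differentials of the resolution. -/
noncomputable def ds (k : ℕ) : Is K em k ⟶ Is K em (k + 1) := inlS K em k ≫ js K em (k + 1)

lemma ds_comp (k : ℕ) : ds K em k ≫ ds K em (k + 1) = 0 := by
  unfold ds
  rw [Category.assoc, ← Category.assoc (js K em (k + 1)), rel, Category.assoc,
    ← Category.assoc (inlS K em k), inlS_δS, zero_comp]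

lemma φs_ds (k : ℕ) :
    φs K em k ≫ ds K em k = K.d (k : ℤ) ((k + 1 : ℕ) : ℤ) ≫ φs K em (k + 1) := by
  unfold φs ds
  rw [Category.assoc, ← Category.assoc (js K em k), rel, Category.assoc,
    ← Category.assoc (βS K em k), βS_δS, βS_succ]

lemma φs_mono (k : ℕ) : Mono (φs K em k) := by
  unfold φs
  have := βS_mono K em k
  have := js_mono K em k
  exact mono_comp _ _

lemma φs_succ (k : ℕ) : φs K em (k + 1) = inrS K em k ≫ js K em (k + 1) := rfl

lemma ds_eq (k : ℕ) : ds K em k = inlS K em k ≫ js K em (k + 1) := rfl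

lemma mono_succ (k : ℕ) ⦃T : A⦄ (x₂ : T ⟶ K.X ((k + 1 : ℕ) : ℤ))
    (y₁ : T ⟶ Is K em k) (h : x₂ ≫ φs K em (k + 1) = y₁ ≫ ds K em k) :
    ∃ (T' : A) (π : T' ⟶ T) (_ : Epi π) (x₁ : T' ⟶ K.X (k : ℤ)),
      π ≫ x₂ = x₁ ≫ K.d (k : ℤ) ((k + 1 : ℕ) : ℤ) := by
  have hm := js_mono K em (k + 1)
  have h0 : (-y₁) ≫ inlS K em k + x₂ ≫ inrS K em k = 0 := by
    rw [← cancel_mono (js K em (k + 1)), zero_comp, Preadditive.add_comp,
      Preadditive.neg_comp, Preadditive.neg_comp, Category.assoc, Category.assoc, ← φs_succ,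
      ← ds_eq, h, neg_add_cancel]
  obtain ⟨T₁, π₁, hπ₁, b, _, hb2⟩ := exact' K em k (-y₁) x₂ h0
  obtain ⟨T₂, π₂, hπ₂, x, hx⟩ := im_δS K em k (-b)
  refine ⟨T₂, π₂ ≫ π₁, epi_comp _ _, x, ?_⟩
  rw [← hx, Category.assoc, hb2, Preadditive.neg_comp]

lemma epi_succ (k : ℕ) ⦃T : A⦄ (y₂ : T ⟶ Is K em (k + 1))
    (h : y₂ ≫ ds K em (k + 1) = 0) :
    ∃ (T' : A) (π : T' ⟶ T) (_ : Epi π)
      (x₂ : T' ⟶ K.X ((k + 1 : ℕ) : ℤ))
      (_ : x₂ ≫ K.d ((k + 1 : ℕ) : ℤ) ((k + 1 + 1 : ℕ) : ℤ) = 0)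
      (y₁ : T' ⟶ Is K em k),
      π ≫ y₂ = x₂ ≫ φs K em (k + 1) + y₁ ≫ ds K em k := by
  have hm := js_mono K em (k + 1 + 1)
  have h1 : y₂ ≫ inlS K em (k + 1) = 0 := by
    rw [← cancel_mono (js K em (k + 1 + 1)), Category.assoc, ← ds_eq, h, zero_comp]
  have h0 : y₂ ≫ inlS K em (k + 1) +
      (0 : T ⟶ K.X ((k + 1 + 1 : ℕ) : ℤ)) ≫ inrS K em (k + 1) = 0 := by
    rw [h1, zero_comp, add_zero]
  obtain ⟨T₁, π₁, hπ₁, b, hb1, hb2⟩ := exact' K em (k + 1) y₂ 0 h0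
  have hbδ : b ≫ δS K em (k + 1) = 0 := by
    rw [comp_zero] at hb2
    exact neg_eq_zero.1 hb2.symm
  obtain ⟨T₂, π₂, hπ₂, y', x, hyx⟩ := epi' K em k b
  have hcyc : x ≫ K.d ((k + 1 : ℕ) : ℤ) ((k + 1 + 1 : ℕ) : ℤ) = 0 := by
    have e := congrArg (fun t => t ≫ δS K em (k + 1)) hyx
    simp only [Category.assoc, Preadditive.add_comp, hbδ, comp_zero, inlS_δS, inrS_δS,
      zero_add] at e
    exact e.symm
  refine ⟨T₂, π₂ ≫ π₁, epi_comp _ _, x, hcyc, y', ?_⟩
  rw [Category.assoc, hb1, ← Category.assoc, hyx, Preadditive.add_comp, Category.assoc,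
    Category.assoc, ← ds_eq, ← φs_succ]
  exact add_comm _ _

lemma epi_zero ⦃T : A⦄ (y₂ : T ⟶ Is K em 0) (h : y₂ ≫ ds K em 0 = 0) :
    ∃ (T' : A) (π : T' ⟶ T) (_ : Epi π)
      (x₂ : T' ⟶ K.X ((0 : ℕ) : ℤ))
      (_ : x₂ ≫ K.d ((0 : ℕ) : ℤ) ((0 + 1 : ℕ) : ℤ) = 0),
      π ≫ y₂ = x₂ ≫ φs K em 0 := by
  have hm := js_mono K em (0 + 1)
  have h1 : y₂ ≫ inlS K em 0 = 0 := by
    rw [← cancel_mono (js K em (0 + 1)), Category.assoc, ← ds_eq, h, zero_comp]
  have h0 : y₂ ≫ inlS K em 0 +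
      (0 : T ⟶ K.X ((0 + 1 : ℕ) : ℤ)) ≫ inrS K em 0 = 0 := by
    rw [h1, zero_comp, add_zero]
  obtain ⟨T₁, π₁, hπ₁, b, hb1, hb2⟩ := exact' K em 0 y₂ 0 h0
  have hbδ : b ≫ δS K em 0 = 0 := by
    rw [comp_zero] at hb2
    exact neg_eq_zero.1 hb2.symm
  have he := βS_zero_epi K em
  obtain ⟨T₂, π₂, hπ₂, x, hx⟩ := surjective_up_to_refinements_of_epi (βS K em 0) b
  have hcyc : x ≫ K.d ((0 : ℕ) : ℤ) ((0 + 1 : ℕ) : ℤ) = 0 := by
    rw [← βS_δS K em 0, ← Category.assoc, ← hx, Category.assoc, hbδ, comp_zero]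
  refine ⟨T₂, π₂ ≫ π₁, epi_comp _ _, x, hcyc, ?_⟩
  unfold φs
  rw [Category.assoc, hb1, ← Category.assoc, hx, Category.assoc]

/-- The resolution complex (for `K` concentrated in non-negative degrees). -/
noncomputable def resCx : CochainComplex A ℤ :=
  ofSeq em.Z (Is K em) (ds K em) (ds_comp K em)

instance : (resCx K em).IsStrictlyGE 0 := ofSeq_isStrictlyGE _ _ _ em.hZ

lemma resCx_isZero (i : ℤ) (hi : i < 0) : IsZero ((resCx K em).X i) :=
  ofSeq_isZero _ _ _ em.hZ i hi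

lemma resCx_d (k : ℕ) : (resCx K em).d (k : ℤ) ((k + 1 : ℕ) : ℤ) = ds K em k :=
  ofSeq_d _ _ _ _ k

lemma resCx_mem (P : A → Prop) (hE : ∀ X, P (em.E X)) (hZ : P em.Z) (n : ℤ) :
    P ((resCx K em).X n) := by
  cases n with
  | ofNat k => exact hE (Bs K em k)
  | negSucc k => exact hZ

/-- The components of the resolution map. -/
noncomputable def fZ : ∀ n : ℤ, K.X n ⟶ (resCx K em).X n
  | Int.ofNat k => φs K em k
  | Int.negSucc _ => 0

variable [K.IsStrictlyGE 0]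

/-- The resolution map. -/
noncomputable def resMap : K ⟶ resCx K em where
  f := fZ K em
  comm' i j hij := by
    cases i with
    | ofNat k =>
      have h1 : Int.ofNat k + 1 = j := hij
      subst h1
      show φs K em k ≫ (resCx K em).d (k : ℤ) ((k + 1 : ℕ) : ℤ) =
        K.d (k : ℤ) ((k + 1 : ℕ) : ℤ) ≫ φs K em (k + 1)
      rw [resCx_d]
      exact φs_ds K em k
    | negSucc m =>
      exact (K.isZero_of_isStrictlyGE 0 (Int.negSucc m) (Int.negSucc_lt_zero m)).eq_of_src _ _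

lemma resMap_f_mono (n : ℤ) : Mono ((resMap K em).f n) := by
  cases n with
  | ofNat k => exact φs_mono K em k
  | negSucc m =>
    have hz : IsZero (K.X (Int.negSucc m)) :=
      K.isZero_of_isStrictlyGE 0 _ (Int.negSucc_lt_zero m)
    exact ⟨fun g h _ => hz.eq_of_tgt _ _⟩

theorem resMap_qis : QuasiIso (resMap K em) := by
  rw [quasiIso_iff]
  intro n
  by_cases hn : n < 0
  · have hsrc : K.ExactAt n := by
      rw [HomologicalComplex.exactAt_iff]
      apply ShortComplex.exact_of_isZero_X₂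
      exact K.isZero_of_isStrictlyGE 0 n hn
    rw [quasiIsoAt_iff_exactAt _ _ hsrc, HomologicalComplex.exactAt_iff]
    apply ShortComplex.exact_of_isZero_X₂
    exact resCx_isZero K em n hn
  · obtain ⟨k, rfl⟩ : ∃ k : ℕ, n = (k : ℤ) := ⟨n.toNat, by omega⟩
    rw [quasiIsoAt_iff_isIso_homologyMap]
    cases k with
    | zero =>
      have hmono : Mono (HomologicalComplex.homologyMap (resMap K em) ((0 : ℕ) : ℤ)) := by
        rw [HomologicalComplex.mono_homologyMap_iff_up_to_refinements _ (-1) ((0 : ℕ) : ℤ)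
          ((0 + 1 : ℕ) : ℤ) (by simp) (by simp)]
        intro T (x₂ : T ⟶ K.X ((0 : ℕ) : ℤ)) hx₂ (y₁ : T ⟶ (resCx K em).X (-1)) hy₁
        have hy₁' : x₂ ≫ φs K em 0 = y₁ ≫ (resCx K em).d (-1) ((0 : ℕ) : ℤ) := hy₁
        have hz : y₁ = 0 := (resCx_isZero K em (-1) (by omega)).eq_of_tgt _ _
        rw [hz, zero_comp] at hy₁'
        have := φs_mono K em 0
        have hx0 : x₂ = 0 := (cancel_mono (φs K em 0)).1 (hy₁'.trans zero_comp.symm)
        exact ⟨T, 𝟙 T, inferInstance, 0,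
          (Category.id_comp x₂).trans (hx0.trans zero_comp.symm)⟩
      have hepi : Epi (HomologicalComplex.homologyMap (resMap K em) ((0 : ℕ) : ℤ)) := by
        rw [HomologicalComplex.epi_homologyMap_iff_up_to_refinements _ (-1) ((0 : ℕ) : ℤ)
          ((0 + 1 : ℕ) : ℤ) (by simp) (by simp)]
        intro T (y₂ : T ⟶ Is K em 0) hy₂
        have hy₂' : y₂ ≫ ds K em 0 = 0 := by
          rw [← resCx_d K em 0]
          exact hy₂
        obtain ⟨T', π, hπ, x₂, hx₂, hfin⟩ := epi_zero K em y₂ hy₂'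
        refine ⟨T', π, hπ, x₂, hx₂, 0, ?_⟩
        rw [zero_comp, add_zero]
        exact hfin
      exact isIso_of_mono_of_epi _
    | succ k =>
      have hmono : Mono (HomologicalComplex.homologyMap (resMap K em)
          ((k + 1 : ℕ) : ℤ)) := by
        rw [HomologicalComplex.mono_homologyMap_iff_up_to_refinements _ ((k : ℕ) : ℤ)
          ((k + 1 : ℕ) : ℤ) ((k + 1 + 1 : ℕ) : ℤ) (by simp) (by simp)]
        intro T (x₂ : T ⟶ K.X ((k + 1 : ℕ) : ℤ)) hx₂ (y₁ : T ⟶ Is K em k) hy₁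
        have hy₁' : x₂ ≫ φs K em (k + 1) = y₁ ≫ ds K em k := by
          rw [← resCx_d K em k]
          exact hy₁
        exact mono_succ K em k x₂ y₁ hy₁'
      have hepi : Epi (HomologicalComplex.homologyMap (resMap K em)
          ((k + 1 : ℕ) : ℤ)) := by
        rw [HomologicalComplex.epi_homologyMap_iff_up_to_refinements _ ((k : ℕ) : ℤ)
          ((k + 1 : ℕ) : ℤ) ((k + 1 + 1 : ℕ) : ℤ) (by simp) (by simp)]
        intro T (y₂ : T ⟶ Is K em (k + 1)) hy₂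
        have hy₂' : y₂ ≫ ds K em (k + 1) = 0 := by
          rw [← resCx_d K em (k + 1)]
          exact hy₂
        obtain ⟨T', π, hπ, x₂, hx₂, y₁, hfin⟩ := epi_succ K em k y₂ hy₂'
        refine ⟨T', π, hπ, x₂, hx₂, y₁, ?_⟩
        rw [resCx_d K em k]
        exact hfin
      exact isIso_of_mono_of_epi _

omit [K.IsStrictlyGE 0] in
/-- Right resolutions of bounded below complexes by objects of a cogenerating class. -/
theorem general (I : A → Prop) (hI0 : ∃ Z : A, IsZero Z ∧ I Z)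
    (hI : ∀ X : A, ∃ (Y : A) (ι : X ⟶ Y), I Y ∧ Mono ι) (a : ℤ) [K.IsStrictlyGE a] :
    ∃ (L : CochainComplex A ℤ) (α : K ⟶ L), L.IsStrictlyGE a ∧ (∀ n, I (L.X n)) ∧
      (∀ n, Mono (α.f n)) ∧ QuasiIso α := by
  obtain ⟨Z, hZ, hIZ⟩ := hI0
  choose E u hE using hI
  let em : Emb A := ⟨E, u, fun X => (hE X).2, Z, hZ⟩
  haveI : (K⟦a⟧).IsStrictlyGE 0 := CochainComplex.isStrictlyGE_shift K a a 0 (by omega)
  let e : K ≅ (K⟦a⟧)⟦-a⟧ :=
    (shiftFunctorCompIsoId (CochainComplex A ℤ) a (-a) (by omega)).symm.app K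
  haveI : ((resCx (K⟦a⟧) em)⟦-a⟧).IsStrictlyGE a :=
    CochainComplex.isStrictlyGE_shift (resCx (K⟦a⟧) em) 0 (-a) a (by omega)
  refine ⟨(resCx (K⟦a⟧) em)⟦-a⟧, e.hom ≫ (resMap (K⟦a⟧) em)⟦-a⟧', inferInstance,
    fun n => resCx_mem (K⟦a⟧) em I (fun X => (hE X).1) hIZ (n + -a), ?_, ?_⟩
  · intro n
    have e1 : (e.hom ≫ (resMap (K⟦a⟧) em)⟦-a⟧').f n =
        e.hom.f n ≫ (resMap (K⟦a⟧) em).f (n + -a) := rfl
    rw [e1]
    have hi : IsIso (e.hom.f n) := inferInstance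
    have hm2 := resMap_f_mono (K⟦a⟧) em (n + -a)
    have hm1 : Mono (e.hom.f n) := inferInstance
    exact mono_comp' hm1 hm2
  · have hq : QuasiIso (resMap (K⟦a⟧) em) := resMap_qis (K⟦a⟧) em
    have h4 : QuasiIso ((resMap (K⟦a⟧) em)⟦-a⟧') := inferInstance
    infer_instance

end Groth.Agent.Helper22.ResI
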