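import Groth.Agent.Lib.Helper22.ResI

/-!
# Relative right resolutions by objects of a cogenerating class

Helper library (helper22): given a morphism `f : L ⟶ Q` of cochain complexes vanishing in negative
degrees, a termwise monomorphic quasi-isomorphism `L ⟶ J` and a termwise split epimorphism
`J ⟶ Q` composing to `f`, where the terms of `J` are `E _ ⊞ Q.X k`.
-/

set_option autoImplicit false
universe v u
open CategoryTheory CategoryTheory.Limits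
open Groth.Agent.Helper22.ResI

namespace Groth.Agent.Helper22.ResIRel

variable {A : Type u} [Category.{v} A] [Abelian A]

variable {L Q : CochainComplex A ℤ} (f : L ⟶ Q) (em : Emb A)

/-- The data of the inductive construction in degree `k`. -/
structure Stage (k : ℕ) where
  /-- the pushout object -/
  B : A
  /-- the inclusion -/
  β : L.X (k : ℤ) ⟶ B
  /-- the induced differential -/
  δ : B ⟶ L.X ((k + 1 : ℕ) : ℤ)
  /-- the induced map to `Q` -/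
  g : B ⟶ Q.X (k : ℤ)
  β_mono : Mono β
  β_δ : β ≫ δ = L.d (k : ℤ) ((k + 1 : ℕ) : ℤ)
  δ_d : δ ≫ L.d ((k + 1 : ℕ) : ℤ) ((k + 1 + 1 : ℕ) : ℤ) = 0
  im_δ : ∀ ⦃T : A⦄ (b : T ⟶ B),
    ∃ (T' : A) (π : T' ⟶ T) (_ : Epi π) (x : T' ⟶ L.X (k : ℤ)),
      π ≫ b ≫ δ = x ≫ L.d (k : ℤ) ((k + 1 : ℕ) : ℤ)
  β_g : β ≫ g = f.f (k : ℤ)
  g_d : g ≫ Q.d (k : ℤ) ((k + 1 : ℕ) : ℤ) = δ ≫ f.f ((k + 1 : ℕ) : ℤ)

/-- The initial stage. -/
def stage0 : Stage f 0 where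
  B := L.X ((0 : ℕ) : ℤ)
  β := 𝟙 _
  δ := L.d ((0 : ℕ) : ℤ) ((0 + 1 : ℕ) : ℤ)
  g := f.f ((0 : ℕ) : ℤ)
  β_mono := inferInstance
  β_δ := Category.id_comp _
  δ_d := L.d_comp_d _ _ _
  im_δ T b := ⟨T, 𝟙 T, inferInstance, b, Category.id_comp _⟩
  β_g := Category.id_comp _
  g_d := f.comm _ _

variable {f}

/-- The embedding used at a stage. -/
noncomputable def v {k : ℕ} (s : Stage f k) : s.B ⟶ em.E s.B ⊞ Q.X (k : ℤ) :=
  biprod.lift (em.u s.B) s.g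

lemma v_fst {k : ℕ} (s : Stage f k) : v em s ≫ biprod.fst = em.u s.B := biprod.lift_fst _ _

lemma v_snd {k : ℕ} (s : Stage f k) : v em s ≫ biprod.snd = s.g := biprod.lift_snd _ _

lemma v_mono {k : ℕ} (s : Stage f k) : Mono (v em s) := by
  haveI := em.mono s.B
  haveI : Mono (v em s ≫ biprod.fst) := by
    rw [v_fst]
    infer_instance
  exact mono_of_mono (v em s) biprod.fst

lemma step_cond {k : ℕ} (s : Stage f k) :
    v em s ≫ (0 : em.E s.B ⊞ Q.X (k : ℤ) ⟶ L.X ((k + 1 + 1 : ℕ) : ℤ)) +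
      (-s.δ) ≫ L.d ((k + 1 : ℕ) : ℤ) ((k + 1 + 1 : ℕ) : ℤ) = 0 := by
  rw [comp_zero, zero_add, Preadditive.neg_comp, s.δ_d, neg_zero]

lemma step_cond_g {k : ℕ} (s : Stage f k) :
    v em s ≫ (biprod.snd ≫ Q.d (k : ℤ) ((k + 1 : ℕ) : ℤ)) +
      (-s.δ) ≫ f.f ((k + 1 : ℕ) : ℤ) = 0 := by
  rw [← Category.assoc, v_snd, s.g_d, Preadditive.neg_comp, add_neg_cancel]

/-- The inductive step. -/
noncomputable def Step {k : ℕ} (s : Stage f k) : Stage f (k + 1) where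
  B := PO (v em s) (-s.δ)
  β := poInr (v em s) (-s.δ)
  δ := poDesc (v em s) (-s.δ) 0 (L.d ((k + 1 : ℕ) : ℤ) ((k + 1 + 1 : ℕ) : ℤ))
    (step_cond em s)
  g := poDesc (v em s) (-s.δ) (biprod.snd ≫ Q.d (k : ℤ) ((k + 1 : ℕ) : ℤ))
    (f.f ((k + 1 : ℕ) : ℤ)) (step_cond_g em s)
  β_mono := by
    haveI := v_mono em s
    exact poInr_mono _ _
  β_δ := poInr_desc _ _ _ _ _
  δ_d := by
    apply po_hom_ext
    · rw [← Category.assoc, poInl_desc, zero_comp, comp_zero]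
    · rw [← Category.assoc, poInr_desc, L.d_comp_d, comp_zero]
  im_δ T b := by
    obtain ⟨T', π, hπ, y, x, hb⟩ := po_epi (v em s) (-s.δ) b
    refine ⟨T', π, hπ, x, ?_⟩
    rw [← Category.assoc, hb, Preadditive.add_comp, Category.assoc, Category.assoc,
      poInl_desc, poInr_desc, comp_zero, zero_add]
  β_g := poInr_desc _ _ _ _ _
  g_d := by
    apply po_hom_ext
    · rw [← Category.assoc, poInl_desc, ← Category.assoc, poInl_desc, zero_comp, Category.assoc,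
        Q.d_comp_d, comp_zero]
    · rw [← Category.assoc, poInr_desc, ← Category.assoc, poInr_desc]
      exact f.comm _ _

variable (f)

/-- The stages of the construction. -/
noncomputable def stage : ∀ k : ℕ, Stage f k
  | 0 => stage0 f
  | k + 1 => Step em (stage k)

/-- The pushout objects. -/
noncomputable def Bs (k : ℕ) : A := (stage f em k).B

/-- The terms of the resolution. -/
noncomputable abbrev Is (k : ℕ) : A := em.E (Bs f em k) ⊞ Q.X (k : ℤ)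

/-- The chosen embeddings. -/
noncomputable def js (k : ℕ) : Bs f em k ⟶ Is f em k := v em (stage f em k)

lemma js_mono (k : ℕ) : Mono (js f em k) := v_mono em _

/-- The inclusions `Lᵏ ⟶ Bᵏ`. -/
noncomputable def βS (k : ℕ) : L.X (k : ℤ) ⟶ Bs f em k := (stage f em k).β

/-- The maps `Bᵏ ⟶ Lᵏ⁺¹`. -/
noncomputable def δS (k : ℕ) : Bs f em k ⟶ L.X ((k + 1 : ℕ) : ℤ) := (stage f em k).δ

/-- The maps `Bᵏ ⟶ Qᵏ`. -/
noncomputable def gS (k : ℕ) : Bs f em k ⟶ Q.X (k : ℤ) := (stage f em k).g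

/-- The pushout inclusions `Iᵏ ⟶ Bᵏ⁺¹`. -/
noncomputable def inlS (k : ℕ) : Is f em k ⟶ Bs f em (k + 1) :=
  poInl (v em (stage f em k)) (-(stage f em k).δ)

/-- The pushout inclusions `Lᵏ⁺¹ ⟶ Bᵏ⁺¹`. -/
noncomputable def inrS (k : ℕ) : L.X ((k + 1 : ℕ) : ℤ) ⟶ Bs f em (k + 1) :=
  poInr (v em (stage f em k)) (-(stage f em k).δ)

lemma βS_mono (k : ℕ) : Mono (βS f em k) := (stage f em k).β_mono

lemma βS_δS (k : ℕ) : βS f em k ≫ δS f em k = L.d (k : ℤ) ((k + 1 : ℕ) : ℤ) :=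
  (stage f em k).β_δ

lemma βS_gS (k : ℕ) : βS f em k ≫ gS f em k = f.f (k : ℤ) := (stage f em k).β_g

lemma js_snd (k : ℕ) : js f em k ≫ biprod.snd = gS f em k := v_snd em _

lemma δS_d (k : ℕ) : δS f em k ≫ L.d ((k + 1 : ℕ) : ℤ) ((k + 1 + 1 : ℕ) : ℤ) = 0 :=
  (stage f em k).δ_d

lemma im_δS (k : ℕ) ⦃T : A⦄ (b : T ⟶ Bs f em k) :
    ∃ (T' : A) (π : T' ⟶ T) (_ : Epi π) (x : T' ⟶ L.X (k : ℤ)),
      π ≫ b ≫ δS f em k = x ≫ L.d (k : ℤ) ((k + 1 : ℕ) : ℤ) := (stage f em k).im_δ b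

lemma βS_succ (k : ℕ) : βS f em (k + 1) = inrS f em k := rfl

lemma βS_zero_epi : Epi (βS f em 0) := by
  show Epi (𝟙 (L.X ((0 : ℕ) : ℤ)))
  infer_instance

lemma rel (k : ℕ) : js f em k ≫ inlS f em k = δS f em k ≫ inrS f em k := by
  have h : js f em k ≫ inlS f em k + (-(δS f em k)) ≫ inrS f em k = 0 :=
    po_rel (v em (stage f em k)) (-(stage f em k).δ)
  rw [Preadditive.neg_comp, ← sub_eq_add_neg, sub_eq_zero] at h
  exact h

lemma inlS_δS (k : ℕ) : inlS f em k ≫ δS f em (k + 1) = 0 :=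
  poInl_desc (v em (stage f em k)) (-(stage f em k).δ) 0
    (L.d ((k + 1 : ℕ) : ℤ) ((k + 1 + 1 : ℕ) : ℤ)) (step_cond em (stage f em k))

lemma inrS_δS (k : ℕ) :
    inrS f em k ≫ δS f em (k + 1) = L.d ((k + 1 : ℕ) : ℤ) ((k + 1 + 1 : ℕ) : ℤ) :=
  poInr_desc (v em (stage f em k)) (-(stage f em k).δ) 0
    (L.d ((k + 1 : ℕ) : ℤ) ((k + 1 + 1 : ℕ) : ℤ)) (step_cond em (stage f em k))

lemma inlS_gS (k : ℕ) :
    inlS f em k ≫ gS f em (k + 1) = biprod.snd ≫ Q.d (k : ℤ) ((k + 1 : ℕ) : ℤ) :=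
  poInl_desc (v em (stage f em k)) (-(stage f em k).δ)
    (biprod.snd ≫ Q.d (k : ℤ) ((k + 1 : ℕ) : ℤ)) (f.f ((k + 1 : ℕ) : ℤ))
    (step_cond_g em (stage f em k))

lemma epi' (k : ℕ) ⦃T : A⦄ (b : T ⟶ Bs f em (k + 1)) :
    ∃ (T' : A) (π : T' ⟶ T) (_ : Epi π) (y : T' ⟶ Is f em k)
      (x : T' ⟶ L.X ((k + 1 : ℕ) : ℤ)),
      π ≫ b = y ≫ inlS f em k + x ≫ inrS f em k :=
  po_epi (v em (stage f em k)) (-(stage f em k).δ) b

lemma exact' (k : ℕ) ⦃T : A⦄ (y : T ⟶ Is f em k) (x : T ⟶ L.X ((k + 1 : ℕ) : ℤ))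
    (h : y ≫ inlS f em k + x ≫ inrS f em k = 0) :
    ∃ (T' : A) (π : T' ⟶ T) (_ : Epi π) (b : T' ⟶ Bs f em k),
      π ≫ y = b ≫ js f em k ∧ π ≫ x = -(b ≫ δS f em k) := by
  obtain ⟨T', π, hπ, b, hb1, hb2⟩ :=
    po_exact (v em (stage f em k)) (-(stage f em k).δ) y x h
  refine ⟨T', π, hπ, b, hb1, ?_⟩
  rw [hb2, Preadditive.comp_neg]
  rfl

/-- The components of the resolution map. -/
noncomputable def φs (k : ℕ) : L.X (k : ℤ) ⟶ Is f em k := βS f em k ≫ js f em k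

/-- The differentials of the resolution. -/
noncomputable def ds (k : ℕ) : Is f em k ⟶ Is f em (k + 1) := inlS f em k ≫ js f em (k + 1)

lemma ds_comp (k : ℕ) : ds f em k ≫ ds f em (k + 1) = 0 := by
  unfold ds
  rw [Category.assoc, ← Category.assoc (js f em (k + 1)), rel, Category.assoc,
    ← Category.assoc (inlS f em k), inlS_δS, zero_comp]

lemma φs_ds (k : ℕ) :
    φs f em k ≫ ds f em k = L.d (k : ℤ) ((k + 1 : ℕ) : ℤ) ≫ φs f em (k + 1) := by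
  unfold φs ds
  rw [Category.assoc, ← Category.assoc (js f em k), rel, Category.assoc,
    ← Category.assoc (βS f em k), βS_δS, βS_succ]

lemma φs_snd (k : ℕ) : φs f em k ≫ biprod.snd = f.f (k : ℤ) := by
  unfold φs
  rw [Category.assoc, js_snd, βS_gS]

lemma ds_snd (k : ℕ) :
    ds f em k ≫ biprod.snd = biprod.snd ≫ Q.d (k : ℤ) ((k + 1 : ℕ) : ℤ) := by
  unfold ds
  rw [Category.assoc, js_snd, inlS_gS]

lemma φs_mono (k : ℕ) : Mono (φs f em k) := by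
  unfold φs
  have := βS_mono f em k
  have := js_mono f em k
  exact mono_comp _ _

lemma φs_succ (k : ℕ) : φs f em (k + 1) = inrS f em k ≫ js f em (k + 1) := rfl

lemma ds_eq (k : ℕ) : ds f em k = inlS f em k ≫ js f em (k + 1) := rfl

lemma mono_succ (k : ℕ) ⦃T : A⦄ (x₂ : T ⟶ L.X ((k + 1 : ℕ) : ℤ))
    (y₁ : T ⟶ Is f em k) (h : x₂ ≫ φs f em (k + 1) = y₁ ≫ ds f em k) :
    ∃ (T' : A) (π : T' ⟶ T) (_ : Epi π) (x₁ : T' ⟶ L.X (k : ℤ)),
      π ≫ x₂ = x₁ ≫ L.d (k : ℤ) ((k + 1 : ℕ) : ℤ) := by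
  have hm := js_mono f em (k + 1)
  have h0 : (-y₁) ≫ inlS f em k + x₂ ≫ inrS f em k = 0 := by
    rw [← cancel_mono (js f em (k + 1)), zero_comp, Preadditive.add_comp,
      Preadditive.neg_comp, Preadditive.neg_comp, Category.assoc, Category.assoc, ← φs_succ,
      ← ds_eq, h, neg_add_cancel]
  obtain ⟨T₁, π₁, hπ₁, b, _, hb2⟩ := exact' f em k (-y₁) x₂ h0
  obtain ⟨T₂, π₂, hπ₂, x, hx⟩ := im_δS f em k (-b)
  refine ⟨T₂, π₂ ≫ π₁, epi_comp _ _, x, ?_⟩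
  rw [← hx, Category.assoc, hb2, Preadditive.neg_comp]

lemma epi_succ (k : ℕ) ⦃T : A⦄ (y₂ : T ⟶ Is f em (k + 1))
    (h : y₂ ≫ ds f em (k + 1) = 0) :
    ∃ (T' : A) (π : T' ⟶ T) (_ : Epi π)
      (x₂ : T' ⟶ L.X ((k + 1 : ℕ) : ℤ))
      (_ : x₂ ≫ L.d ((k + 1 : ℕ) : ℤ) ((k + 1 + 1 : ℕ) : ℤ) = 0)
      (y₁ : T' ⟶ Is f em k),
      π ≫ y₂ = x₂ ≫ φs f em (k + 1) + y₁ ≫ ds f em k := by
  have hm := js_mono f em (k + 1 + 1)
  have h1 : y₂ ≫ inlS f em (k + 1) = 0 := by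
    rw [← cancel_mono (js f em (k + 1 + 1)), Category.assoc, ← ds_eq, h, zero_comp]
  have h0 : y₂ ≫ inlS f em (k + 1) +
      (0 : T ⟶ L.X ((k + 1 + 1 : ℕ) : ℤ)) ≫ inrS f em (k + 1) = 0 := by
    rw [h1, zero_comp, add_zero]
  obtain ⟨T₁, π₁, hπ₁, b, hb1, hb2⟩ := exact' f em (k + 1) y₂ 0 h0
  have hbδ : b ≫ δS f em (k + 1) = 0 := by
    rw [comp_zero] at hb2
    exact neg_eq_zero.1 hb2.symm
  obtain ⟨T₂, π₂, hπ₂, y', x, hyx⟩ := epi' f em k b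
  have hcyc : x ≫ L.d ((k + 1 : ℕ) : ℤ) ((k + 1 + 1 : ℕ) : ℤ) = 0 := by
    have e := congrArg (fun t => t ≫ δS f em (k + 1)) hyx
    simp only [Category.assoc, Preadditive.add_comp, hbδ, comp_zero, inlS_δS, inrS_δS,
      zero_add] at e
    exact e.symm
  refine ⟨T₂, π₂ ≫ π₁, epi_comp _ _, x, hcyc, y', ?_⟩
  rw [Category.assoc, hb1, ← Category.assoc, hyx, Preadditive.add_comp, Category.assoc,
    Category.assoc, ← ds_eq, ← φs_succ]
  exact add_comm _ _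

lemma epi_zero ⦃T : A⦄ (y₂ : T ⟶ Is f em 0) (h : y₂ ≫ ds f em 0 = 0) :
    ∃ (T' : A) (π : T' ⟶ T) (_ : Epi π)
      (x₂ : T' ⟶ L.X ((0 : ℕ) : ℤ))
      (_ : x₂ ≫ L.d ((0 : ℕ) : ℤ) ((0 + 1 : ℕ) : ℤ) = 0),
      π ≫ y₂ = x₂ ≫ φs f em 0 := by
  have hm := js_mono f em (0 + 1)
  have h1 : y₂ ≫ inlS f em 0 = 0 := by
    rw [← cancel_mono (js f em (0 + 1)), Category.assoc, ← ds_eq, h, zero_comp]
  have h0 : y₂ ≫ inlS f em 0 +
      (0 : T ⟶ L.X ((0 + 1 : ℕ) : ℤ)) ≫ inrS f em 0 = 0 := by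
    rw [h1, zero_comp, add_zero]
  obtain ⟨T₁, π₁, hπ₁, b, hb1, hb2⟩ := exact' f em 0 y₂ 0 h0
  have hbδ : b ≫ δS f em 0 = 0 := by
    rw [comp_zero] at hb2
    exact neg_eq_zero.1 hb2.symm
  have he := βS_zero_epi f em
  obtain ⟨T₂, π₂, hπ₂, x, hx⟩ := surjective_up_to_refinements_of_epi (βS f em 0) b
  have hcyc : x ≫ L.d ((0 : ℕ) : ℤ) ((0 + 1 : ℕ) : ℤ) = 0 := by
    rw [← βS_δS f em 0, ← Category.assoc, ← hx, Category.assoc, hbδ, comp_zero]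
  refine ⟨T₂, π₂ ≫ π₁, epi_comp _ _, x, hcyc, ?_⟩
  unfold φs
  rw [Category.assoc, hb1, ← Category.assoc, hx, Category.assoc]

/-- The resolution complex. -/
noncomputable def resCx : CochainComplex A ℤ :=
  ofSeq em.Z (Is f em) (ds f em) (ds_comp f em)

instance : (resCx f em).IsStrictlyGE 0 := ofSeq_isStrictlyGE _ _ _ em.hZ

lemma resCx_isZero (i : ℤ) (hi : i < 0) : IsZero ((resCx f em).X i) :=
  ofSeq_isZero _ _ _ em.hZ i hi

lemma resCx_d (k : ℕ) : (resCx f em).d (k : ℤ) ((k + 1 : ℕ) : ℤ) = ds f em k :=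
  ofSeq_d _ _ _ _ k

lemma resCx_mem (P : A → Prop) (hE : ∀ (X : A) (k : ℕ), P (em.E X ⊞ Q.X (k : ℤ))) (hZ : P em.Z)
    (n : ℤ) : P ((resCx f em).X n) := by
  cases n with
  | ofNat k => exact hE (Bs f em k) k
  | negSucc k => exact hZ

/-- The components of the resolution map. -/
noncomputable def fZ : ∀ n : ℤ, L.X n ⟶ (resCx f em).X n
  | Int.ofNat k => φs f em k
  | Int.negSucc _ => 0

/-- The components of the projection. -/
noncomputable def pZ : ∀ n : ℤ, (resCx f em).X n ⟶ Q.X n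
  | Int.ofNat _ => biprod.snd
  | Int.negSucc _ => 0

/-- The projection to `Q`. -/
noncomputable def pMap : resCx f em ⟶ Q where
  f := pZ f em
  comm' i j hij := by
    cases i with
    | ofNat k =>
      have h1 : Int.ofNat k + 1 = j := hij
      subst h1
      show (biprod.snd : Is f em k ⟶ Q.X (k : ℤ)) ≫ Q.d (k : ℤ) ((k + 1 : ℕ) : ℤ) =
        (resCx f em).d (k : ℤ) ((k + 1 : ℕ) : ℤ) ≫ (biprod.snd : Is f em (k + 1) ⟶ _)
      rw [resCx_d]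
      exact (ds_snd f em k).symm
    | negSucc m =>
      exact (resCx_isZero f em (Int.negSucc m) (Int.negSucc_lt_zero m)).eq_of_src _ _

variable [L.IsStrictlyGE 0]

/-- The resolution map. -/
noncomputable def resMap : L ⟶ resCx f em where
  f := fZ f em
  comm' i j hij := by
    cases i with
    | ofNat k =>
      have h1 : Int.ofNat k + 1 = j := hij
      subst h1
      show φs f em k ≫ (resCx f em).d (k : ℤ) ((k + 1 : ℕ) : ℤ) =
        L.d (k : ℤ) ((k + 1 : ℕ) : ℤ) ≫ φs f em (k + 1)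
      rw [resCx_d]
      exact φs_ds f em k
    | negSucc m =>
      exact (L.isZero_of_isStrictlyGE 0 (Int.negSucc m) (Int.negSucc_lt_zero m)).eq_of_src _ _

lemma resMap_pMap : resMap f em ≫ pMap f em = f := by
  ext n
  cases n with
  | ofNat k => exact φs_snd f em k
  | negSucc m =>
    exact (L.isZero_of_isStrictlyGE 0 (Int.negSucc m) (Int.negSucc_lt_zero m)).eq_of_src _ _

lemma resMap_f_mono (n : ℤ) : Mono ((resMap f em).f n) := by
  cases n with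
  | ofNat k => exact φs_mono f em k
  | negSucc m =>
    have hz : IsZero (L.X (Int.negSucc m)) :=
      L.isZero_of_isStrictlyGE 0 _ (Int.negSucc_lt_zero m)
    exact ⟨fun g h _ => hz.eq_of_tgt _ _⟩

theorem resMap_qis : QuasiIso (resMap f em) := by
  rw [quasiIso_iff]
  intro n
  by_cases hn : n < 0
  · have hsrc : L.ExactAt n := by
      rw [HomologicalComplex.exactAt_iff]
      apply ShortComplex.exact_of_isZero_X₂
      exact L.isZero_of_isStrictlyGE 0 n hn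
    rw [quasiIsoAt_iff_exactAt _ _ hsrc, HomologicalComplex.exactAt_iff]
    apply ShortComplex.exact_of_isZero_X₂
    exact resCx_isZero f em n hn
  · obtain ⟨k, rfl⟩ : ∃ k : ℕ, n = (k : ℤ) := ⟨n.toNat, by omega⟩
    rw [quasiIsoAt_iff_isIso_homologyMap]
    cases k with
    | zero =>
      have hmono : Mono (HomologicalComplex.homologyMap (resMap f em) ((0 : ℕ) : ℤ)) := by
        rw [HomologicalComplex.mono_homologyMap_iff_up_to_refinements _ (-1) ((0 : ℕ) : ℤ)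
          ((0 + 1 : ℕ) : ℤ) (by simp) (by simp)]
        intro T (x₂ : T ⟶ L.X ((0 : ℕ) : ℤ)) hx₂ (y₁ : T ⟶ (resCx f em).X (-1)) hy₁
        have hy₁' : x₂ ≫ φs f em 0 = y₁ ≫ (resCx f em).d (-1) ((0 : ℕ) : ℤ) := hy₁
        have hz : y₁ = 0 := (resCx_isZero f em (-1) (by omega)).eq_of_tgt _ _
        rw [hz, zero_comp] at hy₁'
        have := φs_mono f em 0
        have hx0 : x₂ = 0 := (cancel_mono (φs f em 0)).1 (hy₁'.trans zero_comp.symm)
        exact ⟨T, 𝟙 T, inferInstance, 0,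
          (Category.id_comp x₂).trans (hx0.trans zero_comp.symm)⟩
      have hepi : Epi (HomologicalComplex.homologyMap (resMap f em) ((0 : ℕ) : ℤ)) := by
        rw [HomologicalComplex.epi_homologyMap_iff_up_to_refinements _ (-1) ((0 : ℕ) : ℤ)
          ((0 + 1 : ℕ) : ℤ) (by simp) (by simp)]
        intro T (y₂ : T ⟶ Is f em 0) hy₂
        have hy₂' : y₂ ≫ ds f em 0 = 0 := by
          rw [← resCx_d f em 0]
          exact hy₂
        obtain ⟨T', π, hπ, x₂, hx₂, hfin⟩ := epi_zero f em y₂ hy₂'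
        refine ⟨T', π, hπ, x₂, hx₂, 0, ?_⟩
        rw [zero_comp, add_zero]
        exact hfin
      exact isIso_of_mono_of_epi _
    | succ k =>
      have hmono : Mono (HomologicalComplex.homologyMap (resMap f em)
          ((k + 1 : ℕ) : ℤ)) := by
        rw [HomologicalComplex.mono_homologyMap_iff_up_to_refinements _ ((k : ℕ) : ℤ)
          ((k + 1 : ℕ) : ℤ) ((k + 1 + 1 : ℕ) : ℤ) (by simp) (by simp)]
        intro T (x₂ : T ⟶ L.X ((k + 1 : ℕ) : ℤ)) hx₂ (y₁ : T ⟶ Is f em k) hy₁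
        have hy₁' : x₂ ≫ φs f em (k + 1) = y₁ ≫ ds f em k := by
          rw [← resCx_d f em k]
          exact hy₁
        exact mono_succ f em k x₂ y₁ hy₁'
      have hepi : Epi (HomologicalComplex.homologyMap (resMap f em)
          ((k + 1 : ℕ) : ℤ)) := by
        rw [HomologicalComplex.epi_homologyMap_iff_up_to_refinements _ ((k : ℕ) : ℤ)
          ((k + 1 : ℕ) : ℤ) ((k + 1 + 1 : ℕ) : ℤ) (by simp) (by simp)]
        intro T (y₂ : T ⟶ Is f em (k + 1)) hy₂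
        have hy₂' : y₂ ≫ ds f em (k + 1) = 0 := by
          rw [← resCx_d f em (k + 1)]
          exact hy₂
        obtain ⟨T', π, hπ, x₂, hx₂, y₁, hfin⟩ := epi_succ f em k y₂ hy₂'
        refine ⟨T', π, hπ, x₂, hx₂, y₁, ?_⟩
        rw [resCx_d f em k]
        exact hfin
      exact isIso_of_mono_of_epi _

omit [L.IsStrictlyGE 0] in
lemma pMap_split [Q.IsStrictlyGE 0] (n : ℤ) :
    ∃ s : Q.X n ⟶ (resCx f em).X n, s ≫ (pMap f em).f n = 𝟙 _ := by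
  cases n with
  | ofNat k => exact ⟨biprod.inr, biprod.inr_snd⟩
  | negSucc m =>
    exact ⟨0, (Q.isZero_of_isStrictlyGE 0 (Int.negSucc m) (Int.negSucc_lt_zero m)).eq_of_src _ _⟩

omit [L.IsStrictlyGE 0] in
lemma pMap_ker (I : ObjectProperty A) [I.IsClosedUnderIsomorphisms] (hE : ∀ X, I (em.E X))
    (hZ : I em.Z) (n : ℤ) : I (kernel ((pMap f em).f n)) := by
  cases n with
  | ofNat k =>
    exact I.prop_of_iso (kernelBiprodSndIso (X := em.E (Bs f em k)) (Y := Q.X (k : ℤ))).symm (hE _)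
  | negSucc m =>
    have hz : IsZero (kernel ((pMap f em).f (Int.negSucc m))) :=
      IsZero.of_mono (kernel.ι _) (resCx_isZero f em _ (Int.negSucc_lt_zero m))
    exact I.prop_of_iso (em.hZ.iso hz) hZ

omit [L.IsStrictlyGE 0] in
lemma split_comp {X Y Y' : A} (q : X ⟶ Y) (s : Y ⟶ X) (hs : s ≫ q = 𝟙 Y) (α : Y' ⟶ Y)
    (β : Y ⟶ Y') (hαβ : α ≫ β = 𝟙 Y') : (α ≫ s) ≫ (q ≫ β) = 𝟙 Y' := by
  rw [Category.assoc, ← Category.assoc s, hs, Category.id_comp, hαβ]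

omit [L.IsStrictlyGE 0] in
lemma ker_comp_iso (I : ObjectProperty A) [I.IsClosedUnderIsomorphisms] {X Y Y' : A}
    (q : X ⟶ Y) (β : Y ⟶ Y') (hβ : IsIso β) (h : I (kernel q)) : I (kernel (q ≫ β)) :=
  I.prop_of_iso (kernelCompMono q β).symm h

omit [L.IsStrictlyGE 0] in
/-- Relative right resolutions. -/
theorem generalRel (I : ObjectProperty A) [I.IsClosedUnderIsomorphisms]
    (hI0 : ∃ Z : A, IsZero Z ∧ I Z) (hIprod : ∀ X Y : A, I X → I Y → I (X ⊞ Y))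
    (hI : ∀ X : A, ∃ (Y : A) (ι : X ⟶ Y), I Y ∧ Mono ι)
    (a : ℤ) [L.IsStrictlyGE a] [Q.IsStrictlyGE a] (hQ : ∀ i, I (Q.X i)) :
    ∃ (J : CochainComplex A ℤ) (j : L ⟶ J) (p : J ⟶ Q), J.IsStrictlyGE a ∧ (∀ i, I (J.X i)) ∧
      (∀ i, Mono (j.f i)) ∧ QuasiIso j ∧
      (∀ i, (∃ s : Q.X i ⟶ J.X i, s ≫ p.f i = 𝟙 _) ∧ I (kernel (p.f i))) ∧ j ≫ p = f := by
  obtain ⟨Z, hZ, hIZ⟩ := hI0
  choose E u hE using hI
  let em : Emb A := ⟨E, u, fun X => (hE X).2, Z, hZ⟩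
  haveI : (L⟦a⟧).IsStrictlyGE 0 := CochainComplex.isStrictlyGE_shift L a a 0 (by omega)
  haveI : (Q⟦a⟧).IsStrictlyGE 0 := CochainComplex.isStrictlyGE_shift Q a a 0 (by omega)
  let ν := (shiftFunctorCompIsoId (CochainComplex A ℤ) a (-a) (by omega)).symm
  let eL : L ≅ (L⟦a⟧)⟦-a⟧ := ν.app L
  let eQ : Q ≅ (Q⟦a⟧)⟦-a⟧ := ν.app Q
  have nat : f ≫ eQ.hom = eL.hom ≫ (f⟦a⟧')⟦-a⟧' := ν.hom.naturality f
  haveI : ((resCx (f⟦a⟧') em)⟦-a⟧).IsStrictlyGE a :=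
    CochainComplex.isStrictlyGE_shift (resCx (f⟦a⟧') em) 0 (-a) a (by omega)
  refine ⟨(resCx (f⟦a⟧') em)⟦-a⟧, eL.hom ≫ (resMap (f⟦a⟧') em)⟦-a⟧',
    (pMap (f⟦a⟧') em)⟦-a⟧' ≫ eQ.inv, inferInstance, ?_, ?_, ?_, ?_, ?_⟩
  · intro i
    exact resCx_mem (f⟦a⟧') em I (fun X k => hIprod _ _ (hE X).1 (hQ _)) hIZ (i + -a)
  · intro n
    have e1 : (eL.hom ≫ (resMap (f⟦a⟧') em)⟦-a⟧').f n =
        eL.hom.f n ≫ (resMap (f⟦a⟧') em).f (n + -a) := rfl
    rw [e1]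
    have hi : IsIso (eL.hom.f n) := inferInstance
    have hm2 := resMap_f_mono (f⟦a⟧') em (n + -a)
    have hm1 : Mono (eL.hom.f n) := inferInstance
    exact mono_comp' hm1 hm2
  · have hq : QuasiIso (resMap (f⟦a⟧') em) := resMap_qis (f⟦a⟧') em
    have h4 : QuasiIso ((resMap (f⟦a⟧') em)⟦-a⟧') := inferInstance
    infer_instance
  · intro i
    obtain ⟨s, hs⟩ := pMap_split (f⟦a⟧') em (i + -a)
    have e1 : ((pMap (f⟦a⟧') em)⟦-a⟧' ≫ eQ.inv).f i =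
        (pMap (f⟦a⟧') em).f (i + -a) ≫ eQ.inv.f i := rfl
    have hid : eQ.hom.f i ≫ eQ.inv.f i = 𝟙 _ :=
      congrArg (fun t : Q ⟶ Q => t.f i) eQ.hom_inv_id
    refine ⟨⟨eQ.hom.f i ≫ s, ?_⟩, ?_⟩
    · rw [e1]
      exact split_comp _ s hs _ _ hid
    · rw [e1]
      have hiso : IsIso (eQ.inv.f i) := inferInstance
      exact ker_comp_iso I _ _ hiso
        (pMap_ker (f⟦a⟧') em I (fun X => (hE X).1) hIZ (i + -a))
  · have h1 : (resMap (f⟦a⟧') em)⟦-a⟧' ≫ (pMap (f⟦a⟧') em)⟦-a⟧' = (f⟦a⟧')⟦-a⟧' := by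
      rw [← CategoryTheory.Functor.map_comp, resMap_pMap]
    rw [Category.assoc, ← Category.assoc _ _ eQ.inv, h1, ← Category.assoc, ← nat, Category.assoc,
      Iso.hom_inv_id, Category.comp_id]

end Groth.Agent.Helper22.ResIRel
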