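import Groth.Agent.Lib.Helper22.ResIRel

/-!
# Special inverse systems of right resolutions

Helper library (helper22): for a cogenerating class `I` closed under isomorphisms and binary
biproducts, compatible right resolutions of the canonical truncations `τ≥(-n) K`.
-/

set_option autoImplicit false
universe v u
open CategoryTheory CategoryTheory.Limits

namespace Groth.Agent.Helper22.ResISys

variable {A : Type u} [Category.{v} A] [Abelian A]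

lemma exists_truncGE_map (K : CochainComplex A ℤ) (m n : ℤ) (h : m ≤ n) :
    ∃ c : K.truncGE m ⟶ K.truncGE n, K.πTruncGE m ≫ c = K.πTruncGE n := by
  haveI : (K.truncGE n).IsStrictlyGE m := CochainComplex.isStrictlyGE_of_ge _ m n h
  refine ⟨CochainComplex.truncGEMap (K.πTruncGE n) m ≫ inv ((K.truncGE n).πTruncGE m), ?_⟩
  rw [← Category.assoc, CochainComplex.πTruncGE_naturality, Category.assoc, IsIso.hom_inv_id,
    Category.comp_id]

variable (I : ObjectProperty A) (K : CochainComplex A ℤ)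

/-- The data at stage `n`. -/
structure St (n : ℕ) where
  /-- the resolution -/
  Q : CochainComplex A ℤ
  /-- the resolution map -/
  π : K.truncGE (-(n : ℤ)) ⟶ Q
  qis : QuasiIso π
  mono : ∀ i, Mono (π.f i)
  bdd : Q.IsStrictlyGE (-(n : ℤ))
  mem : ∀ i, I (Q.X i)

variable [I.IsClosedUnderIsomorphisms]
  (hI0 : ∃ Z : A, IsZero Z ∧ I Z) (hIprod : ∀ X Y : A, I X → I Y → I (X ⊞ Y))
  (hI : ∀ X : A, ∃ (Y : A) (ι : X ⟶ Y), I Y ∧ Mono ι)

include hI0 hI in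
omit [I.IsClosedUnderIsomorphisms] in
lemma base : Nonempty (St I K 0) := by
  obtain ⟨L, α, h1, h2, h3, h4⟩ :=
    ResI.general (K.truncGE (-((0 : ℕ) : ℤ))) I hI0 hI (-((0 : ℕ) : ℤ))
  exact ⟨⟨L, α, h4, h3, h1, h2⟩⟩

include hI0 hIprod hI in
lemma step (n : ℕ) (s : St I K n) :
    ∃ (s' : St I K (n + 1)) (p : s'.Q ⟶ s.Q),
      (∀ i, (∃ σ : s.Q.X i ⟶ s'.Q.X i, σ ≫ p.f i = 𝟙 _) ∧ I (kernel (p.f i))) ∧
      K.πTruncGE (-((n + 1 : ℕ) : ℤ)) ≫ s'.π ≫ p = K.πTruncGE (-(n : ℤ)) ≫ s.π := by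
  obtain ⟨c, hc⟩ := exists_truncGE_map K (-((n + 1 : ℕ) : ℤ)) (-(n : ℤ))
    (by push_cast; omega)
  haveI := s.bdd
  haveI : s.Q.IsStrictlyGE (-((n + 1 : ℕ) : ℤ)) :=
    CochainComplex.isStrictlyGE_of_ge _ (-((n + 1 : ℕ) : ℤ)) (-(n : ℤ)) (by push_cast; omega)
  obtain ⟨J, j, p, h1, h2, h3, h4, h5, h6⟩ :=
    ResIRel.generalRel (c ≫ s.π) I hI0 hIprod hI (-((n + 1 : ℕ) : ℤ)) s.mem
  refine ⟨⟨J, j, h4, h3, h1, h2⟩, p, h5, ?_⟩
  show K.πTruncGE (-((n + 1 : ℕ) : ℤ)) ≫ j ≫ p = K.πTruncGE (-(n : ℤ)) ≫ s.π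
  rw [h6, ← Category.assoc, hc]

/-- A choice of stages. -/
noncomputable def seq : ∀ n : ℕ, St I K n
  | 0 => (base I K hI0 hI).some
  | n + 1 => (step I K hI0 hIprod hI n (seq n)).choose

lemma seq_succ (n : ℕ) :
    ∃ (p : (seq I K hI0 hIprod hI (n + 1)).Q ⟶ (seq I K hI0 hIprod hI n).Q),
      (∀ i, (∃ σ : (seq I K hI0 hIprod hI n).Q.X i ⟶ (seq I K hI0 hIprod hI (n + 1)).Q.X i,
        σ ≫ p.f i = 𝟙 _) ∧ I (kernel (p.f i))) ∧
      K.πTruncGE (-((n + 1 : ℕ) : ℤ)) ≫ (seq I K hI0 hIprod hI (n + 1)).π ≫ p =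
        K.πTruncGE (-(n : ℤ)) ≫ (seq I K hI0 hIprod hI n).π :=
  (step I K hI0 hIprod hI n (seq I K hI0 hIprod hI n)).choose_spec

end Groth.Agent.Helper22.ResISys
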