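import Groth.Agent.Lib.Helper22.ResIRel
import Groth.Agent.Lib.Helper22.OpCx
import Mathlib.CategoryTheory.Abelian.Opposite
import Groth.Agent.S0970

/-!
# Relative left resolutions and special direct systems of left resolutions

Helper library (helper22): the duals of `ResIRel.generalRel` and `ResISys`, obtained by passing to
the opposite category.
-/

set_option autoImplicit false
universe v u
open CategoryTheory CategoryTheory.Limits Opposite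
open Groth.Agent.Helper22.OpCx

namespace Groth.Agent.Helper22.ResPSys

variable {A : Type u} [Category.{v} A] [Abelian A]

/-- The unopposite of a biproduct is a biproduct. -/
noncomputable def unopBiprodIso (X Y : Aᵒᵖ) : unop (X ⊞ Y) ≅ unop X ⊞ unop Y where
  hom := biprod.lift (biprod.inl : X ⟶ X ⊞ Y).unop (biprod.inr : Y ⟶ X ⊞ Y).unop
  inv := biprod.desc (biprod.fst : X ⊞ Y ⟶ X).unop (biprod.snd : X ⊞ Y ⟶ Y).unop
  hom_inv_id := by
    rw [biprod.lift_desc, ← unop_comp, ← unop_comp, ← unop_add, biprod.total, unop_id]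
  inv_hom_id := by
    apply biprod.hom_ext <;> apply biprod.hom_ext' <;>
      simp only [Category.assoc, biprod.lift_fst, biprod.lift_snd, biprod.inl_desc_assoc,
        biprod.inr_desc_assoc, Category.id_comp, biprod.inl_fst, biprod.inl_snd, biprod.inr_fst,
        biprod.inr_snd, ← unop_comp, unop_id, unop_zero]

lemma retr_comp {X Y X' : A} (q : X ⟶ Y) (r : Y ⟶ X) (h : q ≫ r = 𝟙 X) (α : X' ⟶ X)
    (β : X ⟶ X') (hαβ : α ≫ β = 𝟙 X') : (α ≫ q) ≫ (r ≫ β) = 𝟙 X' := by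
  rw [Category.assoc, ← Category.assoc q, h, Category.id_comp, hαβ]

lemma coker_iso_comp (P : ObjectProperty A) [P.IsClosedUnderIsomorphisms] {X' X Y : A}
    (α : X' ⟶ X) (q : X ⟶ Y) (hα : IsIso α) (h : P (cokernel q)) : P (cokernel (α ≫ q)) :=
  P.prop_of_iso (cokernelEpiComp α q).symm h

lemma generalRelDual (P : ObjectProperty A) [P.IsClosedUnderIsomorphisms]
    (hP0 : ∃ Z : A, IsZero Z ∧ P Z) (hPsum : ∀ X Y : A, P X → P Y → P (X ⊞ Y))
    (hP : ∀ X : A, ∃ (Y : A) (π : Y ⟶ X), P Y ∧ Epi π)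
    {Q L : CochainComplex A ℤ} (f : Q ⟶ L) (b : ℤ) [L.IsStrictlyLE b] [Q.IsStrictlyLE b]
    (hQ : ∀ i, P (Q.X i)) :
    ∃ (J : CochainComplex A ℤ) (ι : Q ⟶ J) (j : J ⟶ L), J.IsStrictlyLE b ∧ (∀ i, P (J.X i)) ∧
      (∀ i, Epi (j.f i)) ∧ QuasiIso j ∧
      (∀ i, (∃ r : J.X i ⟶ Q.X i, ι.f i ≫ r = 𝟙 _) ∧ P (cokernel (ι.f i))) ∧ ι ≫ j = f := by
  haveI : (opCx L).IsStrictlyGE (-b) := opCx_isStrictlyGE L b (-b) (by omega)
  haveI : (opCx Q).IsStrictlyGE (-b) := opCx_isStrictlyGE Q b (-b) (by omega)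
  let I' : ObjectProperty Aᵒᵖ := fun X => P (unop X)
  haveI : I'.IsClosedUnderIsomorphisms := ⟨fun {X Y} e hX => P.prop_of_iso e.symm.unop hX⟩
  obtain ⟨Z, hZ, hPZ⟩ := hP0
  obtain ⟨J', j', p, h1, h2, h3, h4, h5, h6⟩ := ResIRel.generalRel (opMap f) I'
    ⟨op Z, hZ.op, hPZ⟩
    (fun X Y hX hY => P.prop_of_iso (unopBiprodIso X Y).symm (hPsum _ _ hX hY))
    (fun X => by
      obtain ⟨Y, π, hY, hπ⟩ := hP (unop X)
      exact ⟨op Y, (show X ⟶ op Y from π.op), hY, (inferInstance : Mono π.op)⟩)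
    (-b) (fun i => hQ (-i))
  haveI := h1
  haveI := h4
  have hcomp : ((η Q).inv ≫ unopMap p) ≫ unopMap j' ≫ (η L).hom = f := by
    rw [Category.assoc, ← Category.assoc (unopMap p), ← unopMap_comp, h6, OpCx.η_naturality,
      ← Category.assoc, Iso.inv_hom_id, Category.id_comp]
  refine ⟨unopCx J', (η Q).inv ≫ unopMap p, unopMap j' ≫ (η L).hom,
    unopCx_isStrictlyLE J' (-b) b (by omega), fun i => h2 (-i), fun i => ?_, ?_, fun i => ?_,
    hcomp⟩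
  · have e1 : (unopMap j' ≫ (η L).hom).f i = (j'.f (-i)).unop ≫ ((η L).hom.f i) := rfl
    rw [e1]
    haveI := h3 (-i)
    have hE1 : Epi (j'.f (-i)).unop := unop_epi_of_mono (j'.f (-i))
    have hI2 : IsIso ((η L).hom.f i) := inferInstance
    have hE2 : Epi ((η L).hom.f i) := inferInstance
    exact epi_comp' hE1 hE2
  · haveI := quasiIso_unopMap j'
    infer_instance
  · obtain ⟨⟨σ, hσ⟩, hk⟩ := h5 (-i)
    have e1 : ((η Q).inv ≫ unopMap p).f i = (η Q).inv.f i ≫ (p.f (-i)).unop := rfl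
    have hid : (η Q).inv.f i ≫ (η Q).hom.f i = 𝟙 _ :=
      congrArg (fun t : Q ⟶ Q => t.f i) (η Q).inv_hom_id
    have hσ' : (p.f (-i)).unop ≫ σ.unop = 𝟙 _ := by
      rw [← unop_comp, hσ, unop_id]
    refine ⟨⟨σ.unop ≫ (η Q).hom.f i, ?_⟩, ?_⟩
    · rw [e1]
      exact retr_comp _ _ hσ' _ _ hid
    · rw [e1]
      have hiso : IsIso ((η Q).inv.f i) := inferInstance
      have hk' : P (cokernel (p.f (-i)).unop) :=
        P.prop_of_iso (cokernelUnopUnop (p.f (-i))).symm hk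
      exact coker_iso_comp P _ _ hiso hk'

lemma exists_truncLE_map (K : CochainComplex A ℤ) (m n : ℤ) (h : m ≤ n) :
    ∃ c : K.truncLE m ⟶ K.truncLE n, c ≫ K.ιTruncLE n = K.ιTruncLE m := by
  haveI : (K.truncLE m).IsStrictlyLE n := CochainComplex.isStrictlyLE_of_le _ m n h
  refine ⟨inv ((K.truncLE m).ιTruncLE n) ≫ CochainComplex.truncLEMap (K.ιTruncLE m) n, ?_⟩
  rw [Category.assoc, CochainComplex.ιTruncLE_naturality, ← Category.assoc, IsIso.inv_hom_id,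
    Category.id_comp]

variable (P : ObjectProperty A) (K : CochainComplex A ℤ)

/-- The data at stage `n`. -/
structure St (n : ℕ) where
  /-- the resolution -/
  Q : CochainComplex A ℤ
  /-- the resolution map -/
  π : Q ⟶ K.truncLE (n : ℤ)
  qis : QuasiIso π
  epi : ∀ i, Epi (π.f i)
  bdd : Q.IsStrictlyLE (n : ℤ)
  mem : ∀ i, P (Q.X i)

variable [P.IsClosedUnderIsomorphisms]
  (hP0 : ∃ Z : A, IsZero Z ∧ P Z) (hPsum : ∀ X Y : A, P X → P Y → P (X ⊞ Y))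
  (hP : ∀ X : A, ∃ (Y : A) (π : Y ⟶ X), P Y ∧ Epi π)

include hP0 hP in
omit [P.IsClosedUnderIsomorphisms] in
lemma base : Nonempty (St P K 0) := by
  obtain ⟨L, α, h1, h2, h3, h4⟩ :=
    Groth.Agent.S0970.result P hP0 hP (K.truncLE ((0 : ℕ) : ℤ)) ((0 : ℕ) : ℤ)
  exact ⟨⟨L, α, h4, h3, h1, h2⟩⟩

include hP0 hPsum hP in
lemma step (n : ℕ) (s : St P K n) :
    ∃ (s' : St P K (n + 1)) (ι : s.Q ⟶ s'.Q),
      (∀ i, (∃ r : s'.Q.X i ⟶ s.Q.X i, ι.f i ≫ r = 𝟙 _) ∧ P (cokernel (ι.f i))) ∧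
      s.π ≫ K.ιTruncLE (n : ℤ) = ι ≫ s'.π ≫ K.ιTruncLE ((n + 1 : ℕ) : ℤ) := by
  obtain ⟨c, hc⟩ := exists_truncLE_map K (n : ℤ) ((n + 1 : ℕ) : ℤ) (by push_cast; omega)
  haveI := s.bdd
  haveI : s.Q.IsStrictlyLE ((n + 1 : ℕ) : ℤ) :=
    CochainComplex.isStrictlyLE_of_le _ (n : ℤ) ((n + 1 : ℕ) : ℤ) (by push_cast; omega)
  obtain ⟨J, ι, j, h1, h2, h3, h4, h5, h6⟩ :=
    generalRelDual P hP0 hPsum hP (s.π ≫ c) ((n + 1 : ℕ) : ℤ) s.mem
  refine ⟨⟨J, j, h4, h3, h1, h2⟩, ι, h5, ?_⟩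
  show s.π ≫ K.ιTruncLE (n : ℤ) = ι ≫ j ≫ K.ιTruncLE ((n + 1 : ℕ) : ℤ)
  rw [← Category.assoc, h6, Category.assoc, hc]

/-- A choice of stages. -/
noncomputable def seq : ∀ n : ℕ, St P K n
  | 0 => (base P K hP0 hP).some
  | n + 1 => (step P K hP0 hPsum hP n (seq n)).choose

lemma seq_succ (n : ℕ) :
    ∃ (ι : (seq P K hP0 hPsum hP n).Q ⟶ (seq P K hP0 hPsum hP (n + 1)).Q),
      (∀ i, (∃ r : (seq P K hP0 hPsum hP (n + 1)).Q.X i ⟶ (seq P K hP0 hPsum hP n).Q.X i,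
        ι.f i ≫ r = 𝟙 _) ∧ P (cokernel (ι.f i))) ∧
      (seq P K hP0 hPsum hP n).π ≫ K.ιTruncLE (n : ℤ) =
        ι ≫ (seq P K hP0 hPsum hP (n + 1)).π ≫ K.ιTruncLE ((n + 1 : ℕ) : ℤ) :=
  (step P K hP0 hPsum hP n (seq P K hP0 hPsum hP n)).choose_spec

end Groth.Agent.Helper22.ResPSys
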