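import Groth.Agent.Lib.Helper22.RootDPos

/-!
Simple systems from rational cone conditions.
-/

namespace Groth.Agent.Helper22.RootDCone

open RootD
open Groth.Agent.Helper22.RootDLib Groth.Agent.Helper22.RootDSimple Groth.Agent.Helper22.RootDPos

variable {ι M N : Type*} [AddCommGroup M] [AddCommGroup N] (P : RootPairing ι ℤ M N)

/-- The rationally positive roots with respect to `Δ`. -/
def ratPos (Δ : Set ι) : Set ι := {k | ∃ n : ℕ, 0 < n ∧ n • P.root k ∈ natSpan P Δ}

lemma subset_ratPos (Δ : Set ι) : Δ ⊆ ratPos P Δ := fun d hd =>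
  ⟨1, one_pos, by rw [one_smul]; exact root_mem_natSpan P Δ hd⟩

lemma exists_nsmul_mem (Δ : Set ι) :
    ∀ x ∈ natSpan P (ratPos P Δ), ∃ m : ℕ, 0 < m ∧ m • x ∈ natSpan P Δ := by
  intro x hx
  unfold natSpan at hx
  induction hx using AddSubmonoid.closure_induction with
  | mem x hx =>
    obtain ⟨i, hi, rfl⟩ := hx
    exact hi
  | zero => exact ⟨1, one_pos, by rw [smul_zero]; exact zero_mem _⟩
  | add a b _ _ iha ihb =>
    obtain ⟨m₁, hm₁, h₁⟩ := iha
    obtain ⟨m₂, hm₂, h₂⟩ := ihb
    refine ⟨m₁ * m₂, Nat.mul_pos hm₁ hm₂, ?_⟩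
    have : (m₁ * m₂) • (a + b) = m₂ • (m₁ • a) + m₁ • (m₂ • b) := by
      rw [smul_add, mul_comm m₁ m₂, mul_smul, mul_comm m₂ m₁, mul_smul]
    rw [this]
    exact add_mem (AddSubmonoid.nsmul_mem _ h₁ _) (AddSubmonoid.nsmul_mem _ h₂ _)

theorem isPosSys_ratPos (Δ : Set ι) (hli : LinearIndepOn ℤ P.root Δ)
    (hcone : ∀ k : ι, ∃ n : ℕ, 0 < n ∧
      (n • P.root k ∈ natSpan P Δ ∨ n • (-P.root k) ∈ natSpan P Δ)) :
    IsPosSys P (ratPos P Δ) := by
  refine ⟨?_, ?_, ?_⟩
  · rintro k ⟨n, hn, hnk⟩ ⟨m, hm, hmk⟩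
    rw [root_reflectionPerm_self] at hmk
    have h1 : 1 • ((n * m) • P.root k) ∈ natSpan P Δ := by
      rw [one_smul, mul_comm, mul_smul]
      exact AddSubmonoid.nsmul_mem _ hnk _
    have h2 : -((n * m) • P.root k) ∈ natSpan P Δ := by
      rw [← smul_neg, mul_smul]
      exact AddSubmonoid.nsmul_mem _ hmk _
    have h3 := eq_zero_of_nsmul_mem_of_neg_mem P hli 1 one_pos h1 h2
    exact P.ne_zero k (torsionFree P (Nat.mul_pos hn hm) h3)
  · intro k
    obtain ⟨n, hn, h | h⟩ := hcone k
    · exact Or.inl ⟨n, hn, h⟩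
    · right
      refine ⟨n, hn, ?_⟩
      rw [root_reflectionPerm_self]
      exact h
  · intro k n hn hk
    obtain ⟨m, hm, hmk⟩ := exists_nsmul_mem P Δ _ hk
    exact ⟨m * n, Nat.mul_pos hm hn, by rw [mul_smul]; exact hmk⟩

lemma prop_cases {i d : ι} {a b : ℕ} (ha : 0 < a) (hb : 0 < b)
    (h : a • P.root i = b • P.root d) :
    (2 : ℤ) • P.root i = P.root d ∨ P.root i = P.root d ∨ P.root i = (2 : ℤ) • P.root d := by
  have h1 := congrArg (fun x => P.toLinearMap x (P.coroot d)) h
  have h2 := congrArg (fun x => P.toLinearMap x (P.coroot i)) h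
  simp only [map_nsmul, LinearMap.smul_apply, P.root_coroot_eq_pairing, P.pairing_same,
    nsmul_eq_mul] at h1 h2
  -- h1 : a * pairing i d = b * 2 ; h2 : a * 2 = b * pairing d i
  have ha' : (0 : ℤ) < a := by exact_mod_cast ha
  have hb' : (0 : ℤ) < b := by exact_mod_cast hb
  set p := P.pairing i d with hp
  set p' := P.pairing d i with hp'
  have hpp : p * p' = 4 := by
    have h3 : ((a : ℤ) * b) * (p * p') = ((a : ℤ) * b) * 4 := by
      calc ((a : ℤ) * b) * (p * p') = (a * p) * (b * p') := by ring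
        _ = (b * 2) * (a * 2) := by rw [h1, h2]
        _ = ((a : ℤ) * b) * 4 := by ring
    exact mul_left_cancel₀ (mul_pos ha' hb').ne' h3
  have hppos : 0 < p := by
    by_contra hneg
    rw [not_lt] at hneg
    have : (a : ℤ) * p ≤ 0 := mul_nonpos_of_nonneg_of_nonpos ha'.le hneg
    rw [h1] at this
    linarith
  have hp'pos : 0 < p' := by
    by_contra hneg
    rw [not_lt] at hneg
    have : p * p' ≤ 0 := mul_nonpos_of_nonneg_of_nonpos hppos.le hneg
    rw [hpp] at this
    linarith
  have hple : p ≤ 4 := by nlinarith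
  have hcases : (p = 1 ∧ p' = 4) ∨ (p = 2 ∧ p' = 2) ∨ (p = 4 ∧ p' = 1) := by
    interval_cases p <;> omega
  rcases hcases with ⟨hp1, -⟩ | ⟨hp2, -⟩ | ⟨hp4, -⟩
  · left
    rw [hp1, mul_one] at h1
    have hab : a = b * 2 := by exact_mod_cast h1
    rw [hab, mul_smul] at h
    have := nsmul_cancel P hb h
    rw [← this]
    norm_num [two_smul]
  · right; left
    rw [hp2] at h1
    have hab : a = b := by
      have : (a : ℤ) = b := by linarith
      exact_mod_cast this
    rw [hab] at h
    exact nsmul_cancel P hb h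
  · right; right
    rw [hp4] at h1
    have hab : b = a * 2 := by
      have : (b : ℤ) = a * 2 := by linarith
      exact_mod_cast this
    rw [hab, mul_smul] at h
    have := nsmul_cancel P ha h
    rw [this]
    norm_num [two_smul]

theorem indec_ratPos_subset [Finite ι] (Δ : Set ι) (hind : ∀ i ∈ Δ, IsIndiv P i)
    (hli : LinearIndepOn ℤ P.root Δ)
    (hcone : ∀ k : ι, ∃ n : ℕ, 0 < n ∧
      (n • P.root k ∈ natSpan P Δ ∨ n • (-P.root k) ∈ natSpan P Δ)) :
    Indec P (ratPos P Δ) ⊆ Δ := by
  classical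
  have : Fintype ι := Fintype.ofFinite ι
  have hS := isPosSys_ratPos P Δ hli hcone
  rintro k ⟨⟨m, hm, hmk⟩, hkind⟩
  obtain ⟨c, hc1, hc2, hc3⟩ := exists_rep' P Δ hmk
  have hkk : 0 < P.RootForm (P.root k) (P.root k) :=
    P.rootForm_pos_of_ne_zero (Submodule.subset_span (Set.mem_range_self k)) (P.ne_zero k)
  have hpos : 0 < P.RootForm (P.root k) (LC P c) := by
    rw [hc3, map_nsmul, nsmul_eq_mul]
    have : (0 : ℤ) < m := by exact_mod_cast hm
    positivity
  rw [rootForm_LC_right] at hpos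
  obtain ⟨d, hd, hdpos⟩ : ∃ d ∈ c.support, 0 < c d * P.RootForm (P.root k) (P.root d) := by
    by_contra hno
    push Not at hno
    have : c.sum (fun i a => a * P.RootForm (P.root k) (P.root i)) ≤ 0 :=
      Finset.sum_nonpos fun i hi => hno i hi
    linarith
  have hcd : 0 < c d := lt_of_le_of_ne (hc2 d) (Ne.symm (Finsupp.mem_support_iff.mp hd))
  have hRF : 0 < P.RootForm (P.root k) (P.root d) := (mul_pos_iff_of_pos_left hcd).mp hdpos
  have hdΔ : d ∈ Δ := hc1 hd
  have hpair : 0 < P.pairing k d := by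
    by_contra hneg
    rw [not_lt] at hneg
    have := rootForm_root_root_le_zero P hneg
    linarith
  by_cases hkd : k = d
  · rw [hkd]; exact hdΔ
  exfalso
  have hpos' : 0 < P.pairingIn ℤ k d := by
    have := P.algebraMap_pairingIn ℤ k d
    simp only [Algebra.algebraMap_self, RingHom.id_apply] at this
    rw [this]; exact hpair
  obtain ⟨k', hk'⟩ := P.root_sub_root_mem_of_pairingIn_pos hpos' hkd
  rcases hS.cover k' with h | h
  · exact hkind ⟨d, k', subset_ratPos P Δ hdΔ, h, by rw [hk']; abel⟩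
  · obtain ⟨m', hm', hmk'⟩ := h
    obtain ⟨c', hc1', hc2', hc3'⟩ := exists_rep' P Δ hmk'
    have heq : LC P ((m' : ℤ) • c + (m : ℤ) • c') =
        LC P (Finsupp.single d (((m * m' : ℕ) : ℤ))) := by
      rw [map_add, map_smul, map_smul, hc3, hc3', LC_single, root_reflectionPerm_self, hk']
      simp only [natCast_zsmul]
      module
    have hfg : (m' : ℤ) • c + (m : ℤ) • c' = Finsupp.single d (((m * m' : ℕ) : ℤ)) := by
      apply linearIndepOn_iffₛ.mp hli _ _ _ _ heq
      · rw [Finsupp.mem_supported]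
        intro j hj
        rcases Finset.mem_union.mp (Finsupp.support_add hj) with h1 | h1
        · exact hc1 (Finsupp.support_smul h1)
        · exact hc1' (Finsupp.support_smul h1)
      · rw [Finsupp.mem_supported]
        intro j hj
        have := Finsupp.support_single_subset hj
        rw [Finset.mem_singleton] at this
        rw [this]; exact hdΔ
    have hce : ∀ e, e ≠ d → c e = 0 := by
      intro e he
      have h1 := DFunLike.congr_fun hfg e
      rw [Finsupp.add_apply, Finsupp.smul_apply, Finsupp.smul_apply, smul_eq_mul, smul_eq_mul,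
        Finsupp.single_eq_of_ne he] at h1
      have h2 := hc2 e
      have h3 := hc2' e
      have hmz' : (0 : ℤ) < m' := by exact_mod_cast hm'
      have hmz : (0 : ℤ) < m := by exact_mod_cast hm
      nlinarith
    have hcsingle : c = Finsupp.single d (c d) := by
      ext e
      by_cases he : e = d
      · rw [he, Finsupp.single_eq_same]
      · rw [hce e he, Finsupp.single_eq_of_ne he]
    have hprop : m • P.root k = (c d).toNat • P.root d := by
      rw [← hc3, hcsingle, LC_single, Finsupp.single_eq_same]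
      conv_lhs => rw [← Int.toNat_of_nonneg hcd.le]
      rw [natCast_zsmul]
    have htn : 0 < (c d).toNat := by omega
    rcases prop_cases P hm htn hprop with h1 | h1 | h1
    · exact hind d hdΔ k h1
    · exact hkd (P.root.injective h1)
    · exact hkind ⟨d, d, subset_ratPos P Δ hdΔ, subset_ratPos P Δ hdΔ, by rw [h1, two_smul]⟩

theorem isSimpleSys_of_cone [Finite ι] (Δ : Set ι) (hind : ∀ i ∈ Δ, IsIndiv P i)
    (hli : LinearIndepOn ℤ P.root Δ)
    (hcone : ∀ k : ι, ∃ n : ℕ, 0 < n ∧
      (n • P.root k ∈ natSpan P Δ ∨ n • (-P.root k) ∈ natSpan P Δ)) :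
    IsSimpleSys P Δ := by
  have hS := isPosSys_ratPos P Δ hli hcone
  have hsub := indec_ratPos_subset P Δ hind hli hcone
  have hle : natSpan P (Indec P (ratPos P Δ)) ≤ natSpan P Δ :=
    AddSubmonoid.closure_mono (Set.image_mono hsub)
  refine ⟨hli, fun i => ?_⟩
  rcases hS.cover i with h | h
  · exact Or.inl (hle (root_mem_natSpan_indec hS i h))
  · right
    have := hle (root_mem_natSpan_indec hS _ h)
    rwa [root_reflectionPerm_self] at this

end Groth.Agent.Helper22.RootDCone
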