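import Groth.Prelude.Def_W4sga3xxiRoot
import Mathlib.LinearAlgebra.RootSystem.Finite.Lemmas

/-!
Helper lemmas on systems of simple roots (root-only sense).
-/

namespace Groth.Agent.Helper22.RootDLib

open RootD

variable {ι M N : Type*} [AddCommGroup M] [AddCommGroup N] (P : RootPairing ι ℤ M N)

lemma root_reflectionPerm_self (i : ι) : P.root (P.reflectionPerm i i) = -P.root i := by
  rw [← P.reflectionPerm_root i i, P.root_coroot_two, two_smul]
  abel

/-- The linear combination map of the roots indexed by `Δ`. -/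
noncomputable abbrev L (Δ : Set ι) : (Δ →₀ ℤ) →ₗ[ℤ] M :=
  Finsupp.linearCombination ℤ (fun d : Δ => P.root d)

lemma L_single (Δ : Set ι) (d : Δ) : L P Δ (Finsupp.single d 1) = P.root d := by
  simp [L]

lemma exists_rep_of_mem_natSpan (Δ : Set ι) {x : M} (hx : x ∈ natSpan P Δ) :
    ∃ c : Δ →₀ ℤ, (∀ d, 0 ≤ c d) ∧ L P Δ c = x := by
  classical
  unfold natSpan at hx
  induction hx using AddSubmonoid.closure_induction with
  | mem x hx =>
    obtain ⟨d, hd, rfl⟩ := hx
    refine ⟨Finsupp.single ⟨d, hd⟩ 1, fun e => ?_, L_single P Δ ⟨d, hd⟩⟩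
    rw [Finsupp.single_apply]
    split_ifs <;> norm_num
  | zero => exact ⟨0, fun _ => le_rfl, map_zero _⟩
  | add x y _ _ hx hy =>
    obtain ⟨c, hc, rfl⟩ := hx
    obtain ⟨c', hc', rfl⟩ := hy
    exact ⟨c + c', fun d => add_nonneg (hc d) (hc' d), map_add _ _ _⟩

lemma root_mem_natSpan (Δ : Set ι) {d : ι} (hd : d ∈ Δ) : P.root d ∈ natSpan P Δ :=
  AddSubmonoid.subset_closure ⟨d, hd, rfl⟩

lemma injective_L {Δ : Set ι} (hli : LinearIndepOn ℤ P.root Δ) : Function.Injective (L P Δ) :=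
  hli

/-- If `n • x` and `-x` are both non-negative combinations of linearly independent simple roots
(with `n > 0`), then `x = 0`. -/
lemma eq_zero_of_nsmul_mem_of_neg_mem {Δ : Set ι} (hli : LinearIndepOn ℤ P.root Δ) {x : M}
    (n : ℕ) (hn : 0 < n) (h1 : n • x ∈ natSpan P Δ) (h2 : -x ∈ natSpan P Δ) : x = 0 := by
  obtain ⟨c, hc, hcx⟩ := exists_rep_of_mem_natSpan P Δ h1
  obtain ⟨c', hc', hcx'⟩ := exists_rep_of_mem_natSpan P Δ h2
  have h0 : L P Δ (c + (n : ℤ) • c') = L P Δ 0 := by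
    rw [map_add, map_smul, hcx, hcx', map_zero]
    simp
  have h3 := injective_L P hli h0
  have h4 : c' = 0 := by
    ext d
    have h5 := DFunLike.congr_fun h3 d
    simp only [Finsupp.coe_add, Finsupp.coe_smul, Pi.add_apply, Pi.smul_apply, smul_eq_mul,
      Finsupp.coe_zero, Pi.zero_apply] at h5
    have h6 := hc d
    have h7 := hc' d
    have h8 : (0 : ℤ) < n := by exact_mod_cast hn
    simp only [Finsupp.coe_zero, Pi.zero_apply]
    nlinarith
  rw [h4, map_zero] at hcx'
  exact neg_eq_zero.mp hcx'.symm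

lemma exists_simple_sub_mem (Δ : Set ι) (y : N) :
    ∀ x ∈ natSpan P Δ, 0 < P.toLinearMap x y →
      ∃ d ∈ Δ, 0 < P.toLinearMap (P.root d) y ∧ x - P.root d ∈ natSpan P Δ := by
  intro x hx
  unfold natSpan at hx ⊢
  induction hx using AddSubmonoid.closure_induction with
  | mem x hx =>
    intro hpos
    obtain ⟨d, hd, rfl⟩ := hx
    exact ⟨d, hd, hpos, by rw [sub_self]; exact zero_mem _⟩
  | zero =>
    intro hpos
    simp at hpos
  | add x z hx hz ihx ihz =>
    intro hpos
    rw [map_add, LinearMap.add_apply] at hpos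
    rcases lt_or_ge 0 (P.toLinearMap x y) with h | h
    · obtain ⟨d, hd, hdp, hmem⟩ := ihx h
      exact ⟨d, hd, hdp, by rw [add_sub_right_comm]; exact add_mem hmem hz⟩
    · have h' : 0 < P.toLinearMap z y := by linarith
      obtain ⟨d, hd, hdp, hmem⟩ := ihz h'
      exact ⟨d, hd, hdp, by rw [add_sub_assoc]; exact add_mem hx hmem⟩

end Groth.Agent.Helper22.RootDLib
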