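import Groth.Agent.Lib.Helper22.RootDSimple

/-!
Systems of positive roots: indecomposable elements form a system of simple roots.
-/

namespace Groth.Agent.Helper22.RootDPos

open RootD
open Groth.Agent.Helper22.RootDLib Groth.Agent.Helper22.RootDSimple

variable {ι M N : Type*} [AddCommGroup M] [AddCommGroup N] (P : RootPairing ι ℤ M N)

/-- The indecomposable elements of a set of roots. -/
def Indec (S : Set ι) : Set ι :=
  {k | k ∈ S ∧ ¬ ∃ i j : ι, i ∈ S ∧ j ∈ S ∧ P.root k = P.root i + P.root j}

lemma indec_subset (S : Set ι) : Indec P S ⊆ S := fun _ hk => hk.1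

include P in
lemma torsionFree {n : ℕ} (hn : 0 < n) {x : M} (h : n • x = 0) : x = 0 := by
  have hinj : Function.Injective P.toLinearMap :=
    (LinearMap.IsPerfPair.bijective_left P.toLinearMap).1
  apply hinj
  rw [map_zero]
  ext y
  have h1 : P.toLinearMap (n • x) y = 0 := by rw [h]; simp
  rw [map_nsmul, LinearMap.smul_apply, nsmul_eq_mul] at h1
  have hn' : (n : ℤ) ≠ 0 := by exact_mod_cast hn.ne'
  rcases mul_eq_zero.mp h1 with h2 | h2
  · exact absurd h2 hn'
  · simpa using h2

include P in
lemma nsmul_cancel {n : ℕ} (hn : 0 < n) {x y : M} (h : n • x = n • y) : x = y := by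
  have : n • (x - y) = 0 := by rw [smul_sub, h, sub_self]
  exact sub_eq_zero.mp (torsionFree P hn this)

lemma exists_rep' (Δ : Set ι) {x : M} (hx : x ∈ natSpan P Δ) :
    ∃ c : ι →₀ ℤ, (↑c.support : Set ι) ⊆ Δ ∧ (∀ j, 0 ≤ c j) ∧ LC P c = x := by
  classical
  unfold natSpan at hx
  induction hx using AddSubmonoid.closure_induction with
  | mem x hx =>
    obtain ⟨d, hd, rfl⟩ := hx
    refine ⟨Finsupp.single d 1, ?_, fun e => ?_, ?_⟩
    · intro j hj
      have := Finsupp.support_single_subset hj
      rw [Finset.mem_singleton] at this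
      rw [this]; exact hd
    · rw [Finsupp.single_apply]
      split_ifs <;> norm_num
    · rw [LC_single, one_smul]
  | zero => exact ⟨0, by simp, fun _ => le_rfl, map_zero _⟩
  | add x y _ _ hx hy =>
    obtain ⟨c, hc1, hc2, rfl⟩ := hx
    obtain ⟨c', hc1', hc2', rfl⟩ := hy
    refine ⟨c + c', ?_, fun d => add_nonneg (hc2 d) (hc2' d), map_add _ _ _⟩
    intro j hj
    rcases Finset.mem_union.mp (Finsupp.support_add hj) with h1 | h1
    · exact hc1 h1
    · exact hc1' h1

section PosSys

variable {P} {S : Set ι}

lemma eq_zero_or_add_ne_zero (hS : IsPosSys P S) :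
    ∀ x ∈ natSpan P S, x = 0 ∨ ∀ y ∈ natSpan P S, x + y ≠ 0 := by
  intro x hx
  unfold natSpan at hx
  induction hx using AddSubmonoid.closure_induction with
  | mem x hx =>
    obtain ⟨i, hi, rfl⟩ := hx
    right
    intro y hy h0
    apply hS.disjoint hi
    apply hS.sat 1 one_pos
    rw [one_smul, root_reflectionPerm_self]
    have : y = -P.root i := by
      rw [eq_neg_iff_add_eq_zero, add_comm]; exact h0
    rw [← this]; exact hy
  | zero => exact Or.inl rfl
  | add a b ha hb iha ihb =>
    rcases iha with rfl | iha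
    · rcases ihb with rfl | ihb
      · left; rw [add_zero]
      · right
        intro y hy
        rw [zero_add]; exact ihb y hy
    · right
      intro y hy
      rw [add_assoc]
      exact iha (b + y) (add_mem hb hy)

lemma pointed (hS : IsPosSys P S) {x : M} (hx : x ∈ natSpan P S) (hx' : -x ∈ natSpan P S) :
    x = 0 := by
  rcases eq_zero_or_add_ne_zero hS x hx with h | h
  · exact h
  · exact absurd (add_neg_cancel x) (h (-x) hx')

lemma root_mem_natSpan_indec [Finite ι] (hS : IsPosSys P S) :
    ∀ k, k ∈ S → P.root k ∈ natSpan P (Indec P S) := by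
  classical
  let r : ι → ι → Prop := fun i k => P.root k - P.root i ∈ natSpan P S ∧ P.root k ≠ P.root i
  have : IsTrans ι r := ⟨by
    intro i k l ⟨h1, h1'⟩ ⟨h2, h2'⟩
    refine ⟨?_, ?_⟩
    · have : P.root l - P.root i = (P.root l - P.root k) + (P.root k - P.root i) := by abel
      rw [this]; exact add_mem h2 h1
    · intro heq
      apply h1'
      have h3 : -(P.root k - P.root i) ∈ natSpan P S := by
        have : -(P.root k - P.root i) = P.root l - P.root k := by rw [heq]; abel
        rw [this]; exact h2
      exact sub_eq_zero.mp (pointed hS h1 h3)⟩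
  have : Std.Irrefl r := ⟨fun i h => h.2 rfl⟩
  have hwf : WellFounded r := Finite.wellFounded_of_trans_of_irrefl r
  intro k
  induction k using hwf.induction with
  | _ k ih =>
    intro hk
    by_cases hind : k ∈ Indec P S
    · exact AddSubmonoid.subset_closure ⟨k, hind, rfl⟩
    · have : ∃ i j : ι, i ∈ S ∧ j ∈ S ∧ P.root k = P.root i + P.root j := by
        by_contra hno
        exact hind ⟨hk, hno⟩
      obtain ⟨i, j, hi, hj, hij⟩ := this
      have hri : r i k := by
        refine ⟨?_, ?_⟩
        · rw [hij, add_sub_cancel_left]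
          exact AddSubmonoid.subset_closure ⟨j, hj, rfl⟩
        · rw [hij]
          intro h
          exact P.ne_zero j (by simpa using h)
      have hrj : r j k := by
        refine ⟨?_, ?_⟩
        · rw [hij, add_sub_cancel_right]
          exact AddSubmonoid.subset_closure ⟨i, hi, rfl⟩
        · rw [hij]
          intro h
          exact P.ne_zero i (by simpa using h)
      rw [hij]
      exact add_mem (ih i hri hi) (ih j hrj hj)

lemma pairing_le_zero_of_indec [Finite ι] (hS : IsPosSys P S) :
    ∀ d ∈ Indec P S, ∀ d' ∈ Indec P S, d ≠ d' → P.pairing d d' ≤ 0 := by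
  intro d hd d' hd' hne
  by_contra hpos
  rw [not_le] at hpos
  have hpos' : 0 < P.pairingIn ℤ d d' := by
    have := P.algebraMap_pairingIn ℤ d d'
    simp only [Algebra.algebraMap_self, RingHom.id_apply] at this
    rw [this]; exact hpos
  obtain ⟨k, hk⟩ := P.root_sub_root_mem_of_pairingIn_pos hpos' hne
  rcases hS.cover k with hkS | hkS
  · apply hd.2
    exact ⟨d', k, hd'.1, hkS, by rw [hk]; abel⟩
  · apply hd'.2
    exact ⟨d, _, hd.1, hkS, by rw [root_reflectionPerm_self, hk]; abel⟩

theorem isSimpleSys_indec [Finite ι] (hS : IsPosSys P S) : IsSimpleSys P (Indec P S) := by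
  classical
  refine ⟨linearIndepOn_of_pairing_le_zero P _ (pairing_le_zero_of_indec hS) ?_, ?_⟩
  · intro p hp1 hp2 hp3
    by_contra hne
    obtain ⟨d₀, hd₀⟩ := Finsupp.support_nonempty_iff.mpr hne
    have hd₀S : d₀ ∈ S := indec_subset P S (hp1 hd₀)
    have hpd : 1 ≤ p d₀ := by
      have h1 := hp2 d₀
      have h2 : p d₀ ≠ 0 := Finsupp.mem_support_iff.mp hd₀
      omega
    set p' : ι →₀ ℤ := p - Finsupp.single d₀ 1 with hp'
    have hp'_nonneg : ∀ j, 0 ≤ p' j := by
      intro j
      rw [hp', Finsupp.sub_apply, Finsupp.single_apply]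
      split_ifs with h
      · subst h; omega
      · have := hp2 j; omega
    have hp'_supp : (↑p'.support : Set ι) ⊆ S := by
      intro j hj
      by_cases hjd : j = d₀
      · rw [hjd]; exact hd₀S
      · apply indec_subset P S
        apply hp1
        rw [Finset.mem_coe, Finsupp.mem_support_iff] at hj ⊢
        rw [hp', Finsupp.sub_apply, Finsupp.single_eq_of_ne hjd, sub_zero] at hj
        exact hj
    have h1 : P.root d₀ + LC P p' = 0 := by
      rw [hp', map_sub, LC_single, one_smul, hp3]; abel
    rcases eq_zero_or_add_ne_zero hS (P.root d₀)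
      (AddSubmonoid.subset_closure ⟨d₀, hd₀S, rfl⟩) with h | h
    · exact P.ne_zero d₀ h
    · exact h _ (LC_mem_natSpan P S p' hp'_supp hp'_nonneg) h1
  · intro k
    rcases hS.cover k with hk | hk
    · exact Or.inl (root_mem_natSpan_indec hS k hk)
    · right
      have := root_mem_natSpan_indec hS _ hk
      rwa [root_reflectionPerm_self] at this

end PosSys

end Groth.Agent.Helper22.RootDPos
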