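import Groth.Agent.Lib.Helper22.RootDLib
import Mathlib.LinearAlgebra.RootSystem.Finite.Nondegenerate
import Mathlib.LinearAlgebra.RootSystem.Finite.Lemmas
import Mathlib.Tactic

/-!
Linear independence criteria for systems of simple roots (root-only sense).
-/

namespace Groth.Agent.Helper22.RootDSimple

open RootD

variable {ι M N : Type*} [AddCommGroup M] [AddCommGroup N] (P : RootPairing ι ℤ M N)

/-- Abbreviation for the linear combination of roots. -/
noncomputable abbrev LC : (ι →₀ ℤ) →ₗ[ℤ] M := Finsupp.linearCombination ℤ P.root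

lemma LC_single (d : ι) (z : ℤ) : LC P (Finsupp.single d z) = z • P.root d := by
  simp [LC]

lemma LC_mem_rootSpan (c : ι →₀ ℤ) : LC P c ∈ P.rootSpan ℤ := by
  rw [LC, Finsupp.linearCombination_apply]
  exact Submodule.sum_mem _ fun i _ =>
    Submodule.smul_mem _ _ (Submodule.subset_span (Set.mem_range_self i))

lemma LC_mem_natSpan (Δ : Set ι) (c : ι →₀ ℤ) (hsupp : (↑c.support : Set ι) ⊆ Δ)
    (hc : ∀ j, 0 ≤ c j) : LC P c ∈ natSpan P Δ := by
  rw [LC, Finsupp.linearCombination_apply]
  apply AddSubmonoid.sum_mem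
  intro i hi
  have h1 : c i • P.root i = (c i).toNat • P.root i := by
    conv_lhs => rw [← Int.toNat_of_nonneg (hc i)]
    rw [natCast_zsmul]
  show c i • P.root i ∈ natSpan P Δ
  rw [h1]
  have h2 : P.root i ∈ natSpan P Δ := AddSubmonoid.subset_closure ⟨i, hsupp hi, rfl⟩
  exact AddSubmonoid.nsmul_mem _ h2 _

lemma rootForm_LC_right [Fintype ι] (y : M) (c : ι →₀ ℤ) :
    P.RootForm y (LC P c) = c.sum fun i a => a * P.RootForm y (P.root i) := by
  rw [LC, Finsupp.linearCombination_apply, map_finsuppSum]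
  simp only [map_smul, smul_eq_mul]

lemma rootForm_root_root_le_zero [Fintype ι] {i j : ι} (h : P.pairing i j ≤ 0) :
    P.RootForm (P.root i) (P.root j) ≤ 0 := by
  have h1 := P.toInvariantForm.two_mul_apply_root_root i j
  simp only [RootPairing.toInvariantForm_form] at h1
  have h2 : 0 < P.RootForm (P.root j) (P.root j) :=
    P.rootForm_pos_of_ne_zero (Submodule.subset_span (Set.mem_range_self j)) (P.ne_zero j)
  nlinarith

/-- A family of roots with pairwise non-positive pairings and such that no nontrivial non-negative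
combination vanishes is linearly independent. -/
theorem linearIndepOn_of_pairing_le_zero [Finite ι] (Δ : Set ι)
    (hpair : ∀ d ∈ Δ, ∀ d' ∈ Δ, d ≠ d' → P.pairing d d' ≤ 0)
    (hpointed : ∀ p : ι →₀ ℤ, (↑p.support : Set ι) ⊆ Δ → (∀ j, 0 ≤ p j) → LC P p = 0 → p = 0) :
    LinearIndepOn ℤ P.root Δ := by
  classical
  have : Fintype ι := Fintype.ofFinite ι
  rw [linearIndepOn_iff]
  intro a ha h0
  rw [Finsupp.mem_supported] at ha
  -- positive and negative parts
  let p : ι →₀ ℤ := a.mapRange (fun z => max z 0) (by simp)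
  let m : ι →₀ ℤ := a.mapRange (fun z => max (-z) 0) (by simp)
  have hp_nonneg : ∀ j, 0 ≤ p j := fun j => by simp [p]
  have hm_nonneg : ∀ j, 0 ≤ m j := fun j => by simp [m]
  have hpm : a = p - m := by
    ext j
    simp only [p, m, Finsupp.coe_sub, Pi.sub_apply, Finsupp.mapRange_apply]
    rcases le_total (a j) 0 with h | h
    · rw [max_eq_right h, max_eq_left (by linarith)]; ring
    · rw [max_eq_left h, max_eq_right (by linarith)]; ring
  have hp_supp : (↑p.support : Set ι) ⊆ Δ := by
    intro j hj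
    apply ha
    simp only [Finset.mem_coe, Finsupp.mem_support_iff, p, Finsupp.mapRange_apply] at hj ⊢
    intro h; apply hj; rw [h]; simp
  have hm_supp : (↑m.support : Set ι) ⊆ Δ := by
    intro j hj
    apply ha
    simp only [Finset.mem_coe, Finsupp.mem_support_iff, m, Finsupp.mapRange_apply] at hj ⊢
    intro h; apply hj; rw [h]; simp
  have hdisj : ∀ j, p j ≠ 0 → m j = 0 := by
    intro j hj
    simp only [p, m, Finsupp.mapRange_apply] at hj ⊢
    rcases le_total (a j) 0 with h | h
    · exact absurd (max_eq_right h) hj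
    · exact max_eq_right (by linarith)
  have hLC : LC P p = LC P m := by
    have : LC P p - LC P m = 0 := by rw [← map_sub, ← hpm]; exact h0
    exact sub_eq_zero.mp this
  -- the key inequality
  have hA : ∀ d ∈ Δ, m d = 0 → P.RootForm (P.root d) (LC P m) ≤ 0 := by
    intro d hd hmd
    rw [rootForm_LC_right]
    apply Finset.sum_nonpos
    intro d' hd'
    have hne : d ≠ d' := by
      rintro rfl
      exact (Finsupp.mem_support_iff.mp hd') hmd
    exact mul_nonpos_of_nonneg_of_nonpos (hm_nonneg d')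
      (rootForm_root_root_le_zero P (hpair d hd d' (hm_supp hd') hne))
  have hxx : P.RootForm (LC P p) (LC P p) ≤ 0 := by
    nth_rewrite 2 [hLC]
    rw [← P.rootForm_symmetric.eq, RingHom.id_apply, rootForm_LC_right]
    apply Finset.sum_nonpos
    intro d hd
    have hpd : p d ≠ 0 := Finsupp.mem_support_iff.mp hd
    show p d * P.RootForm (LC P m) (P.root d) ≤ 0
    rw [← P.rootForm_symmetric.eq, RingHom.id_apply]
    exact mul_nonpos_of_nonneg_of_nonpos (hp_nonneg d) (hA d (hp_supp hd) (hdisj d hpd))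
  have hx0 : LC P p = 0 :=
    P.eq_zero_of_mem_rootSpan_of_rootForm_self_eq_zero (LC_mem_rootSpan P p)
      (le_antisymm hxx (P.zero_le_rootForm _))
  have hp0 : p = 0 := hpointed p hp_supp hp_nonneg hx0
  have hm0 : m = 0 := hpointed m hm_supp hm_nonneg (by rw [← hLC, hx0])
  rw [hpm, hp0, hm0, sub_zero]

theorem isSimpleSys_of_existsUnique [Finite ι] (Δ : Set ι)
    (h : ∀ k : ι, ∃! c : ι →₀ ℤ, (↑c.support ⊆ Δ ∧ ((∀ j, 0 ≤ c j) ∨ (∀ j, c j ≤ 0)) ∧
      Finsupp.linearCombination ℤ P.root c = P.root k)) :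
    IsSimpleSys P Δ ∧ ∀ i ∈ Δ, IsIndiv P i := by
  classical
  have hsupp_single : ∀ d ∈ Δ, ∀ z : ℤ, (↑(Finsupp.single d z).support : Set ι) ⊆ Δ := by
    intro d hd z j hj
    have := Finsupp.support_single_subset hj
    rw [Finset.mem_singleton] at this
    rw [this]; exact hd
  have hsingle_nonneg : ∀ d j : ι, 0 ≤ (Finsupp.single d (1 : ℤ)) j := by
    intro d j
    rw [Finsupp.single_apply]
    split_ifs <;> norm_num
  -- uniqueness against the trivial representation of a simple root
  have key : ∀ d ∈ Δ, ∀ c : ι →₀ ℤ, (↑c.support : Set ι) ⊆ Δ →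
      ((∀ j, 0 ≤ c j) ∨ (∀ j, c j ≤ 0)) → LC P c = P.root d → c = Finsupp.single d 1 := by
    intro d hd c hc1 hc2 hc3
    refine (h d).unique ⟨hc1, hc2, hc3⟩ ⟨hsupp_single d hd 1, Or.inl (hsingle_nonneg d), ?_⟩
    have := LC_single P d 1
    rwa [one_smul] at this
  have hsupp_add : ∀ c c' : ι →₀ ℤ, (↑c.support : Set ι) ⊆ Δ → (↑c'.support : Set ι) ⊆ Δ →
      (↑(c + c').support : Set ι) ⊆ Δ := by
    intro c c' hc hc' j hj
    rcases Finset.mem_union.mp (Finsupp.support_add hj) with h1 | h1
    · exact hc h1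
    · exact hc' h1
  have hpointed : ∀ p : ι →₀ ℤ, (↑p.support : Set ι) ⊆ Δ → (∀ j, 0 ≤ p j) → LC P p = 0 →
      p = 0 := by
    intro p hp1 hp2 hp3
    by_contra hne
    obtain ⟨d₀, hd₀⟩ := Finsupp.support_nonempty_iff.mpr hne
    have hd₀Δ : d₀ ∈ Δ := hp1 hd₀
    have h1 := key d₀ hd₀Δ (Finsupp.single d₀ 1 + p) (hsupp_add _ _ (hsupp_single d₀ hd₀Δ 1) hp1)
      (Or.inl fun j => add_nonneg (hsingle_nonneg d₀ j) (hp2 j))
      (by rw [map_add, hp3, add_zero, LC_single, one_smul])
    exact hne (by simpa using h1)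
  have hpair : ∀ d ∈ Δ, ∀ d' ∈ Δ, d ≠ d' → P.pairing d d' ≤ 0 := by
    intro d hd d' hd' hne
    by_contra hpos
    rw [not_le] at hpos
    have hpos' : 0 < P.pairingIn ℤ d d' := by
      have := P.algebraMap_pairingIn ℤ d d'
      simp only [Algebra.algebraMap_self, RingHom.id_apply] at this
      rw [this]; exact hpos
    obtain ⟨k, hk⟩ := P.root_sub_root_mem_of_pairingIn_pos hpos' hne
    obtain ⟨c, hc1, hc2, hc3⟩ := (h k).exists
    rcases hc2 with hc2 | hc2
    · have h1 := key d hd (Finsupp.single d' 1 + c) (hsupp_add _ _ (hsupp_single d' hd' 1) hc1)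
        (Or.inl fun j => add_nonneg (hsingle_nonneg d' j) (hc2 j))
        (by
          rw [map_add, LC_single, one_smul]
          show P.root d' + LC P c = P.root d
          rw [show LC P c = P.root k from hc3, hk]; abel)
      have h2 := DFunLike.congr_fun h1 d'
      rw [Finsupp.add_apply, Finsupp.single_eq_same, Finsupp.single_eq_of_ne (Ne.symm hne)] at h2
      have := hc2 d'
      omega
    · have h1 := key d' hd' (Finsupp.single d 1 + -c)
        (hsupp_add _ _ (hsupp_single d hd 1) (by rw [Finsupp.support_neg]; exact hc1))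
        (Or.inl fun j => add_nonneg (hsingle_nonneg d j)
          (by rw [Finsupp.neg_apply]; exact neg_nonneg.mpr (hc2 j)))
        (by
          rw [map_add, map_neg, LC_single, one_smul]
          show P.root d + -LC P c = P.root d'
          rw [show LC P c = P.root k from hc3, hk]; abel)
      have h2 := DFunLike.congr_fun h1 d
      rw [Finsupp.add_apply, Finsupp.neg_apply, Finsupp.single_eq_same,
        Finsupp.single_eq_of_ne hne] at h2
      have := hc2 d
      omega
  refine ⟨⟨linearIndepOn_of_pairing_le_zero P Δ hpair hpointed, ?_⟩, ?_⟩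
  · intro k
    obtain ⟨c, hc1, hc2, hc3⟩ := (h k).exists
    rcases hc2 with hc2 | hc2
    · left
      rw [← hc3]
      exact LC_mem_natSpan P Δ c hc1 hc2
    · right
      rw [← hc3, ← map_neg]
      exact LC_mem_natSpan P Δ (-c) (by rw [Finsupp.support_neg]; exact hc1)
        (fun j => by rw [Finsupp.neg_apply]; exact neg_nonneg.mpr (hc2 j))
  · intro i hi j hj
    obtain ⟨c, hc1, hc2, hc3⟩ := (h j).exists
    have h1 := key i hi ((2 : ℤ) • c)
      (fun x hx => hc1 (Finsupp.support_smul hx))
      (by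
        rcases hc2 with hc2 | hc2
        · left; intro x; rw [Finsupp.smul_apply, smul_eq_mul]; have := hc2 x; positivity
        · right; intro x; rw [Finsupp.smul_apply, smul_eq_mul]; have := hc2 x; linarith)
      (by
        rw [map_smul]
        show (2 : ℤ) • LC P c = P.root i
        rw [show LC P c = P.root j from hc3]; exact hj)
    have h2 := DFunLike.congr_fun h1 i
    rw [Finsupp.smul_apply, smul_eq_mul, Finsupp.single_eq_same] at h2
    omega

end Groth.Agent.Helper22.RootDSimple
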