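import Mathlib
import Groth.Prelude.Def_SchFin2

set_option autoImplicit false
set_option maxHeartbeats 400000
set_option backward.isDefEq.respectTransparency false
set_option backward.isDefEq.respectTransparency.types false

open TensorProduct SchFin SchFin.RSpace

namespace Groth.Agent.Helper22.SchH0

universe u

/-! ### degree zero cohomology is sections -/

section Gen

variable {X : RSpace.{u}} {U : Set X.pt} {R : Type u} [CommRing R]

theorem fin1_eq (i j : Fin (0 + 1)) : i = j :=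
  Fin.ext (by have := i.isLt; have := j.isLt; omega)

/-- the 0-chain at a point -/
def pt0 (q : U) : Chain U 0 :=
  { toFun := fun _ => q
    inj' := fun i j _ => fin1_eq i j
    map_rel_iff' := fun {i j} =>
      ⟨fun _ => le_of_eq (fin1_eq i j), fun _ => le_refl _⟩ }

theorem chain0_eq (σ : Chain U 0) : σ = pt0 (σ (Fin.last 0)) := by
  apply DFunLike.ext
  intro i
  have hi : i = Fin.last 0 := fin1_eq _ _
  rw [hi]
  rfl

/-- the 1-chain on two points -/
def pair1 (q q' : U) (h : q < q') : Chain U 1 :=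
  OrderEmbedding.ofStrictMono (fun i : Fin 2 => if i.val = 0 then q else q') (by
    intro i j hij
    have hij' : i.val < j.val := hij
    have hj := j.isLt
    have hi0 : i.val = 0 := by omega
    have hj0 : ¬ j.val = 0 := by omega
    show (if i.val = 0 then q else q') < (if j.val = 0 then q else q')
    rw [if_pos hi0, if_neg hj0]
    exact h)

theorem pair1_last (q q' : U) (h : q < q') : pair1 q q' h (Fin.last 1) = q' := rfl

theorem pair1_face0 (q q' : U) (h : q < q') : (pair1 q q' h).face 0 = pt0 q' := by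
  apply DFunLike.ext
  intro i
  have hi : i = 0 := fin1_eq _ _
  subst hi
  rfl

theorem pair1_face1 (q q' : U) (h : q < q') : (pair1 q q' h).face 1 = pt0 q := by
  apply DFunLike.ext
  intro i
  have hi : i = 0 := fin1_eq _ _
  subst hi
  rfl

theorem res_chain_eq (φ : Coef X U R) (c : Cochain φ X.str 0) {t : X.pt} (σ σ' : Chain U 0)
    (hσ : σ = σ') (h : (σ (Fin.last 0)).1 ≤ t) (h' : (σ' (Fin.last 0)).1 ≤ t) :
    X.res h (c σ) = X.res h' (c σ') := by
  subst hσ
  rfl

theorem cocycle_iff (φ : Coef X U R) (c : Cochain φ X.str 0) :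
    c ∈ cocycles φ X.str 0 ↔ ∀ τ : Chain U 1, c.faceVal τ 0 = c.faceVal τ 1 := by
  have key : ∀ τ : Chain U 1, (diff φ X.str 0 c) τ = c.faceVal τ 0 - c.faceVal τ 1 := by
    intro τ
    show (∑ j : Fin (0 + 2), ((-1 : ℤ) ^ (j : ℕ)) • c.faceVal τ j) = _
    rw [Fin.sum_univ_two]
    simp [sub_eq_add_neg]
  constructor
  · intro hc τ
    have h0 : diff φ X.str 0 c = 0 := hc
    have h1 := key τ
    rw [h0] at h1
    have h2 : c.faceVal τ 0 - c.faceVal τ 1 = 0 := h1.symm
    exact sub_eq_zero.1 h2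
  · intro h
    show diff φ X.str 0 c = 0
    funext τ
    rw [key τ, h τ, sub_self]
    rfl

/-- the ring map from the coefficient ring to sections -/
def coefHom (φ : Coef X U R) : R →+* X.sectRing U where
  toFun a := ⟨fun q => φ.map q a, fun q q' h => φ.compat q q' h a⟩
  map_one' := Subtype.ext (funext fun q => map_one (φ.map q))
  map_mul' a b := Subtype.ext (funext fun q => map_mul (φ.map q) a b)
  map_zero' := Subtype.ext (funext fun q => map_zero (φ.map q))
  map_add' a b := Subtype.ext (funext fun q => map_add (φ.map q) a b)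

/-- a degree zero cocycle gives a section -/
def toSect (φ : Coef X U R) (c : cocycles φ X.str 0) : X.sectRing U :=
  ⟨fun q => c.1 (pt0 q), by
    intro q q' h
    by_cases hq : q = q'
    · subst hq
      exact X.res_self _ _
    · have hlt : q < q' := lt_of_le_of_ne h hq
      have h1 := (cocycle_iff φ c.1).1 c.2 (pair1 q q' hlt)
      have e0 := res_chain_eq φ c.1 ((pair1 q q' hlt).face 0) (pt0 q') (pair1_face0 q q' hlt)
        (Chain.face_last_le 0 (pair1 q q' hlt)) (le_refl q'.1)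
      have e1 := res_chain_eq φ c.1 ((pair1 q q' hlt).face 1) (pt0 q) (pair1_face1 q q' hlt)
        (Chain.face_last_le 1 (pair1 q q' hlt)) h
      have h2 : X.res (le_refl q'.1) (c.1 (pt0 q')) = X.res h (c.1 (pt0 q)) :=
        e0.symm.trans (h1.trans e1)
      rw [X.res_self] at h2
      exact h2.symm⟩

/-- a section gives a degree zero cocycle -/
def ofSect (φ : Coef X U R) (t : X.sectRing U) : cocycles φ X.str 0 :=
  ⟨fun σ => t.1 (σ (Fin.last 0)), by
    rw [cocycle_iff]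
    intro τ
    exact (t.2 _ _ (Chain.face_last_le 0 τ)).trans (t.2 _ _ (Chain.face_last_le 1 τ)).symm⟩

theorem toSect_ofSect (φ : Coef X U R) (t : X.sectRing U) : toSect φ (ofSect φ t) = t :=
  Subtype.ext (funext fun _ => rfl)

theorem ofSect_toSect (φ : Coef X U R) (c : cocycles φ X.str 0) : ofSect φ (toSect φ c) = c := by
  apply Subtype.ext
  funext σ
  obtain ⟨q, rfl⟩ : ∃ q, σ = pt0 q := ⟨_, chain0_eq σ⟩
  rfl

theorem ofSect_add (φ : Coef X U R) (t t' : X.sectRing U) :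
    ofSect φ (t + t') = ofSect φ t + ofSect φ t' :=
  Subtype.ext (funext fun _ => rfl)

theorem ofSect_bijective (φ : Coef X U R) : Function.Bijective (ofSect φ) :=
  ⟨Function.LeftInverse.injective (toSect_ofSect φ),
    Function.RightInverse.surjective (ofSect_toSect φ)⟩

theorem Hmk_bijective (φ : Coef X U R) : Function.Bijective (H.mk φ X.str 0) := by
  constructor
  · intro c c' h
    have h1 : c - c' ∈ (cobdry φ X.str 0).comap (cocycles φ X.str 0).subtype :=
      (Submodule.Quotient.eq _).1 h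
    have h0 : (c - c').1 = 0 := (Submodule.mem_bot R).1 h1
    exact sub_eq_zero.1 (Subtype.ext h0)
  · exact Submodule.mkQ_surjective _

theorem resSect_bijective (x : X.pt) (U : Set X.pt) (hU : U ⊆ X.up x) (hx : x ∈ U) :
    Function.Bijective (X.resSect x U hU) := by
  constructor
  · intro a a' h
    have h1 := congrArg (fun t : X.sectRing U => t.1 ⟨x, hx⟩) h
    have h2 : X.res (le_refl x) a = X.res (le_refl x) a' := h1
    rwa [X.res_self, X.res_self] at h2
  · intro t
    refine ⟨t.1 ⟨x, hx⟩, Subtype.ext (funext fun q => ?_)⟩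
    exact t.2 ⟨x, hx⟩ q (hU q.2)

end Gen

/-! ### a common overfield of two primes over the same prime -/

theorem exists_common_field {R₀ S T : Type u} [CommRing R₀] [CommRing S] [CommRing T]
    (fS : R₀ →+* S) (fT : R₀ →+* T) (Q : PrimeSpectrum S) (P : PrimeSpectrum T)
    (h : PrimeSpectrum.comap fS Q = PrimeSpectrum.comap fT P) :
    ∃ (N : Type u) (_ : CommRing N) (gS : S →+* N) (gT : T →+* N) (m : PrimeSpectrum N),
      gS.comp fS = gT.comp fT ∧ PrimeSpectrum.comap gS m = Q ∧ PrimeSpectrum.comap gT m = P := by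
  let 𝔭 : Ideal R₀ := (PrimeSpectrum.comap fS Q).asIdeal
  haveI : 𝔭.IsPrime := (PrimeSpectrum.comap fS Q).2
  let κQ := Q.asIdeal.ResidueField
  let κP := P.asIdeal.ResidueField
  let aS : R₀ →+* κQ := (algebraMap S κQ).comp fS
  let aT : R₀ →+* κP := (algebraMap T κP).comp fT
  have hkS : ∀ a : R₀, aS a = 0 ↔ a ∈ 𝔭 := fun a => Ideal.algebraMap_residueField_eq_zero
  have hkT : ∀ a : R₀, aT a = 0 ↔ a ∈ 𝔭 := fun a => by
    have h1 : aT a = 0 ↔ fT a ∈ P.asIdeal := Ideal.algebraMap_residueField_eq_zero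
    rw [h1]
    have h2 : a ∈ 𝔭 ↔ a ∈ (PrimeSpectrum.comap fT P).asIdeal := by rw [← h]
    rw [h2]
    rfl
  let ℓS : R₀ ⧸ 𝔭 →+* κQ := Ideal.Quotient.lift 𝔭 aS (fun a ha => (hkS a).2 ha)
  let ℓT : R₀ ⧸ 𝔭 →+* κP := Ideal.Quotient.lift 𝔭 aT (fun a ha => (hkT a).2 ha)
  have hiS : Function.Injective ℓS :=
    RingHom.lift_injective_of_ker_le_ideal 𝔭 _ (fun a ha => (hkS a).1 ha)
  have hiT : Function.Injective ℓT :=
    RingHom.lift_injective_of_ker_le_ideal 𝔭 _ (fun a ha => (hkT a).1 ha)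
  letI : Algebra (R₀ ⧸ 𝔭) κQ := ℓS.toAlgebra
  letI : Algebra (R₀ ⧸ 𝔭) κP := ℓT.toAlgebra
  haveI : Nontrivial (κQ ⊗[R₀ ⧸ 𝔭] κP) :=
    Algebra.TensorProduct.nontrivial_of_algebraMap_injective_of_isDomain (R₀ ⧸ 𝔭) κQ κP hiS hiT
  obtain ⟨m, hm⟩ := Ideal.exists_maximal (κQ ⊗[R₀ ⧸ 𝔭] κP)
  let iL : κQ →+* κQ ⊗[R₀ ⧸ 𝔭] κP := Algebra.TensorProduct.includeLeftRingHom
  let iR : κP →+* κQ ⊗[R₀ ⧸ 𝔭] κP :=
    (Algebra.TensorProduct.includeRight : κP →ₐ[R₀ ⧸ 𝔭] κQ ⊗[R₀ ⧸ 𝔭] κP).toRingHom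
  have hfield : ∀ {K : Type u} [Field K] (j : K →+* κQ ⊗[R₀ ⧸ 𝔭] κP) (a : K),
      j a ∈ m ↔ a = 0 := by
    intro K _ j a
    constructor
    · intro ha
      by_contra h0
      have hu : IsUnit (j a) := (IsUnit.mk0 a h0).map j
      exact hm.ne_top (Ideal.eq_top_of_isUnit_mem _ ha hu)
    · rintro rfl
      rw [map_zero]
      exact m.zero_mem
  refine ⟨κQ ⊗[R₀ ⧸ 𝔭] κP, inferInstance, iL.comp (algebraMap S κQ), iR.comp (algebraMap T κP),
    ⟨m, hm.isPrime⟩, ?_, ?_, ?_⟩
  · apply RingHom.ext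
    intro r
    show (aS r) ⊗ₜ[R₀ ⧸ 𝔭] (1 : κP) = (1 : κQ) ⊗ₜ[R₀ ⧸ 𝔭] (aT r)
    have e1 : aS r = (Ideal.Quotient.mk 𝔭 r) • (1 : κQ) := by
      rw [Algebra.smul_def, mul_one]
      rfl
    have e2 : aT r = (Ideal.Quotient.mk 𝔭 r) • (1 : κP) := by
      rw [Algebra.smul_def, mul_one]
      rfl
    rw [e1, e2, TensorProduct.smul_tmul]
  · apply PrimeSpectrum.ext
    ext a
    show iL (algebraMap S κQ a) ∈ m ↔ a ∈ Q.asIdeal
    rw [hfield iL, Ideal.algebraMap_residueField_eq_zero]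
  · apply PrimeSpectrum.ext
    ext a
    show iR (algebraMap T κP a) ∈ m ↔ a ∈ P.asIdeal
    rw [hfield iR, Ideal.algebraMap_residueField_eq_zero]

/-! ### sections over the intersection of two minimal open sets as a pushout -/

theorem pushout_sect (X : RSpace.{u}) (hX : X.IsSchematic) {s x y : X.pt} (hx : s ≤ x)
    (hy : s ≤ y) {L : Type u} [CommRing L] (gy : X.ring y →+* L) (gx : X.ring x →+* L)
    (hg : gy.comp (X.res hy) = gx.comp (X.res hx)) :
    ∃ g' : X.sectRing ((Hom.id X).wedge x y) →+* L,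
      g'.comp (X.resSect y ((Hom.id X).wedge x y) (fun _ hq => hq.2)) = gy ∧
      g'.comp (X.resSect x ((Hom.id X).wedge x y) ((Hom.id X).wedge_subset_up x y)) = gx := by
  have hbc := (hX.2.2 0 x x (le_refl x) s y hy).2
  let U₀ : Set X.pt := (Hom.id X).wedge x s
  let U₁ : Set X.pt := (Hom.id X).wedge x y
  have hU₀ : U₀ ⊆ X.up x := (Hom.id X).wedge_subset_up x s
  have hU₁x : U₁ ⊆ X.up x := (Hom.id X).wedge_subset_up x y
  have hU₁y : U₁ ⊆ X.up y := fun _ hq => hq.2
  let φ₀ : Coef X U₀ (X.ring s) := Coef.ofHom (Hom.id X) s U₀ ((Hom.id X).wedge_subset_pre x s)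
  let φ₁ : Coef X U₁ (X.ring y) := Coef.ofHom (Hom.id X) y U₁ ((Hom.id X).wedge_subset_pre x y)
  letI : Algebra (X.ring s) (X.ring y) := (X.res hy).toAlgebra
  letI : Algebra (X.ring s) (X.ring x) := (X.res hx).toAlgebra
  letI : Module (X.ring s) (H φ₁ X.str 0) := Module.compHom _ (X.res hy)
  haveI : IsScalarTower (X.ring s) (X.ring y) (H φ₁ X.str 0) :=
    IsScalarTower.of_algebraMap_smul fun _ _ => rfl
  let ρ : H φ₀ X.str 0 →ₗ[X.ring s] H φ₁ X.str 0 :=
    { toFun := resH X.str ((Hom.id X).subTgt x hy) 0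
      map_add' := (resH X.str ((Hom.id X).subTgt x hy) 0).map_add
      map_smul' := (resH X.str ((Hom.id X).subTgt x hy) 0).map_smulₛₗ }
  have hbc' : IsBaseChange (X.ring y) ρ := hbc
  -- the identification of the ring of `x` with degree zero cohomology over `U₀`
  let ι : X.ring x →ₗ[X.ring s] H φ₀ X.str 0 :=
    { toFun := fun a => H.mk φ₀ X.str 0 (ofSect φ₀ (X.resSect x U₀ hU₀ a))
      map_add' := fun a b => by
        rw [map_add, ofSect_add, map_add]
      map_smul' := fun r a => by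
        rw [RingHom.id_apply, ← map_smul]
        congr 1
        apply Subtype.ext
        funext σ
        show X.res _ (X.res hx r * a) = X.res _ r * X.res _ a
        rw [map_mul, X.res_comp] }
  have hι : Function.Bijective ι :=
    (Hmk_bijective φ₀).comp ((ofSect_bijective φ₀).comp
      (resSect_bijective x U₀ hU₀ ⟨le_refl x, hx⟩))
  let ιe : X.ring x ≃ₗ[X.ring s] H φ₀ X.str 0 := LinearEquiv.ofBijective ι hι
  -- the ring map from the tensor product
  letI : Algebra (X.ring s) (X.sectRing U₁) :=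
    ((X.resSect y U₁ hU₁y).comp (X.res hy)).toAlgebra
  let β' : X.ring y →ₐ[X.ring s] X.sectRing U₁ :=
    { toRingHom := X.resSect y U₁ hU₁y
      commutes' := fun r => rfl }
  let α' : X.ring x →ₐ[X.ring s] X.sectRing U₁ :=
    { toRingHom := X.resSect x U₁ hU₁x
      commutes' := fun r => Subtype.ext (funext fun q => by
        show X.res _ (X.res hx r) = X.res _ (X.res hy r)
        rw [X.res_comp, X.res_comp]) }
  let μ : X.ring y ⊗[X.ring s] X.ring x →ₐ[X.ring s] X.sectRing U₁ :=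
    Algebra.TensorProduct.productMap β' α'
  let δ : X.sectRing U₁ → H φ₁ X.str 0 := fun t => H.mk φ₁ X.str 0 (ofSect φ₁ t)
  have hδ : Function.Bijective δ := (Hmk_bijective φ₁).comp (ofSect_bijective φ₁)
  have hΨ : ∀ t : X.ring y ⊗[X.ring s] X.ring x,
      δ (μ t) = hbc'.equiv (TensorProduct.congr (LinearEquiv.refl (X.ring s) (X.ring y)) ιe t) := by
    intro t
    induction t using TensorProduct.induction_on with
    | zero =>
      rw [map_zero, map_zero, map_zero]
      show H.mk φ₁ X.str 0 (ofSect φ₁ 0) = 0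
      have : ofSect φ₁ (0 : X.sectRing U₁) = 0 := Subtype.ext (funext fun _ => rfl)
      rw [this, map_zero]
    | tmul b a =>
      rw [TensorProduct.congr_tmul, IsBaseChange.equiv_tmul]
      show H.mk φ₁ X.str 0 (ofSect φ₁ (β' b * α' a)) = b • ρ (ι a)
      have hρ : ρ (ι a) = H.mk φ₁ X.str 0 (ofSect φ₁ (α' a)) := rfl
      rw [hρ, ← map_smul]
      congr 1
    | add t t' ht ht' =>
      rw [map_add, map_add, map_add, ← ht, ← ht']
      show H.mk φ₁ X.str 0 (ofSect φ₁ (μ t + μ t')) = _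
      rw [ofSect_add, map_add]
  have hμ : Function.Bijective μ := by
    have h1 : Function.Bijective (fun t => δ (μ t)) := by
      have : (fun t => δ (μ t)) = fun t => hbc'.equiv
          (TensorProduct.congr (LinearEquiv.refl (X.ring s) (X.ring y)) ιe t) := funext hΨ
      rw [this]
      exact hbc'.equiv.bijective.comp
        (TensorProduct.congr (LinearEquiv.refl (X.ring s) (X.ring y)) ιe).bijective
    exact (Function.Bijective.of_comp_iff' hδ μ).1 h1
  let e : X.ring y ⊗[X.ring s] X.ring x ≃+* X.sectRing U₁ :=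
    RingEquiv.ofBijective μ.toRingHom hμ
  -- the map to `L`
  letI : Algebra (X.ring s) L := (gy.comp (X.res hy)).toAlgebra
  let gy' : X.ring y →ₐ[X.ring s] L := { toRingHom := gy, commutes' := fun r => rfl }
  let gx' : X.ring x →ₐ[X.ring s] L :=
    { toRingHom := gx, commutes' := fun r => (RingHom.congr_fun hg r).symm }
  let g : X.ring y ⊗[X.ring s] X.ring x →ₐ[X.ring s] L :=
    Algebra.TensorProduct.productMap gy' gx'
  refine ⟨g.toRingHom.comp e.symm.toRingHom, ?_, ?_⟩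
  · apply RingHom.ext
    intro b
    show g (e.symm (X.resSect y U₁ hU₁y b)) = gy b
    have h1 : e.symm (X.resSect y U₁ hU₁y b) = b ⊗ₜ[X.ring s] (1 : X.ring x) := by
      rw [RingEquiv.symm_apply_eq]
      show X.resSect y U₁ hU₁y b = β' b * α' 1
      rw [map_one, mul_one]
      rfl
    rw [h1]
    show gy b * gx 1 = gy b
    rw [map_one, mul_one]
  · apply RingHom.ext
    intro a
    show g (e.symm (X.resSect x U₁ hU₁x a)) = gx a
    have h1 : e.symm (X.resSect x U₁ hU₁x a) = (1 : X.ring y) ⊗ₜ[X.ring s] a := by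
      rw [RingEquiv.symm_apply_eq]
      show X.resSect x U₁ hU₁x a = β' 1 * α' a
      rw [map_one, one_mul]
      rfl
    rw [h1]
    show gy 1 * gx a = gx a
    rw [map_one, one_mul]

/-! ### pairs over a common pair are related -/

theorem pairRel_of_common (X : RSpace.{u}) (hX : X.IsSchematic)
    (hff : ∀ s a b : X.pt, s ≤ a → s ≤ b → (X.up a ∩ X.up b).Nonempty →
      Module.FaithfullyFlat (X.sectRing (X.up a ∩ X.up b)) ((q : ↥(X.up a ∩ X.up b)) → X.ring q.1))
    {s x y : X.pt} (hx : s ≤ x) (hy : s ≤ y) (P : PrimeSpectrum (X.ring x))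
    (Q : PrimeSpectrum (X.ring y))
    (hPQ : PrimeSpectrum.comap (X.res hx) P = PrimeSpectrum.comap (X.res hy) Q) :
    X.PairRel ⟨x, P⟩ ⟨y, Q⟩ := by
  obtain ⟨N, _, gy, gx, m, hcomp, hmy, hmx⟩ :=
    exists_common_field (X.res hy) (X.res hx) Q P hPQ.symm
  obtain ⟨g', hg'y, hg'x⟩ := pushout_sect X hX hx hy gy gx hcomp
  have hne : (X.up x ∩ X.up y).Nonempty := by
    by_contra hne
    have hE : ∀ q : ↥((Hom.id X).wedge x y), False := fun q => hne ⟨q.1, q.2⟩
    have h10 : (1 : X.sectRing ((Hom.id X).wedge x y)) = 0 :=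
      Subtype.ext (funext fun q => (hE q).elim)
    have h1 : (1 : N) ∈ m.asIdeal := by
      have h2 : g' 1 = g' 0 := by rw [h10]
      rw [map_one, map_zero] at h2
      rw [h2]
      exact m.asIdeal.zero_mem
    exact m.2.ne_top ((Ideal.eq_top_iff_one _).2 h1)
  haveI hff' : Module.FaithfullyFlat (X.sectRing ((Hom.id X).wedge x y))
      ((q : ↥((Hom.id X).wedge x y)) → X.ring q.1) := hff s x y hx hy hne
  obtain ⟨𝔔, h𝔔⟩ := PrimeSpectrum.comap_surjective_of_faithfullyFlat
    (A := X.sectRing ((Hom.id X).wedge x y))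
    (B := (q : ↥((Hom.id X).wedge x y)) → X.ring q.1) (PrimeSpectrum.comap g' m)
  obtain ⟨⟨z, r⟩, hzr⟩ := (PrimeSpectrum.sigmaToPi_bijective
    (fun q : ↥((Hom.id X).wedge x y) => X.ring q.1)).2 𝔔
  have key : ∀ t : X.sectRing ((Hom.id X).wedge x y), t.1 z ∈ r.asIdeal ↔ g' t ∈ m.asIdeal := by
    intro t
    have h1 : t ∈ (PrimeSpectrum.comap (algebraMap (X.sectRing ((Hom.id X).wedge x y))
        ((q : ↥((Hom.id X).wedge x y)) → X.ring q.1)) 𝔔).asIdeal ↔ g' t ∈ m.asIdeal := by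
      rw [h𝔔]
      rfl
    rw [← h1, ← hzr]
    rfl
  refine ⟨z.1, z.2.1, z.2.2, r, ?_, ?_⟩
  · apply PrimeSpectrum.ext
    ext a
    have h1 := key (X.resSect x ((Hom.id X).wedge x y) ((Hom.id X).wedge_subset_up x y) a)
    have h2 : g' (X.resSect x ((Hom.id X).wedge x y) ((Hom.id X).wedge_subset_up x y) a) = gx a :=
      RingHom.congr_fun hg'x a
    rw [h2] at h1
    have h3 : gx a ∈ m.asIdeal ↔ a ∈ P.asIdeal := by
      rw [← hmx]
      rfl
    exact h1.trans h3
  · apply PrimeSpectrum.ext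
    ext b
    have h1 := key (X.resSect y ((Hom.id X).wedge x y) (fun _ hq => hq.2) b)
    have h2 : g' (X.resSect y ((Hom.id X).wedge x y) (fun _ hq => hq.2) b) = gy b :=
      RingHom.congr_fun hg'y b
    rw [h2] at h1
    have h3 : gy b ∈ m.asIdeal ↔ b ∈ Q.asIdeal := by
      rw [← hmy]
      rfl
    exact h1.trans h3

/-! ### the relation on pairs is an equivalence relation -/

theorem comap_res_self (X : RSpace.{u}) (a : X.pt) (P : PrimeSpectrum (X.ring a)) :
    PrimeSpectrum.comap (X.res (le_refl a)) P = P := by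
  apply PrimeSpectrum.ext
  ext t
  show X.res _ t ∈ P.asIdeal ↔ t ∈ P.asIdeal
  rw [X.res_self]

theorem comap_res_trans (X : RSpace.{u}) {a b c : X.pt} (h : a ≤ b) (h' : b ≤ c)
    (r : PrimeSpectrum (X.ring c)) :
    PrimeSpectrum.comap (X.res h) (PrimeSpectrum.comap (X.res h') r) =
      PrimeSpectrum.comap (X.res (h.trans h')) r := by
  apply PrimeSpectrum.ext
  ext t
  show X.res h' (X.res h t) ∈ r.asIdeal ↔ X.res _ t ∈ r.asIdeal
  rw [X.res_comp]

theorem pairRel_refl (X : RSpace.{u}) (a : X.Pair) : X.PairRel a a :=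
  ⟨a.1, le_refl _, le_refl _, a.2, comap_res_self X _ _, comap_res_self X _ _⟩

theorem pairRel_symm (X : RSpace.{u}) {a b : X.Pair} (h : X.PairRel a b) : X.PairRel b a := by
  obtain ⟨z, h1, h2, r, e1, e2⟩ := h
  exact ⟨z, h2, h1, r, e2, e1⟩

theorem pairRel_trans (X : RSpace.{u}) (hX : X.IsSchematic)
    (hff : ∀ s a b : X.pt, s ≤ a → s ≤ b → (X.up a ∩ X.up b).Nonempty →
      Module.FaithfullyFlat (X.sectRing (X.up a ∩ X.up b)) ((q : ↥(X.up a ∩ X.up b)) → X.ring q.1))
    {a b c : X.Pair} (hab : X.PairRel a b) (hbc : X.PairRel b c) : X.PairRel a c := by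
  obtain ⟨z1, ha1, hb1, r1, e1a, e1b⟩ := hab
  obtain ⟨z2, hb2, hc2, r2, e2b, e2c⟩ := hbc
  obtain ⟨z, h1, h2, r, er1, er2⟩ := pairRel_of_common X hX hff hb1 hb2 r1 r2 (e1b.trans e2b.symm)
  refine ⟨z, ha1.trans h1, hc2.trans h2, r, ?_, ?_⟩
  · rw [← comap_res_trans X ha1 h1, er1, e1a]
  · rw [← comap_res_trans X hc2 h2, er2, e2c]

theorem pairRel_equivalence (X : RSpace.{u}) (hX : X.IsSchematic)
    (hff : ∀ s a b : X.pt, s ≤ a → s ≤ b → (X.up a ∩ X.up b).Nonempty →
      Module.FaithfullyFlat (X.sectRing (X.up a ∩ X.up b)) ((q : ↥(X.up a ∩ X.up b)) → X.ring q.1)) :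
    Equivalence X.PairRel :=
  ⟨pairRel_refl X, fun h => pairRel_symm X h, fun h h' => pairRel_trans X hX hff h h'⟩

/-! ### the maximal representative of a schematic point -/

theorem quot_eq_iff (X : RSpace.{u}) (hX : X.IsSchematic)
    (hff : ∀ s a b : X.pt, s ≤ a → s ≤ b → (X.up a ∩ X.up b).Nonempty →
      Module.FaithfullyFlat (X.sectRing (X.up a ∩ X.up b)) ((q : ↥(X.up a ∩ X.up b)) → X.ring q.1))
    (a b : X.Pair) : Quot.mk X.PairRel a = Quot.mk X.PairRel b ↔ X.PairRel a b :=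
  ⟨fun h => (pairRel_equivalence X hX hff).eqvGen_iff.1 (Quot.eqvGen_exact h),
    fun h => Quot.sound h⟩

theorem max_rep (X : RSpace.{u}) (hX : X.IsSchematic)
    (hff : ∀ s a b : X.pt, s ≤ a → s ≤ b → (X.up a ∩ X.up b).Nonempty →
      Module.FaithfullyFlat (X.sectRing (X.up a ∩ X.up b)) ((q : ↥(X.up a ∩ X.up b)) → X.ring q.1))
    (c : X.SchPt) :
    ∃! a : X.Pair, Quot.mk X.PairRel a = c ∧
      ∀ b : X.Pair, Quot.mk X.PairRel b = c → b.1 ≤ a.1 := by
  have heq := pairRel_equivalence X hX hff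
  have hrel := quot_eq_iff X hX hff
  obtain ⟨a₀, rfl⟩ := Quot.exists_rep c
  let S : Set X.pt := {p | ∃ b : X.Pair, X.PairRel b a₀ ∧ b.1 = p}
  have hSne : S.Nonempty := ⟨a₀.1, a₀, pairRel_refl X a₀, rfl⟩
  obtain ⟨m, ⟨am, ham, rfl⟩, hmax⟩ := (Set.toFinite S).exists_maximal hSne
  have hle : ∀ b : X.Pair, X.PairRel b a₀ → b.1 ≤ am.1 := by
    intro b hb
    have hbm : X.PairRel am b := heq.trans ham (heq.symm hb)
    obtain ⟨z, h1, h2, r, e1, e2⟩ := hbm
    have hz : z ∈ S :=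
      ⟨⟨z, r⟩, heq.trans ⟨z, le_refl z, h1, r, comap_res_self X z r, e1⟩ ham, rfl⟩
    have hzle : z ≤ am.1 := hmax hz h1
    exact h2.trans hzle
  refine ⟨am, ⟨(hrel _ _).2 ham, fun b hb => hle b ((hrel _ _).1 hb)⟩, ?_⟩
  rintro a' ⟨ha', hmax'⟩
  have ha'rel : X.PairRel a' a₀ := (hrel _ _).1 ha'
  have h1 : a'.1 ≤ am.1 := hle a' ha'rel
  have h2 : am.1 ≤ a'.1 := hmax' am ((hrel _ _).2 ham)
  have hpt : a'.1 = am.1 := le_antisymm h1 h2
  obtain ⟨z, hz1, hz2, r, e1, e2⟩ := heq.trans ha'rel (heq.symm ham)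
  have hzS : z ∈ S :=
    ⟨⟨z, r⟩, heq.trans ⟨z, le_refl z, hz2, r, comap_res_self X z r, e2⟩ ham, rfl⟩
  have hzle : z ≤ am.1 := hmax hzS hz2
  have hzeq : z = am.1 := le_antisymm hzle hz2
  clear hmax hle hmax' hzS ha'rel ha' ham hSne
  obtain ⟨p', P'⟩ := a'
  obtain ⟨pm, Pm⟩ := am
  have hpt' : p' = pm := hpt
  have hzeq' : z = pm := hzeq
  subst hpt'
  subst hzeq'
  have hP' : P' = r := e1.symm.trans (comap_res_self X _ r)
  have hPm : Pm = r := e2.symm.trans (comap_res_self X _ r)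
  rw [hP', hPm]

end Groth.Agent.Helper22.SchH0
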