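import Mathlib
import Groth.Prelude.Def_SchFin2
import Groth.Agent.Lib.Helper22.SchH0
import Groth.Agent.S15634

set_option autoImplicit false
set_option maxHeartbeats 400000
set_option backward.isDefEq.respectTransparency false
set_option backward.isDefEq.respectTransparency.types false

open TensorProduct SchFin SchFin.RSpace

namespace Groth.Agent.Helper22.SchH0

universe u

/-! ### base change along a ring epimorphism -/

section Epi

variable {R S : Type u} [CommRing R] [CommRing S] [Algebra R S]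

theorem epi_tmul (hepi : ∀ {T : Type u} [CommRing T] (g₁ g₂ : S →+* T),
      g₁.comp (algebraMap R S) = g₂.comp (algebraMap R S) → g₁ = g₂) (s : S) :
    s ⊗ₜ[R] (1 : S) = (1 : S) ⊗ₜ[R] s := by
  have h := hepi
    (Algebra.TensorProduct.includeLeftRingHom : S →+* S ⊗[R] S)
    (Algebra.TensorProduct.includeRight (R := R) (A := S) (B := S)).toRingHom (by
      apply RingHom.ext
      intro r
      show (algebraMap R S r) ⊗ₜ[R] (1 : S) = (1 : S) ⊗ₜ[R] (algebraMap R S r)
      have hr : algebraMap R S r = r • (1 : S) := by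
        rw [Algebra.smul_def, mul_one]
      rw [hr, TensorProduct.smul_tmul])
  exact RingHom.congr_fun h s

theorem epi_linear (h1 : ∀ s : S, s ⊗ₜ[R] (1 : S) = (1 : S) ⊗ₜ[R] s)
    {Q Q' : Type u} [AddCommGroup Q] [AddCommMonoid Q'] [Module S Q] [Module R Q]
    [IsScalarTower R S Q] [Module S Q'] [Module R Q'] [IsScalarTower R S Q']
    (g : Q →ₗ[R] Q') (s : S) (q : Q) : g (s • q) = s • g q := by
  let β : S →ₗ[R] S →ₗ[R] Q' := LinearMap.mk₂ R (fun (a b : S) => a • g (b • q))
    (fun a a' b => by rw [add_smul])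
    (fun c a b => by rw [smul_assoc])
    (fun a b b' => by rw [add_smul, map_add, smul_add])
    (fun c a b => by rw [smul_assoc, map_smul, smul_comm])
  have h2 := congrArg (TensorProduct.lift β) (h1 s)
  rw [TensorProduct.lift.tmul, TensorProduct.lift.tmul] at h2
  have h3 : s • g ((1 : S) • q) = (1 : S) • g (s • q) := h2
  rw [one_smul, one_smul] at h3
  exact h3.symm

theorem isBaseChange_id_of_epi (h1 : ∀ s : S, s ⊗ₜ[R] (1 : S) = (1 : S) ⊗ₜ[R] s)
    (Q : Type u) [AddCommGroup Q] [Module S Q] [Module R Q] [IsScalarTower R S Q] :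
    IsBaseChange S (LinearMap.id : Q →ₗ[R] Q) := by
  apply IsBaseChange.of_lift_unique
  intro Q' _ _ _ _ g
  refine ⟨{ toFun := g, map_add' := g.map_add, map_smul' := fun s q => ?_ }, ?_, ?_⟩
  · exact epi_linear h1 g s q
  · apply LinearMap.ext
    intro q
    rfl
  · intro g' hg'
    apply LinearMap.ext
    intro q
    exact LinearMap.congr_fun hg' q

theorem isBaseChange_of_zero {M N : Type u} [AddCommGroup M] [AddCommGroup N] [Module R M]
    [Module R N] [Module S N] [IsScalarTower R S N] (f : M →ₗ[R] N) (hN : ∀ n : N, n = 0)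
    (hT : ∀ t : S ⊗[R] M, t = 0) : IsBaseChange S f := by
  refine IsBaseChange.of_equiv
    { toFun := fun _ => 0
      map_add' := fun _ _ => (add_zero 0).symm
      map_smul' := fun _ _ => (smul_zero _).symm
      invFun := fun _ => 0
      left_inv := fun t => (hT t).symm
      right_inv := fun n => (hN n).symm } (fun x => (hN _).symm)

end Epi


/-! ### generic base change criteria -/

section BC

variable {R S : Type u} [CommRing R] [CommRing S]

theorem tensor_zero_of_zero [Algebra R S] {M : Type u} [AddCommGroup M] [Module R M]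
    (hM : ∀ m : M, m = 0) (t : S ⊗[R] M) : t = 0 := by
  induction t using TensorProduct.induction_on with
  | zero => rfl
  | tmul s m => rw [hM m, TensorProduct.tmul_zero]
  | add t t' ht ht' => rw [ht, ht', add_zero]

theorem isBaseChange_of_bijective_of_epi [Algebra R S]
    (h1 : ∀ s : S, s ⊗ₜ[R] (1 : S) = (1 : S) ⊗ₜ[R] s)
    {M N : Type u} [AddCommGroup M] [AddCommGroup N] [Module R M] [Module R N] [Module S N]
    [IsScalarTower R S N] (ρ : M →ₗ[R] N) (hρ : Function.Bijective ρ) : IsBaseChange S ρ := by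
  let ρe : M ≃ₗ[R] N := LinearEquiv.ofBijective ρ hρ
  have hρe : ∀ m, ρe.symm (ρ m) = m := fun m => ρe.symm_apply_apply m
  apply IsBaseChange.of_lift_unique
  intro Q' _ _ _ _ g
  let g₀ : N →ₗ[R] Q' := g.comp ρe.symm.toLinearMap
  refine ⟨{ toFun := g₀, map_add' := g₀.map_add,
            map_smul' := fun s q => epi_linear h1 g₀ s q }, ?_, ?_⟩
  · apply LinearMap.ext
    intro m
    show g (ρe.symm (ρ m)) = g m
    rw [hρe]
  · intro g' hg'
    apply LinearMap.ext
    intro n
    obtain ⟨m, rfl⟩ := hρ.2 n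
    have h2 : g' (ρ m) = g m := LinearMap.congr_fun hg' m
    show g' (ρ m) = g (ρe.symm (ρ m))
    rw [hρe]
    exact h2

theorem bc_of_tensor_zero (g : R →+* S) {M N : Type u} [AddCommGroup M] [AddCommGroup N]
    [Module R M] [Module S N] (f : M →ₛₗ[g] N) (hN : ∀ n : N, n = 0)
    (hT : letI : Algebra R S := g.toAlgebra; ∀ t : S ⊗[R] M, t = 0) : IsBCAlong g f := by
  letI : Algebra R S := g.toAlgebra
  letI : Module R N := Module.compHom N g
  haveI : IsScalarTower R S N := IsScalarTower.of_algebraMap_smul fun _ _ => rfl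
  let ρ : M →ₗ[R] N := { toFun := f, map_add' := f.map_add, map_smul' := f.map_smulₛₗ }
  have h : IsBaseChange S ρ := isBaseChange_of_zero ρ hN hT
  exact h

theorem bc_of_zero (g : R →+* S) {M N : Type u} [AddCommGroup M] [AddCommGroup N]
    [Module R M] [Module S N] (f : M →ₛₗ[g] N) (hM : ∀ m : M, m = 0) (hN : ∀ n : N, n = 0) :
    IsBCAlong g f := by
  apply bc_of_tensor_zero g f hN
  letI : Algebra R S := g.toAlgebra
  exact tensor_zero_of_zero hM

theorem bc_of_bij_epi (g : R →+* S)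
    (hepi : ∀ {T : Type u} [CommRing T] (g₁ g₂ : S →+* T), g₁.comp g = g₂.comp g → g₁ = g₂)
    {M N : Type u} [AddCommGroup M] [AddCommGroup N] [Module R M] [Module S N]
    (f : M →ₛₗ[g] N) (hf : Function.Bijective f) : IsBCAlong g f := by
  letI : Algebra R S := g.toAlgebra
  letI : Module R N := Module.compHom N g
  haveI : IsScalarTower R S N := IsScalarTower.of_algebraMap_smul fun _ _ => rfl
  let ρ : M →ₗ[R] N := { toFun := f, map_add' := f.map_add, map_smul' := f.map_smulₛₗ }
  have h1 : ∀ s : S, s ⊗ₜ[R] (1 : S) = (1 : S) ⊗ₜ[R] s :=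
    epi_tmul (fun g₁ g₂ h => hepi g₁ g₂ h)
  have h : IsBaseChange S ρ := isBaseChange_of_bijective_of_epi h1 ρ hf
  exact h

theorem tensor_eq_zero_of_no_prime {Ω : Type u} [Field Ω] (g : R →+* S) (ψR : R →+* Ω)
    {M : Type u} [AddCommGroup M] [Module R M] (ι : Ω → M) (hι : Function.Bijective ι)
    (hadd : ∀ ω ω', ι (ω + ω') = ι ω + ι ω') (hlin : ∀ (r : R) (ω : Ω), ι (ψR r * ω) = r • ι ω)
    (hno : ∀ Q' : PrimeSpectrum S, (∀ a : R, g a ∈ Q'.asIdeal ↔ ψR a = 0) → False) :
    letI : Algebra R S := g.toAlgebra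
    ∀ t : S ⊗[R] M, t = 0 := by
  letI : Algebra R S := g.toAlgebra
  letI : Algebra R Ω := ψR.toAlgebra
  intro t
  let ιL : Ω →ₗ[R] M :=
    { toFun := ι, map_add' := hadd, map_smul' := fun r ω => by
        show ι (ψR r * ω) = r • ι ω
        exact hlin r ω }
  let ιe : Ω ≃ₗ[R] M := LinearEquiv.ofBijective ιL hι
  have hT : Subsingleton (S ⊗[R] Ω) := by
    by_contra hns
    rw [not_subsingleton_iff_nontrivial] at hns
    obtain ⟨𝔱, h𝔱⟩ := Ideal.exists_maximal (S ⊗[R] Ω)
    let Q' : PrimeSpectrum S := PrimeSpectrum.comap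
      (Algebra.TensorProduct.includeLeftRingHom : S →+* S ⊗[R] Ω) ⟨𝔱, h𝔱.isPrime⟩
    apply hno Q'
    intro a
    have h1 : (g a) ⊗ₜ[R] (1 : Ω) = (1 : S) ⊗ₜ[R] (ψR a) := by
      have e1 : g a = a • (1 : S) := Algebra.algebraMap_eq_smul_one (A := S) a
      have e2 : ψR a = a • (1 : Ω) := Algebra.algebraMap_eq_smul_one (A := Ω) a
      rw [e1, e2, TensorProduct.smul_tmul]
    have h2 : g a ∈ Q'.asIdeal ↔ (g a) ⊗ₜ[R] (1 : Ω) ∈ 𝔱 := Iff.rfl
    rw [h2, h1]
    constructor
    · intro hmem
      by_contra hne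
      apply h𝔱.ne_top
      rw [Ideal.eq_top_iff_one]
      have h3 : ((1 : S) ⊗ₜ[R] (ψR a)) * ((1 : S) ⊗ₜ[R] (ψR a)⁻¹) =
          (1 : S) ⊗ₜ[R] (1 : Ω) := by
        rw [Algebra.TensorProduct.tmul_mul_tmul, mul_one, mul_inv_cancel₀ hne]
      have h5 : (1 : S) ⊗ₜ[R] (1 : Ω) ∈ 𝔱 := by
        rw [← h3]
        exact 𝔱.mul_mem_right _ hmem
      exact h5
    · intro h0
      rw [h0, TensorProduct.tmul_zero]
      exact 𝔱.zero_mem
  have h4 : (TensorProduct.congr (LinearEquiv.refl R S) ιe).symm t = 0 := Subsingleton.elim _ _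
  exact (TensorProduct.congr (LinearEquiv.refl R S) ιe).symm.map_eq_zero_iff.1 h4

end BC

/-! ### cohomology over subsets of the one-point space -/

section Point

theorem chain_isEmpty_of_empty {X : RSpace.{u}} {U : Set X.pt} (hU : ∀ q, q ∉ U) (n : ℕ) :
    IsEmpty (Chain U n) :=
  ⟨fun σ => hU _ (σ 0).2⟩

theorem H_eq_zero_of_isEmpty {X : RSpace.{u}} {U : Set X.pt} {R : Type u} [CommRing R]
    (φ : Coef X U R) (M : OMod X) (n : ℕ) (hE : IsEmpty (Chain U n)) (h : H φ M n) : h = 0 := by
  obtain ⟨c, rfl⟩ := (show Function.Surjective (H.mk φ M n) from Submodule.mkQ_surjective _) h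
  have hc : c = 0 := Subtype.ext (funext fun σ => (hE.false σ).elim)
  rw [hc, map_zero]

variable {Ω : Type u} [Field Ω]

theorem punit_le (p q : (RSpace.point Ω).pt) : p ≤ q := le_of_eq rfl

theorem chain_succ_isEmpty (U : Set (RSpace.point Ω).pt) (n : ℕ) : IsEmpty (Chain U (n + 1)) := by
  constructor
  intro σ
  have h : σ 0 = σ 1 := Subtype.ext rfl
  have h2 := congrArg Fin.val (σ.injective h)
  simp at h2

/-- the class in degree zero of a constant -/
def iota {U : Set (RSpace.point Ω).pt} {R : Type u} [CommRing R]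
    (φ : Coef (RSpace.point Ω) U R) (ω : Ω) : H φ (RSpace.point Ω).str 0 :=
  H.mk φ (RSpace.point Ω).str 0
    (ofSect φ ((RSpace.point Ω).resSect PUnit.unit U (fun q _ => punit_le PUnit.unit q) ω))

theorem iota_bijective {U : Set (RSpace.point Ω).pt} {R : Type u} [CommRing R]
    (φ : Coef (RSpace.point Ω) U R) (hu : (PUnit.unit : (RSpace.point Ω).pt) ∈ U) :
    Function.Bijective (iota φ) :=
  (Hmk_bijective φ).comp ((ofSect_bijective φ).comp
    (resSect_bijective PUnit.unit U (fun q _ => punit_le PUnit.unit q) hu))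

theorem iota_add {U : Set (RSpace.point Ω).pt} {R : Type u} [CommRing R]
    (φ : Coef (RSpace.point Ω) U R) (ω ω' : Ω) : iota φ (ω + ω') = iota φ ω + iota φ ω' := by
  unfold iota
  rw [← map_add]
  congr 1

theorem iota_smul {U : Set (RSpace.point Ω).pt} {R : Type u} [CommRing R]
    (φ : Coef (RSpace.point Ω) U R) (hu : (PUnit.unit : (RSpace.point Ω).pt) ∈ U) (r : R) (ω : Ω) :
    r • iota φ ω = iota φ ((show Ω from φ.map ⟨PUnit.unit, hu⟩ r) * ω) := by
  unfold iota
  rw [← map_smul]
  congr 1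

theorem resH_bijective_point {U U' : Set (RSpace.point Ω).pt} {R R' : Type u} [CommRing R]
    [CommRing R'] {φ : Coef (RSpace.point Ω) U R} {φ' : Coef (RSpace.point Ω) U' R'}
    (s : Coef.Sub φ φ') (hu' : (PUnit.unit : (RSpace.point Ω).pt) ∈ U') :
    Function.Bijective (resH (RSpace.point Ω).str s 0) := by
  have hι := iota_bijective φ (s.le hu')
  have hι' := iota_bijective φ' hu'
  have hcomp : (fun ω => resH (RSpace.point Ω).str s 0 (iota φ ω)) = iota φ' :=
    funext fun ω => rfl
  have h1 : Function.Bijective ((resH (RSpace.point Ω).str s 0) ∘ (iota φ)) := by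
    show Function.Bijective (fun ω => resH (RSpace.point Ω).str s 0 (iota φ ω))
    rw [hcomp]
    exact hι'
  exact (Function.Bijective.of_comp_iff _ hι).1 h1

end Point

/-! ### the geometric point attached to a maximal pair -/

/-- the morphism from the one-point space given by a point and a ring map to the field -/
def mkHom (X : RSpace.{u}) (Ω : Type u) [Field Ω] (x : X.pt) (ψ : X.ring x →+* Ω) :
    Hom (RSpace.point Ω) X where
  fn := fun _ => x
  mono := fun _ _ _ => le_refl x
  app := fun _ => ψ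
  compat := fun {q q'} h b => by
    show ψ b = ψ (X.res (le_refl x) b)
    rw [X.res_self]

theorem mkHom_isSchematic (X : RSpace.{u}) (hX : X.IsSchematic)
    (hff : ∀ s a b : X.pt, s ≤ a → s ≤ b → (X.up a ∩ X.up b).Nonempty →
      Module.FaithfullyFlat (X.sectRing (X.up a ∩ X.up b)) ((q : ↥(X.up a ∩ X.up b)) → X.ring q.1))
    (Ω : Type u) [Field Ω] (a : X.Pair) (ha : ∀ b : X.Pair, X.PairRel a b → b.1 ≤ a.1)
    (ψ : X.ring a.1 →+* Ω) (hψ : ∀ r, ψ r = 0 ↔ r ∈ a.2.asIdeal) :
    (mkHom X Ω a.1 ψ).IsSchematic := by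
  refine ⟨⟨fun _ => ?_, fun p q h => ?_⟩, hX.1, ?_⟩
  · show IsNoetherianRing Ω
    infer_instance
  · show (RingHom.id Ω).Flat
    exact RingHom.Flat.id Ω
  · intro n p p' hp y y' hy
    constructor
    · cases n with
      | zero =>
        by_cases hyx : y ≤ a.1
        · exact bc_of_bij_epi _ (fun g₁ g₂ h => RingHom.ext fun s => RingHom.congr_fun h s) _
            (resH_bijective_point _ ⟨punit_le _ _, hyx⟩)
        · exact bc_of_zero _ _
            (H_eq_zero_of_isEmpty _ _ 0 (chain_isEmpty_of_empty (fun q hq => hyx hq.2) 0))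
            (H_eq_zero_of_isEmpty _ _ 0 (chain_isEmpty_of_empty (fun q hq => hyx hq.2) 0))
      | succ n =>
        exact bc_of_zero _ _
          (H_eq_zero_of_isEmpty _ _ (n + 1) (chain_succ_isEmpty _ n))
          (H_eq_zero_of_isEmpty _ _ (n + 1) (chain_succ_isEmpty _ n))
    · cases n with
      | zero =>
        by_cases hy'x : y' ≤ a.1
        · exact bc_of_bij_epi _ (fun g₁ g₂ h => Groth.Agent.S15634.result X hX hy g₁ g₂ h) _
            (resH_bijective_point _ ⟨punit_le _ _, hy'x⟩)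
        · by_cases hyx : y ≤ a.1
          · have hu : (PUnit.unit : (RSpace.point Ω).pt) ∈ (mkHom X Ω a.1 ψ).wedge p y :=
              ⟨punit_le _ _, hyx⟩
            refine bc_of_tensor_zero _ _
              (H_eq_zero_of_isEmpty _ _ 0 (chain_isEmpty_of_empty (fun q hq => hy'x hq.2) 0)) ?_
            refine tensor_eq_zero_of_no_prime (X.res hy) (ψ.comp (X.res hyx)) (iota _)
              (iota_bijective _ hu) (iota_add _) (fun r ω => (iota_smul _ hu r ω).symm) ?_
            intro Q' hQ'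
            apply hy'x
            have hPQ : PrimeSpectrum.comap (X.res hyx) a.2 =
                PrimeSpectrum.comap (X.res hy) Q' := by
              apply PrimeSpectrum.ext
              ext r
              show X.res hyx r ∈ a.2.asIdeal ↔ X.res hy r ∈ Q'.asIdeal
              rw [← hψ]
              exact (hQ' r).symm
            exact ha ⟨y', Q'⟩ (pairRel_of_common X hX hff hyx hy a.2 Q' hPQ)
          · exact bc_of_zero _ _
              (H_eq_zero_of_isEmpty _ _ 0 (chain_isEmpty_of_empty (fun q hq => hyx hq.2) 0))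
              (H_eq_zero_of_isEmpty _ _ 0 (chain_isEmpty_of_empty (fun q hq => hy'x hq.2) 0))
      | succ n =>
        exact bc_of_zero _ _
          (H_eq_zero_of_isEmpty _ _ (n + 1) (chain_succ_isEmpty _ n))
          (H_eq_zero_of_isEmpty _ _ (n + 1) (chain_succ_isEmpty _ n))

theorem geomPt_existsUnique (X : RSpace.{u}) (hX : X.IsSchematic)
    (hff : ∀ s a b : X.pt, s ≤ a → s ≤ b → (X.up a ∩ X.up b).Nonempty →
      Module.FaithfullyFlat (X.sectRing (X.up a ∩ X.up b)) ((q : ↥(X.up a ∩ X.up b)) → X.ring q.1))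
    (Ω : Type u) [Field Ω] [IsAlgClosed Ω] (a : X.Pair)
    (ha : ∀ b : X.Pair, X.PairRel a b → b.1 ≤ a.1) (φ : a.κ →+* Ω) :
    ∃! ξ : GeomPt X Ω, (⟨ξ.base, ξ.toField⟩ : Σ x : X.pt, (X.ring x →+* Ω)) =
      ⟨a.1, φ.comp (algebraMap (X.ring a.1) a.κ)⟩ := by
  have hψ : ∀ r, (φ.comp (algebraMap (X.ring a.1) a.κ)) r = 0 ↔ r ∈ a.2.asIdeal := by
    intro r
    show φ (algebraMap (X.ring a.1) a.κ r) = 0 ↔ _
    rw [map_eq_zero_iff φ φ.injective]
    exact Ideal.algebraMap_residueField_eq_zero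
  refine ⟨⟨mkHom X Ω a.1 (φ.comp (algebraMap (X.ring a.1) a.κ)),
    mkHom_isSchematic X hX hff Ω a ha _ hψ⟩, rfl, ?_⟩
  intro ξ hξ
  obtain ⟨⟨fn, mono, app, compat⟩, sch⟩ := ξ
  have hfn : fn = fun _ => a.1 :=
    funext fun q => (congrArg Sigma.fst hξ : fn PUnit.unit = a.1)
  subst hfn
  have happ : app = fun _ => φ.comp (algebraMap (X.ring a.1) a.κ) :=
    funext fun q => eq_of_heq (Sigma.mk.inj_iff.1 hξ).2
  subst happ
  rfl

end Groth.Agent.Helper22.SchH0
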