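import Groth.Agent.Lib.Helper22.SubobjJH
import Mathlib.CategoryTheory.Subobject.NoetherianObject
import Mathlib.CategoryTheory.Subobject.ArtinianObject

open CategoryTheory CategoryTheory.Limits

namespace Groth.Agent.Helper22.SubobjFL

open Groth.Agent.Helper22.SubobjJH

universe v u
variable {A : Type u} [Category.{v} A] [Abelian A] {X : A}

/-- A covering pair of subobjects has a simple quotient. -/
theorem isMax_of_covering (a b : Subobject X) (hab : a < b)
    (hcov : ∀ c, a ≤ c → c ≤ b → c = a ∨ c = b) : IsMax a b := by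
  refine ⟨hab.le, simple_of_cosimple _ ?_⟩
  intro Z f hf
  set π := cokernel.π (Subobject.ofLE a b hab.le) with hπ
  set g := π ≫ f with hg
  have hgepi : Epi g := epi_comp _ _
  have hQ : ¬ IsZero (cokernel (Subobject.ofLE a b hab.le)) := by
    intro hz
    have hπ0 : π = 0 := hz.eq_of_tgt _ _
    have h1 : Epi (Subobject.ofLE a b hab.le) := Abelian.epi_of_cokernel_π_eq_zero _ hπ0
    have h2 : IsIso (Subobject.ofLE a b hab.le) := isIso_of_mono_of_epi _
    have hba : b ≤ a := Subobject.le_of_comm (inv (Subobject.ofLE a b hab.le)) (by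
      rw [IsIso.inv_comp_eq, Subobject.ofLE_arrow])
    exact absurd (le_antisymm hba hab.le) hab.ne'
  set c := Subobject.mk (kernel.ι g ≫ b.arrow) with hc
  have hac : a ≤ c := Subobject.le_mk_of_comm (kernel.lift g (Subobject.ofLE a b hab.le) (by
      rw [hg, ← Category.assoc, hπ, cokernel.condition, zero_comp])) (by
      rw [← Category.assoc, kernel.lift_ι, Subobject.ofLE_arrow])
  have hcb : c ≤ b := Subobject.mk_le_of_comm (kernel.ι g) rfl
  constructor
  · intro hiso hf0
    apply hQ
    rw [IsZero.iff_id_eq_zero]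
    exact (cancel_mono f).1 (by rw [Category.id_comp, zero_comp]; exact hf0)
  · intro hf0
    rcases hcov c hac hcb with h | h
    · have hca : c ≤ a := h.le
      set l := Subobject.ofMkLE (kernel.ι g ≫ b.arrow) a hca with hl
      have hl' : l ≫ a.arrow = kernel.ι g ≫ b.arrow := Subobject.ofMkLE_arrow hca
      have hk : kernel.ι g = l ≫ Subobject.ofLE a b hab.le := by
        apply (cancel_mono b.arrow).1
        rw [Category.assoc, Subobject.ofLE_arrow, hl']
      have hkπ : kernel.ι g ≫ π = 0 := by
        rw [hk, Category.assoc, hπ, cokernel.condition, comp_zero]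
      have hcolim := Abelian.epiIsCokernelOfKernel
        (KernelFork.ofι (kernel.ι g) (kernel.condition g)) (kernelIsKernel g)
      let j : Z ⟶ cokernel (Subobject.ofLE a b hab.le) :=
        (CokernelCofork.IsColimit.desc' hcolim π hkπ).1
      have hj' : g ≫ j = π := (CokernelCofork.IsColimit.desc' hcolim π hkπ).2
      have h1 : f ≫ j = 𝟙 _ := (cancel_epi π).1 (by
        rw [← Category.assoc, ← hg, hj', Category.comp_id])
      have h2 : j ≫ f = 𝟙 _ := (cancel_epi g).1 (by
        rw [← Category.assoc, hj', Category.comp_id])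
      exact ⟨⟨j, h1, h2⟩⟩
    · exfalso
      apply hf0
      have hbc : b ≤ c := h.ge
      set l := Subobject.ofLEMk b (kernel.ι g ≫ b.arrow) hbc with hl
      have hl' : l ≫ kernel.ι g ≫ b.arrow = b.arrow := Subobject.ofLEMk_comp hbc
      have hid : l ≫ kernel.ι g = 𝟙 _ := (cancel_mono b.arrow).1 (by
        rw [Category.assoc, hl', Category.id_comp])
      have hg0 : g = 0 := by
        rw [← Category.id_comp g, ← hid, Category.assoc, kernel.condition, comp_zero]
      exact (cancel_epi π).1 (by rw [← hg, hg0, comp_zero])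

theorem isMax_inf_of_sup_eq {a b y : Subobject X} (hab : IsMax a b) (h : (b ⊓ y) ⊔ a = b) :
    IsMax (a ⊓ y) (b ⊓ y) := by
  obtain ⟨hle, hs⟩ := hab
  have hi : a ⊓ y = (b ⊓ y) ⊓ a := by
    apply le_antisymm
    · exact le_inf (le_inf (inf_le_left.trans hle) inf_le_right) inf_le_left
    · exact le_inf inf_le_right (inf_le_left.trans inf_le_right)
  have h1 : a ⊓ y ≤ b ⊓ y := inf_le_inf_right y hle
  obtain ⟨e⟩ := second_iso (b ⊓ y) a (a ⊓ y) b hi h.symm h1 hle
  exact ⟨h1, Simple.of_iso e⟩

/-- Dichotomy: intersecting a simple step with `y` gives equality or a simple step. -/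
theorem step_dichotomy {a b : Subobject X} (hab : IsMax a b) (y : Subobject X) :
    b ⊓ y = a ⊓ y ∨ IsMax (a ⊓ y) (b ⊓ y) := by
  obtain ⟨hle, hs⟩ := hab
  have h1 : a ≤ (b ⊓ y) ⊔ a := le_sup_right
  have h2 : (b ⊓ y) ⊔ a ≤ b := sup_le inf_le_left hle
  rcases covering a b _ hle hs h1 h2 with h | h
  · left
    have : b ⊓ y ≤ a := le_sup_left.trans h.le
    exact le_antisymm (le_inf this inf_le_right) (inf_le_inf_right y hle)
  · right
    exact isMax_inf_of_sup_eq ⟨hle, hs⟩ h

section Chain

variable {n : ℕ} (F : Fin (n + 1) → Subobject X)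

open Classical in
/-- The set of strict steps of the chain `F ⊓ y`. -/
noncomputable def strictSet (y : Subobject X) : Finset (Fin n) :=
  Finset.univ.filter (fun i : Fin n => F i.castSucc ⊓ y ≠ F i.succ ⊓ y)

theorem mem_strictSet {y : Subobject X} {i : Fin n} :
    i ∈ strictSet F y ↔ F i.castSucc ⊓ y ≠ F i.succ ⊓ y := by
  classical
  simp [strictSet]

variable (hstep : ∀ i : Fin n, IsMax (F i.castSucc) (F i.succ))
include hstep

theorem strictSet_mono {y y' : Subobject X} (h : y ≤ y') : strictSet F y ⊆ strictSet F y' := by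
  intro i hi
  rw [mem_strictSet] at hi ⊢
  intro h'
  apply hi
  have hle := (hstep i).1
  apply le_antisymm (inf_le_inf_right y hle)
  have : F i.succ ⊓ y ≤ F i.castSucc := by
    calc F i.succ ⊓ y ≤ F i.succ ⊓ y' := inf_le_inf_left _ h
      _ = F i.castSucc ⊓ y' := h'.symm
      _ ≤ F i.castSucc := inf_le_left
  exact le_inf this inf_le_right

theorem inf_eq_of_strictSet_eq (h0 : F 0 = ⊥) {y y' : Subobject X} (h : y ≤ y')
    (hs : strictSet F y = strictSet F y') : ∀ i : Fin (n + 1), F i ⊓ y = F i ⊓ y' := by
  intro i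
  induction i using Fin.induction with
  | zero => rw [h0, bot_inf_eq, bot_inf_eq]
  | succ i ih =>
    have hle := (hstep i).1
    by_cases hi : i ∈ strictSet F y'
    · have hi' : i ∈ strictSet F y := hs ▸ hi
      rw [mem_strictSet] at hi hi'
      rcases step_dichotomy (hstep i) y' with h1 | h1
      · exact absurd h1.symm hi
      · obtain ⟨hle', hs'⟩ := h1
        have hc1 : F i.castSucc ⊓ y' ≤ F i.succ ⊓ y := by
          rw [← ih]; exact inf_le_inf_right y hle
        have hc2 : F i.succ ⊓ y ≤ F i.succ ⊓ y' := inf_le_inf_left _ h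
        rcases covering _ _ _ hle' hs' hc1 hc2 with h2 | h2
        · exact absurd (by rw [h2, ih]) hi'
        · exact h2
    · rw [mem_strictSet, not_not] at hi
      apply le_antisymm (inf_le_inf_left _ h)
      rw [← hi, ← ih]
      exact inf_le_inf_right y hle

theorem strictMono_card (h0 : F 0 = ⊥) (hn : F (Fin.last n) = ⊤) :
    StrictMono (fun y : Subobject X => (strictSet F y).card) := by
  intro y y' hlt
  apply Finset.card_lt_card
  refine (strictSet_mono F hstep hlt.le).ssubset_of_ne ?_
  intro hs
  have := inf_eq_of_strictSet_eq F hstep h0 hlt.le hs (Fin.last n)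
  rw [hn, top_inf_eq, top_inf_eq] at this
  exact hlt.ne this

theorem wellFoundedLT_of_chain (h0 : F 0 = ⊥) (hn : F (Fin.last n) = ⊤) :
    WellFoundedLT (Subobject X) :=
  (strictMono_card F hstep h0 hn).wellFoundedLT

theorem wellFoundedGT_of_chain (h0 : F 0 = ⊥) (hn : F (Fin.last n) = ⊤) :
    WellFoundedGT (Subobject X) := by
  have hanti : StrictAnti (fun y : Subobject X => n - (strictSet F y).card) := by
    intro y y' hlt
    have h1 := strictMono_card F hstep h0 hn hlt
    have h2 : (strictSet F y').card ≤ n := by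
      calc (strictSet F y').card ≤ (Finset.univ : Finset (Fin n)).card := Finset.card_le_univ _
        _ = n := by simp
    simp only at h1 ⊢
    omega
  exact hanti.wellFoundedGT

end Chain

/-- In an Artinian and Noetherian object, every subobject is the start of a chain to `⊤`
with simple successive quotients. -/
theorem exists_chain [IsArtinianObject X] [IsNoetherianObject X] (G : Subobject X) :
    ∃ (n : ℕ) (F : Fin (n + 1) → Subobject X), F 0 = G ∧ F (Fin.last n) = ⊤ ∧
      ∀ i : Fin n, IsMax (F i.castSucc) (F i.succ) := by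
  induction G using WellFoundedGT.induction with
  | ind G ih =>
    by_cases hG : G = ⊤
    · exact ⟨0, fun _ => ⊤, by simp [hG], rfl, fun i => i.elim0⟩
    · have hne : {H : Subobject X | G < H}.Nonempty := ⟨⊤, lt_top_iff_ne_top.2 hG⟩
      obtain ⟨H, hH, hmin⟩ := (wellFounded_lt (α := Subobject X)).has_min _ hne
      have hmax : IsMax G H := by
        apply isMax_of_covering G H hH
        intro c hGc hcH
        by_cases hc : c = G
        · exact Or.inl hc
        · right
          have hGc' : G < c := lt_of_le_of_ne hGc (Ne.symm hc)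
          by_contra hne'
          exact hmin c hGc' (lt_of_le_of_ne hcH hne')
      obtain ⟨n, F, hF0, hFn, hFs⟩ := ih H hH
      refine ⟨n + 1, Fin.cons G F, by simp, ?_, ?_⟩
      · rw [show Fin.last (n + 1) = (Fin.last n).succ from rfl, Fin.cons_succ]; exact hFn
      · intro i
        induction i using Fin.cases with
        | zero =>
          rw [Fin.castSucc_zero, Fin.cons_zero, Fin.cons_succ, hF0]; exact hmax
        | succ j =>
          rw [← Fin.succ_castSucc, Fin.cons_succ, Fin.cons_succ]; exact hFs j

end Groth.Agent.Helper22.SubobjFL
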