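import Mathlib.CategoryTheory.Abelian.Basic
import Mathlib.CategoryTheory.Subobject.Lattice
import Mathlib.CategoryTheory.Simple
import Mathlib.Order.JordanHolder
import Mathlib.Tactic

open CategoryTheory CategoryTheory.Limits

namespace Groth.Agent.Helper22.SubobjJH

universe v u
variable {A : Type u} [Category.{v} A] [Abelian A] {X : A}

/-- A mono `ofLE a b` is the kernel of its cokernel: factorisation. -/
theorem exists_lift_of_comp_cokernel_zero (a b : Subobject X) (h : a ≤ b) {T : A}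
    (t : T ⟶ (b : A)) (ht : t ≫ cokernel.π (Subobject.ofLE a b h) = 0) :
    ∃ l : T ⟶ (a : A), l ≫ Subobject.ofLE a b h = t := by
  have hl := Abelian.monoIsKernelOfCokernel
    (CokernelCofork.ofπ (cokernel.π (Subobject.ofLE a b h)) (cokernel.condition _))
    (cokernelIsCokernel _)
  exact ⟨KernelFork.IsLimit.lift' hl t ht |>.1, KernelFork.IsLimit.lift' hl t ht |>.2⟩

/-- Covering: a simple quotient has no intermediate subobject. -/
theorem covering (a b c : Subobject X) (h : a ≤ b)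
    (hs : Simple (cokernel (Subobject.ofLE a b h))) (hac : a ≤ c) (hcb : c ≤ b) :
    c = a ∨ c = b := by
  by_cases hφ : Subobject.ofLE c b hcb ≫ cokernel.π (Subobject.ofLE a b h) = 0
  · left
    obtain ⟨l, hl⟩ := exists_lift_of_comp_cokernel_zero a b h _ hφ
    refine le_antisymm (Subobject.le_of_comm l ?_) hac
    rw [← Subobject.ofLE_arrow h, ← Category.assoc, hl, Subobject.ofLE_arrow]
  · right
    have hepi : Epi (Subobject.ofLE c b hcb ≫ cokernel.π (Subobject.ofLE a b h)) :=
      epi_of_nonzero_to_simple hφ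
    have h0 : Subobject.ofLE a b h ≫ cokernel.π (Subobject.ofLE c b hcb) = 0 := by
      rw [← Subobject.ofLE_comp_ofLE a c b hac hcb, Category.assoc, cokernel.condition, comp_zero]
    have ht : (Subobject.ofLE c b hcb ≫ cokernel.π (Subobject.ofLE a b h)) ≫
        cokernel.desc (Subobject.ofLE a b h) (cokernel.π (Subobject.ofLE c b hcb)) h0 = 0 := by
      rw [Category.assoc, cokernel.π_desc, cokernel.condition]
    have ht0 : cokernel.desc (Subobject.ofLE a b h) (cokernel.π (Subobject.ofLE c b hcb)) h0 = 0 :=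
      (cancel_epi _).1 (ht.trans comp_zero.symm)
    have hρ : cokernel.π (Subobject.ofLE c b hcb) = 0 := by
      rw [← cokernel.π_desc (Subobject.ofLE a b h) (cokernel.π (Subobject.ofLE c b hcb)) h0, ht0,
        comp_zero]
    have hepi2 : Epi (Subobject.ofLE c b hcb) := Abelian.epi_of_cokernel_π_eq_zero _ hρ
    have hiso : IsIso (Subobject.ofLE c b hcb) := isIso_of_mono_of_epi _
    refine le_antisymm hcb (Subobject.le_of_comm (inv (Subobject.ofLE c b hcb)) ?_)
    rw [IsIso.inv_comp_eq, Subobject.ofLE_arrow]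

/-- Second isomorphism theorem for subobjects. -/
theorem second_iso (x y i s : Subobject X) (hi : i = x ⊓ y) (hs : s = x ⊔ y)
    (h1 : i ≤ x) (h2 : y ≤ s) :
    Nonempty (cokernel (Subobject.ofLE i x h1) ≅ cokernel (Subobject.ofLE y s h2)) := by
  subst hi hs
  have hxs : x ≤ x ⊔ y := le_sup_left
  set π' := cokernel.π (Subobject.ofLE y (x ⊔ y) h2) with hπ'
  set ψ := Subobject.ofLE x (x ⊔ y) hxs ≫ π' with hψ
  -- ψ is epi
  have hepi : Epi ψ := by
    apply Preadditive.epi_of_cancel_zero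
    intro Z g hg
    set γ := π' ≫ g with hγ
    have hyγ : Subobject.ofLE y (x ⊔ y) h2 ≫ γ = 0 := by
      rw [hγ, ← Category.assoc, hπ', cokernel.condition, zero_comp]
    have hxγ : Subobject.ofLE x (x ⊔ y) hxs ≫ γ = 0 := by
      rw [hγ, ← Category.assoc]; exact hg
    have hxK : x ≤ Subobject.mk (kernel.ι γ ≫ (x ⊔ y).arrow) :=
      Subobject.le_mk_of_comm (kernel.lift γ _ hxγ) (by
        rw [← Category.assoc, kernel.lift_ι, Subobject.ofLE_arrow])
    have hyK : y ≤ Subobject.mk (kernel.ι γ ≫ (x ⊔ y).arrow) :=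
      Subobject.le_mk_of_comm (kernel.lift γ _ hyγ) (by
        rw [← Category.assoc, kernel.lift_ι, Subobject.ofLE_arrow])
    have hsK : x ⊔ y ≤ Subobject.mk (kernel.ι γ ≫ (x ⊔ y).arrow) := sup_le hxK hyK
    have hr : Subobject.ofLEMk (x ⊔ y) _ hsK ≫ kernel.ι γ = 𝟙 _ := by
      apply (cancel_mono (x ⊔ y).arrow).1
      rw [Category.assoc, Subobject.ofLEMk_comp, Category.id_comp]
    have hγ0 : γ = 0 := by
      rw [← Category.id_comp γ, ← hr, Category.assoc, kernel.condition, comp_zero]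
    exact (cancel_epi π').1 (hγ0.trans comp_zero.symm)
  -- kernel of ψ
  have hcond : Subobject.ofLE (x ⊓ y) x h1 ≫ ψ = 0 := by
    rw [hψ, ← Category.assoc, Subobject.ofLE_comp_ofLE,
      ← Subobject.ofLE_comp_ofLE (x ⊓ y) y (x ⊔ y) inf_le_right h2, Category.assoc, hπ',
      cokernel.condition, comp_zero]
  have hlim : IsLimit (KernelFork.ofι (Subobject.ofLE (x ⊓ y) x h1) hcond) := by
    have hlift : ∀ {T : A} (t : T ⟶ (x : A)) (_ : t ≫ ψ = 0),
        ∃ k : T ⟶ ((x ⊓ y : Subobject X) : A), k ≫ Subobject.ofLE (x ⊓ y) x h1 = t := by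
      intro T t ht
      have ht' : (t ≫ Subobject.ofLE x (x ⊔ y) hxs) ≫ cokernel.π (Subobject.ofLE y (x ⊔ y) h2) = 0 := by
        rw [Category.assoc]; exact ht
      obtain ⟨l, hl⟩ := exists_lift_of_comp_cokernel_zero y (x ⊔ y) h2 _ ht'
      have hl' : l ≫ y.arrow = t ≫ x.arrow := by
        rw [← Subobject.ofLE_arrow h2, ← Category.assoc, hl, Category.assoc, Subobject.ofLE_arrow]
      have hfac : (x ⊓ y).Factors (t ≫ x.arrow) :=
        (Subobject.inf_factors _).2 ⟨Subobject.factors_comp_arrow t,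
          hl' ▸ Subobject.factors_comp_arrow l⟩
      refine ⟨(x ⊓ y).factorThru _ hfac, ?_⟩
      apply (cancel_mono x.arrow).1
      rw [Category.assoc, Subobject.ofLE_arrow, Subobject.factorThru_arrow]
    exact KernelFork.IsLimit.ofι _ hcond (fun t ht => (hlift t ht).choose)
      (fun t ht => (hlift t ht).choose_spec)
      (fun t ht m hm => by
        apply (cancel_mono (Subobject.ofLE (x ⊓ y) x h1)).1
        rw [hm, (hlift t ht).choose_spec])
  have hcolim := Abelian.epiIsCokernelOfKernel _ hlim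
  exact ⟨IsColimit.coconePointUniqueUpToIso (cokernelIsCokernel _) hcolim⟩

/-- Maximality relation: `x ≤ y` with simple quotient. -/
def IsMax (x y : Subobject X) : Prop :=
  ∃ h : x ≤ y, Simple (cokernel (Subobject.ofLE x y h))

theorem isMax_lt {x y : Subobject X} (h : IsMax x y) : x < y := by
  obtain ⟨hle, hs⟩ := h
  refine lt_of_le_of_ne hle ?_
  rintro rfl
  have hz : IsZero (cokernel (Subobject.ofLE x x hle)) := by
    have : IsIso (Subobject.ofLE x x hle) := by
      rw [Subobject.ofLE_refl]; infer_instance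
    exact isZero_cokernel_of_epi _
  exact Simple.not_isZero _ hz

theorem isMax_sup_eq {x y z : Subobject X} (hxz : IsMax x z) (hyz : IsMax y z) (hne : x ≠ y) :
    x ⊔ y = z := by
  obtain ⟨hx, hsx⟩ := hxz
  obtain ⟨hy, hsy⟩ := hyz
  have hle : x ⊔ y ≤ z := sup_le hx hy
  rcases covering x z (x ⊔ y) hx hsx le_sup_left hle with h1 | h1
  · rcases covering y z (x ⊔ y) hy hsy le_sup_right hle with h2 | h2
    · exact absurd (h1.symm.trans h2) hne
    · exact h2
  · exact h1

theorem isMax_inf_left {x y : Subobject X} (_hx : IsMax x (x ⊔ y)) (hy : IsMax y (x ⊔ y)) :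
    IsMax (x ⊓ y) x := by
  obtain ⟨hyz, hs⟩ := hy
  obtain ⟨e⟩ := second_iso x y (x ⊓ y) (x ⊔ y) rfl rfl inf_le_left hyz
  exact ⟨inf_le_left, Simple.of_iso e⟩

/-- The Jordan–Hölder lattice structure on subobjects of an object of an abelian category. -/
@[reducible] def jhl : JordanHolderLattice (Subobject X) where
  IsMaximal := IsMax
  lt_of_isMaximal := isMax_lt
  sup_eq_of_isMaximal := isMax_sup_eq
  isMaximal_inf_left_of_isMaximal_sup := isMax_inf_left

/-- Isomorphism of quotients, as a relation on pairs. -/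
def E (p q : Subobject X × Subobject X) : Prop :=
  p = q ∨ ∃ (h1 : p.1 ≤ p.2) (h2 : q.1 ≤ q.2),
    Nonempty (cokernel (Subobject.ofLE p.1 p.2 h1) ≅ cokernel (Subobject.ofLE q.1 q.2 h2))

theorem E_refl {p : Subobject X × Subobject X} : E p p := Or.inl rfl

theorem E_symm {p q : Subobject X × Subobject X} (h : E p q) : E q p := by
  rcases h with h | ⟨h1, h2, ⟨e⟩⟩
  · exact Or.inl h.symm
  · exact Or.inr ⟨h2, h1, ⟨e.symm⟩⟩

theorem E_trans {p q r : Subobject X × Subobject X} (h : E p q) (h' : E q r) : E p r := by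
  rcases h with h | ⟨h1, h2, ⟨e⟩⟩
  · exact h ▸ h'
  · rcases h' with h' | ⟨h3, h4, ⟨e'⟩⟩
    · exact h' ▸ Or.inr ⟨h1, h2, ⟨e⟩⟩
    · exact Or.inr ⟨h1, h4, ⟨e ≪≫ e'⟩⟩

theorem E_rel {x y : Subobject X} : E (x, x ⊔ y) (x ⊓ y, y) := by
  obtain ⟨e⟩ := second_iso y x (x ⊓ y) (x ⊔ y) (inf_comm _ _) (sup_comm _ _) inf_le_right le_sup_left
  exact Or.inr ⟨le_sup_left, inf_le_right, ⟨e.symm⟩⟩

theorem E_iso {a b c d : Subobject X} (h : E (a, b) (c, d)) (hab : a ≤ b) (hcd : c ≤ d) :
    Nonempty (cokernel (Subobject.ofLE a b hab) ≅ cokernel (Subobject.ofLE c d hcd)) := by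
  rcases h with h | ⟨h1, h2, ⟨e⟩⟩
  · obtain ⟨rfl, rfl⟩ := Prod.ext_iff.1 h
    exact ⟨Iso.refl _⟩
  · exact ⟨e⟩

/-- Jordan–Hölder for chains of subobjects with simple quotients. -/
theorem jordanHolder (n : ℕ) (F : Fin (n + 1) → Subobject X) (hF : Monotone F)
    (hF0 : F 0 = ⊥) (hFn : F (Fin.last n) = ⊤)
    (hFs : ∀ i : Fin n, Simple (cokernel (Subobject.ofLE (F (Fin.castSucc i)) (F (Fin.succ i))
      (hF (Fin.castSucc_lt_succ (i := i)).le))))
    (m : ℕ) (G : Fin (m + 1) → Subobject X) (hG : Monotone G) (hG0 : G 0 = ⊥)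
    (hGm : G (Fin.last m) = ⊤)
    (hGs : ∀ j : Fin m, Simple (cokernel (Subobject.ofLE (G (Fin.castSucc j)) (G (Fin.succ j))
      (hG (Fin.castSucc_lt_succ (i := j)).le)))) :
    ∃ (e : n = m) (σ : Equiv.Perm (Fin m)), ∀ i : Fin n,
      Nonempty (cokernel (Subobject.ofLE (F (Fin.castSucc i)) (F (Fin.succ i))
          (hF (Fin.castSucc_lt_succ (i := i)).le)) ≅
        cokernel (Subobject.ofLE (G (Fin.castSucc (σ (Fin.cast e i))))
          (G (Fin.succ (σ (Fin.cast e i))))
          (hG (Fin.castSucc_lt_succ (i := σ (Fin.cast e i))).le))) := by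
  let _ : JordanHolderLattice (Subobject X) := jhl
  let s₁ : CompositionSeries (Subobject X) :=
    { length := n, toFun := F, step := fun i => ⟨_, hFs i⟩ }
  let s₂ : CompositionSeries (Subobject X) :=
    { length := m, toFun := G, step := fun i => ⟨_, hGs i⟩ }
  have hb : s₁.head = s₂.head := hF0.trans hG0.symm
  have ht : s₁.last = s₂.last := hFn.trans hGm.symm
  obtain ⟨f, hf⟩ := CompositionSeries.jordan_holder s₁ s₂ hb ht
  have e : n = m := by
    have := Fintype.card_congr f
    simpa using this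
  subst e
  refine ⟨rfl, f, fun i => ?_⟩
  have hE := JordanHolderLattice.Iso.rel E E_refl E_symm E_trans (fun _ => E_rel) (hf i)
  exact E_iso hE _ _

end Groth.Agent.Helper22.SubobjJH
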