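import Mathlib.Algebra.Homology.HomologicalComplex
import Mathlib.CategoryTheory.Preadditive.Biproducts

/-!
# Twisted direct sums of cochain complexes

Helper library (helper22): given cochain complexes `I`, `J` and a family `τ : Jⁿ ⟶ Iⁿ⁺¹` with
`τ ≫ d + d ≫ τ = 0`, the termwise direct sum `Iⁿ ⊞ Jⁿ` with differential `(d, τ; 0, d)`.
-/

set_option autoImplicit false
universe v u
open CategoryTheory CategoryTheory.Limits

namespace Groth.Agent.Helper22.TwistCx

variable {C : Type u} [Category.{v} C] [Preadditive C] [HasBinaryBiproducts C]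

/-- The twisted direct sum complex. -/
@[reducible] noncomputable def twist (I J : CochainComplex C ℤ) (τ : ∀ n m : ℤ, J.X n ⟶ I.X m)
    (hshape : ∀ n m : ℤ, n + 1 ≠ m → τ n m = 0)
    (hτ : ∀ n m k : ℤ, n + 1 = m → m + 1 = k → τ n m ≫ I.d m k + J.d n m ≫ τ m k = 0) :
    CochainComplex C ℤ where
  X n := I.X n ⊞ J.X n
  d n m := biprod.desc (I.d n m ≫ biprod.inl) (τ n m ≫ biprod.inl + J.d n m ≫ biprod.inr)
  shape n m h := by
    have h' : n + 1 ≠ m := h
    rw [I.shape n m h, J.shape n m h, hshape n m h']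
    apply biprod.hom_ext' <;> simp
  d_comp_d' n m k hnm hmk := by
    have h1 : n + 1 = m := hnm
    have h2 : m + 1 = k := hmk
    apply biprod.hom_ext'
    · rw [biprod.inl_desc_assoc, Category.assoc, biprod.inl_desc, ← Category.assoc,
        I.d_comp_d, zero_comp, comp_zero]
    · have e := hτ n m k h1 h2
      have e' : τ n m ≫ I.d m k ≫ (biprod.inl : I.X k ⟶ I.X k ⊞ J.X k) +
          J.d n m ≫ τ m k ≫ biprod.inl = 0 := by
        rw [← Category.assoc, ← Category.assoc (J.d n m), ← Preadditive.add_comp, e, zero_comp]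
      simp only [biprod.inr_desc_assoc, Preadditive.add_comp, Category.assoc, biprod.inl_desc,
        biprod.inr_desc, Preadditive.comp_add, HomologicalComplex.d_comp_d_assoc, zero_comp,
        add_zero, comp_zero]
      exact e'

variable (I J : CochainComplex C ℤ) (τ : ∀ n m : ℤ, J.X n ⟶ I.X m)
    (hshape : ∀ n m : ℤ, n + 1 ≠ m → τ n m = 0)
    (hτ : ∀ n m k : ℤ, n + 1 = m → m + 1 = k → τ n m ≫ I.d m k + J.d n m ≫ τ m k = 0)

lemma twist_d (n m : ℤ) : (twist I J τ hshape hτ).d n m =
    biprod.desc (I.d n m ≫ biprod.inl) (τ n m ≫ biprod.inl + J.d n m ≫ biprod.inr) := rfl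

/-- The inclusion of the first summand. -/
noncomputable def twistInl : I ⟶ twist I J τ hshape hτ where
  f n := biprod.inl
  comm' n m _ := by
    rw [twist_d, biprod.inl_desc]

/-- The projection to the second summand. -/
noncomputable def twistSnd : twist I J τ hshape hτ ⟶ J where
  f n := biprod.snd
  comm' n m _ := by
    rw [twist_d]
    apply biprod.hom_ext'
    · simp
    · simp

lemma twistInl_f (n : ℤ) : (twistInl I J τ hshape hτ).f n = biprod.inl := rfl

lemma twistSnd_f (n : ℤ) : (twistSnd I J τ hshape hτ).f n = biprod.snd := rfl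

end Groth.Agent.Helper22.TwistCx
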